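import Cfsg.Statements.S4847
import Cfsg.Agent.Blocks.Palfy.Main

set_option autoImplicit false
open Cfsg

namespace Cfsg.Agent.S4847

/-- Let G be a finite solvable group and p, q, r three distinct primes each dividing the degree of some irreducible character of G. Then for some two of them the product divides the degree of some irreducible character of G (the character degree graph of a solvable group has no three pairwise non-adjacent vertices). -/
theorem result {G : Type*} [Group G] [Finite G] [hs : Group.IsSolvable G] (p q r : ℕ) (hp : p.Prime) (hq : q.Prime) (hr : r.Prime) (hpq : p ≠ q) (hqr : q ≠ r) (hpr : p ≠ r)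
    (hpd : ∃ χ : Cfsg.IrrCharacter G, p ∣ Cfsg.charDegree (χ : G → ℂ)) (hqd : ∃ χ : Cfsg.IrrCharacter G, q ∣ Cfsg.charDegree (χ : G → ℂ)) (hrd : ∃ χ : Cfsg.IrrCharacter G, r ∣ Cfsg.charDegree (χ : G → ℂ)) :
    (∃ χ : Cfsg.IrrCharacter G, p * q ∣ Cfsg.charDegree (χ : G → ℂ)) ∨ (∃ χ : Cfsg.IrrCharacter G, q * r ∣ Cfsg.charDegree (χ : G → ℂ)) ∨ (∃ χ : Cfsg.IrrCharacter G, p * r ∣ Cfsg.charDegree (χ : G → ℂ)) := by
  classical
  open Cfsg.Lib.Chars Cfsg.Lib.Palfy in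
  have conv : ∀ a : ℕ, (∃ χ : Cfsg.IrrCharacter G, a ∣ Cfsg.charDegree (χ : G → ℂ)) → HasDeg a G :=
    fun a ⟨χ, h⟩ => ⟨χ, charDegree_eq_deg χ.2 ▸ h⟩
  open Cfsg.Lib.Chars Cfsg.Lib.Palfy in
  have key : ∀ a b : ℕ, a.Prime → b.Prime → a ≠ b →
      (¬ ∃ χ : Cfsg.IrrCharacter G, a * b ∣ Cfsg.charDegree (χ : G → ℂ)) → NoProd a b G :=
    fun a b ha hb hab h χ h1 h2 => h ⟨χ, charDegree_eq_deg χ.2 ▸
      ((Nat.coprime_primes ha hb).2 hab).mul_dvd_of_dvd_of_dvd h1 h2⟩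
  by_contra hcon
  push Not at hcon
  obtain ⟨h1, h2, h3⟩ := hcon
  exact Cfsg.Lib.Palfy.three_primes (Nat.card G) G rfl hp hq hr hpq hpr hqr
    (key p q hp hq hpq fun ⟨χ, h⟩ => h1 χ h) (key p r hp hr hpr fun ⟨χ, h⟩ => h3 χ h)
    (key q r hq hr hqr fun ⟨χ, h⟩ => h2 χ h) (conv p hpd) (conv q hqd) (conv r hrd)

end Cfsg.Agent.S4847
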