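import Cfsg.Statements.S4811
import Cfsg.Agent.S4847

set_option autoImplicit false
open Cfsg

namespace Cfsg.Agent.S4811

/-- For every finite solvable group G the character degree graph of G (vertices: the primes dividing some irreducible complex character degree; edges: distinct primes whose product divides some degree) has at most two connected components. -/
theorem result {G : Type*} [Group G] [Finite G] [Group.IsSolvable G] : Nat.card ((Cfsg.degreeGraph G).induce (Cfsg.degreePrimes G)).ConnectedComponent ≤ 2 := by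
  classical
  by_contra hcon
  have hcon' := not_le.1 hcon
  haveI : Finite ((Cfsg.degreeGraph G).induce (Cfsg.degreePrimes G)).ConnectedComponent :=
    Nat.finite_of_card_ne_zero (by omega)
  letI := Fintype.ofFinite ((Cfsg.degreeGraph G).induce (Cfsg.degreePrimes G)).ConnectedComponent
  rw [Nat.card_eq_fintype_card, Fintype.two_lt_card_iff] at hcon'
  obtain ⟨A, B, C, hAB, hAC, hBC⟩ := hcon'
  obtain ⟨a, rfl⟩ := A.exists_rep
  obtain ⟨b, rfl⟩ := B.exists_rep
  obtain ⟨c, rfl⟩ := C.exists_rep
  have hne : ∀ {x y : Cfsg.degreePrimes G},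
      ((Cfsg.degreeGraph G).induce (Cfsg.degreePrimes G)).connectedComponentMk x ≠
        ((Cfsg.degreeGraph G).induce (Cfsg.degreePrimes G)).connectedComponentMk y →
      (x : ℕ) ≠ y := fun h e => h (by rw [Subtype.ext e])
  have hna : ∀ {x y : Cfsg.degreePrimes G},
      ((Cfsg.degreeGraph G).induce (Cfsg.degreePrimes G)).connectedComponentMk x ≠
        ((Cfsg.degreeGraph G).induce (Cfsg.degreePrimes G)).connectedComponentMk y →
      ¬ ∃ χ : Cfsg.IrrCharacter G, (x : ℕ) * y ∣ Cfsg.charDegree (χ : G → ℂ) := by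
    rintro x y h ⟨χ, hχ⟩
    exact h (SimpleGraph.ConnectedComponent.sound (SimpleGraph.Adj.reachable
      (show (Cfsg.degreeGraph G).Adj x y from ⟨hne h, x.2.1, y.2.1, _, ⟨χ, rfl⟩, hχ⟩)))
  have hd : ∀ x : Cfsg.degreePrimes G, ∃ χ : Cfsg.IrrCharacter G, (x : ℕ) ∣ Cfsg.charDegree (χ : G → ℂ) := by
    rintro ⟨x, -, d, ⟨χ, rfl⟩, h⟩
    exact ⟨χ, h⟩
  rcases Cfsg.Agent.S4847.result (G := G) a b c a.2.1 b.2.1 c.2.1 (hne hAB) (hne hBC) (hne hAC)
    (hd a) (hd b) (hd c) with h | h | h
  · exact hna hAB h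
  · exact hna hBC h
  · exact hna hAC h

end Cfsg.Agent.S4811
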