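import Cfsg.Statements.S4812
import Cfsg.Agent.Known.SLTwoDegrees.Degrees

set_option autoImplicit false
open Cfsg

namespace Cfsg.Agent.S4812

/-- Let F be a finite field of characteristic 2 with q ≥ 4 elements and let S be isomorphic to PSL(2,F) or to SL(2,F). Then the vertices of the character degree graph of S are the primes dividing q(q²−1), and two distinct primes are adjacent exactly when both divide q + 1 or both divide q − 1; so the graph has the three connected components {2}, the primes dividing q + 1 and the primes dividing q − 1, each complete. -/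
theorem result (F : Type*) [Field F] [Fintype F] [CharP F 2] (q : ℕ) (hq : Fintype.card F = q) (h4 : 4 ≤ q) {S : Type*} [Group S] [Finite S] (hS : Nonempty (S ≃* Matrix.ProjectiveSpecialLinearGroup (Fin 2) F) ∨ Nonempty (S ≃* Matrix.SpecialLinearGroup (Fin 2) F)) : Cfsg.degreePrimes S = {r : ℕ | r.Prime ∧ r ∣ q * (q ^ 2 - 1)} ∧ ∀ r s : ℕ, (Cfsg.degreeGraph S).Adj r s ↔ (r ≠ s ∧ r.Prime ∧ s.Prime ∧ ((r ∣ q + 1 ∧ s ∣ q + 1) ∨ (r ∣ q - 1 ∧ s ∣ q - 1))) := by
  classical
  have hev : q % 2 = 0 := hq ▸ Nat.even_iff.1 Cfsg.Lib.GLTwo.SCh.even_of_two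
  obtain ⟨f, g, hf, hg⟩ : ∃ (f : Matrix.SpecialLinearGroup (Fin 2) F →* S)
      (g : S →* Matrix.ProjectiveSpecialLinearGroup (Fin 2) F),
      Function.Surjective f ∧ Function.Surjective g := by
    rcases hS with h | h
    · obtain ⟨e⟩ := h
      exact ⟨e.symm.toMonoidHom.comp (QuotientGroup.mk' _), e.toMonoidHom,
        e.symm.surjective.comp (QuotientGroup.mk'_surjective _), e.surjective⟩
    · obtain ⟨e⟩ := h
      exact ⟨e.symm.toMonoidHom, (QuotientGroup.mk' _).comp e.toMonoidHom,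
        e.symm.surjective, (QuotientGroup.mk'_surjective _).comp e.surjective⟩
  have hup := Cfsg.Lib.SLTwoDegrees.charDegrees_subset f hf
  have hdown := Cfsg.Lib.SLTwoDegrees.charDegrees_subset g hg
  have hq1 : q ^ 2 - 1 = (q + 1) * (q - 1) := by rw [← Nat.sq_sub_sq, one_pow]
  have mq : q ∈ Cfsg.charDegrees S := hdown (hq ▸ Cfsg.Lib.SLTwoDegrees.card_mem_psl)
  have mp : q + 1 ∈ Cfsg.charDegrees S :=
    hdown (hq ▸ Cfsg.Lib.SLTwoDegrees.succ_mem_psl (by omega) (by omega))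
  have mm : q - 1 ∈ Cfsg.charDegrees S := hdown (hq ▸ Cfsg.Lib.SLTwoDegrees.pred_mem_psl_even (by omega))
  have hall : ∀ d ∈ Cfsg.charDegrees S, d = 1 ∨ d = q ∨ d ∣ q + 1 ∨ d ∣ q - 1 := by
    intro d hd
    rcases Cfsg.Lib.SLTwoDegrees.sl_degrees (hup hd) with h | h | h | h | ⟨⟨k, hk⟩, h | h⟩
    · exact .inl h
    · exact .inr (.inl (hq ▸ h))
    · exact .inr (.inr (.inl (by rw [h, hq])))
    · exact .inr (.inr (.inr (by rw [h, hq])))
    · exact .inr (.inr (.inl ⟨2, by omega⟩))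
    · exact .inr (.inr (.inr ⟨2, by omega⟩))
  obtain ⟨n, hn0P, hn⟩ := FiniteField.card F 2
  rw [hq] at hn
  refine ⟨?_, fun r s => ?_⟩
  · ext r
    constructor
    · rintro ⟨hr, d, hd, hrd⟩
      refine ⟨hr, ?_⟩
      rcases hall d hd with rfl | rfl | h | h
      · exact absurd (Nat.dvd_one.1 hrd) hr.ne_one
      · exact hrd.mul_right _
      · rw [hq1]; exact ((hrd.trans h).mul_right _).mul_left _
      · rw [hq1]; exact ((hrd.trans h).mul_left _).mul_left _
    · rintro ⟨hr, hrd⟩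
      refine ⟨hr, ?_⟩
      rcases hr.dvd_mul.1 hrd with h | h
      · exact ⟨q, mq, h⟩
      · rw [hq1] at h
        rcases hr.dvd_mul.1 h with h' | h'
        · exact ⟨q + 1, mp, h'⟩
        · exact ⟨q - 1, mm, h'⟩
  · constructor
    · rintro ⟨hne, hr, hs, d, hd, hdiv⟩
      have hrd : r ∣ d := (dvd_mul_right r s).trans hdiv
      have hsd : s ∣ d := (dvd_mul_left s r).trans hdiv
      rcases hall d hd with rfl | rfl | h | h
      · exact absurd (Nat.dvd_one.1 hrd) hr.ne_one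
      · exfalso
        rw [hn] at hrd hsd
        exact hne (((Nat.prime_dvd_prime_iff_eq hr hn0P).1 (hr.dvd_of_dvd_pow hrd)).trans
          ((Nat.prime_dvd_prime_iff_eq hs hn0P).1 (hs.dvd_of_dvd_pow hsd)).symm)
      · exact ⟨hne, hr, hs, .inl ⟨hrd.trans h, hsd.trans h⟩⟩
      · exact ⟨hne, hr, hs, .inr ⟨hrd.trans h, hsd.trans h⟩⟩
    · rintro ⟨hne, hr, hs, ⟨h1, h2⟩ | ⟨h1, h2⟩⟩
      · exact ⟨hne, hr, hs, q + 1, mp, ((Nat.coprime_primes hr hs).2 hne).mul_dvd_of_dvd_of_dvd h1 h2⟩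
      · exact ⟨hne, hr, hs, q - 1, mm, ((Nat.coprime_primes hr hs).2 hne).mul_dvd_of_dvd_of_dvd h1 h2⟩

end Cfsg.Agent.S4812
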