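import Cfsg.Statements.S4813
import Cfsg.Agent.Chars.PrimeDegreesCount
-- import your own Cfsg.Agent.* helpers here

set_option autoImplicit false
open Cfsg

namespace Cfsg.Agent.S4813

/-- If every irreducible complex character of the finite group G of degree greater than one has prime degree, then G has at most three distinct irreducible character degrees. -/
theorem result {G : Type*} [Group G] [Finite G] (hprime : ∀ d ∈ Cfsg.charDegrees G, d = 1 ∨ d.Prime) : Nat.card ↥(Cfsg.charDegrees G) ≤ 3 := by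
  classical
  letI := Fintype.ofFinite G
  have hp : ∀ χ : G → ℂ, Cfsg.IsIrrCharacter G χ → Cfsg.Lib.Chars.deg χ = 1 ∨ (Cfsg.Lib.Chars.deg χ).Prime :=
    fun χ hχ => hprime _ ⟨⟨χ, hχ⟩, Cfsg.Lib.Chars.charDegree_eq_deg hχ⟩
  obtain ⟨a, b, hab⟩ := Cfsg.Lib.Chars.prime_degrees_bound (Cfsg.Lib.Chars.isSolvable_prime_degrees _ G rfl hp) hp
  rw [Nat.card_coe_set_eq]
  refine (Set.ncard_le_ncard (t := ↑({1, a, b} : Finset ℕ)) ?_ (Finset.finite_toSet _)).trans ?_
  · rintro d ⟨χ, rfl⟩
    rw [Cfsg.Lib.Chars.charDegree_eq_deg χ.2]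
    rcases hab _ χ.2 with e | e | e <;> simp [e]
  · rw [Set.ncard_coe_finset]
    exact Finset.card_le_three

end Cfsg.Agent.S4813
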