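import Cfsg.Statements.S4814
import Cfsg.Agent.Chars.Sums
import Cfsg.Agent.Chars.Construct
-- import your own Cfsg.Agent.* helpers here

set_option autoImplicit false
open Cfsg

namespace Cfsg.Agent.S4814

set_option linter.unusedSectionVars false

open Cfsg.Lib.Chars

/-- Let G be a finite group such that the sum, over the irreducible complex characters χ of G, of 1/χ(1)² is less than 2. Then every element of G is a product of two commutators. -/
theorem result {G : Type*} [Group G] [Finite G]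
    (h : ∑ᶠ χ : Cfsg.IrrCharacter G, 1 / ‖(χ : G → ℂ) 1‖ ^ 2 < (2 : ℝ)) (g : G) :
    ∃ a b c d : G, (a * b * a⁻¹ * b⁻¹) * (c * d * c⁻¹ * d⁻¹) = g := by
  classical
  haveI := Fintype.ofFinite G
  by_contra hcon
  push Not at hcon
  have hG0 : (Nat.card G : ℂ) ≠ 0 := Nat.cast_ne_zero.2 Nat.card_pos.ne'
  let F : G → ℂ := fun u => ∑ χ : Cfsg.IrrCharacter G, (χ : G → ℂ) u / (χ : G → ℂ) 1
  have hzero : ∀ u, F u * F (u⁻¹ * g) = 0 := by
    intro u
    by_contra h0
    rw [mul_eq_zero, not_or] at h0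
    have h1 : ∀ v : G, F v ≠ 0 → ∃ a b : G, v = a * b * a⁻¹ * b⁻¹ := by
      intro v hv
      by_contra hn
      push Not at hn
      have hc := card_commutator_eq v
      have he : IsEmpty {p : G × G // v = p.1 * p.2 * p.1⁻¹ * p.2⁻¹} := ⟨fun p => hn p.1.1 p.1.2 p.2⟩
      rw [Nat.card_of_isEmpty, Nat.cast_zero, eq_comm, mul_eq_zero] at hc
      exact hv (hc.resolve_left hG0)
    obtain ⟨a, b, hab⟩ := h1 u h0.1
    obtain ⟨c, d, hcd⟩ := h1 _ h0.2
    exact hcon a b c d (by rw [← hab, ← hcd, mul_inv_cancel_left])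
  have hconv : ∀ χ ψ : Cfsg.IrrCharacter G, ∑ u, (χ : G → ℂ) u * (ψ : G → ℂ) (u⁻¹ * g) =
      if χ = ψ then (Nat.card G : ℂ) * (χ : G → ℂ) g / (χ : G → ℂ) 1 else 0 := by
    intro χ ψ
    split_ifs with he
    · subst he
      exact sum_irr_mul_inv_mul χ.2 g
    · have horth := classInner_irr_ne (Ne.symm he)
      rw [classInner_def, mul_eq_zero] at horth
      have horth' := horth.resolve_left (inv_ne_zero hG0)
      obtain ⟨n, ρ, hρ, hψ⟩ := ψ.2
      have hf : Cfsg.IsClassFunction G (fun v => (χ : G → ℂ) v⁻¹) := fun v w => by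
        show (χ : G → ℂ) (w * v * w⁻¹)⁻¹ = _
        rw [show (w * v * w⁻¹)⁻¹ = w * v⁻¹ * w⁻¹ by group]
        exact isClassFunction_irr χ v⁻¹ w
      have h2 := sum_smul_rep_trace ρ hf g
      rw [hψ] at h2
      have h3 : ∑ v, (χ : G → ℂ) v⁻¹ * (ψ : G → ℂ) v = 0 := by
        rw [← horth']
        exact Finset.sum_congr rfl fun v _ => by
          rw [IsCharacter.conj_inv (isCharacter_of_irr χ.2)]; ring
      rw [h3, zero_div, zero_mul] at h2
      rw [← h2]
      exact Fintype.sum_equiv (Equiv.inv G) _ _ fun v => by simp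
  have hsum : (Nat.card G : ℂ) * ∑ χ : Cfsg.IrrCharacter G, (χ : G → ℂ) g / (χ : G → ℂ) 1 ^ 3 = 0 := by
    have h1 : ∑ u, F u * F (u⁻¹ * g) = 0 := Finset.sum_eq_zero fun u _ => hzero u
    simp only [F, Finset.sum_mul_sum, div_mul_div_comm] at h1
    rw [Finset.sum_comm] at h1
    rw [Finset.mul_sum, ← h1]
    refine Finset.sum_congr rfl fun χ _ => ?_
    rw [Finset.sum_comm, Finset.sum_congr rfl fun ψ _ => (Finset.sum_div _ _ _).symm]
    simp only [hconv, ite_div, zero_div, Finset.sum_ite_eq, Finset.mem_univ, if_true]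
    ring
  have h0 := (mul_eq_zero.1 hsum).resolve_left hG0
  rw [← Finset.add_sum_erase _ _ (Finset.mem_univ (principal G))] at h0
  have hpr : ((principal G : Cfsg.IrrCharacter G) : G → ℂ) g / ((principal G : Cfsg.IrrCharacter G) : G → ℂ) 1 ^ 3 = 1 := by
    simp [principal]
  rw [hpr, add_eq_zero_iff_eq_neg] at h0
  rw [finsum_eq_sum_of_fintype, ← Finset.add_sum_erase _ _ (Finset.mem_univ (principal G))] at h
  have hp1 : (1 : ℝ) / ‖((principal G : Cfsg.IrrCharacter G) : G → ℂ) 1‖ ^ 2 = 1 := by simp [principal]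
  rw [hp1] at h
  have hle : ∀ χ : Cfsg.IrrCharacter G, ‖(χ : G → ℂ) g / (χ : G → ℂ) 1 ^ 3‖ ≤ 1 / ‖(χ : G → ℂ) 1‖ ^ 2 := by
    intro χ
    have h1 : 0 < ‖(χ : G → ℂ) 1‖ := norm_pos_iff.2 (IsIrrCharacter.apply_one_ne_zero χ.2)
    have h2 : ‖(χ : G → ℂ) g‖ ≤ ‖(χ : G → ℂ) 1‖ := by
      obtain ⟨d, hd⟩ := IsCharacter.apply_one (isCharacter_of_irr χ.2)
      refine (IsCharacter.norm_le (isCharacter_of_irr χ.2) g).trans (le_of_eq ?_)
      simp [hd]
    rw [norm_div, norm_pow, div_le_div_iff₀ (by positivity) (by positivity)]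
    calc ‖(χ : G → ℂ) g‖ * ‖(χ : G → ℂ) 1‖ ^ 2 ≤ ‖(χ : G → ℂ) 1‖ * ‖(χ : G → ℂ) 1‖ ^ 2 :=
          mul_le_mul_of_nonneg_right h2 (by positivity)
      _ = 1 * ‖(χ : G → ℂ) 1‖ ^ 3 := by ring
  have h5 := (congrArg (fun z : ℂ => ‖z‖) h0).trans_le
    ((norm_neg _).trans_le ((norm_sum_le _ _).trans (Finset.sum_le_sum fun χ _ => hle χ)))
  simp only [norm_one] at h5
  linarith

end Cfsg.Agent.S4814
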