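import Cfsg.Statements.S4825
import Cfsg.Agent.Blocks.InducedPart
import Cfsg.Agent.Blocks.ItoDegrees
-- import your own Cfsg.Agent.* helpers here

set_option autoImplicit false
open Cfsg

namespace Cfsg.Agent.S4825

set_option linter.unusedSectionVars false

open Cfsg.Lib.Blocks Cfsg.Lib.Chars

/-- Let p be a prime, G a finite group with Sylow p-subgroup P, M a maximal ideal of the algebraic integers containing p, and B a p-block of G with defect group P. Let N be a normal subgroup of G not containing P and θ an irreducible character of N. Then the number of irreducible characters in B of degree prime to p lying over θ (having θ as a constituent on restriction to N) is either 0 or at least 2, and when p ≤ 3 it is divisible by p. -/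
theorem result {G : Type*} [Group G] [Fintype G] (p : ℕ) [Fact p.Prime] (P : Sylow p G) (M : Ideal Cfsg.AlgInt) (hM : Cfsg.IsPModular p M) (B : Set (Cfsg.IrrCharacter G)) (hB : Cfsg.IsPBlock M B) (hBP : Cfsg.IsDefectGroup p M B P) (N : Subgroup G) [N.Normal] [Fintype N] (hPN : ¬ (P : Subgroup G) ≤ N) (θ : Cfsg.IrrCharacter N) :
    (Nat.card {χ : Cfsg.IrrCharacter G // χ ∈ B ∧ ¬ p ∣ Cfsg.charDegree (χ : G → ℂ) ∧ Cfsg.classInner (fun n : N => (χ : G → ℂ) n) (θ : N → ℂ) ≠ 0} = 0 ∨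
      2 ≤ Nat.card {χ : Cfsg.IrrCharacter G // χ ∈ B ∧ ¬ p ∣ Cfsg.charDegree (χ : G → ℂ) ∧ Cfsg.classInner (fun n : N => (χ : G → ℂ) n) (θ : N → ℂ) ≠ 0}) ∧
    (p ≤ 3 → p ∣ Nat.card {χ : Cfsg.IrrCharacter G // χ ∈ B ∧ ¬ p ∣ Cfsg.charDegree (χ : G → ℂ) ∧ Cfsg.classInner (fun n : N => (χ : G → ℂ) n) (θ : N → ℂ) ≠ 0}) := by
  classical
  have hp : p.Prime := Fact.out
  -- the index of `N` is divisible by `p`
  have hidx : p ∣ N.index := by
    by_contra h
    refine hPN fun x hx => ?_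
    obtain ⟨j, hj⟩ := IsPGroup.iff_orderOf.1 P.2 ⟨x, hx⟩
    rw [Subgroup.orderOf_mk] at hj
    rw [← QuotientGroup.eq_one_iff, ← orderOf_eq_one_iff]
    refine Nat.eq_one_of_dvd_coprimes ((hp.coprime_iff_not_dvd.2 h).pow_left j)
      (hj ▸ orderOf_map_dvd (QuotientGroup.mk' N) x) ?_
    rw [Subgroup.index_eq_card]
    exact orderOf_dvd_natCard _
  obtain ⟨m, hm, hn⟩ := exists_nat_blockPart N B θ
  set n := ∑ χ ∈ Finset.univ.filter (· ∈ B), m χ * deg (χ : G → ℂ) with hn0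
  have hθ0 : deg (θ : N → ℂ) ≠ 0 := (deg_irr_pos θ).ne'
  -- the block part has degree divisible by `p`
  have hpn : p ∣ n := by
    by_cases hn1 : n = 0
    · rw [hn1]; exact dvd_zero p
    have hf := factorization_blockPart hM N hB θ hn
    have hle : 1 ≤ (N.index * deg (θ : N → ℂ)).factorization p :=
      hp.factorization_pos_of_dvd (Nat.mul_ne_zero N.index_ne_zero_of_finite hθ0)
        (dvd_mul_of_dvd_left hidx _)
    by_cases hs : Cfsg.Lib.Blocks.Small M (omega (θ : N → ℂ) (resElem N (blockElem B)))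
    · rcases hf.2 hs with h | h
      · exact absurd h hn1
      · exact Nat.dvd_of_factorization_pos (n := n) (p := p) (show n.factorization p ≠ 0 from fun h0 => by rw [h0] at h; omega)
    · obtain ⟨-, h⟩ := hf.1 hs
      exact Nat.dvd_of_factorization_pos (n := n) (p := p) (show n.factorization p ≠ 0 from fun h0 => by rw [h0] at h; omega)
  set S := Finset.univ.filter fun χ : IrrCharacter G => χ ∈ B ∧ ¬ p ∣ Cfsg.charDegree (χ : G → ℂ) ∧
      Cfsg.classInner (fun n : N => (χ : G → ℂ) n) (θ : N → ℂ) ≠ 0 with hS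
  have hcard : Nat.card {χ : IrrCharacter G // χ ∈ B ∧ ¬ p ∣ Cfsg.charDegree (χ : G → ℂ) ∧
      Cfsg.classInner (fun n : N => (χ : G → ℂ) n) (θ : N → ℂ) ≠ 0} = S.card := by
    rw [Nat.card_eq_fintype_card, Fintype.card_subtype]
  rw [hcard]
  set c := (conjOrbit N (θ : N → ℂ)).card * deg (θ : N → ℂ) with hc
  -- the degrees of the characters over `θ`
  have hdeg : ∀ χ : IrrCharacter G, m χ ≠ 0 → deg (χ : G → ℂ) = m χ * c := by
    intro χ hm0
    have hcl := clifford N χ.2 θ.2 (by rw [hm]; exact Nat.cast_ne_zero.2 hm0)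
    rw [hm] at hcl
    have h2 := congrFun hcl 1
    simp only [OneMemClass.coe_one, Pi.smul_apply, Finset.sum_apply, smul_eq_mul] at h2
    apply Nat.cast_injective (R := ℂ)
    rw [← irr_apply_one_eq_deg, h2, Finset.sum_congr rfl (g := fun _ => (θ : N → ℂ) 1) fun ψ hψ => ?_,
      Finset.sum_const, nsmul_eq_mul, irr_apply_one_eq_deg]
    · rw [hc]; push_cast; ring
    · obtain ⟨g, rfl⟩ := (mem_conjOrbit N).1 hψ
      simp [conjN]; rfl
  have hmem : ∀ χ : IrrCharacter G, χ ∈ S ↔ χ ∈ B ∧ ¬ p ∣ deg (χ : G → ℂ) ∧ m χ ≠ 0 := by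
    intro χ
    rw [hS, Finset.mem_filter, charDegree_eq_deg, hm, Nat.cast_ne_zero]
    simp
  -- the squares of the multiplicities sum to zero
  have hsum : (c : ZMod p) * ∑ χ ∈ S, (m χ : ZMod p) ^ 2 = 0 := by
    have h0 : (n : ZMod p) = 0 := (ZMod.natCast_eq_zero_iff _ _).2 hpn
    rw [hn0, Nat.cast_sum] at h0
    rw [← Finset.sum_subset (s₁ := S) (fun χ hχ => Finset.mem_filter.2 ⟨Finset.mem_univ _, ((hmem χ).1 hχ).1⟩)
      fun χ hχ hχS => ?_] at h0
    · rw [Finset.mul_sum, ← h0]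
      refine Finset.sum_congr rfl fun χ hχ => ?_
      rw [hdeg χ ((hmem χ).1 hχ).2.2]
      push_cast; ring
    · rw [Nat.cast_mul]
      by_cases hm0 : m χ = 0
      · rw [hm0, Nat.cast_zero, zero_mul]
      · rw [(ZMod.natCast_eq_zero_iff _ _).2 (not_not.1 fun h =>
          hχS ((hmem χ).2 ⟨(Finset.mem_filter.1 hχ).2, h, hm0⟩)), mul_zero]
  by_cases hS0 : S = ∅
  · rw [hS0, Finset.card_empty]
    exact ⟨.inl rfl, fun _ => dvd_zero p⟩
  obtain ⟨χ₀, hχ₀⟩ := Finset.nonempty_iff_ne_empty.2 hS0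
  have hc0 : (c : ZMod p) ≠ 0 := fun h => ((hmem χ₀).1 hχ₀).2.1 (by
    rw [hdeg χ₀ ((hmem χ₀).1 hχ₀).2.2]
    exact dvd_mul_of_dvd_right ((ZMod.natCast_eq_zero_iff _ _).1 h) _)
  have hm1 : ∀ χ ∈ S, (m χ : ZMod p) ≠ 0 := fun χ hχ h => ((hmem χ).1 hχ).2.1 (by
    rw [hdeg χ ((hmem χ).1 hχ).2.2]
    exact dvd_mul_of_dvd_left ((ZMod.natCast_eq_zero_iff _ _).1 h) _)
  have hsq := (mul_eq_zero.1 hsum).resolve_left hc0
  refine ⟨.inr ?_, fun hp3 => ?_⟩
  · by_contra hlt
    obtain ⟨a, ha⟩ := Finset.card_eq_one.1 (show S.card = 1 by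
      have := Finset.card_pos.2 ⟨χ₀, hχ₀⟩
      omega)
    rw [ha, Finset.sum_singleton] at hsq
    exact hm1 a (by rw [ha]; exact Finset.mem_singleton_self a) (pow_eq_zero_iff two_ne_zero |>.1 hsq)
  · have hone : ∀ χ ∈ S, (m χ : ZMod p) ^ 2 = 1 := fun χ hχ => by
      have hne := hm1 χ hχ
      rcases (show p = 2 ∨ p = 3 by have := hp.two_le; omega) with rfl | rfl
      · have h1 := ZMod.pow_card_sub_one_eq_one hne
        rw [show (2 : ℕ) - 1 = 1 from rfl, pow_one] at h1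
        rw [h1, one_pow]
      · exact ZMod.pow_card_sub_one_eq_one hne
    rw [Finset.sum_congr rfl hone, Finset.sum_const, nsmul_eq_mul, mul_one] at hsq
    exact (ZMod.natCast_eq_zero_iff _ _).1 hsq

end Cfsg.Agent.S4825
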