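import Cfsg.Statements.S4836
import Cfsg.Agent.Blocks.TwoClass
-- import your own Cfsg.Agent.* helpers here

set_option autoImplicit false
open Cfsg

namespace Cfsg.Agent.S4836

set_option linter.unusedSectionVars false

open Cfsg.Lib.Chars Cfsg.Lib.Blocks

/-- Let G be a finite group of order greater than 2 with an irreducible character χ that is nonzero on exactly two conjugacy classes. Then χ is faithful (it takes the value χ(1) only at the identity), it is the only faithful irreducible character of G, and it is the only irreducible character of G that is nonzero on exactly two conjugacy classes. -/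
theorem result {G : Type*} [Group G] [Finite G] (hG : 2 < Nat.card G) (χ : Cfsg.IrrCharacter G) (hχ : Nat.card {C : ConjClasses G // ∃ g ∈ C.carrier, (χ : G → ℂ) g ≠ 0} = 2) :
    (∀ g : G, (χ : G → ℂ) g = (χ : G → ℂ) 1 → g = 1) ∧
      (∀ ψ : Cfsg.IrrCharacter G, (∀ g : G, (ψ : G → ℂ) g = (ψ : G → ℂ) 1 → g = 1) → ψ = χ) ∧
      (∀ ψ : Cfsg.IrrCharacter G, Nat.card {C : ConjClasses G // ∃ g ∈ C.carrier, (ψ : G → ℂ) g ≠ 0} = 2 → ψ = χ) := by
  classical
  obtain ⟨M, hMn, x₀, hx₀, hx1, hmem, htr, hker, hmin, -, hne, -⟩ := two_class hG χ hχ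
  refine ⟨fun g hg => ?_, fun ψ hψ => ?_, fun ψ hψ => ?_⟩
  · by_contra hg1
    have hgM : g ∈ M := (hmem g).1 (by rw [hg]; exact IsIrrCharacter.apply_one_ne_zero χ.2)
    exact hne ((classFunction_eq_of_isConj (isClassFunction_irr χ) (htr g hgM hg1)).trans hg)
  · by_contra h
    exact hx1 (hψ x₀ (hker ψ h x₀ hx₀))
  · by_contra h
    obtain ⟨M', _, y₀, hy₀, hy1, hmem', -, -, hmin', -, hne', -⟩ := two_class hG ψ hψ
    have hM1 : M ≠ ⊥ := fun hb => hx1 (by rw [hb] at hx₀; exact Subgroup.mem_bot.1 hx₀)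
    exact hne' (hker ψ h y₀ (hmin' M hMn hM1 hy₀))

end Cfsg.Agent.S4836
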