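import Cfsg.Statements.S4837
import Cfsg.Agent.Blocks.TwoClass
import Cfsg.Agent.Chars.Inertia
import Cfsg.Agent.Chars.Count
-- import your own Cfsg.Agent.* helpers here

set_option autoImplicit false
open Cfsg

namespace Cfsg.Agent.S4837

set_option linter.unusedSectionVars false

open Cfsg.Lib.Chars Cfsg.Lib.Blocks

/-- Let G be a finite group of order greater than 2 with an irreducible character χ nonzero on exactly two conjugacy classes, and let N be the set of elements where χ is nonzero, given as a nontrivial normal p-subgroup of G for the prime p. Then for every nonidentity x in N the centralizer C_G(x) is a Sylow p-subgroup of G, and for every irreducible character λ ≠ 1 of N the stabilizer of λ in G (its inertia group) is a Sylow p-subgroup of G. -/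
theorem result {G : Type*} [Group G] [Finite G] (hG : 2 < Nat.card G) (χ : Cfsg.IrrCharacter G) (hχ : Nat.card {C : ConjClasses G // ∃ g ∈ C.carrier, (χ : G → ℂ) g ≠ 0} = 2) (p : ℕ) [Fact p.Prime] (N : Subgroup G) [N.Normal] (hN : ∀ g : G, g ∈ N ↔ (χ : G → ℂ) g ≠ 0) (hNp : IsPGroup p N) (hN1 : N ≠ ⊥) :
    (∀ x ∈ N, x ≠ 1 → ∃ P : Sylow p G, Subgroup.centralizer ({x} : Set G) = P) ∧
      (∀ μ : Cfsg.IrrCharacter N, (μ : N → ℂ) ≠ (fun _ => (1 : ℂ)) → ∃ P : Sylow p G, ∀ g : G, g ∈ (P : Subgroup G) ↔ ∀ n n' : N, (n' : G) = g * n * g⁻¹ → (μ : N → ℂ) n' = (μ : N → ℂ) n) := by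
  classical
  have hp : p.Prime := Fact.out
  haveI := Fintype.ofFinite G
  obtain ⟨M, hMn, x₀, hx₀, hx1, hmem, htr, -, -, hlin, hne, hcard⟩ := two_class hG χ hχ
  obtain rfl : N = M := Subgroup.ext fun g => (hN g).trans (hmem g)
  obtain ⟨a, ha⟩ := hNp.exists_card_eq
  obtain ⟨r₀, -, -, hab, -⟩ := elementary_of_transitive N hx₀ hx1 htr
  set q := Nat.card N with hq
  have hq2 : 2 ≤ q := by
    by_contra h
    have : 0 < q := Nat.card_pos
    exact hN1 (Subgroup.eq_bot_of_card_eq N (show q = 1 by omega))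
  set D := deg (χ : G → ℂ) with hD
  set c := (χ : G → ℂ) x₀ with hc
  obtain ⟨q', hq'⟩ : ∃ q', q = q' + 1 := ⟨q - 1, by omega⟩
  rw [irr_apply_one_eq_deg, ← hD, hq', Nat.cast_add, Nat.cast_one, add_sub_cancel_right] at hlin
  have hcval : c = -((D : ℂ) / (q' : ℂ)) := by
    have hq0 : (q' : ℂ) ≠ 0 := Nat.cast_ne_zero.2 (by omega)
    field_simp
    linear_combination hlin
  obtain ⟨e, he⟩ : q' ∣ D := by
    refine dvd_of_isIntegral_div (by omega) ?_
    have h1 : IsIntegral ℤ c := IsCharacter.isIntegral (isCharacter_of_irr χ.2) x₀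
    rw [hcval] at h1
    simpa using h1.neg
  have hG' : Nat.card G = q' * e ^ 2 * q := by
    rw [he] at hcard
    refine Nat.eq_of_mul_eq_mul_left (show 0 < q' by omega) ?_
    have h0 := hcard
    rw [hq'] at h0 ⊢
    nlinarith
  have he0 : e ≠ 0 := fun h0 => (deg_irr_pos χ).ne' (he.trans (by rw [h0, mul_zero]))
  have hce : c = -(e : ℂ) := by
    rw [hcval, he, Nat.cast_mul, mul_div_cancel_left₀ _ (Nat.cast_ne_zero.2 (show q' ≠ 0 by omega))]
  have hclass : ∀ x ∈ N, x ≠ 1 → Nat.card (Subgroup.centralizer ({x} : Set G)) = e ^ 2 * q := by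
    intro x hx hx'
    have hcl : (Subgroup.centralizer ({x} : Set G)).index = q' := by
      rw [← card_isConj, Nat.card_eq_fintype_card, Fintype.card_subtype]
      have heq : Finset.univ.filter (fun y : G => IsConj x y) = (Finset.univ.filter (fun y : G => y ∈ N)).erase 1 := by
        ext y
        simp only [Finset.mem_filter, Finset.mem_univ, true_and, Finset.mem_erase]
        constructor
        · intro h
          obtain ⟨k, rfl⟩ := isConj_iff.1 h
          exact ⟨fun h1 => hx' (by simpa using h1), hMn.conj_mem x hx k⟩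
        · exact fun ⟨h1, h2⟩ => (htr x hx hx').symm.trans (htr y h2 h1)
      rw [heq, Finset.card_erase_of_mem (by simp), ← Fintype.card_subtype, ← Nat.card_eq_fintype_card,
        ← hq, hq']
      omega
    have h1 := (Subgroup.centralizer ({x} : Set G)).index_mul_card
    rw [hcl, hG', mul_assoc] at h1
    exact Nat.eq_of_mul_eq_mul_left (show 0 < q' by omega) h1
  -- `e` is a power of `p`
  have hepow : ∀ r, r.Prime → r ∣ e → r = p := by
    intro r hr hre
    by_contra hrp
    haveI := Fact.mk hr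
    obtain ⟨R₀⟩ : Nonempty (Sylow r (Subgroup.centralizer ({x₀} : Set G))) := inferInstance
    set R : Subgroup G := (R₀ : Subgroup (Subgroup.centralizer ({x₀} : Set G))).map
      (Subgroup.centralizer ({x₀} : Set G)).subtype with hR
    haveI : Fintype R := Fintype.ofFinite R
    have hxR : x₀ ∈ Subgroup.normalizer (R : Set G) := by
      rw [Subgroup.mem_normalizer_iff]
      intro u
      constructor
      · intro hu
        have hcm := Subgroup.mem_centralizer_singleton_iff.1 (Subgroup.map_subtype_le _ hu)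
        rwa [← hcm, mul_inv_cancel_right]
      · intro hu
        have hcm := Subgroup.mem_centralizer_singleton_iff.1 (Subgroup.map_subtype_le _ hu)
        have : x₀ * u * x₀⁻¹ = u := by
          calc x₀ * u * x₀⁻¹ = x₀⁻¹ * (x₀ * (x₀ * u * x₀⁻¹)) := by group
            _ = x₀⁻¹ * ((x₀ * u * x₀⁻¹) * x₀) := by rw [hcm]
            _ = u := by group
        rwa [this] at hu
    have hRp : IsPGroup r R := R₀.2.map _
    have hsum : ∑ u : R, (χ : G → ℂ) ((u : G) * x₀) = c := by
      rw [Finset.sum_eq_single (1 : R) ?_ (by simp)]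
      · simp [hc]
      · intro u _ hu
        by_contra h0
        have huN : (u : G) ∈ N := by
          simpa using mul_mem ((hmem _).1 h0) (inv_mem hx₀)
        obtain ⟨i, hi⟩ := IsPGroup.iff_orderOf.1 hRp u
        obtain ⟨j, hj⟩ := IsPGroup.iff_orderOf.1 hNp ⟨u, huN⟩
        rw [Subgroup.orderOf_mk, Subgroup.orderOf_coe, hi] at hj
        have hco : (r ^ i).Coprime (p ^ j) := Nat.Coprime.pow i j ((Nat.coprime_primes hr hp).2 hrp)
        rw [← hj, Nat.coprime_self] at hco
        exact hu (orderOf_eq_one_iff.1 (hi.trans hco))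
    have hint := isIntegral_coset_average (isCharacter_of_irr χ.2) R hxR
    rw [hsum, hce, neg_div] at hint
    have hdvd : Nat.card R ∣ e := dvd_of_isIntegral_div Nat.card_pos.ne' (by simpa using hint.neg)
    rw [hR, Subgroup.card_map_of_injective (Subgroup.subtype_injective _), Sylow.card_eq_multiplicity,
      hclass x₀ hx₀ hx1, Nat.factorization_mul (pow_ne_zero 2 he0) (by omega), Finsupp.add_apply,
      Nat.factorization_pow, Finsupp.smul_apply, smul_eq_mul] at hdvd
    have h2 := (Nat.Prime.pow_dvd_iff_le_factorization hr he0).1 hdvd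
    have h3 := hr.factorization_pos_of_dvd he0 hre
    omega
  obtain ⟨i, hi⟩ : ∃ i, e = p ^ i := ⟨_, Nat.eq_prime_pow_of_unique_prime_dvd he0 fun {d} hd hde => hepow d hd hde⟩
  have hpq : ¬ p ∣ q' := fun h => by
    have h1 : p ∣ q' + 1 := by
      rw [← hq', ha]
      refine dvd_pow_self p fun h0 => ?_
      rw [h0, pow_zero] at ha
      omega
    exact hp.not_dvd_one ((Nat.dvd_add_right h).1 h1)
  have hpow : e ^ 2 * q = p ^ (2 * i + a) := by rw [hi, ha, pow_add, ← pow_mul, mul_comm i 2]
  have hfac : (Nat.card G).factorization p = 2 * i + a := by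
    rw [hG', mul_assoc, hpow, Nat.factorization_mul (by omega) (pow_ne_zero _ hp.ne_zero), Finsupp.add_apply,
      Nat.factorization_eq_zero_of_not_dvd hpq, hp.factorization_pow, Finsupp.single_eq_same, zero_add]
  refine ⟨fun x hx hx' => ⟨Sylow.ofCard (Subgroup.centralizer ({x} : Set G))
    (by rw [hclass x hx hx', hfac, hpow]), rfl⟩, fun μ hμ => ?_⟩
  haveI : Fintype N := Fintype.ofFinite N
  have hcons : ∀ ν : Cfsg.IrrCharacter N, ν ≠ principal N →
      Cfsg.classInner (fun n : N => (χ : G → ℂ) n) (ν : N → ℂ) ≠ 0 := by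
    intro ν hν
    have horth := classInner_irr_ne hν.symm
    rw [classInner_def, mul_eq_zero] at horth
    have h0 := horth.resolve_left (inv_ne_zero (Nat.cast_ne_zero.2 Nat.card_pos.ne'))
    rw [classInner_def]
    refine mul_ne_zero (inv_ne_zero (Nat.cast_ne_zero.2 Nat.card_pos.ne')) fun h => ?_
    have hterm : ∀ n : N, (χ : G → ℂ) n * (starRingEnd ℂ) ((ν : N → ℂ) n) =
        c * (((principal N : Cfsg.IrrCharacter N) : N → ℂ) n * (starRingEnd ℂ) ((ν : N → ℂ) n)) +
          (if n = 1 then ((χ : G → ℂ) 1 - c) * (starRingEnd ℂ) ((ν : N → ℂ) 1) else 0) := by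
      intro n
      split_ifs with hn1
      · subst hn1; simp [principal]; ring
      · rw [← classFunction_eq_of_isConj (isClassFunction_irr χ) (htr n n.2 fun h => hn1 (Subtype.ext h))]
        simp [principal, hc]
    rw [Finset.sum_congr rfl fun n _ => hterm n, Finset.sum_add_distrib, ← Finset.mul_sum, h0,
      Finset.sum_ite_eq', if_pos (Finset.mem_univ _), mul_zero, zero_add, mul_eq_zero, map_eq_zero,
      sub_eq_zero] at h
    exact h.elim (fun h1 => hne h1.symm) (IsIrrCharacter.apply_one_ne_zero ν.2)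
  have hμ' : μ ≠ principal N := fun h => hμ (congrArg Subtype.val h)
  have horb : conjOrbit N (μ : N → ℂ) = (Finset.univ.erase (principal N)).image Subtype.val := by
    ext φ
    rw [mem_conjOrbit, Finset.mem_image]
    constructor
    · rintro ⟨g, rfl⟩
      refine ⟨⟨_, IsIrrCharacter.conjN μ.2 g⟩, Finset.mem_erase.2 ⟨fun h => hμ' ?_, Finset.mem_univ _⟩, rfl⟩
      have h1 : conjN N g (μ : N → ℂ) = fun _ => (1 : ℂ) := congrArg Subtype.val h
      have h2 := congrArg (conjN N g⁻¹) h1
      rw [← conjN_mul, mul_inv_cancel, conjN_one] at h2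
      exact Subtype.ext h2
    · rintro ⟨ν, hν, rfl⟩
      obtain ⟨g, hg⟩ := exists_conjN_of_constituents N χ.2 μ.2 ν.2 (hcons μ hμ')
        (hcons ν (Finset.ne_of_mem_erase hν))
      exact ⟨g, hg.symm⟩
  have hirr : Fintype.card (Cfsg.IrrCharacter N) = q := by
    rw [← Nat.card_eq_fintype_card, card_irrCharacter, hq]
    refine (Nat.card_congr (Equiv.ofBijective ConjClasses.mk ⟨fun u v h => ?_, fun C => ConjClasses.exists_rep C⟩)).symm
    obtain ⟨k, hk⟩ := isConj_iff.1 (ConjClasses.mk_eq_mk_iff_isConj.1 h)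
    rw [← hk, show k * u = u * k from Subtype.ext (hab k k.2 u u.2), mul_inv_cancel_right]
  have hinc : Nat.card (inertia N (μ : N → ℂ)) = p ^ (Nat.card G).factorization p := by
    have h1 := card_conjOrbit N (μ : N → ℂ)
    rw [horb, Finset.card_image_of_injective _ Subtype.val_injective,
      Finset.card_erase_of_mem (Finset.mem_univ _), Finset.card_univ, hirr, hq', hG', mul_assoc,
      Nat.add_sub_cancel] at h1
    rw [hfac, ← hpow, ← Nat.eq_of_mul_eq_mul_left (show 0 < q' by omega) h1]
  refine ⟨Sylow.ofCard (inertia N (μ : N → ℂ)) hinc, fun g => ?_⟩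
  show g ∈ inertia N (μ : N → ℂ) ↔ _
  rw [mem_inertia]
  constructor
  · intro h n n' he
    have h1 := congrFun h n
    rw [show n' = ⟨g * (n : G) * g⁻¹, hMn.conj_mem n n.2 g⟩ from Subtype.ext he]
    exact h1
  · intro h
    funext n
    exact h n ⟨g * (n : G) * g⁻¹, hMn.conj_mem n n.2 g⟩ rfl

end Cfsg.Agent.S4837
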