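import Cfsg.Statements.S4838
import Cfsg.Agent.Blocks.TwoClass
import Cfsg.Agent.S4837
import Cfsg.Agent.Chars.Count
import Cfsg.Agent.Chars.IrrTools
import Mathlib
-- import your own Cfsg.Agent.* helpers here

set_option autoImplicit false
open Cfsg

namespace Cfsg.Agent.S4838

set_option linter.unusedSectionVars false

open Cfsg.Lib.Chars Cfsg.Lib.Blocks
open scoped commutatorElement

/-- Let G be a finite group of order greater than 2 with an irreducible character χ nonzero on exactly two conjugacy classes, N the normal p-subgroup of elements where χ is nonzero, and P a Sylow p-subgroup of G. Then (a) for every x outside N the centralizer of x in G has the same order as the centralizer of xN in G/N; (b) the centre of P lies in N, and equals N exactly when P is normal in G; (c) N, viewed inside P, is a term of the upper central series of P. -/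
theorem result {G : Type*} [Group G] [Finite G] (hG : 2 < Nat.card G) (χ : Cfsg.IrrCharacter G) (hχ : Nat.card {C : ConjClasses G // ∃ g ∈ C.carrier, (χ : G → ℂ) g ≠ 0} = 2) (p : ℕ) [Fact p.Prime] (N : Subgroup G) [N.Normal] (hN : ∀ g : G, g ∈ N ↔ (χ : G → ℂ) g ≠ 0) (hNp : IsPGroup p N) (hN1 : N ≠ ⊥) (P : Sylow p G) :
    (∀ x : G, x ∉ N → Nat.card (Subgroup.centralizer ({x} : Set G)) = Nat.card (Subgroup.centralizer ({(x : G ⧸ N)} : Set (G ⧸ N)))) ∧
      ((Subgroup.center ↥(P : Subgroup G)).map (P : Subgroup G).subtype ≤ N ∧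
        ((Subgroup.center ↥(P : Subgroup G)).map (P : Subgroup G).subtype = N ↔ (P : Subgroup G).Normal)) ∧
      (∃ i : ℕ, Subgroup.upperCentralSeries ↥(P : Subgroup G) i = N.subgroupOf (P : Subgroup G)) := by
  classical
  have hp : p.Prime := Fact.out
  haveI := Fintype.ofFinite G
  obtain ⟨M, hMn, x₀, hx₀, hx1, hmem, htr, hker, hmin, -, hne, -⟩ := two_class hG χ hχ
  obtain rfl : N = M := Subgroup.ext fun g => (hN g).trans (hmem g)
  have hC37 := (Cfsg.Agent.S4837.result hG χ hχ p N hN hNp hN1).1
  haveI : Fintype (G ⧸ N) := Fintype.ofFinite _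
  let π := QuotientGroup.mk' N
  -- centralisers outside `N`
  have hA : ∀ x : G, x ∉ N → Nat.card (Subgroup.centralizer ({x} : Set G)) =
      Nat.card (Subgroup.centralizer ({(x : G ⧸ N)} : Set (G ⧸ N))) := by
    intro x hx
    have h0 : (χ : G → ℂ) x = 0 := by
      by_contra h
      exact hx ((hmem x).1 h)
    apply Nat.cast_injective (R := ℝ)
    rw [← sum_norm_sq_irr, ← sum_norm_sq_irr, ← Finset.add_sum_erase _ _ (Finset.mem_univ χ), h0,
      norm_zero, zero_pow two_ne_zero, zero_add]
    refine (Finset.sum_bij (fun φ _ => (⟨_, IsIrrCharacter.comp_surjective φ.2 π (QuotientGroup.mk'_surjective N)⟩ :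
      Cfsg.IrrCharacter G)) ?_ ?_ ?_ ?_).symm
    · intro φ _
      refine Finset.mem_erase.2 ⟨fun h => ?_, Finset.mem_univ _⟩
      have h1 : (χ : G → ℂ) x₀ = (χ : G → ℂ) 1 := by
        rw [← congrArg Subtype.val h]
        show (φ : G ⧸ N → ℂ) (π x₀) = (φ : G ⧸ N → ℂ) (π 1)
        rw [show π x₀ = π 1 by rw [map_one]; exact (QuotientGroup.eq_one_iff x₀).2 hx₀]
      exact hne h1
    · intro φ _ φ' _ h
      refine Subtype.ext (funext fun u => ?_)
      obtain ⟨v, rfl⟩ := QuotientGroup.mk'_surjective N u
      exact congrFun (congrArg Subtype.val h) v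
    · intro ψ hψ
      obtain ⟨b, hb, hfac⟩ := exists_factor π (QuotientGroup.mk'_surjective N) (isCharacter_of_irr ψ.2)
        fun k hk => hker ψ (Finset.ne_of_mem_erase hψ) k (by rwa [QuotientGroup.ker_mk'] at hk)
      have hb' : Cfsg.IsIrrCharacter (G ⧸ N) b := by
        refine irr_of_comp_irr hb π ?_
        have := ψ.2
        rw [hfac] at this
        exact this
      exact ⟨⟨b, hb'⟩, Finset.mem_univ _, Subtype.ext hfac.symm⟩
    · intro φ _
      rfl
  have hdvdN : p ∣ Nat.card N := by
    obtain ⟨a, ha⟩ := hNp.exists_card_eq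
    rcases a with _ | a
    · rw [pow_zero] at ha
      exact absurd (Subgroup.eq_bot_of_card_eq N ha) hN1
    · exact ha ▸ dvd_pow_self p a.succ_ne_zero
  have hNP : N ≤ (P : Subgroup G) := by
    obtain ⟨T, hT⟩ := hNp.exists_le_sylow
    obtain ⟨g, hg⟩ := MulAction.exists_smul_eq G T P
    intro n hn
    have h1 : MulAut.conj g (g⁻¹ * n * g) ∈ ((g • T : Sylow p G) : Subgroup G) := by
      rw [Sylow.coe_subgroup_smul]
      refine Subgroup.smul_mem_pointwise_smul _ _ _ (hT ?_)
      simpa using hMn.conj_mem n hn g⁻¹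
    rw [hg] at h1
    simpa [mul_assoc] using h1
  -- a `p`-subgroup centralising an element outside `N` is small
  have hsmall : ∀ (K : Subgroup G) (x : G), x ∉ N → IsPGroup p K →
      K ≤ Subgroup.centralizer ({x} : Set G) → Nat.card K * Nat.card N ∣ Nat.card (P : Subgroup G) := by
    intro K x hx hK hKC
    obtain ⟨k, hk⟩ := hK.exists_card_eq
    obtain ⟨a, ha⟩ := hNp.exists_card_eq
    have h1 : Nat.card K ∣ Nat.card (G ⧸ N) := (Subgroup.card_dvd_of_le hKC).trans
      (by rw [hA x hx]; exact Subgroup.card_subgroup_dvd_card _)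
    have h2 : p ^ (k + a) ∣ Nat.card G := by
      rw [pow_add, ← hk, ← ha, ← N.index_mul_card]
      exact mul_dvd_mul_right (by rw [Subgroup.index_eq_card]; exact h1) _
    rw [hk, ha, ← pow_add, P.card_eq_multiplicity]
    exact pow_dvd_pow p ((hp.pow_dvd_iff_le_factorization Nat.card_pos.ne').1 h2)
  have hZN : (Subgroup.center ↥(P : Subgroup G)).map (P : Subgroup G).subtype ≤ N := by
    rintro _ ⟨z, hz, rfl⟩
    by_contra hzN
    have hle : (P : Subgroup G) ≤ Subgroup.centralizer ({(z : G)} : Set G) := fun u hu =>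
      Subgroup.mem_centralizer_singleton_iff.2
        (congrArg Subtype.val ((Subgroup.mem_center_iff.1 hz) ⟨u, hu⟩))
    have h1 := hsmall P _ hzN P.2 hle
    have h2 := Nat.le_of_dvd Nat.card_pos h1
    have h3 : 0 < Nat.card (P : Subgroup G) := Nat.card_pos
    have h4 : p ≤ Nat.card N := Nat.le_of_dvd Nat.card_pos hdvdN
    have h5 := hp.two_le
    nlinarith
  refine ⟨hA, ⟨hZN, ⟨fun hZ => ?_, fun hPn => ?_⟩⟩, ?_⟩
  · -- `Z(P) = N` gives normality
    have hcent : ∀ x ∈ N, x ≠ 1 → Subgroup.centralizer ({x} : Set G) = (P : Subgroup G) := by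
      intro x hx hx'
      obtain ⟨Q, hQ⟩ := hC37 x hx hx'
      have hle : (P : Subgroup G) ≤ (Q : Subgroup G) := fun u hu => by
        rw [← hQ]
        rw [← hZ] at hx
        obtain ⟨z, hz, rfl⟩ := hx
        exact Subgroup.mem_centralizer_singleton_iff.2
          (congrArg Subtype.val ((Subgroup.mem_center_iff.1 hz) ⟨u, hu⟩))
      rw [hQ, P.3 Q.2 hle]
    refine ⟨fun u hu g => ?_⟩
    have h1 := hcent x₀ hx₀ hx1
    have h2 := hcent (g⁻¹ * x₀ * g) (by simpa using hMn.conj_mem x₀ hx₀ g⁻¹) (fun h => hx1 (by
      have := congrArg (fun w => g * w * g⁻¹) h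
      simpa [mul_assoc] using this))
    rw [← h2, Subgroup.mem_centralizer_singleton_iff] at hu
    rw [← h1, Subgroup.mem_centralizer_singleton_iff]
    have h3 := congrArg (fun w => g * w * g⁻¹) hu
    simpa [mul_assoc] using h3
  · -- `P` normal
    haveI := hPn
    refine le_antisymm hZN (hmin _ inferInstance fun hb => ?_)
    haveI : Nontrivial (P : Subgroup G) := (Subgroup.nontrivial_iff_ne_bot _).2 fun h => hN1
      (le_bot_iff.1 (h ▸ hNP))
    haveI := IsPGroup.center_nontrivial (p := p) (G := (P : Subgroup G)) P.2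
    obtain ⟨z, hz⟩ := exists_ne (1 : Subgroup.center ↥(P : Subgroup G))
    have h1 : ((z : ↥(P : Subgroup G)) : G) ∈ (⊥ : Subgroup G) := hb ▸ ⟨_, z.2, rfl⟩
    exact hz (Subtype.ext (Subtype.ext (Subgroup.mem_bot.1 h1)))
  · by_contra hcon
    push Not at hcon
    set N' := N.subgroupOf (P : Subgroup G)
    have hall : ∀ i, Subgroup.upperCentralSeries ↥(P : Subgroup G) i < N' := by
      intro i
      induction i with
      | zero => exact lt_of_le_of_ne (by rw [Subgroup.upperCentralSeries_zero]; exact bot_le) (hcon 0)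
      | succ i ih =>
        refine lt_of_le_of_ne (fun z hz => ?_) (hcon (i + 1))
        by_contra hzN
        rw [Subgroup.mem_subgroupOf] at hzN
        set Z := Subgroup.upperCentralSeries ↥(P : Subgroup G) i with hZdef
        have hz' : ∀ y, z * y * z⁻¹ * y⁻¹ ∈ Z := fun y => by
          have h1 := (Subgroup.mem_upperCentralSeries_succ_iff.1 hz) y
          simpa [commutatorElement_def] using h1
        set C := Subgroup.centralizer ({z} : Set ↥(P : Subgroup G)) with hCdef
        have hidx : C.index ≤ Nat.card Z := by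
          rw [Subgroup.index_eq_card]
          refine Nat.card_le_card_of_injective (fun u => (⟨z * u.out * z⁻¹ * u.out⁻¹, hz' _⟩ : Z)) fun u v h => ?_
          have h1 : z * u.out * z⁻¹ * u.out⁻¹ = z * v.out * z⁻¹ * v.out⁻¹ := congrArg Subtype.val h
          rw [← QuotientGroup.out_eq' u, ← QuotientGroup.out_eq' v, QuotientGroup.eq]
          refine Subgroup.mem_centralizer_singleton_iff.2 ?_
          simp only [mul_assoc, mul_right_inj] at h1
          have h2 := congrArg (fun w => u.out⁻¹ * w * v.out) h1
          simp [mul_assoc] at h2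
          have h3 := congrArg (fun w => w * z) h2
          have h4 := congrArg (fun w => z * w) h3.symm
          simp [mul_assoc] at h4 ⊢
          first | exact h4.symm | exact h4
        have hC : Nat.card C * Nat.card N ∣ Nat.card (P : Subgroup G) := by
          have h1 := hsmall (C.map (P : Subgroup G).subtype) _ hzN
            ((P.2.to_subgroup C).map _) (by
              rintro _ ⟨u, hu, rfl⟩
              exact Subgroup.mem_centralizer_singleton_iff.2
                (congrArg Subtype.val (Subgroup.mem_centralizer_singleton_iff.1 hu)))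
          rwa [Subgroup.card_map_of_injective (Subgroup.subtype_injective _)] at h1
        have h3 : Nat.card N ≤ C.index := by
          refine Nat.le_of_dvd (Nat.pos_of_ne_zero Subgroup.index_ne_zero_of_finite) ?_
          rw [← C.card_mul_index] at hC
          exact Nat.dvd_of_mul_dvd_mul_left Nat.card_pos hC
        have h4 : Nat.card Z < Nat.card N := by
          rw [← Nat.card_congr (Subgroup.subgroupOfEquivOfLe hNP).toEquiv]
          exact lt_of_not_ge fun hge => ih.ne (Subgroup.eq_of_le_of_card_ge ih.le hge)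
        omega
    haveI : Group.IsNilpotent ↥(P : Subgroup G) := IsPGroup.isNilpotent (p := p) P.2
    have htop : Subgroup.upperCentralSeries ↥(P : Subgroup G) (Group.nilpotencyClass ↥(P : Subgroup G)) = ⊤ :=
      Subgroup.upperCentralSeries_eq_top_iff_nilpotencyClass_le.2 le_rfl
    exact not_top_lt (htop ▸ hall _)

end Cfsg.Agent.S4838
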