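import Cfsg.Statements.S4839
import Cfsg.Agent.Blocks.TwoClass
import Cfsg.Agent.S4837
import Cfsg.Agent.S4838
import Cfsg.Agent.Blocks.TwoClassFrobenius
-- import your own Cfsg.Agent.* helpers here

set_option autoImplicit false
open Cfsg

namespace Cfsg.Agent.S4839

set_option linter.unusedSectionVars false

open Cfsg.Lib.Chars Cfsg.Lib.Blocks Cfsg.Lib.Blocks.TwoClassFrobenius

/-- Let G be a finite group of order greater than 2 with an irreducible character χ nonzero on exactly two conjugacy classes, and let N be the normal p-subgroup of elements where χ is nonzero. Then N is the whole p-core O_p(G) if and only if G is a doubly transitive Frobenius group with kernel N: G has a Frobenius complement H whose Frobenius kernel is N and whose order is one less than that of N. -/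
theorem result {G : Type*} [Group G] [Finite G] (hG : 2 < Nat.card G) (χ : Cfsg.IrrCharacter G) (hχ : Nat.card {C : ConjClasses G // ∃ g ∈ C.carrier, (χ : G → ℂ) g ≠ 0} = 2) (p : ℕ) [Fact p.Prime] (N : Subgroup G) [N.Normal] (hN : ∀ g : G, g ∈ N ↔ (χ : G → ℂ) g ≠ 0) (hNp : IsPGroup p N) (hN1 : N ≠ ⊥) :
    N = Cfsg.pCore p G ↔ ∃ H : Subgroup G, Cfsg.IsFrobeniusComplement H ∧ Cfsg.frobeniusKernel H = (N : Set G) ∧ Nat.card H + 1 = Nat.card N := by
  classical
  have hp : p.Prime := Fact.out
  obtain ⟨M, hMn, x₀, hx₀, hx1, hmem, htr, -⟩ := two_class hG χ hχ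
  obtain rfl : N = M := Subgroup.ext fun g => (hN g).trans (hmem g)
  obtain ⟨r, hr, -, hab, hexpr⟩ := elementary_of_transitive N hx₀ hx1 htr
  have hrp : r = p := by
    obtain ⟨k, hk⟩ := hNp ⟨x₀, hx₀⟩
    have h1 : orderOf x₀ ∣ p ^ k := orderOf_dvd_of_pow_eq_one (congrArg Subtype.val hk)
    have := Fact.mk hr
    rw [orderOf_eq_prime (hexpr x₀ hx₀) hx1] at h1
    exact (Nat.prime_dvd_prime_iff_eq hr hp).1 (hr.dvd_of_dvd_pow h1)
  subst hrp
  have hconj : ∀ a ∈ N, ∀ b ∈ N, a ≠ 1 → b ≠ 1 → IsConj a b := fun a ha b hb h1 h2 =>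
    (htr a ha h1).symm.trans (htr b hb h2)
  have hcent : ∀ a ∈ N, a ≠ 1 → IsPGroup r (Subgroup.centralizer ({a} : Set G)) := by
    intro a ha h1
    obtain ⟨P, hP⟩ := (Cfsg.Agent.S4837.result hG χ hχ r N hN hNp hN1).1 a ha h1
    rw [hP]
    exact P.2
  have hpcore : IsPGroup r (Cfsg.pCore r G) := Cfsg.Lib.Components.isPGroup_pCore r
  have hNle : N ≤ Cfsg.pCore r G := le_sSup ⟨hMn, hNp⟩
  constructor
  · intro hcore
    have hA := (Cfsg.Agent.S4838.result hG χ hχ r N hN hNp hN1 (Classical.arbitrary _)).1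
    have hcore' : ∀ K : Subgroup G, K.Normal → IsPGroup r K → K ≤ N := fun K hK hKp =>
      hcore ▸ le_sSup (show K ∈ {N : Subgroup G | N.Normal ∧ IsPGroup r N} from ⟨hK, hKp⟩)
    have hidx : ¬ r ∣ N.index := by
      rcases eq_or_ne r 2 with h2 | h2
      · exact not_dvd_index_two N hN1 hNp hab hexpr hcent hcore' hA h2
      · exact not_dvd_index_odd N hN1 hNp hab hexpr hconj hcent hcore' hA h2
    obtain ⟨a, ha⟩ := hNp.exists_card_eq
    have hco : Nat.Coprime (Nat.card N) N.index := by
      rw [ha]; exact Nat.Coprime.pow_left a (hp.coprime_iff_not_dvd.2 hidx)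
    obtain ⟨H, hH⟩ := Subgroup.exists_right_complement'_of_coprime hco
    -- the centralizer of `x₀` is `N`
    have hC : Subgroup.centralizer ({x₀} : Set G) = N := by
      refine le_antisymm (fun g hg => ?_) fun g hg =>
        Subgroup.mem_centralizer_singleton_iff.2 (hab g hg x₀ hx₀)
      obtain ⟨k, hk⟩ := hcent x₀ hx₀ hx1 ⟨g, hg⟩
      rw [← QuotientGroup.eq_one_iff, ← orderOf_eq_one_iff]
      refine Nat.eq_one_of_dvd_coprimes (Nat.Coprime.pow_left k (hp.coprime_iff_not_dvd.2 hidx))
        (orderOf_dvd_of_pow_eq_one ?_) (orderOf_dvd_natCard (g : G ⧸ N))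
      rw [← QuotientGroup.mk_pow, show g ^ r ^ k = 1 from congrArg Subtype.val hk,
        QuotientGroup.mk_one]
    have hHcard : Nat.card H + 1 = Nat.card N := by
      have h1 : N.index = Nat.card {g : G // IsConj x₀ g} := by rw [card_isConj, hC]
      have h2 : Nat.card H = N.index := hH.symm.index_eq_card.symm
      rw [h2, h1]
      have : Fintype G := Fintype.ofFinite G
      rw [Nat.card_eq_fintype_card, Nat.card_eq_fintype_card, Fintype.card_subtype,
        Fintype.card_subtype]
      have heq : Finset.univ.filter (fun g : G => IsConj x₀ g) =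
          (Finset.univ.filter fun g : G => g ∈ N).erase 1 := by
        ext g
        simp only [Finset.mem_filter, Finset.mem_univ, true_and, Finset.mem_erase]
        refine ⟨fun h => ?_, fun ⟨h1, h2⟩ => htr g h2 h1⟩
        obtain ⟨c, rfl⟩ := isConj_iff.1 h
        exact ⟨fun e => hx1 (by simpa using e), hMn.conj_mem x₀ hx₀ c⟩
      rw [heq, Finset.card_erase_add_one (by simp)]
    have hmul : Nat.card N * Nat.card H = Nat.card G := hH.card_mul_card
    have hfix : ∀ z ∈ H, z ≠ 1 → ∀ v ∈ N, Commute z v → v = 1 := by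
      intro z hz hz1
      refine eq_one_of_commute N hcent (fun h => hidx ?_) hz1
      have h2 := h.trans (Subgroup.orderOf_dvd_natCard H hz)
      rwa [← hH.symm.index_eq_card] at h2
    have hdecomp : ∀ g : G, ∃ v ∈ N, ∃ h ∈ H, g = v * h := fun g => by
      obtain ⟨⟨v, h⟩, e⟩ := hH.2 g
      exact ⟨v, v.2, h, h.2, e.symm⟩
    have hdisj : ∀ g, g ∈ N → g ∈ H → g = 1 := fun g h1 h2 =>
      Subgroup.mem_bot.1 (hH.disjoint.le_bot ⟨h1, h2⟩)
    refine ⟨H, ⟨fun e => ?_, fun e => ?_, fun g hg => ?_⟩, ?_, hHcard⟩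
    · rw [e, Subgroup.card_bot] at hHcard hmul
      omega
    · exact hN1 ((Subgroup.eq_bot_iff_forall N).2 fun v hv => hdisj v hv (e ▸ Subgroup.mem_top v))
    · rw [Subgroup.eq_bot_iff_forall]
      rintro z ⟨hz, hz'⟩
      obtain ⟨z', hz'', e⟩ := hz'
      simp only [MulDistribMulAction.toMonoidEnd_apply] at e
      replace e : g * z' * g⁻¹ = z := e
      obtain ⟨v, hv, h, hh, rfl⟩ := hdecomp g
      by_contra hz1
      have hw : h * z' * h⁻¹ ∈ H := H.mul_mem (H.mul_mem hh hz'') (H.inv_mem hh)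
      set w := h * z' * h⁻¹ with hwdef
      have e' : v * w * v⁻¹ = z := by rw [← e, hwdef]; group
      have h1 : z * w⁻¹ = 1 := by
        refine hdisj _ ?_ (H.mul_mem hz (H.inv_mem hw))
        rw [← e', show v * w * v⁻¹ * w⁻¹ = v * (w * v⁻¹ * w⁻¹) by group]
        exact N.mul_mem hv (hMn.conj_mem _ (N.inv_mem hv) w)
      rw [mul_inv_eq_one] at h1
      rw [← h1] at e'
      have hc : Commute z v := (mul_inv_eq_iff_eq_mul.1 e').symm
      have hv1 := hfix z hz hz1 v hv hc
      exact hg (by rw [hv1, one_mul]; exact hh)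
    · ext g
      constructor
      · rintro (rfl | hg)
        · exact N.one_mem
        · by_contra hgN
          obtain ⟨v, hv, h, hh, rfl⟩ := hdecomp g
          have hh1 : h ≠ 1 := fun e => hgN (by simpa [e] using hv)
          obtain ⟨w, hw, e⟩ := exists_conj_of_coset N hab (hfix h hh hh1) hv
          exact hg w ⟨h, hh, e⟩
      · intro hg
        refine or_iff_not_imp_left.2 fun hg1 c hc => ?_
        obtain ⟨z, hz, e⟩ := hc
        replace e : c * z * c⁻¹ = g := e
        refine hg1 ?_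
        rw [← e, hdisj z ?_ hz, mul_one, mul_inv_cancel]
        have := hMn.conj_mem g hg c⁻¹
        rw [← e] at this
        simpa [mul_assoc] using this
  · rintro ⟨H, hH, hker, hcard⟩
    refine le_antisymm hNle fun z hz => ?_
    by_contra hzN
    have h1 : z ∉ Cfsg.frobeniusKernel H := by rw [hker]; exact hzN
    simp only [Cfsg.frobeniusKernel, Set.mem_ofPred_eq, not_or, not_forall, not_not] at h1
    obtain ⟨hz1, c, w, hw, e⟩ := h1
    replace e : c * w * c⁻¹ = z := e
    obtain ⟨k, hk⟩ := hpcore ⟨z, hz⟩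
    have hz' : z ^ r ^ k = 1 := congrArg Subtype.val hk
    have h2 : orderOf w ∣ r ^ k := by
      refine orderOf_dvd_of_pow_eq_one ?_
      rw [← e, conj_pow] at hz'
      simpa using hz'
    have h3 : orderOf w ∣ Nat.card H := Subgroup.orderOf_dvd_natCard H hw
    obtain ⟨a, ha⟩ := hNp.exists_card_eq
    have hco : Nat.Coprime (r ^ k) (Nat.card H) := by
      refine Nat.Coprime.pow_left k (hp.coprime_iff_not_dvd.2 fun h => hp.not_dvd_one ?_)
      have ha0 : a ≠ 0 := fun e => hN1 (Subgroup.eq_bot_of_card_eq N (by rw [ha, e, pow_zero]))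
      refine (Nat.dvd_add_right h).1 ?_
      rw [hcard, ha]
      exact dvd_pow_self r ha0
    have hw1 : w = 1 := orderOf_eq_one_iff.1 (Nat.eq_one_of_dvd_coprimes hco h2 h3)
    exact hz1 (by rw [← e, hw1, mul_one, mul_inv_cancel])

end Cfsg.Agent.S4839
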