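import Cfsg.Statements.S4843
import Cfsg.Agent.Chars.Extraspecial
import Cfsg.Agent.Chars.Values
import Cfsg.Agent.Components.Cores
import Cfsg.Agent.ThreeTransposition.Primitive
-- import your own Cfsg.Agent.* helpers here

set_option autoImplicit false
open Cfsg

namespace Cfsg.Agent.S4843

set_option linter.unusedSectionVars false

open Cfsg.Lib.Chars
open scoped ComplexConjugate

/-- Let G be a finite group with a faithful irreducible character χ (taking the value χ(1) only at the identity) and let k be prime to the order of G, so that g ↦ χ(g^k) is a Galois conjugate of χ. If the pointwise product g ↦ χ(g)·χ(g^k) is again an irreducible character, then the Fitting subgroup of G equals its centre. -/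
theorem result {G : Type*} [Group G] [Finite G] (χ : Cfsg.IrrCharacter G) (hfaith : ∀ g : G, (χ : G → ℂ) g = (χ : G → ℂ) 1 → g = 1) (k : ℕ) (hk : Nat.Coprime k (Nat.card G)) (hirr : Cfsg.IsIrrCharacter G (fun g => (χ : G → ℂ) g * (χ : G → ℂ) (g ^ k))) : Cfsg.fittingSubgroup G = Subgroup.center G := by
  classical
  letI := Fintype.ofFinite G
  haveI : NeZero (Nat.card G) := ⟨Nat.card_pos.ne'⟩
  obtain ⟨σ, hσ⟩ := exists_galConj_auto (m := Nat.card G) hk
  have hψv : ∀ g, σ ((χ : G → ℂ) g) = (χ : G → ℂ) (g ^ k) := fun g =>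
    IsGalConj.apply_character hσ (isCharacter_of_irr χ.2) (orderOf_dvd_natCard g)
  have hψ : Cfsg.IsIrrCharacter G (fun g => (χ : G → ℂ) (g ^ k)) := by
    have h := IsIrrCharacter.map_auto χ.2 σ
    simpa only [hψv] using h
  obtain ⟨n, ρ, hρ, hρc⟩ := χ.2
  obtain ⟨n', ρ', hρ', hρc'⟩ := hψ
  have hd : (χ : G → ℂ) 1 ≠ 0 := IsIrrCharacter.apply_one_ne_zero χ.2
  -- endomorphisms commuting with the product representation are scalars
  haveI : Invertible (Nat.card G : ℂ) := invertibleOfNonzero (Nat.cast_ne_zero.2 Nat.card_pos.ne')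
  set R := Representation.tprod ρ ρ' with hR
  have hRc : R.character = fun g => (χ : G → ℂ) g * (χ : G → ℂ) (g ^ k) := by
    rw [hR, Representation.char_tensor, hρc, hρc']; rfl
  have hscal : ∀ T : TensorProduct ℂ (Fin n → ℂ) (Fin n' → ℂ) →ₗ[ℂ] TensorProduct ℂ (Fin n → ℂ) (Fin n' → ℂ),
      (∀ g, R g ∘ₗ T ∘ₗ R g⁻¹ = T) → ∃ c : ℂ, T = c • LinearMap.id := by
    intro T hT
    have h1 := Representation.card_inv_mul_sum_char_mul_char_eq_finrank R R
    simp only [hRc] at h1
    have h2 := classInner_self_irr hirr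
    rw [classInner_def, Finset.sum_congr rfl (g := fun g : G =>
      (χ : G → ℂ) g * (χ : G → ℂ) (g ^ k) * ((χ : G → ℂ) g⁻¹ * (χ : G → ℂ) (g⁻¹ ^ k)))
      (fun g _ => by
        show _ * conj _ = _
        rw [← IsCharacter.conj_inv (isCharacter_of_irr hirr) g]), h1] at h2
    have h3 : Module.finrank ℂ (Representation.IntertwiningMap R R) = 1 := by exact_mod_cast h2
    have hne : Representation.IntertwiningMap.id R ≠ 0 := by
      intro h
      have h4 : (LinearMap.id : TensorProduct ℂ (Fin n → ℂ) (Fin n' → ℂ) →ₗ[ℂ] _) = 0 :=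
        congrArg Representation.IntertwiningMap.toLinearMap h
      have h5 : R.character 1 = 0 := by
        rw [Representation.character, map_one, Module.End.one_eq_id, h4, map_zero]
      rw [hRc] at h5
      simp only [one_pow] at h5
      exact hd (mul_self_eq_zero.1 h5)
    obtain ⟨c, hc⟩ := exists_smul_eq_of_finrank_eq_one (V := Representation.IntertwiningMap R R) h3 hne ⟨T, fun g => by
      calc T ∘ₗ R g = (R g ∘ₗ T ∘ₗ R g⁻¹) ∘ₗ R g := by rw [hT g]
        _ = R g ∘ₗ T ∘ₗ (R g⁻¹ * R g) := rfl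
        _ = R g ∘ₗ T := by rw [← map_mul, inv_mul_cancel, map_one, Module.End.one_eq_id, LinearMap.comp_id]⟩
    exact ⟨c, (congrArg Representation.IntertwiningMap.toLinearMap hc).symm⟩
  obtain ⟨j, -, hj⟩ : ∃ j, j ≤ k * Nat.card G + Nat.card G ∧ Nat.card G ∣ k * j + 1 := by
    obtain ⟨j, hjl, hj⟩ := Nat.exists_mul_mod_eq_of_coprime (Nat.card G - 1) hk Nat.card_pos.ne'
    refine ⟨j, by omega, ?_⟩
    have hc := Nat.card_pos (α := G)
    rw [Nat.dvd_iff_mod_eq_zero, Nat.add_mod, hj, Nat.mod_eq_of_lt (a := Nat.card G - 1) (by omega)]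
    rcases Nat.lt_or_ge 1 (Nat.card G) with h | h
    · rw [Nat.mod_eq_of_lt h, Nat.sub_add_cancel hc, Nat.mod_self]
    · rw [show Nat.card G = 1 by omega, Nat.mod_one]
  have hpow : ∀ u : G, (χ : G → ℂ) ((u ^ j) ^ k) = conj ((χ : G → ℂ) u) := by
    intro u
    rw [← IsCharacter.conj_inv (isCharacter_of_irr χ.2) u]
    refine congrArg (χ : G → ℂ) ?_
    obtain ⟨t, ht⟩ := hj
    refine eq_inv_of_mul_eq_one_left ?_
    rw [← pow_mul, ← pow_succ, mul_comm j k, ht, pow_mul, pow_card_eq_one', one_pow]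
  -- the basic identity
  have key : ∀ M : Subgroup G, M.Normal → ∃ c : ℂ, ∀ y : G,
      ∑ x ∈ Finset.univ.filter (fun x => x ∈ M), (χ : G → ℂ) (x * y) * (χ : G → ℂ) ((x ^ j * y ^ j) ^ k) =
        c * ((χ : G → ℂ) y * (χ : G → ℂ) ((y ^ j) ^ k)) := by
    intro M hM
    set S := Finset.univ.filter (fun x => x ∈ M) with hS
    set f : G → (TensorProduct ℂ (Fin n → ℂ) (Fin n' → ℂ) →ₗ[ℂ] TensorProduct ℂ (Fin n → ℂ) (Fin n' → ℂ)) :=
      fun x => TensorProduct.map (ρ x) (ρ' (x ^ j)) with hf
    obtain ⟨c, hc⟩ := hscal (∑ x ∈ S, f x) (fun g => by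
      rw [← Module.End.mul_eq_comp, ← Module.End.mul_eq_comp, Finset.sum_mul, Finset.mul_sum]
      refine Finset.sum_bij (fun x _ => g * x * g⁻¹) (fun x hx => ?_) (fun a _ b _ h => by simpa using h)
        (fun x hx => ⟨g⁻¹ * x * g, ?_, by group⟩) (fun x _ => ?_)
      · simp only [hS, Finset.mem_filter, Finset.mem_univ, true_and] at hx ⊢
        exact hM.conj_mem x hx g
      · simp only [hS, Finset.mem_filter, Finset.mem_univ, true_and] at hx ⊢
        simpa using hM.conj_mem x hx g⁻¹
      · simp only [hf, hR, Representation.tprod_apply, ← TensorProduct.map_mul, ← map_mul]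
        simp only [← mul_assoc, conj_pow])
    refine ⟨c, fun y => ?_⟩
    have h := congrArg (fun T => LinearMap.trace ℂ _ (T * f y)) hc
    simp only [Finset.sum_mul, map_sum, smul_mul_assoc, map_smul, smul_eq_mul] at h
    rw [show (LinearMap.id : TensorProduct ℂ (Fin n → ℂ) (Fin n' → ℂ) →ₗ[ℂ] _) * f y = f y from one_mul _] at h
    have htr : ∀ a b : G, LinearMap.trace ℂ _ (TensorProduct.map (ρ a) (ρ' b)) =
        (χ : G → ℂ) a * (χ : G → ℂ) (b ^ k) := by
      intro a b
      rw [LinearMap.trace_tensorProduct', show LinearMap.trace ℂ _ (ρ a) = ρ.character a from rfl,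
        show LinearMap.trace ℂ _ (ρ' b) = ρ'.character b from rfl, hρc, hρc']
    simp only [hf, ← TensorProduct.map_mul, ← map_mul, htr] at h
    exact h
  have hnormZ : ∀ {z : G}, z ∈ Subgroup.center G → (χ : G → ℂ) z * conj ((χ : G → ℂ) z) = (χ : G → ℂ) 1 * (χ : G → ℂ) 1 := by
    intro z hz
    have h := center_mul_of_irr χ.2 hz z⁻¹
    rw [mul_inv_cancel, IsCharacter.conj_inv (isCharacter_of_irr χ.2)] at h
    exact h.symm
  -- abelian normal subgroups are central
  have habel : ∀ A : Subgroup G, A.Normal → (∀ a ∈ A, ∀ b ∈ A, a * b = b * a) → A ≤ Subgroup.center G := by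
    intro A hA hab y hy
    obtain ⟨c, hc⟩ := key A hA
    set S : ℂ := ∑ u ∈ Finset.univ.filter (fun x => x ∈ A), (χ : G → ℂ) u * conj ((χ : G → ℂ) u) with hS
    have hshift : ∀ y ∈ A, S = c * ((χ : G → ℂ) y * conj ((χ : G → ℂ) y)) := by
      intro y hy
      rw [← hpow y, ← hc y, hS]
      refine (Finset.sum_bij (fun x _ => x * y) (fun x hx => ?_) (fun a _ b _ h => mul_right_cancel h)
        (fun u hu => ⟨u * y⁻¹, ?_, by group⟩) (fun x hx => ?_)).symm
      · simp only [Finset.mem_filter, Finset.mem_univ, true_and] at hx ⊢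
        exact A.mul_mem hx hy
      · simp only [Finset.mem_filter, Finset.mem_univ, true_and] at hu ⊢
        exact A.mul_mem hu (A.inv_mem hy)
      · simp only [Finset.mem_filter, Finset.mem_univ, true_and] at hx
        rw [← (show Commute x y from hab x hx y hy).mul_pow, hpow]
    have hSne : S ≠ 0 := by
      rw [hS]
      simp only [Complex.mul_conj, ← Complex.ofReal_sum, ne_eq, Complex.ofReal_eq_zero]
      refine (Finset.sum_pos' (fun u _ => Complex.normSq_nonneg _) ⟨1, by simp, ?_⟩).ne'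
      exact Complex.normSq_pos.2 hd
    have h1 := hshift 1 A.one_mem
    have h2 := hshift y hy
    have hc0 : c ≠ 0 := fun h0 => hSne (by rw [h1, h0, zero_mul])
    have heq := mul_left_cancel₀ hc0 (h2.symm.trans h1)
    haveI := hρ
    have hn : ‖ρ.character y‖ = (Module.finrank ℂ (Fin n → ℂ) : ℝ) := by
      rw [← hρc, Complex.mul_conj', Complex.mul_conj'] at heq
      have := congrArg Complex.re heq
      simp only [← Complex.ofReal_pow, Complex.ofReal_re] at this
      rw [(sq_eq_sq₀ (norm_nonneg _) (norm_nonneg _)).1 this, Representation.char_one, Complex.norm_natCast]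
    obtain ⟨a, ha, -⟩ := scalar_of_norm_character_eq ρ y hn
    rw [Subgroup.mem_center_iff]
    intro g
    have hcomm : ρ (g * y * g⁻¹ * y⁻¹) = 1 := by
      have h3 : ρ g * ρ y = ρ y * ρ g := by
        rw [ha]
        ext v
        simp
      rw [map_mul, map_mul, map_mul, h3, mul_assoc (ρ y), ← map_mul, mul_inv_cancel, map_one, mul_one,
        ← map_mul, mul_inv_cancel, map_one]
    have h5 : g * y * g⁻¹ * y⁻¹ = 1 := hfaith _ (by
      rw [← hρc]; simp only [Representation.character]; rw [hcomm, map_one (ρ)])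
    rwa [mul_inv_eq_one, mul_inv_eq_iff_eq_mul] at h5
  refine le_antisymm ?_ Cfsg.Lib.ThreeTr.center_le_fitting
  by_contra hFZ
  set F := Cfsg.fittingSubgroup G with hF
  haveI hFn : F.Normal := Cfsg.Lib.Components.fittingSubgroup_normal'
  haveI hFnil : Group.IsNilpotent F := Cfsg.Lib.Components.isNilpotent_fitting
  set q := QuotientGroup.mk' (Subgroup.center G) with hq
  haveI hFb : (F.map q).Normal := hFn.map _ (QuotientGroup.mk'_surjective _)
  set M := F ⊓ (Subgroup.centralizer ((F.map q : Subgroup (G ⧸ Subgroup.center G)) : Set (G ⧸ Subgroup.center G))).comap q with hM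
  haveI : (Subgroup.centralizer ((F.map q : Subgroup (G ⧸ Subgroup.center G)) : Set (G ⧸ Subgroup.center G))).Normal :=
    Subgroup.normal_centralizer
  have hMn : M.Normal := inferInstance
  -- some element of `M` is not central
  obtain ⟨g₀, hg₀, hg₀Z⟩ : ∃ g ∈ M, g ∉ Subgroup.center G := by
    have hne : F.map q ≠ ⊥ := fun h => hFZ (by
      rw [Subgroup.map_eq_bot_iff, QuotientGroup.ker_mk'] at h; exact h)
    haveI : Nontrivial (F.map q) := (Subgroup.nontrivial_iff_ne_bot _).2 hne
    haveI : Group.IsNilpotent (F.map q) :=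
      Group.nilpotent_of_surjective (q.subgroupMap F) (q.subgroupMap_surjective F)
    obtain ⟨⟨z, hz⟩, hz1⟩ := Subgroup.ne_bot_iff_exists_ne_one.1
      (Group.IsNilpotent.center_ne_bot (G := F.map q))
    obtain ⟨g, hg, hgz⟩ := z.2
    refine ⟨g, ⟨hg, Subgroup.mem_comap.2 (Subgroup.mem_centralizer_iff.2 fun w hw => ?_)⟩, fun hgc => hz1 ?_⟩
    · rw [hgz]
      exact congrArg Subtype.val (Subgroup.mem_center_iff.1 hz ⟨w, hw⟩)
    · apply Subtype.ext; apply Subtype.ext
      show (z : G ⧸ Subgroup.center G) = 1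
      rw [← hgz]; exact (QuotientGroup.eq_one_iff g).2 hgc
  -- `χ` vanishes on noncentral elements of `M`
  have hvan : ∀ g ∈ M, g ∉ Subgroup.center G → (χ : G → ℂ) g = 0 := by
    intro g hg hgZ
    have hex : ∃ h ∈ F, h * g ≠ g * h := by
      by_contra hcon
      push Not at hcon
      refine hgZ (habel ((Subgroup.center F).map F.subtype) inferInstance ?_
        ⟨⟨g, hg.1⟩, Subgroup.mem_center_iff.2 fun h => Subtype.ext (hcon h h.2), rfl⟩)
      rintro _ ⟨a, -, rfl⟩ _ ⟨b, hb, rfl⟩
      exact congrArg Subtype.val (Subgroup.mem_center_iff.1 hb a)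
    obtain ⟨h, hh, hne⟩ := hex
    have hcZ : h * g * h⁻¹ * g⁻¹ ∈ Subgroup.center G := by
      rw [← QuotientGroup.eq_one_iff, ← QuotientGroup.mk'_apply]
      have h3 : q h * q g = q g * q h :=
        Subgroup.mem_centralizer_iff.1 (Subgroup.mem_comap.1 hg.2) (q h) (Subgroup.mem_map_of_mem _ hh)
      simp only [map_mul, map_inv]
      rw [h3, mul_assoc (q g), mul_inv_cancel, mul_one, mul_inv_cancel]
    have h1 := center_mul_of_irr χ.2 hcZ g
    rw [inv_mul_cancel_right, isClassFunction_isChar (isCharacter_of_irr χ.2) g h] at h1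
    have h2 : ((χ : G → ℂ) 1 - (χ : G → ℂ) (h * g * h⁻¹ * g⁻¹)) * (χ : G → ℂ) g = 0 := by
      rw [sub_mul, ← h1]; ring
    refine (mul_eq_zero.1 h2).resolve_left (sub_ne_zero.2 fun e => hne ?_)
    have h4 := hfaith _ e.symm
    rwa [mul_inv_eq_one, mul_inv_eq_iff_eq_mul] at h4
  obtain ⟨c, hc⟩ := key M hMn
  have h := hc g₀
  rw [hvan g₀ hg₀ hg₀Z, zero_mul, mul_zero] at h
  set d := (χ : G → ℂ) 1 with hdd
  have hterm : ∀ x ∈ Finset.univ.filter (fun x => x ∈ M),
      (χ : G → ℂ) (x * g₀) * (χ : G → ℂ) ((x ^ j * g₀ ^ j) ^ k) =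
        if x * g₀ ∈ Subgroup.center G then d * d else 0 := by
    intro x hx
    have hxM : x ∈ M := (Finset.mem_filter.1 hx).2
    split_ifs with hxz
    · have hcomm : Commute x g₀ := by
        have e := Subgroup.mem_center_iff.1 hxz g₀
        rw [← mul_assoc] at e
        exact (mul_right_cancel e).symm
      rw [← hcomm.mul_pow, hpow, hnormZ hxz]
    · rw [hvan _ (Subgroup.mul_mem _ hxM hg₀) hxz, zero_mul]
  rw [Finset.sum_congr rfl hterm, ← Finset.sum_filter, Finset.sum_const, nsmul_eq_mul, mul_eq_zero,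
    Nat.cast_eq_zero, mul_self_eq_zero] at h
  refine h.elim (fun h0 => ?_) hd
  have hmem : g₀⁻¹ ∈ (Finset.univ.filter (fun x => x ∈ M)).filter (fun x => x * g₀ ∈ Subgroup.center G) := by
    simp only [Finset.mem_filter, Finset.mem_univ, true_and]
    exact ⟨Subgroup.inv_mem _ hg₀, by rw [inv_mul_cancel]; exact one_mem _⟩
  rw [Finset.card_eq_zero.1 h0] at hmem
  exact Finset.notMem_empty _ hmem

end Cfsg.Agent.S4843
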