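import Cfsg.Statements.S4845
import Cfsg.Agent.Chars.ScalarVanish
-- import your own Cfsg.Agent.* helpers here

set_option autoImplicit false
open Cfsg

namespace Cfsg.Agent.S4845

set_option linter.unusedSectionVars false

open Cfsg.Lib.Chars

open scoped commutatorElement

universe u

variable {P : Type u} [Group P] [Finite P] {p : ℕ} [Fact p.Prime]

theorem exists_normal_below (hP : IsPGroup p P) {D : Subgroup P} [D.Normal] (hD : D ≠ ⊥) :
    ∃ M : Subgroup P, M.Normal ∧ M ≤ D ∧ M.relIndex D = p := by
  classical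
  obtain ⟨N, ⟨hN, hND⟩, hmax⟩ := (Set.toFinite {N : Subgroup P | N.Normal ∧ N < D}).exists_maximal
    ⟨⊥, inferInstance, bot_lt_iff_ne_bot.2 hD⟩
  haveI := hN
  obtain ⟨K, hK, hNK, hKD, hi⟩ := Cfsg.Lib.PGroups.exists_normal_relIndex_prime hP hND
  refine ⟨N, hN, hND.le, ?_⟩
  rcases hKD.lt_or_eq with h | h
  · exfalso
    have hKN : K ≤ N := hmax (show K.Normal ∧ K < D from ⟨hK, h⟩) hNK
    exact (Fact.out : p.Prime).one_lt.ne' (hi ▸ Subgroup.relIndex_eq_one.2 hKN)
  · rw [← h]; exact hi

theorem card_map_mk {A B : Subgroup P} [A.Normal] (hi : A.relIndex B = p) :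
    Nat.card (B.map (QuotientGroup.mk' A)) = p := by
  have h2 := Subgroup.relIndex_comap (⊥ : Subgroup (P ⧸ A)) (QuotientGroup.mk' A) B
  rw [MonoidHom.comap_bot, QuotientGroup.ker_mk', Subgroup.relIndex_bot_left, hi] at h2
  exact h2.symm

theorem le_centralMod_of_relIndex (hP : IsPGroup p P) {A B : Subgroup P} [A.Normal] [B.Normal]
    (_hAB : A ≤ B) (hi : A.relIndex B = p) : B ≤ centralMod A := by
  have hnorm : (B.map (QuotientGroup.mk' A)).Normal :=
    Subgroup.Normal.map inferInstance _ (QuotientGroup.mk'_surjective A)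
  exact Subgroup.map_le_iff_le_comap.1
    (Cfsg.Lib.PGroups.le_center_of_card_eq_prime (hP.to_quotient A) (card_map_mk hi))

theorem pow_mem_centralMod (hP : IsPGroup p P) {L K : Subgroup P} [L.Normal] [K.Normal]
    (hLK : L ≤ K) (hi : L.relIndex K = p) {z : P} (hz : z ∈ centralMod K) :
    z ^ p ∈ centralMod L := by
  show QuotientGroup.mk' L (z ^ p) ∈ Subgroup.center (P ⧸ L)
  rw [Subgroup.mem_center_iff]
  intro q
  obtain ⟨h, rfl⟩ := QuotientGroup.mk'_surjective L q
  set k := ⁅h, z⁆ with hk
  have hkK : k ∈ K := by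
    rw [hk, ← commutatorElement_inv]
    exact K.inv_mem (mem_centralMod.1 hz h)
  have hkc : QuotientGroup.mk' L k ∈ Subgroup.center (P ⧸ L) :=
    le_centralMod_of_relIndex hP hLK hi hkK
  have hkp : QuotientGroup.mk' L k ^ p = 1 := by
    have h1 : QuotientGroup.mk' L k ∈ K.map (QuotientGroup.mk' L) := Subgroup.mem_map_of_mem _ hkK
    have h2 := pow_card_eq_one' (x := (⟨_, h1⟩ : K.map (QuotientGroup.mk' L)))
    rw [card_map_mk hi] at h2
    exact congrArg Subtype.val h2
  have hconj : QuotientGroup.mk' L h * QuotientGroup.mk' L (z ^ p) * (QuotientGroup.mk' L h)⁻¹ =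
      QuotientGroup.mk' L (z ^ p) := by
    rw [map_pow, ← conj_pow, ← map_inv, ← map_mul, ← map_mul,
      show h * z * h⁻¹ = k * z by simp [hk, commutatorElement_def], map_mul,
      Commute.mul_pow (show Commute (QuotientGroup.mk' L k) (QuotientGroup.mk' L z) from
        (Subgroup.mem_center_iff.1 hkc _).symm), hkp, one_mul]
  exact mul_inv_eq_iff_eq_mul.1 hconj

theorem card_eq_or_mul {H J : Subgroup P} [H.Normal] (hp : p.Prime) (hHJ : H ≤ J) {z : P}
    (hz : z ∈ J) (hzp : z ^ p ∈ H) (hgen : ∀ g ∈ J, ∃ i : ℕ, (z ^ i)⁻¹ * g ∈ H) :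
    Nat.card J = Nat.card H ∨ Nat.card J = p * Nat.card H := by
  have hmap : J.map (QuotientGroup.mk' H) = Subgroup.zpowers (QuotientGroup.mk' H z) := by
    refine le_antisymm (fun q hq => ?_) (Subgroup.zpowers_le.2 (Subgroup.mem_map_of_mem _ hz))
    obtain ⟨g, hg, rfl⟩ := hq
    obtain ⟨i, hi⟩ := hgen g hg
    refine ⟨(i : ℤ), ?_⟩
    simp only [zpow_natCast]
    rw [← map_pow]
    exact QuotientGroup.eq.2 hi
  have h2 := Subgroup.relIndex_comap (⊥ : Subgroup (P ⧸ H)) (QuotientGroup.mk' H) J
  rw [MonoidHom.comap_bot, QuotientGroup.ker_mk', Subgroup.relIndex_bot_left, hmap,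
    Nat.card_zpowers] at h2
  have hc : Nat.card J = Nat.card H * H.relIndex J := by
    rw [Subgroup.relIndex, ← Nat.card_congr (Subgroup.subgroupOfEquivOfLe hHJ).toEquiv,
      Subgroup.card_mul_index]
  rcases (Nat.dvd_prime hp).1 (orderOf_dvd_of_pow_eq_one
    (show QuotientGroup.mk' H z ^ p = 1 by rw [← map_pow]; exact (QuotientGroup.eq_one_iff _).2 hzp))
    with h | h
  · exact Or.inl (by rw [hc, h2, h, mul_one])
  · exact Or.inr (by rw [hc, h2, h, mul_comm])

theorem exists_pow_of_relIndex (_hP : IsPGroup p P) {A B : Subgroup P} [A.Normal]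
    (hi : A.relIndex B = p) {u : P} (hu : u ∈ B) (huA : u ∉ A) {g : P} (hg : g ∈ B) :
    ∃ i : ℕ, (u ^ i)⁻¹ * g ∈ A := by
  have heq : Subgroup.zpowers (QuotientGroup.mk' A u) = B.map (QuotientGroup.mk' A) := by
    refine Subgroup.eq_of_le_of_card_ge (Subgroup.zpowers_le.2 (Subgroup.mem_map_of_mem _ hu)) ?_
    rw [card_map_mk hi, Nat.card_zpowers]
    have h1 : orderOf (QuotientGroup.mk' A u) ∣ p := by
      have := Subgroup.orderOf_coe (⟨_, Subgroup.mem_map_of_mem _ hu⟩ : B.map (QuotientGroup.mk' A))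
      rw [show orderOf (QuotientGroup.mk' A u) = _ from this]
      exact (orderOf_dvd_natCard _).trans (dvd_of_eq (card_map_mk hi))
    rcases (Nat.dvd_prime (Fact.out : p.Prime)).1 h1 with h | h
    · exact absurd ((QuotientGroup.eq_one_iff u).1 (orderOf_eq_one_iff.1 h)) huA
    · exact h.ge
  have h2 : QuotientGroup.mk' A g ∈ Subgroup.zpowers (QuotientGroup.mk' A u) :=
    heq ▸ Subgroup.mem_map_of_mem _ hg
  classical
  rw [mem_zpowers_iff_mem_range_orderOf, Finset.mem_image] at h2
  obtain ⟨i, -, hi'⟩ := h2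
  rw [← map_pow] at hi'
  exact ⟨i, QuotientGroup.eq.1 hi'⟩

theorem index_le_sq (hP : IsPGroup p P) {L M : Subgroup P} [L.Normal] [M.Normal] (hLM : L ≤ M)
    (hLi : L.relIndex M = p) (hMD : M ≤ commutator P) (hMi : M.relIndex (commutator P) = p)
    {d : P} (hd : d ∈ commutator P) (hdL : d ∉ centralMod L) (hMZ : M ≤ centralMod L)
    (hZD : centralMod M = commutator P) : (commutator P).index ≤ p ^ 2 := by
  have hp : p.Prime := Fact.out
  set q := QuotientGroup.mk' L with hq
  have hqc : ∀ {a : P}, a ∈ centralMod L ↔ q a ∈ Subgroup.center (P ⧸ L) := Iff.rfl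
  have hdM : d ∉ M := fun h => hdL (hMZ h)
  -- the action on `d` modulo `L`
  have hdm : ∀ x : P, ⁅x, d⁆ ∈ M := fun x => by
    rw [← commutatorElement_inv]
    exact M.inv_mem (mem_centralMod.1 (hZD ▸ hd) x)
  have hcm : ∀ x : P, ⁅q x, q d⁆ ∈ Subgroup.center (P ⧸ L) := fun x => by
    rw [← map_commutatorElement]; exact hMZ (hdm x)
  let f : P →* P ⧸ L :=
    { toFun := fun x => ⁅q x, q d⁆
      map_one' := by simp [commutatorElement_def]
      map_mul' := fun x y => by
        rw [map_mul]
        calc ⁅q x * q y, q d⁆ = q x * ⁅q y, q d⁆ * (q x)⁻¹ * ⁅q x, q d⁆ := by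
              simp only [commutatorElement_def]; group
          _ = ⁅q x, q d⁆ * ⁅q y, q d⁆ := by
              rw [Subgroup.mem_center_iff.1 (hcm y) (q x), mul_inv_cancel_right]
              exact (Subgroup.mem_center_iff.1 (hcm y) _).symm }
  set C := f.ker with hC
  have hCmem : ∀ x, x ∈ C ↔ Commute (q x) (q d) := fun x => by
    show ⁅q x, q d⁆ = 1 ↔ _
    rw [commutatorElement_eq_one_iff_mul_comm]; rfl
  have hCle : C.index ≤ p := by
    rw [hC, Subgroup.index_ker]
    refine (Subgroup.card_le_of_le ?_).trans (le_of_eq (card_map_mk hLi))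
    rintro _ ⟨x, rfl⟩
    exact ⟨⁅x, d⁆, hdm x, map_commutatorElement q x d⟩
  -- the commutator subgroup commutes with `C` modulo `L`
  have hDcomm : ∀ w ∈ commutator P, ∀ a ∈ C, Commute (q a) (q w) := by
    intro w hw a ha
    obtain ⟨i, hi⟩ := exists_pow_of_relIndex hP hMi hd hdM hw
    have e : q w = q d ^ i * q ((d ^ i)⁻¹ * w) := by
      rw [← map_pow, ← map_mul, mul_inv_cancel_left]
    rw [e]
    exact (((hCmem a).1 ha).pow_right i).mul_right (Subgroup.mem_center_iff.1 (hMZ hi) (q a))
  have hDC : commutator P ≤ C := fun w hw => by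
    obtain ⟨i, hi⟩ := exists_pow_of_relIndex hP hMi hd hdM hw
    have e : q w = q d ^ i * q ((d ^ i)⁻¹ * w) := by
      rw [← map_pow, ← map_mul, mul_inv_cancel_left]
    rw [hCmem, e]
    exact ((Commute.refl (q d)).pow_left i).mul_left (Subgroup.mem_center_iff.1 (hMZ hi) (q d)).symm
  have hC2 : ∀ a ∈ C, ∀ b ∈ C, ⁅a, b⁆ ∈ M := by
    intro a ha b hb
    have hcD : ⁅a, b⁆ ∈ commutator P :=
      Subgroup.commutator_mem_commutator (Subgroup.mem_top a) (Subgroup.mem_top b)
    have hcZ : ⁅a, b⁆ ∈ centralMod L := by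
      rw [hqc, Subgroup.mem_center_iff]
      intro y
      obtain ⟨x, rfl⟩ := QuotientGroup.mk'_surjective L y
      show q x * q ⁅a, b⁆ = q ⁅a, b⁆ * q x
      set u := ⁅x, a⁆
      set v := ⁅x, b⁆
      have hu : u ∈ commutator P :=
        Subgroup.commutator_mem_commutator (Subgroup.mem_top x) (Subgroup.mem_top a)
      have hv : v ∈ commutator P :=
        Subgroup.commutator_mem_commutator (Subgroup.mem_top x) (Subgroup.mem_top b)
      have e : x * ⁅a, b⁆ * x⁻¹ = ⁅u * a, v * b⁆ := by
        simp only [u, v, commutatorElement_def]; group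
      have c1 : Commute (q u) (q v) := hDcomm v hv u (hDC hu)
      have c2 : Commute (q u) (q b) := (hDcomm u hu b hb).symm
      have c3 : Commute (q v) (q a) := (hDcomm v hv a ha).symm
      have c5 : Commute (q u) (q a) := (hDcomm u hu a ha).symm
      have key : ⁅q u * q a, q v * q b⁆ = ⁅q a, q b⁆ := by
        have h1 : ⁅q u * q a, q v * q b⁆ = ⁅q a, q v * q b⁆ := by
          have hu' : Commute (q u) ⁅q a, q v * q b⁆ := by
            simp only [commutatorElement_def]
            exact ((c5.mul_right (c1.mul_right c2)).mul_right c5.inv_right).mul_right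
              (c1.mul_right c2).inv_right
          calc ⁅q u * q a, q v * q b⁆
              = q u * ⁅q a, q v * q b⁆ * (q v * q b) * (q u)⁻¹ * (q v * q b)⁻¹ := by
                simp only [commutatorElement_def]; group
            _ = ⁅q a, q v * q b⁆ * q u * (q v * q b) * (q u)⁻¹ * (q v * q b)⁻¹ := by rw [hu'.eq]
            _ = ⁅q a, q v * q b⁆ * (q u * (q v * q b) * (q u)⁻¹) * (q v * q b)⁻¹ := by group
            _ = _ := by rw [(c1.mul_right c2).eq]; group
        rw [h1]
        calc ⁅q a, q v * q b⁆ = q a * q v * (q b * (q a)⁻¹ * (q b)⁻¹) * (q v)⁻¹ := by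
              simp only [commutatorElement_def]; group
          _ = q v * q a * (q b * (q a)⁻¹ * (q b)⁻¹) * (q v)⁻¹ := by rw [c3.symm.eq]
          _ = q v * ⁅q a, q b⁆ * (q v)⁻¹ := by simp only [commutatorElement_def]; group
          _ = ⁅q a, q b⁆ := by
              rw [← map_commutatorElement]
              have c7 : Commute (q v) (q ⁅a, b⁆) := hDcomm _ hcD v (hDC hv)
              rw [c7.eq, mul_inv_cancel_right]
      have h3 : q x * q ⁅a, b⁆ * (q x)⁻¹ = q ⁅a, b⁆ := by
        rw [← map_inv, ← map_mul, ← map_mul, e, map_commutatorElement, map_mul, map_mul, key,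
          map_commutatorElement]
      exact mul_inv_eq_iff_eq_mul.1 h3
    by_contra hM'
    obtain ⟨i, hi⟩ := exists_pow_of_relIndex hP hMi hcD hM' hd
    exact hdL (by simpa using Subgroup.mul_mem _ (Subgroup.pow_mem _ hcZ i) (hMZ hi))
  -- the second step
  have hsmall : (commutator P).relIndex C ≤ p := by
    rcases eq_or_ne C ⊤ with h | h
    · exfalso
      refine hdL (hqc.2 (Subgroup.mem_center_iff.2 fun y => ?_))
      obtain ⟨x, rfl⟩ := QuotientGroup.mk'_surjective L y
      exact ((hCmem x).1 (h ▸ Subgroup.mem_top x)).eq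
    obtain ⟨x, hx⟩ : ∃ x, x ∉ C := by
      by_contra hh
      push Not at hh
      exact h (eq_top_iff.2 fun y _ => hh y)
    set r := QuotientGroup.mk' M with hr
    have hrc : ∀ w ∈ commutator P, r w ∈ Subgroup.center (P ⧸ M) :=
      fun w hw => (hZD ▸ hw : w ∈ centralMod M)
    let g : C →* P ⧸ M :=
      { toFun := fun c => ⁅r c, r x⁆
        map_one' := by simp [commutatorElement_def]
        map_mul' := fun a b => by
          have hb : ⁅r b, r x⁆ ∈ Subgroup.center (P ⧸ M) := by
            rw [← map_commutatorElement]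
            exact hrc _ (Subgroup.commutator_mem_commutator (Subgroup.mem_top _) (Subgroup.mem_top x))
          rw [Subgroup.coe_mul, map_mul]
          calc ⁅r (a : P) * r b, r x⁆ = r a * ⁅r b, r x⁆ * (r a)⁻¹ * ⁅r a, r x⁆ := by
                simp only [commutatorElement_def]; group
            _ = ⁅r a, r x⁆ * ⁅r b, r x⁆ := by
                rw [Subgroup.mem_center_iff.1 hb (r a), mul_inv_cancel_right]
                exact (Subgroup.mem_center_iff.1 hb _).symm }
    have hker : g.ker ≤ (commutator P).subgroupOf C := by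
      intro c hc
      rw [Subgroup.mem_subgroupOf, ← hZD]
      show r c ∈ Subgroup.center (P ⧸ M)
      set S := (Subgroup.centralizer ({r c} : Set (P ⧸ M))).comap r with hS
      have hCS : C ≤ S := by
        intro b hb
        rw [hS, Subgroup.mem_comap, Subgroup.mem_centralizer_singleton_iff,
          ← commutatorElement_eq_one_iff_mul_comm, ← map_commutatorElement]
        exact (QuotientGroup.eq_one_iff _).2 (hC2 b hb c c.2)
      have hxS : x ∈ S := by
        rw [hS, Subgroup.mem_comap, Subgroup.mem_centralizer_singleton_iff]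
        exact (commutatorElement_eq_one_iff_mul_comm.1 (show ⁅r c, r x⁆ = 1 from hc)).symm
      have hStop : S = ⊤ := by
        have hne : C.index ≠ 1 := fun h1 => h (Subgroup.index_eq_one.1 h1)
        obtain ⟨e, hele, he⟩ : ∃ e, e ≤ 1 ∧ C.index = p ^ e := by
          obtain ⟨k, hk⟩ := IsPGroup.iff_card.1 hP
          obtain ⟨e, -, he⟩ := (Nat.dvd_prime_pow hp).1 (hk ▸ C.index_dvd_card)
          refine ⟨e, ?_, he⟩
          rw [he] at hCle
          exact (Nat.pow_le_pow_iff_right hp.one_lt).1 (hCle.trans_eq (pow_one p).symm)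
        have hCp : C.index = p := by
          rcases (show e = 0 ∨ e = 1 by omega) with rfl | rfl
          · exact absurd (he.trans (pow_zero p)) hne
          · rw [he, pow_one]
        have hdv := Subgroup.index_dvd_of_le hCS
        rw [hCp] at hdv
        rcases (Nat.dvd_prime hp).1 hdv with h1 | h1
        · exact Subgroup.index_eq_one.1 h1
        · exfalso
          have h5 := Subgroup.relIndex_mul_index hCS
          rw [h1, hCp] at h5
          exact hx (Subgroup.relIndex_eq_one.1 ((mul_eq_right₀ hp.ne_zero).1 h5) hxS)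
      rw [Subgroup.mem_center_iff]
      intro y
      obtain ⟨w, rfl⟩ := QuotientGroup.mk'_surjective M y
      have hwS : w ∈ S := hStop ▸ Subgroup.mem_top w
      exact Subgroup.mem_centralizer_singleton_iff.1 hwS
    rw [Subgroup.relIndex]
    refine (Nat.le_of_dvd (Nat.pos_of_ne_zero Subgroup.index_ne_zero_of_finite)
      (Subgroup.index_dvd_of_le hker)).trans ?_
    rw [Subgroup.index_ker]
    refine (Subgroup.card_le_of_le ?_).trans (le_of_eq (card_map_mk hMi))
    rintro _ ⟨c, rfl⟩
    exact ⟨⁅(c : P), x⁆, Subgroup.commutator_mem_commutator (Subgroup.mem_top _) (Subgroup.mem_top x),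
      map_commutatorElement r (c : P) x⟩
  rw [← Subgroup.relIndex_mul_index hDC, pow_two]
  exact Nat.mul_le_mul hsmall hCle

theorem eq_of_card_eq_of_le {H A B : Subgroup P} (hH : IsCyclic H) (hA : A ≤ H) (hB : B ≤ H)
    (h : Nat.card A = Nat.card B) : A = B := by
  obtain ⟨g, hg⟩ := hH.exists_generator
  refine (Subgroup.subgroupOf_inj.1 ?_).trans (inf_eq_left.2 hB) |> fun e => (inf_eq_left.2 hA).symm.trans e
  haveI := hH
  haveI := Fintype.ofFinite H
  ext w
  have key : ∀ K : Subgroup P, K ≤ H → ((w : P) ∈ K ↔ (w : H) ^ Nat.card K = 1) := by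
    intro K hK
    constructor
    · intro hw
      apply Subtype.ext
      rw [SubmonoidClass.coe_pow]
      exact congrArg Subtype.val (pow_card_eq_one' (x := (⟨w, hw⟩ : K)))
    · intro hw
      classical
      have hsub : Finset.univ.filter (fun y : H => (y : P) ∈ K) ⊆
          Finset.univ.filter (fun y : H => y ^ Nat.card K = 1) := by
        intro y hy
        simp only [Finset.mem_filter, Finset.mem_univ, true_and] at hy ⊢
        apply Subtype.ext
        rw [SubmonoidClass.coe_pow]
        exact congrArg Subtype.val (pow_card_eq_one' (x := (⟨y, hy⟩ : K)))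
      have hcard := IsCyclic.card_pow_eq_one_le (α := H) (n := Nat.card K) Nat.card_pos
      have heq := Finset.eq_of_subset_of_card_le hsub (hcard.trans (le_of_eq (by
        rw [← Fintype.card_subtype, ← Nat.card_eq_fintype_card]
        exact Nat.card_congr (Subgroup.subgroupOfEquivOfLe hK).symm.toEquiv)))
      have hwm : w ∈ Finset.univ.filter (fun y : H => (y : P) ∈ K) := by
        rw [heq]; simpa using hw
      simpa using hwm
  rw [Subgroup.mem_subgroupOf, Subgroup.mem_subgroupOf, key A hA, key B hB, h]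

/-- Let p be a prime and P a finite non-commutative p-group. Then every two irreducible characters of P of the same degree greater than 1 are Galois conjugate (one is obtained from the other by composing with g ↦ g^k for some k prime to the order of P) if and only if the centre of P is cyclic and the derived subgroup of P has order p. -/
theorem result {P : Type*} [Group P] [Finite P] (p : ℕ) [Fact p.Prime] (hP : IsPGroup p P) (hna : ¬ IsMulCommutative P) :
    (∀ χ ψ : Cfsg.IrrCharacter P, Cfsg.charDegree (χ : P → ℂ) ≠ 1 → Cfsg.charDegree (χ : P → ℂ) = Cfsg.charDegree (ψ : P → ℂ) → ∃ k : ℕ, Nat.Coprime k (Nat.card P) ∧ ∀ g : P, (ψ : P → ℂ) g = (χ : P → ℂ) (g ^ k)) ↔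
      (IsCyclic (Subgroup.center P) ∧ Nat.card (commutator P) = p) := by
  classical
  have hp : p.Prime := Fact.out
  haveI := Fintype.ofFinite P
  obtain ⟨n, hn⟩ := IsPGroup.iff_card.1 hP
  have hncomm : ¬ commutator P = ⊥ := fun h => hna ⟨⟨fun a b => by
    rw [← commutatorElement_eq_one_iff_mul_comm, ← Subgroup.mem_bot, ← h]
    exact Subgroup.commutator_mem_commutator (Subgroup.mem_top a) (Subgroup.mem_top b)⟩⟩
  have hker : ∀ χ : Cfsg.IrrCharacter P, ∀ k, (χ : P → ℂ) k = (χ : P → ℂ) 1 ↔
      k ∈ kerSubgroup (χ : P → ℂ) (isCharacter_of_irr χ.2) := fun χ k => Iff.rfl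
  have hlin : ∀ χ : Cfsg.IrrCharacter P, Cfsg.charDegree (χ : P → ℂ) = 1 →
      ∀ k ∈ commutator P, (χ : P → ℂ) k = (χ : P → ℂ) 1 := by
    intro χ h k hk
    have h1 : (χ : P → ℂ) 1 = 1 := by
      rw [irr_apply_one_eq_deg, show deg (χ : P → ℂ) = 1 from h, Nat.cast_one]
    obtain ⟨f, hf⟩ := exists_hom_of_deg_one (isCharacter_of_irr χ.2) h1
    rw [h1, hf]
    show ((f k : ℂˣ) : ℂ) = 1
    rw [show f k = 1 from Abelianization.commutator_subset_ker f hk, Units.val_one]
  constructor
  · intro H
    -- Galois conjugates have the same kernel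
    have hsame : ∀ χ ψ : Cfsg.IrrCharacter P, Cfsg.charDegree (χ : P → ℂ) ≠ 1 →
        Cfsg.charDegree (χ : P → ℂ) = Cfsg.charDegree (ψ : P → ℂ) →
        ∀ g, (ψ : P → ℂ) g = (ψ : P → ℂ) 1 ↔ (χ : P → ℂ) g = (χ : P → ℂ) 1 := by
      intro χ ψ h1 h2 g
      obtain ⟨k, hk, hψ⟩ := H χ ψ h1 h2
      rw [hψ g, hψ 1, one_pow]
      obtain ⟨j, hj⟩ := exists_pow_eq_self_of_coprime (n := k) (x := g)
        (hk.coprime_dvd_right (orderOf_dvd_natCard g))
      rw [hker χ (g ^ k), hker χ g]
      exact ⟨fun h => hj ▸ Subgroup.pow_mem _ h j, fun h => Subgroup.pow_mem _ h k⟩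
    have hKle : ∀ χ : Cfsg.IrrCharacter P, Cfsg.charDegree (χ : P → ℂ) ≠ 1 →
        kerSubgroup (χ : P → ℂ) (isCharacter_of_irr χ.2) ≤ commutator P := by
      intro χ hχ g hg
      by_contra hgc
      haveI : NeZero (Monoid.exponent (Abelianization P)) := ⟨Monoid.exponent_ne_zero_of_finite⟩
      obtain ⟨μ, hμ⟩ := CommGroup.exists_apply_ne_one_of_hasEnoughRootsOfUnity (M := ℂ)
        (G := Abelianization P) (a := Abelianization.of g) (fun h => hgc ((QuotientGroup.eq_one_iff g).1 h))
      set f : P →* ℂˣ := μ.comp Abelianization.of with hf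
      let ψ : Cfsg.IrrCharacter P :=
        ⟨fun x => (f x : ℂ) * (χ : P → ℂ) x, IsIrrCharacter.mul_linear χ.2 f⟩
      have hdeg : Cfsg.charDegree (χ : P → ℂ) = Cfsg.charDegree (ψ : P → ℂ) := by
        show deg (χ : P → ℂ) = deg (ψ : P → ℂ)
        simp only [deg, ψ, map_one, Units.val_one, one_mul]
      have h := (hsame χ ψ hχ hdeg g).2 hg
      simp only [ψ, map_one, Units.val_one, one_mul] at h
      rw [show (χ : P → ℂ) g = (χ : P → ℂ) 1 from hg] at h
      exact hμ (Units.ext (mul_right_cancel₀ (IsIrrCharacter.apply_one_ne_zero χ.2)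
        (h.trans (one_mul _).symm)))
    have hnonlin : ∀ (χ : Cfsg.IrrCharacter P) (m : P), m ∈ commutator P →
        (χ : P → ℂ) m ≠ (χ : P → ℂ) 1 → Cfsg.charDegree (χ : P → ℂ) ≠ 1 :=
      fun χ m hm hne h => hne (hlin χ h m hm)
    obtain ⟨M, hMn, hMD, hMi⟩ := exists_normal_below hP hncomm
    haveI := hMn
    have hMbot : M = ⊥ := by
      by_contra hM0
      obtain ⟨L, hLn, hLM, hLi⟩ := exists_normal_below hP hM0
      haveI := hLn
      have hDM : ¬ commutator P ≤ M := fun h => hp.one_lt.ne' (by
        rw [← hMi]; exact Subgroup.relIndex_eq_one.2 h)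
      have hML : ¬ M ≤ L := fun h => hp.one_lt.ne' (by
        rw [← hLi]; exact Subgroup.relIndex_eq_one.2 h)
      obtain ⟨d, hd, hdM⟩ := SetLike.not_le_iff_exists.1 hDM
      obtain ⟨m, hm, hmL⟩ := SetLike.not_le_iff_exists.1 hML
      obtain ⟨χ₀, h0M, h0d⟩ := exists_irr_separating M hdM
      obtain ⟨χ₁, h1L, h1m⟩ := exists_irr_separating L hmL
      have n0 := hnonlin χ₀ d hd h0d
      have n1 := hnonlin χ₁ m (hMD hm) h1m
      have hdiff : Cfsg.charDegree (χ₀ : P → ℂ) ≠ Cfsg.charDegree (χ₁ : P → ℂ) := fun h =>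
        h1m ((hsame χ₀ χ₁ n0 h m).2 (h0M m hm))
      -- the kernel of `χ₀` is `M`
      have hK0 : ∀ k, (χ₀ : P → ℂ) k = (χ₀ : P → ℂ) 1 ↔ k ∈ M := by
        intro k
        refine ⟨fun hk => ?_, h0M k⟩
        set K0 := kerSubgroup (χ₀ : P → ℂ) (isCharacter_of_irr χ₀.2) with hK0
        have h1 : M.relIndex K0 ∣ p :=
          hMi ▸ ⟨K0.relIndex (commutator P), (Subgroup.relIndex_mul_relIndex M K0 (commutator P)
            (fun x hx => h0M x hx) (hKle χ₀ n0)).symm⟩
        rcases (Nat.dvd_prime hp).1 h1 with h | h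
        · exact Subgroup.relIndex_eq_one.1 h hk
        · have h2 := Subgroup.relIndex_mul_relIndex M K0 (commutator P)
            (fun x hx => h0M x hx) (hKle χ₀ n0)
          rw [h, hMi] at h2
          exact absurd ((Subgroup.relIndex_eq_one.1 (Nat.eq_of_mul_eq_mul_left hp.pos
            (h2.trans (mul_one p).symm))) hd) h0d
      have hcent : ∀ {A B : Subgroup P} [A.Normal] [B.Normal], A ≤ B → A.relIndex B = p →
          B ≤ centralMod A := fun {A B} _ _ hAB hi => le_centralMod_of_relIndex hP hAB hi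
      have hD0 : commutator P ≤ centralMod M := hcent hMD hMi
      have hsq0 := deg_sq_of_commutator_le χ₀.2 hK0 hD0
      obtain ⟨z, hz, hzgen⟩ := exists_generator_centralMod χ₀.2 hK0
      have hMZ : M ≤ centralMod L := hcent hLM hLi
      have hzp : z ^ p ∈ centralMod L := pow_mem_centralMod hP hLM hLi hz
      have hpn : ∀ {m : ℕ}, m ∣ Nat.card P → ∃ e, m = p ^ e := fun hm => by
        obtain ⟨e, -, he⟩ := (Nat.dvd_prime_pow hp).1 (hn ▸ hm)
        exact ⟨e, he⟩
      have hdd : ∀ χ : Cfsg.IrrCharacter P, ∃ e, deg (χ : P → ℂ) = p ^ e := fun χ => by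
        obtain ⟨k, ρ, hρ, he⟩ := χ.2
        haveI := hρ
        refine hpn ?_
        rw [← he, deg_character]
        exact finrank_dvd_card ρ
      by_cases hDL : commutator P ≤ centralMod L
      · -- the commutator subgroup is central modulo `L`
        set K1 := kerSubgroup (χ₁ : P → ℂ) (isCharacter_of_irr χ₁.2) with hK1
        haveI : K1.Normal := kerSubgroup_normal _
        have hLK1 : L ≤ K1 := fun x hx => h1L x hx
        have hK1D : K1 ≤ commutator P := hKle χ₁ n1
        have hsq1 := deg_sq_of_commutator_le χ₁.2 (hker χ₁) (hDL.trans (centralMod_mono hLK1))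
        have hbound : ∀ {A : Subgroup P} [A.Normal], L ≤ A → A ≤ centralMod L → ∀ χ : Cfsg.IrrCharacter P,
            (∀ k, (χ : P → ℂ) k = (χ : P → ℂ) 1 ↔ k ∈ A) → (∀ z ∈ centralMod A, z ^ p ∈ centralMod L) →
            Nat.card (centralMod A) = Nat.card (centralMod L) ∨
              Nat.card (centralMod A) = p * Nat.card (centralMod L) := by
          intro A _ hLA hAZ χ hA hpow
          obtain ⟨w, hw, hgen⟩ := exists_generator_centralMod χ.2 hA
          refine card_eq_or_mul hp (centralMod_mono hLA) hw (hpow w hw) fun g hg => ?_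
          obtain ⟨i, hi⟩ := hgen g hg
          exact ⟨i, hAZ hi⟩
        have hK1i : L.relIndex K1 ∣ p * p := by
          have e := Subgroup.relIndex_mul_relIndex L K1 (commutator P) hLK1 hK1D
          rw [← Subgroup.relIndex_mul_relIndex L M (commutator P) hLM hMD, hLi, hMi] at e
          exact ⟨_, e.symm⟩
        have hK1p : L.relIndex K1 = 1 ∨ L.relIndex K1 = p := by
          rw [← pow_two] at hK1i
          obtain ⟨j, hj, hj'⟩ := (Nat.dvd_prime_pow hp).1 hK1i
          interval_cases j
          · exact Or.inl (by simpa using hj')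
          · exact Or.inr (by simpa using hj')
          · exfalso
            have e := Subgroup.relIndex_mul_relIndex L K1 (commutator P) hLK1 hK1D
            rw [← Subgroup.relIndex_mul_relIndex L M (commutator P) hLM hMD, hLi, hMi, hj',
              pow_two] at e
            have h1 : K1.relIndex (commutator P) = 1 :=
              (mul_eq_left₀ (Nat.mul_ne_zero hp.ne_zero hp.ne_zero)).1 e
            exact h1m (Subgroup.relIndex_eq_one.1 h1 (hMD hm))
        have c0 := hbound hLM hMZ χ₀ hK0 (fun w hw => pow_mem_centralMod hP hLM hLi hw)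
        have c1 := hbound hLK1 (hK1D.trans hDL) χ₁ (hker χ₁) (fun w hw => by
          rcases hK1p with h | h
          · have : K1 ≤ L := Subgroup.relIndex_eq_one.1 h
            exact Subgroup.pow_mem _ (centralMod_mono this hw) p
          · exact pow_mem_centralMod hP hLK1 h hw)
        obtain ⟨e0, he0⟩ := hdd χ₀
        obtain ⟨e1, he1⟩ := hdd χ₁
        obtain ⟨c, hc⟩ := hpn (Subgroup.card_subgroup_dvd_card (centralMod L))
        refine hdiff (show deg (χ₀ : P → ℂ) = deg (χ₁ : P → ℂ) from ?_)
        rw [he0, hn] at hsq0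
        rw [he1, hn] at hsq1
        have key : ∀ (e : ℕ) (x : ℕ), (p ^ e) ^ 2 * x = p ^ n →
            (x = p ^ c ∨ x = p * p ^ c) → 2 * e + c = n ∨ 2 * e + c + 1 = n := by
          intro e x h hx
          rcases hx with rfl | rfl
          · left
            rw [← pow_mul, ← pow_add] at h
            have := Nat.pow_right_injective hp.two_le h
            omega
          · right
            rw [← pow_mul, ← pow_succ', ← pow_add] at h
            have := Nat.pow_right_injective hp.two_le h
            omega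
        rw [hc] at c0 c1
        have a := key e0 _ hsq0 c0
        have b := key e1 _ hsq1 c1
        rw [he0, he1, show e0 = e1 by omega]
      · -- the commutator subgroup is not central modulo `L`
        obtain ⟨d', hd', hd'L⟩ := SetLike.not_le_iff_exists.1 hDL
        have hgen : ∀ (u : P), u ∈ commutator P → u ∉ M → ∀ g ∈ commutator P, ∃ i : ℕ, (u ^ i)⁻¹ * g ∈ M :=
          fun u hu huM g hg => exists_pow_of_relIndex hP hMi hu huM hg
        -- `centralMod M` is the commutator subgroup
        have hZD : centralMod M = commutator P := by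
          refine le_antisymm ?_ hD0
          have hzD : z ∈ commutator P := by
            obtain ⟨i, hi⟩ := hzgen d' (hD0 hd')
            have hi' : ¬ p ∣ i := by
              rintro ⟨j, rfl⟩
              apply hd'L
              have h1 : z ^ (p * j) ∈ centralMod L := by rw [pow_mul]; exact Subgroup.pow_mem _ hzp j
              simpa using Subgroup.mul_mem _ h1 (hMZ hi)
            obtain ⟨j, hj⟩ := exists_pow_eq_self_of_coprime (n := i) (x := z) (by
              obtain ⟨k, hk⟩ := IsPGroup.iff_orderOf.1 hP z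
              rw [hk]
              exact Nat.Coprime.pow_right k (hp.coprime_iff_not_dvd.2 hi').symm)
            rw [← hj]
            refine Subgroup.pow_mem _ ?_ j
            have h2 := Subgroup.mul_mem _ hd' ((commutator P).inv_mem (hMD hi))
            simpa [mul_assoc] using h2
          intro g hg
          obtain ⟨i, hi⟩ := hzgen g hg
          simpa using Subgroup.mul_mem _ (Subgroup.pow_mem _ hzD i) (hMD hi)
        -- so the degree of `χ₀` is `p`
        have hidx := index_le_sq hP hLM hLi hMD hMi hd' hd'L hMZ hZD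
        rw [hZD, ← Subgroup.card_mul_index (commutator P), mul_comm (Nat.card (commutator P))] at hsq0
        have hsqI : deg (χ₀ : P → ℂ) ^ 2 = (commutator P).index :=
          Nat.eq_of_mul_eq_mul_right Nat.card_pos hsq0
        obtain ⟨e0, he0⟩ := hdd χ₀
        have he0' : e0 = 1 := by
          rw [← hsqI, he0, ← pow_mul] at hidx
          have := (Nat.pow_le_pow_iff_right hp.one_lt).1 hidx
          have : e0 ≠ 0 := fun h => n0 (show deg (χ₀ : P → ℂ) = 1 by rw [he0, h, pow_zero])
          omega
        obtain ⟨e1, he1⟩ := hdd χ₁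
        have hM1 := deg_sq_mul_card_le χ₁.2 M
          (fun h hh => conj_mul_self χ₁.2 (K := L) h1L (hMZ hh))
        have hcardD : Nat.card (commutator P) = Nat.card M * p := by
          rw [← hMi, Subgroup.relIndex, ← Subgroup.card_mul_index (M.subgroupOf (commutator P)),
            Nat.card_congr (Subgroup.subgroupOfEquivOfLe hMD).toEquiv]
        rw [← Subgroup.card_mul_index (commutator P), hcardD, ← hsqI, he0, he0', he1] at hM1
        have h3 : (p ^ e1) ^ 2 ≤ p * (p ^ 1) ^ 2 :=
          Nat.le_of_mul_le_mul_right (hM1.trans (le_of_eq (by ring)))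
            (Nat.card_pos (α := M))
        rw [← pow_mul, ← pow_mul, ← pow_succ'] at h3
        have := (Nat.pow_le_pow_iff_right hp.one_lt).1 h3
        have : e1 ≠ 0 := fun h => n1 (show deg (χ₁ : P → ℂ) = 1 by rw [he1, h, pow_zero])
        exact hdiff (show deg (χ₀ : P → ℂ) = deg (χ₁ : P → ℂ) by
          rw [he0, he0', he1, show e1 = 1 by omega])
    have hcard : Nat.card (commutator P) = p := by
      rw [hMbot, Subgroup.relIndex_bot_left] at hMi
      exact hMi
    refine ⟨?_, hcard⟩
    obtain ⟨d, hd, hd1⟩ : ∃ d ∈ commutator P, d ∉ (⊥ : Subgroup P) :=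
      SetLike.not_le_iff_exists.1 (fun h => hncomm (le_bot_iff.1 h))
    obtain ⟨χ, -, hχd⟩ := exists_irr_separating (⊥ : Subgroup P) hd1
    have nχ := hnonlin χ d hd hχd
    set K := kerSubgroup (χ : P → ℂ) (isCharacter_of_irr χ.2) with hKdef
    haveI : K.Normal := kerSubgroup_normal _
    have hK : K = ⊥ := by
      rcases (Nat.dvd_prime hp).1 (hcard ▸ Subgroup.card_dvd_of_le (hKle χ nχ)) with h | h
      · exact Subgroup.card_eq_one.1 h
      · exfalso
        have : K = commutator P := Subgroup.eq_of_le_of_card_ge (hKle χ nχ) (by rw [h, hcard])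
        exact hχd (show d ∈ K by rw [this]; exact hd)
    obtain ⟨z, hz, hgen⟩ := exists_generator_centralMod χ.2 (hker χ)
    have hzc : z ∈ Subgroup.center P := by
      rw [Subgroup.mem_center_iff]
      intro g
      have h1 := mem_centralMod.1 hz g
      rw [← hKdef, hK, Subgroup.mem_bot, commutatorElement_eq_one_iff_mul_comm] at h1
      exact h1.symm
    refine ⟨⟨z, hzc⟩, fun g => ?_⟩
    obtain ⟨i, hi⟩ := hgen g (mem_centralMod.2 fun h => by
      rw [commutatorElement_eq_one_iff_mul_comm.2 ((Subgroup.mem_center_iff.1 g.2 h).symm)]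
      exact one_mem _)
    refine ⟨(i : ℤ), Subtype.ext ?_⟩
    rw [← hKdef, hK, Subgroup.mem_bot, inv_mul_eq_one] at hi
    simpa using hi
  · rintro ⟨hZcyc, hcard⟩ χ ψ hχ hdeg
    have hDZ : commutator P ≤ Subgroup.center P :=
      Cfsg.Lib.PGroups.le_center_of_card_eq_prime hP hcard
    -- nonlinear characters are faithful, supported on the centre
    have main : ∀ φ : Cfsg.IrrCharacter P, Cfsg.charDegree (φ : P → ℂ) ≠ 1 →
        (∀ k, (φ : P → ℂ) k = (φ : P → ℂ) 1 ↔ k ∈ (⊥ : Subgroup P)) ∧
        ∀ g ∉ Subgroup.center P, (φ : P → ℂ) g = 0 := by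
      intro φ hφ
      set K := kerSubgroup (φ : P → ℂ) (isCharacter_of_irr φ.2) with hKdef
      haveI : K.Normal := kerSubgroup_normal _
      have hnot : ¬ commutator P ≤ K := by
        intro h
        -- then every irreducible constituent is linear
        have hc : ∀ a b : P ⧸ K, a * b = b * a := by
          intro a b
          obtain ⟨a, rfl⟩ := QuotientGroup.mk'_surjective K a
          obtain ⟨b, rfl⟩ := QuotientGroup.mk'_surjective K b
          rw [← commutatorElement_eq_one_iff_mul_comm, ← map_commutatorElement]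
          exact (QuotientGroup.eq_one_iff _).2
            (h (Subgroup.commutator_mem_commutator (Subgroup.mem_top a) (Subgroup.mem_top b)))
        obtain ⟨φ', hφ', hfac⟩ := exists_factor (QuotientGroup.mk' K)
          (QuotientGroup.mk'_surjective _) (isCharacter_of_irr φ.2)
          (fun k hk => by rw [QuotientGroup.ker_mk'] at hk; exact hk)
        have h1 := irr_deg_one_of_comm hc (IsIrrCharacter.descend hφ' (QuotientGroup.mk' K)
          (QuotientGroup.mk'_surjective _) (hfac ▸ φ.2))
        apply hφ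
        show deg (φ : P → ℂ) = 1
        apply Nat.cast_injective (R := ℂ)
        rw [← irr_apply_one_eq_deg, hfac, Nat.cast_one]
        simpa using h1
      have hKbot : K = ⊥ := by
        by_contra h0
        obtain ⟨z, hzK, hzc, hzo⟩ := Cfsg.Lib.PGroups.exists_mem_center_of_normal_ne_bot hP h0
        obtain ⟨d, hd, hdo⟩ : ∃ d ∈ commutator P, orderOf d = p := by
          obtain ⟨d, hdo⟩ := exists_prime_orderOf_dvd_card' (G := commutator P) p (by rw [hcard])
          exact ⟨d, d.2, by rw [Subgroup.orderOf_coe]; exact hdo⟩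
        have heq : Subgroup.zpowers z = Subgroup.zpowers d :=
          eq_of_card_eq_of_le hZcyc (Subgroup.zpowers_le.2 hzc) (Subgroup.zpowers_le.2 (hDZ hd))
            (by rw [Nat.card_zpowers, Nat.card_zpowers, hzo, hdo])
        have hdD : Subgroup.zpowers d = commutator P :=
          Subgroup.eq_of_le_of_card_ge (Subgroup.zpowers_le.2 hd) (by rw [Nat.card_zpowers, hdo, hcard])
        exact hnot (hdD ▸ heq ▸ Subgroup.zpowers_le.2 hzK)
      refine ⟨fun k => ?_, fun g hg => ?_⟩
      · rw [hker φ k, ← hKdef, hKbot]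
      · rw [Subgroup.mem_center_iff] at hg
        push Not at hg
        obtain ⟨h, hh⟩ := hg
        refine eq_zero_of_commutator φ.2 (K := (⊥ : Subgroup P))
          (fun k hk => by rw [Subgroup.mem_bot.1 hk]) (h := h) ?_ ?_
        · refine mem_centralMod.2 fun x => Subgroup.mem_bot.2 ?_
          exact commutatorElement_eq_one_iff_mul_comm.2
            (Subgroup.mem_center_iff.1 (hDZ (Subgroup.commutator_mem_commutator
              (Subgroup.mem_top h) (Subgroup.mem_top g))) x).symm
        · intro e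
          have := (hker φ _).1 e
          rw [← hKdef, hKbot, Subgroup.mem_bot, commutatorElement_eq_one_iff_mul_comm] at this
          exact hh this
    obtain ⟨hfχ, hvχ⟩ := main χ hχ
    obtain ⟨hfψ, hvψ⟩ := main ψ (hdeg ▸ hχ)
    obtain ⟨⟨z, hz⟩, hzgen⟩ := IsCyclic.exists_monoid_generator (α := Subgroup.center P)
    have hd0 : ∀ φ : Cfsg.IrrCharacter P, (φ : P → ℂ) 1 ≠ 0 :=
      fun φ => IsIrrCharacter.apply_one_ne_zero φ.2
    have hzZ : z ∈ centralMod (⊥ : Subgroup P) := mem_centralMod.2 fun h => Subgroup.mem_bot.2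
      (commutatorElement_eq_one_iff_mul_comm.2 (Subgroup.mem_center_iff.1 hz h).symm)
    have hω : ∀ φ : Cfsg.IrrCharacter P, ∀ i : ℕ,
        (φ : P → ℂ) (z ^ i) = (φ : P → ℂ) 1 * ((φ : P → ℂ) z / (φ : P → ℂ) 1) ^ i := by
      intro φ i
      induction i with
      | zero => simp
      | succ i ih =>
        have h := scalar_mul φ.2 (K := (⊥ : Subgroup P))
          (fun k hk => by rw [Subgroup.mem_bot.1 hk]) hzZ (z ^ i)
        rw [← pow_succ'] at h
        rw [eq_comm, ← mul_left_inj' (hd0 φ), h, ih, pow_succ]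
        field_simp [hd0 φ]
    have hprim : ∀ φ : Cfsg.IrrCharacter P,
        (∀ k, (φ : P → ℂ) k = (φ : P → ℂ) 1 ↔ k ∈ (⊥ : Subgroup P)) →
        IsPrimitiveRoot ((φ : P → ℂ) z / (φ : P → ℂ) 1) (orderOf z) := by
      intro φ hf
      constructor
      · have := hω φ (orderOf z)
        rw [pow_orderOf_eq_one] at this
        exact mul_left_cancel₀ (hd0 φ) (this.symm.trans (mul_one _).symm)
      · intro l hl
        have := hω φ l
        rw [hl, mul_one, hf, Subgroup.mem_bot] at this
        exact orderOf_dvd_of_pow_eq_one this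
    have hz1 : orderOf z ≠ 1 := by
      intro h
      rw [orderOf_eq_one_iff] at h
      refine hncomm (le_bot_iff.1 fun g hg => ?_)
      obtain ⟨i, hi⟩ := Submonoid.mem_powers_iff _ _ |>.1 (hzgen ⟨g, hDZ hg⟩)
      have := congrArg Subtype.val hi
      simp only [SubmonoidClass.coe_pow, h, one_pow] at this
      exact Subgroup.mem_bot.2 this.symm
    haveI : NeZero (orderOf z) := ⟨(orderOf_pos z).ne'⟩
    obtain ⟨k, -, hkcop, hk⟩ := (hprim χ hfχ).isPrimitiveRoot_iff.1 (hprim ψ hfψ)
    have hkP : Nat.Coprime k (Nat.card P) := by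
      obtain ⟨m, hm⟩ := IsPGroup.iff_orderOf.1 hP z
      rw [hm] at hkcop hz1
      rw [hn]
      refine Nat.Coprime.pow_right n ?_
      exact (Nat.coprime_pow_right_iff (Nat.pos_of_ne_zero fun h => hz1 (by rw [h, pow_zero])) k p).1 hkcop
    refine ⟨k, hkP, fun g => ?_⟩
    by_cases hg : g ∈ Subgroup.center P
    · obtain ⟨i, hi⟩ := Submonoid.mem_powers_iff _ _ |>.1 (hzgen ⟨g, hg⟩)
      have hgi : z ^ i = g := congrArg Subtype.val hi
      rw [← hgi, ← pow_mul, hω ψ i, hω χ (i * k), irr_apply_one_eq_deg, irr_apply_one_eq_deg,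
        show deg (ψ : P → ℂ) = deg (χ : P → ℂ) from hdeg.symm, mul_comm i k, pow_mul]
      rw [irr_apply_one_eq_deg, irr_apply_one_eq_deg,
        show deg (ψ : P → ℂ) = deg (χ : P → ℂ) from hdeg.symm] at hk
      rw [hk]
    · rw [hvψ g hg, hvχ]
      intro hh
      obtain ⟨j, hj⟩ := exists_pow_eq_self_of_coprime (n := k) (x := g)
        (hkP.coprime_dvd_right (orderOf_dvd_natCard g))
      exact hg (hj ▸ Subgroup.pow_mem _ hh j)

end Cfsg.Agent.S4845
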