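import Cfsg.Statements.S4850
import Cfsg.Agent.Blocks.VanishingOrder
-- import your own Cfsg.Agent.* helpers here

set_option autoImplicit false
open Cfsg

namespace Cfsg.Agent.S4850

/-- Let p be a prime and G a finite solvable group whose vanishing elements (elements at which some irreducible character is zero) of order divisible by p all have the same order, with at least one such element. Let P be a Sylow p-subgroup of G. Then the derived subgroup of P is subnormal in G and the image of P in G/O_p(G) is cyclic. -/
theorem result {G : Type*} [Group G] [Finite G] [hs : Group.IsSolvable G] (p : ℕ) [Fact p.Prime] (b : ℕ) (hvo : {n : ℕ | p ∣ n ∧ ∃ (g : G) (χ : Cfsg.IrrCharacter G), orderOf g = n ∧ (χ : G → ℂ) g = 0} = {b}) (P : Sylow p G) :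
    ((commutator ↥(P : Subgroup G)).map (P : Subgroup G).subtype).IsSubnormal ∧ IsCyclic ↥((P : Subgroup G).map (QuotientGroup.mk' (Cfsg.pCore p G))) := by
  classical
  haveI : (Cfsg.pCore p G).Normal := Cfsg.Lib.Components.pCore_normal' (G := G) p
  set O := Cfsg.pCore p G with hO
  set π := QuotientGroup.mk' O
  have hle := Cfsg.Lib.VanOrder.card_sylow_le (p := p) hs b (fun x hx hd =>
    (hvo.subset ⟨hd, x, hx.choose, rfl, hx.choose_spec⟩ : orderOf x = b)) P
  have hOP : O ≤ (P : Subgroup G) :=
    IsPGroup.le_sylow_of_normal (Cfsg.Lib.Components.isPGroup_pCore p) P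
  have hcard : Nat.card ((P : Subgroup G).map π) * Nat.card O = Nat.card (P : Subgroup G) := by
    rw [← Cfsg.Lib.Coprime.card_comap_mk' ((P : Subgroup G).map π) |>.trans (mul_comm _ _),
      Subgroup.comap_map_eq, QuotientGroup.ker_mk', sup_eq_left.2 hOP]
  have hp' : Nat.card ((P : Subgroup G).map π) ≤ p := by
    rw [← hcard] at hle
    exact Nat.le_of_mul_le_mul_right hle Nat.card_pos
  have hcyc : IsCyclic ((P : Subgroup G).map π) := by
    obtain ⟨k, hk⟩ := IsPGroup.iff_card.1 (P.2.map π)
    rcases k with _ | _ | k
    · haveI := (Nat.card_eq_one_iff_unique.1 (hk.trans (pow_zero p))).1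
      infer_instance
    · exact isCyclic_of_prime_card (hk.trans (pow_one p))
    · exfalso
      rw [hk] at hp'
      have := Nat.pow_lt_pow_right (Fact.out : p.Prime).one_lt (show 1 < k + 1 + 1 by omega)
      rw [pow_one] at this
      omega
  refine ⟨?_, hcyc⟩
  set D := (commutator ↥(P : Subgroup G)).map (P : Subgroup G).subtype with hD
  have hDO : D ≤ O := by
    intro x hx
    rw [← QuotientGroup.eq_one_iff]
    obtain ⟨y, hy, rfl⟩ := hx
    set f : (P : Subgroup G) →* ((P : Subgroup G).map π) :=
      (π.comp (P : Subgroup G).subtype).codRestrict _ fun z => Subgroup.mem_map_of_mem _ z.2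
    haveI := hcyc
    letI : CommGroup ((P : Subgroup G).map π) := IsCyclic.commGroup
    exact congrArg Subtype.val (Abelianization.commutator_subset_ker f hy : f y = 1)
  haveI := (Cfsg.Lib.Components.isPGroup_pCore (G := G) p).isNilpotent
  rw [show D = (D.subgroupOf O).map O.subtype from (Subgroup.map_subgroupOf_eq_of_le hDO).symm]
  exact Cfsg.Lib.Components.isSubnormal_map_subtype
    (Subgroup.Normal.isSubnormal inferInstance)
    (Cfsg.Lib.Components.isSubnormal_of_isNilpotent _)

end Cfsg.Agent.S4850
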