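import Cfsg.Statements.S4859
import Mathlib
import Cfsg.Agent.Chars.Indicator
import Cfsg.Agent.Chars.Construct
import Cfsg.Agent.Chars.Values
-- import your own Cfsg.Agent.* helpers here

set_option autoImplicit false
open Cfsg

namespace Cfsg.Agent.S4859

set_option linter.unusedSectionVars false

open Cfsg.Lib.Chars

/-- Let p be an odd prime, G a finite group and x an element of G whose order is a power of p (possibly 1) and whose centralizer has even order. Let y be a 2-element of the centralizer of x whose order is largest among the 2-elements of that centralizer. Then x * y is not a square in G, and some non-principal real-valued irreducible character of G does not vanish at x * y. -/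
theorem result {G : Type*} [Group G] [Finite G] (p : ℕ) [Fact p.Prime] (hp : p ≠ 2) (x : G) (hx : ∃ k : ℕ, orderOf x = p ^ k) (heven : Even (Nat.card (Subgroup.centralizer ({x} : Set G)))) (y : G) (hy : y ∈ Subgroup.centralizer ({x} : Set G)) (hy2 : ∃ k : ℕ, orderOf y = 2 ^ k) (hmax : ∀ z ∈ Subgroup.centralizer ({x} : Set G), (∃ k : ℕ, orderOf z = 2 ^ k) → orderOf z ≤ orderOf y) : (¬ ∃ u : G, u * u = x * y) ∧ ∃ χ : Cfsg.IrrCharacter G, ¬ ((χ : G → ℂ) = fun _ => (1 : ℂ)) ∧ (∀ g : G, ((χ : G → ℂ) g).im = 0) ∧ (χ : G → ℂ) (x * y) ≠ 0 := by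
  classical
  obtain ⟨j, hj⟩ := hx
  obtain ⟨k, hk⟩ := hy2
  have hcomm : Commute x y := (Subgroup.mem_centralizer_singleton_iff.1 hy).symm
  have hcop : (orderOf x).Coprime (orderOf y) := by
    rw [hj, hk]
    exact Nat.Coprime.pow j k ((Nat.coprime_primes (Fact.out : p.Prime) Nat.prime_two).2 hp)
  have hoxy : orderOf (x * y) = orderOf x * orderOf y := hcomm.orderOf_mul_eq_mul_orderOf_of_coprime hcop
  have hy2' : 2 ≤ orderOf y := by
    obtain ⟨z, hz⟩ := exists_prime_orderOf_dvd_card' (p := 2) heven.two_dvd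
    have h := hmax z z.2 ⟨1, by rw [Subgroup.orderOf_coe, hz, pow_one]⟩
    rwa [Subgroup.orderOf_coe, hz] at h
  have hno : ¬ ∃ u : G, u * u = x * y := by
    rintro ⟨u, hu⟩
    have hu2 : u ^ 2 = x * y := by rw [pow_two, hu]
    obtain ⟨c, hc⟩ : ∃ c : ℕ, (x * y) ^ c = x := by
      obtain ⟨c, hc1, hc2⟩ := Nat.chineseRemainder hcop 1 0
      refine ⟨c, ?_⟩
      rw [hcomm.mul_pow, (pow_eq_pow_iff_modEq.2 hc1 : x ^ c = x ^ 1),
        (pow_eq_pow_iff_modEq.2 hc2 : y ^ c = y ^ 0), pow_one, pow_zero, mul_one]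
    have hux : u ∈ Subgroup.centralizer ({x} : Set G) := by
      rw [Subgroup.mem_centralizer_singleton_iff, ← hc, ← hu2, ← pow_mul, ← pow_succ, ← pow_succ']
    have he : 2 ∣ orderOf u := by
      by_contra h
      have h1 : orderOf (x * y) = orderOf u := by
        rw [← hu2]
        exact ((Nat.prime_two.coprime_iff_not_dvd.2 h).symm).orderOf_pow
      rw [hoxy, hk] at h1
      rcases k with _ | k
      · simp [hk] at hy2'
      · exact h (h1 ▸ Dvd.dvd.mul_left (dvd_pow_self 2 k.succ_ne_zero) _)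
    have hou : orderOf u = orderOf x * (2 * orderOf y) := by
      have h1 := orderOf_pow' u (show (2 : ℕ) ≠ 0 by norm_num)
      rw [hu2, hoxy, Nat.gcd_eq_right he] at h1
      rw [mul_left_comm, h1, Nat.mul_div_cancel' he]
    have hz : orderOf (u ^ orderOf x) = 2 * orderOf y := by
      rw [orderOf_pow' u (orderOf_pos x).ne', hou, Nat.gcd_eq_right (dvd_mul_right _ _),
        Nat.mul_div_cancel_left _ (orderOf_pos x)]
    have h := hmax _ (Subgroup.pow_mem _ hux _) ⟨k + 1, by rw [hz, hk, pow_succ']⟩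
    omega
  refine ⟨hno, ?_⟩
  letI := Fintype.ofFinite G
  set f : G → ℂ := fun g => ((Finset.univ.filter fun u : G => u * u = g).card : ℂ) with hf
  have hfc : Cfsg.IsClassFunction G f := fun g h => by
    simp only [hf, Nat.cast_inj]
    refine Finset.card_nbij' (fun u => h⁻¹ * u * h) (fun u => h * u * h⁻¹) ?_ ?_ ?_ ?_
    · intro u hu
      simp only [Finset.mem_coe, Finset.mem_filter, Finset.mem_univ, true_and] at hu ⊢
      rw [show h⁻¹ * u * h * (h⁻¹ * u * h) = h⁻¹ * (u * u) * h by group, hu]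
      group
    · intro u hu
      simp only [Finset.mem_coe, Finset.mem_filter, Finset.mem_univ, true_and] at hu ⊢
      rw [show h * u * h⁻¹ * (h * u * h⁻¹) = h * (u * u) * h⁻¹ by group, hu]
    · intro u _; group
    · intro u _; group
  have hinner : ∀ ψ : Cfsg.IrrCharacter G, Cfsg.classInner f (ψ : G → ℂ) =
      (starRingEnd ℂ) ((Nat.card G : ℂ)⁻¹ * ∑ s, (ψ : G → ℂ) (s * s)) := by
    intro ψ
    rw [classInner_def, map_mul, map_sum, map_inv₀, Complex.conj_natCast,
      ← Finset.sum_fiberwise Finset.univ (fun s : G => s * s) fun s => (starRingEnd ℂ) ((ψ : G → ℂ) (s * s))]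
    congr 1
    refine Finset.sum_congr rfl fun g _ => ?_
    rw [Finset.sum_congr rfl fun s (hs : s ∈ Finset.univ.filter fun s : G => s * s = g) => by
      rw [(Finset.mem_filter.1 hs).2], Finset.sum_const, nsmul_eq_mul]
  have h0 : f (x * y) = 0 := by
    simp only [hf, Nat.cast_eq_zero, Finset.card_eq_zero, Finset.filter_eq_empty_iff]
    exact fun u _ hu => hno ⟨u, hu⟩
  have hexp := classFunction_expand_apply hfc (x * y)
  rw [h0] at hexp
  by_contra hcon
  push Not at hcon
  rw [Finset.sum_eq_single (principal G)] at hexp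
  · rw [hinner, show (((principal G : Cfsg.IrrCharacter G)) : G → ℂ) = fun _ => 1 from rfl] at hexp
    simp [Nat.card_eq_fintype_card, Fintype.card_ne_zero] at hexp
  · intro ψ _ hψ
    have hne : ¬ ((ψ : G → ℂ) = fun _ => (1 : ℂ)) := fun h => hψ (Subtype.ext h)
    rcases indicator_irr ψ.2 with ⟨-, h2⟩ | ⟨h1, -⟩
    · rw [hinner, h2, map_zero, zero_mul]
    · rw [hcon ψ hne h1, mul_zero]
  · exact fun h => absurd (Finset.mem_univ _) h

end Cfsg.Agent.S4859
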