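import Cfsg.Statements.S4866
import Cfsg.Agent.Chars.Real
import Cfsg.Agent.Chars.Perm
import Cfsg.Agent.Chars.Construct
import Mathlib
-- import your own Cfsg.Agent.* helpers here

set_option autoImplicit false
open Cfsg

namespace Cfsg.Agent.S4866

set_option linter.unusedSectionVars false

open Cfsg.Lib.Chars

lemma fix_iff_of_odd {A X : Type*} [Group A] [MulAction A X] (c : X → X) (hc : ∀ (a : A) x, c (a • x) = a • c x)
    (hcc : ∀ x, c (c x) = x) {g : A} {m : ℕ} (hm : Odd m) (htriv : ∀ x : X, g ^ m • x = x) (x : X) :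
    c (g • x) = x ↔ g • x = x ∧ c x = x := by
  refine ⟨fun h => ?_, fun h => by rw [h.1, h.2]⟩
  have h1 : c x = g • x := by conv_lhs => rw [← h, hcc]
  have h2 : g ^ 2 • x = x := by
    rw [pow_two, mul_smul, ← h1, ← hc, h]
  obtain ⟨k, rfl⟩ := hm
  have h3 : ∀ j : ℕ, g ^ (2 * j) • x = x := fun j => by
    induction j with
    | zero => simp
    | succ j ih => rw [Nat.mul_succ, pow_add, mul_smul, h2, ih]
  have h4 : g • x = x := by
    have := htriv x
    rwa [add_comm, pow_add, pow_one, mul_smul, h3 k] at this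
  exact ⟨h4, h1.trans h4⟩

variable {G : Type*} [Group G] [Finite G] (K : Subgroup G) [K.Normal]

noncomputable def actIrr : MulAction G (Cfsg.IrrCharacter K) where
  smul g θ := ⟨fun k => (θ : K → ℂ) (MulAut.conjNormal g⁻¹ k), IsIrrCharacter.comp_mulEquiv θ.2 _⟩
  one_smul θ := Subtype.ext (funext fun k => congrArg (θ : K → ℂ) (by ext; simp [MulAut.conjNormal_apply]))
  mul_smul a b θ := Subtype.ext (funext fun k => congrArg (θ : K → ℂ) (by ext; simp [MulAut.conjNormal_apply, mul_assoc]))

def actCl : MulAction G (ConjClasses K) where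
  smul g C := ConjClasses.map (MulAut.conjNormal g : MulAut K).toMonoidHom C
  one_smul C := by
    obtain ⟨k, rfl⟩ := ConjClasses.exists_rep C
    exact congrArg ConjClasses.mk (by ext; simp [MulAut.conjNormal_apply])
  mul_smul a b C := by
    obtain ⟨k, rfl⟩ := ConjClasses.exists_rep C
    exact congrArg ConjClasses.mk (by ext; simp [MulAut.conjNormal_apply, mul_assoc])

/-- Let K be a normal subgroup of odd index in the finite group G. Then G has as many orbits on the real-valued irreducible complex characters of K (acting by conjugation) as it has orbits on the conjugacy classes of K that are real in K; equivalently, the number of G-orbits of real-valued irreducible characters of K equals the number of G-conjugacy classes of elements of K that are conjugate in K to their inverses. -/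
theorem result {G : Type*} [Group G] [Finite G] (K : Subgroup G) [K.Normal] (hodd : Odd K.index) : Nat.card (Quot (fun θ η : {θ : Cfsg.IrrCharacter ↥K // (∀ k : ↥K, ((θ : ↥K → ℂ) k).im = 0)} => ∃ g : G, ∀ k k' : ↥K, (k' : G) = g * (k : G) * g⁻¹ → (η.1 : ↥K → ℂ) k' = (θ.1 : ↥K → ℂ) k)) = Nat.card (Quot (fun x y : {x : ↥K // IsConj x x⁻¹} => ∃ g : G, (y.1 : G) = g * x.1 * g⁻¹)) := by
  classical
  haveI := Fintype.ofFinite G
  letI := actIrr K
  letI := actCl K
  have hm : ∀ (g : G) (k : K), ((MulAut.conjNormal g k : K) : G) = g * (k : G) * g⁻¹ := fun g k =>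
    MulAut.conjNormal_apply g k
  have hsχ : ∀ (g : G) (θ : Cfsg.IrrCharacter K) (k : K),
      ((g • θ : Cfsg.IrrCharacter K) : K → ℂ) k = (θ : K → ℂ) (MulAut.conjNormal g⁻¹ k) := fun g θ k => rfl
  have hsC : ∀ (g : G) (k : K), g • ConjClasses.mk k = ConjClasses.mk (MulAut.conjNormal g k) := fun g k => rfl
  have hKtχ : ∀ (u : K) (θ : Cfsg.IrrCharacter K), (u : G) • θ = θ := fun u θ => by
    refine Subtype.ext (funext fun k => ?_)
    rw [hsχ]
    exact classFunction_eq_of_isConj (isClassFunction_irr θ) (isConj_iff.2 ⟨u, by ext; simp [hm, mul_assoc]⟩)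
  have hKtC : ∀ (u : K) (C : ConjClasses K), (u : G) • C = C := fun u C => by
    obtain ⟨k, rfl⟩ := ConjClasses.exists_rep C
    rw [hsC, ConjClasses.mk_eq_mk_iff_isConj]
    exact isConj_iff.2 ⟨u⁻¹, by ext; simp [hm, mul_assoc]⟩
  have hinvC : ∀ (g : G) (C : ConjClasses K), invClasses K (g • C) = g • invClasses K C := fun g C => by
    obtain ⟨k, rfl⟩ := ConjClasses.exists_rep C
    show ConjClasses.mk _ = g • ConjClasses.mk k⁻¹
    rw [hsC, map_inv]
    rfl
  have hconjχ : ∀ (g : G) (θ : Cfsg.IrrCharacter K), conjIrr (g • θ) = g • conjIrr θ := fun g θ => rfl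
  have hinvinv : ∀ C : ConjClasses K, invClasses K (invClasses K C) = C := fun C => by
    obtain ⟨k, rfl⟩ := ConjClasses.exists_rep C
    show ConjClasses.mk k⁻¹⁻¹ = _
    rw [inv_inv]
  have hconjconj : ∀ θ : Cfsg.IrrCharacter K, conjIrr (conjIrr θ) = θ := fun θ =>
    Subtype.ext (funext fun k => Complex.conj_conj _)
  letI aX : MulAction G {θ : Cfsg.IrrCharacter K // ∀ k : K, ((θ : K → ℂ) k).im = 0} :=
    { smul := fun g θ => ⟨g • θ.1, fun k => by rw [hsχ]; exact θ.2 _⟩
      one_smul := fun θ => Subtype.ext (one_smul G θ.1)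
      mul_smul := fun a b θ => Subtype.ext (mul_smul a b θ.1) }
  letI aY : MulAction G {C : ConjClasses K // invClasses K C = C} :=
    { smul := fun g C => ⟨g • C.1, by rw [hinvC, C.2]⟩
      one_smul := fun C => Subtype.ext (one_smul G C.1)
      mul_smul := fun a b C => Subtype.ext (mul_smul a b C.1) }
  have hfix : ∀ g : G, Nat.card (MulAction.fixedBy {θ : Cfsg.IrrCharacter K // ∀ k : K, ((θ : K → ℂ) k).im = 0} g) =
      Nat.card (MulAction.fixedBy {C : ConjClasses K // invClasses K C = C} g) := by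
    intro g
    have hgm : g ^ K.index ∈ K := Subgroup.pow_index_mem K g
    let πg : ConjClasses K ≃ ConjClasses K := (MulAction.toPerm g).trans (invClasses K)
    have hb := brauer_permutation (fun θ : Cfsg.IrrCharacter K => conjIrr (g • θ)) πg fun θ k k' hk => by
      have hk2 : ConjClasses.mk k' = ConjClasses.mk (MulAut.conjNormal g k)⁻¹ := hk
      rw [classFunction_eq_of_isConj (isClassFunction_irr (conjIrr (g • θ))) (ConjClasses.mk_eq_mk_iff_isConj.1 hk2)]
      show (starRingEnd ℂ) ((θ : K → ℂ) (MulAut.conjNormal g⁻¹ (MulAut.conjNormal g k)⁻¹)) = _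
      rw [← IsCharacter.conj_inv (isCharacter_of_irr θ.2)]
      simp
    have e1 : MulAction.fixedBy {θ : Cfsg.IrrCharacter K // ∀ k : K, ((θ : K → ℂ) k).im = 0} g ≃
        {θ : Cfsg.IrrCharacter K // conjIrr (g • θ) = θ} :=
      { toFun := fun θ => ⟨θ.1.1, by
          rw [show g • θ.1.1 = θ.1.1 from congrArg Subtype.val θ.2]; exact (conjIrr_eq_self_iff _).2 θ.1.2⟩
        invFun := fun θ =>
          have h := (fix_iff_of_odd conjIrr hconjχ hconjconj hodd (fun x => hKtχ ⟨_, hgm⟩ x) θ.1).1 θ.2
          ⟨⟨θ.1, (conjIrr_eq_self_iff _).1 h.2⟩, Subtype.ext h.1⟩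
        left_inv := fun θ => rfl
        right_inv := fun θ => rfl }
    have e2 : MulAction.fixedBy {C : ConjClasses K // invClasses K C = C} g ≃ {C : ConjClasses K // πg C = C} :=
      { toFun := fun C => ⟨C.1.1, by
          show invClasses K (g • C.1.1) = _
          rw [show g • C.1.1 = C.1.1 from congrArg Subtype.val C.2, C.1.2]⟩
        invFun := fun C =>
          have h := (fix_iff_of_odd (fun C => invClasses K C) hinvC hinvinv hodd (fun x => hKtC ⟨_, hgm⟩ x) C.1).1 C.2
          ⟨⟨C.1, h.2⟩, Subtype.ext h.1⟩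
        left_inv := fun C => rfl
        right_inv := fun C => rfl }
    rw [Nat.card_congr e1, Nat.card_congr e2, hb]
  have horb : Nat.card (MulAction.orbitRel.Quotient G {θ : Cfsg.IrrCharacter K // ∀ k : K, ((θ : K → ℂ) k).im = 0}) =
      Nat.card (MulAction.orbitRel.Quotient G {C : ConjClasses K // invClasses K C = C}) := by
    have h1 := classInner_permChar_one (G := G) {θ : Cfsg.IrrCharacter K // ∀ k : K, ((θ : K → ℂ) k).im = 0}
    have h2 := classInner_permChar_one (G := G) {C : ConjClasses K // invClasses K C = C}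
    apply Nat.cast_injective (R := ℂ)
    rw [← h1, ← h2]
    congr 1
    funext g
    simp only [permChar, hfix g]
  refine Eq.trans ?_ (horb.trans ?_)
  · refine Nat.card_congr (Quot.congrRight fun θ η => ?_)
    show _ ↔ θ ∈ MulAction.orbit G η
    refine ⟨fun ⟨g, hg⟩ => ?_, fun h => ?_⟩
    · refine MulAction.mem_orbit_symm.1 ⟨g, Subtype.ext (Subtype.ext (funext fun k => ?_))⟩
      exact (hg (MulAut.conjNormal g⁻¹ k) k (by simp [hm, mul_assoc])).symm
    · obtain ⟨g, hg⟩ := MulAction.mem_orbit_symm.1 h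
      refine ⟨g, fun k k' hk => ?_⟩
      rw [← show g • θ = η from hg]
      have he : MulAut.conjNormal g⁻¹ k' = k := Subtype.ext (by simp [hk, mul_assoc])
      show (θ.1 : K → ℂ) (MulAut.conjNormal g⁻¹ k') = _
      rw [he]
  · let F : {x : K // IsConj x x⁻¹} → {C : ConjClasses K // invClasses K C = C} := fun x =>
      ⟨ConjClasses.mk x.1, (ConjClasses.mk_eq_mk_iff_isConj.2 x.2.symm)⟩
    have hF : Function.Surjective F := fun C => by
      obtain ⟨k, hk⟩ := ConjClasses.exists_rep C.1
      have hC : invClasses K (ConjClasses.mk k) = ConjClasses.mk k := by rw [hk]; exact C.2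
      exact ⟨⟨k, (ConjClasses.mk_eq_mk_iff_isConj.1 (show ConjClasses.mk k⁻¹ = _ from hC)).symm⟩, Subtype.ext hk⟩
    symm
    refine Nat.card_eq_of_bijective (Quot.lift (fun x => (Quotient.mk'' (F x) : MulAction.orbitRel.Quotient G _)) fun x y h => ?_) ⟨?_, ?_⟩
    · obtain ⟨g, hg⟩ := h
      refine (Quotient.sound' (s₁ := MulAction.orbitRel G _) ?_).symm
      exact ⟨g, Subtype.ext (congrArg ConjClasses.mk (Subtype.ext (hm g x.1 |>.trans hg.symm) : MulAut.conjNormal g x.1 = y.1))⟩
    · rintro ⟨x⟩ ⟨y⟩ h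
      obtain ⟨g, hg⟩ := (Quotient.exact' h : MulAction.orbitRel G _ (F x) (F y))
      have h2 : ConjClasses.mk (MulAut.conjNormal g y.1) = ConjClasses.mk x.1 := congrArg Subtype.val hg
      obtain ⟨u, hu⟩ := isConj_iff.1 (ConjClasses.mk_eq_mk_iff_isConj.1 h2)
      refine (Quot.sound ⟨(u : G) * g, ?_⟩).symm
      rw [← hu]
      simp [hm, mul_assoc]
    · intro q
      induction q using Quotient.inductionOn' with
      | h C => obtain ⟨x, hx⟩ := hF C; exact ⟨Quot.mk _ x, congrArg Quotient.mk'' hx⟩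

end Cfsg.Agent.S4866
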