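import Cfsg.Statements.S4870
import Cfsg.Agent.Blocks.LinearTwist
import Mathlib
-- import your own Cfsg.Agent.* helpers here

set_option autoImplicit false
open Cfsg

namespace Cfsg.Agent.S4870

set_option linter.unusedSectionVars false

open Cfsg.Lib.Chars Cfsg.Lib.Blocks

/-- Let G be a finite group with a non-abelian minimal normal subgroup N, and let φ be an irreducible complex character of N with stabilizer I in G (the elements g with φ(g n g⁻¹) = φ(n) for all n ∈ N) such that φ extends to an irreducible character of I. Put d = φ(1)·[G : I]. Then the number of linear characters of G is at most [G : I] times the number of irreducible characters of G of degree d. -/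
theorem result {G : Type*} [Group G] [Finite G] (N : Subgroup G) (hN : N.Normal) (hN1 : N ≠ ⊥) (hmin : ∀ M : Subgroup G, M.Normal → M ≤ N → M = ⊥ ∨ M = N) (hna : ¬ IsMulCommutative ↥N) (φ : Cfsg.IrrCharacter ↥N) (I : Subgroup G) (hI : ∀ g : G, g ∈ I ↔ ∀ n n' : ↥N, (n' : G) = g * (n : G) * g⁻¹ → (φ : ↥N → ℂ) n' = (φ : ↥N → ℂ) n) (hNI : N ≤ I) (hext : ∃ ψ : Cfsg.IrrCharacter ↥I, ∀ n : ↥N, (ψ : ↥I → ℂ) (Subgroup.inclusion hNI n) = (φ : ↥N → ℂ) n) : Nat.card {χ : Cfsg.IrrCharacter G // Cfsg.charDegree (χ : G → ℂ) = 1} ≤ I.index * Nat.card {χ : Cfsg.IrrCharacter G // Cfsg.charDegree (χ : G → ℂ) = Cfsg.charDegree (φ : ↥N → ℂ) * I.index} := by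
  classical
  haveI := Fintype.ofFinite G
  haveI := Fintype.ofFinite I
  obtain ⟨ψ, hψ⟩ := hext
  obtain ⟨Φ, hΦ, hinj⟩ := exists_twist N hN hmin hna φ I hI hNI ψ hψ
  obtain ⟨d, -, hd⟩ := IsIrrCharacter.apply_one φ.2
  have hdd : Cfsg.charDegree (φ : ↥N → ℂ) = d := by simp [Cfsg.charDegree, hd]
  have hdeg : ∀ l, Cfsg.charDegree (Φ l : G → ℂ) = d * I.index := fun l => by
    rw [Cfsg.charDegree, (hΦ l).2, hd, ← Nat.cast_mul, Complex.natCast_re, Nat.floor_natCast]
  have hone : ∀ χ : Cfsg.IrrCharacter G, Cfsg.charDegree (χ : G → ℂ) = 1 → (χ : G → ℂ) 1 = 1 := by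
    intro χ h
    obtain ⟨e, -, he⟩ := IsIrrCharacter.apply_one χ.2
    rw [Cfsg.charDegree, he, Complex.natCast_re, Nat.floor_natCast] at h
    rw [he, h, Nat.cast_one]
  rw [hdd]
  let F : {χ : Cfsg.IrrCharacter G // Cfsg.charDegree (χ : G → ℂ) = 1} →
      {χ : Cfsg.IrrCharacter G // Cfsg.charDegree (χ : G → ℂ) = d * I.index} :=
    fun a => ⟨Φ ⟨a.1, hone a.1 a.2⟩, hdeg _⟩
  refine card_le_mul_card F I.index fun b => ?_
  rcases isEmpty_or_nonempty {a // F a = b} with hb | hb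
  · simp
  obtain ⟨a₀⟩ := hb
  refine le_trans (Nat.card_le_card_of_injective
    (fun a : {a // F a = b} => (⟨a.1.1, hone a.1.1 a.1.2, hinj ⟨a.1.1, hone a.1.1 a.1.2⟩ ⟨a₀.1.1, hone a₀.1.1 a₀.1.2⟩
      (congrArg Subtype.val (a.2.trans a₀.2.symm))⟩ :
        {χ : Cfsg.IrrCharacter G // (χ : G → ℂ) 1 = 1 ∧ (fun i : I => (χ : G → ℂ) i) = fun i : I => (a₀.1.1 : G → ℂ) i}))
    fun x y h => ?_) (card_linear_restrict_le I _)
  exact Subtype.ext (Subtype.ext (congrArg (fun z => z.1) h))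

end Cfsg.Agent.S4870
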