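import Cfsg.Statements.S4873
import Cfsg.Agent.S4866
import Cfsg.Agent.Chars.Indicator
import Cfsg.Agent.Chars.Inertia
import Mathlib
-- import your own Cfsg.Agent.* helpers here

set_option autoImplicit false
open Cfsg

namespace Cfsg.Agent.S4873

set_option linter.unusedSectionVars false

open Cfsg.Lib.Chars

lemma classInner_eq_finsum {N : Type*} [Group N] [Fintype N] (a b : N → ℂ) :
    (∑ᶠ n : N, a n * (starRingEnd ℂ) (b n)) = (Nat.card N : ℂ) * Cfsg.classInner a b := by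
  rw [finsum_eq_sum_of_fintype, classInner_def, ← mul_assoc,
    mul_inv_cancel₀ (by exact_mod_cast (Nat.card_pos (α := N)).ne'), one_mul]

/-- Let N be a normal subgroup of odd index in the finite group G. Then every irreducible complex character of N with Frobenius–Schur indicator +1 lies under exactly one irreducible character of G with Frobenius–Schur indicator +1. -/
theorem result {G : Type*} [Group G] [Finite G] (N : Subgroup G) [N.Normal] (hodd : Odd N.index) (φ : Cfsg.IrrCharacter ↥N) (hφ : (Nat.card ↥N : ℂ)⁻¹ * ∑ᶠ g : ↥N, (φ : ↥N → ℂ) (g * g) = 1) : ∃! χ : Cfsg.IrrCharacter G, (Nat.card G : ℂ)⁻¹ * ∑ᶠ g : G, (χ : G → ℂ) (g * g) = 1 ∧ (∑ᶠ n : ↥N, (χ : G → ℂ) n * (starRingEnd ℂ) ((φ : ↥N → ℂ) n)) ≠ 0 := by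
  classical
  haveI := Fintype.ofFinite G
  haveI := Fintype.ofFinite N
  have hindnu : ∀ χ : Cfsg.IrrCharacter G, (Nat.card G : ℂ)⁻¹ * ∑ᶠ g : G, (χ : G → ℂ) (g * g) =
      (Nat.card G : ℂ)⁻¹ * ∑ g : G, (χ : G → ℂ) (g * g) := fun χ => by rw [finsum_eq_sum_of_fintype]
  simp only [hindnu, classInner_eq_finsum, mul_ne_zero_iff]
  rw [finsum_eq_sum_of_fintype] at hφ
  have hN0 : (Nat.card N : ℂ) ≠ 0 := by exact_mod_cast Nat.card_pos.ne'
  have hG0 : (Nat.card G : ℂ) ≠ 0 := by exact_mod_cast Nat.card_pos.ne'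
  let m : Cfsg.IrrCharacter G → Cfsg.IrrCharacter N → ℂ := fun χ θ =>
    Cfsg.classInner (fun n : N => (χ : G → ℂ) n) (θ : N → ℂ)
  let ν : Cfsg.IrrCharacter G → ℂ := fun χ => (Nat.card G : ℂ)⁻¹ * ∑ g : G, (χ : G → ℂ) (g * g)
  have hsq : ∀ g : G, g * g ∈ N → g ∈ N := fun g hg => by
    obtain ⟨j, hj⟩ := hodd
    have h1 := N.pow_index_mem g
    rw [hj, pow_succ, pow_mul, pow_two] at h1
    simpa using mul_mem (inv_mem (pow_mem hg j)) h1
  -- the indicator identity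
  have hsum : ∀ θ : Cfsg.IrrCharacter N, ∑ χ : Cfsg.IrrCharacter G, (starRingEnd ℂ) (m χ θ) * ν χ =
      (Nat.card N : ℂ)⁻¹ * ∑ n : N, (θ : N → ℂ) (n * n) := by
    intro θ
    obtain ⟨k, hk⟩ := IsCharacter.exists_decomp (IsCharacter.indFun (G := G) (isCharacter_of_irr θ.2))
    simp only [← Nat.cast_smul_eq_nsmul ℂ] at hk
    have hkm : ∀ χ, (starRingEnd ℂ) (m χ θ) = (k χ : ℂ) := fun χ => by
      have h1 := frobenius_reciprocity' N (θ : N → ℂ) (isClassFunction_irr χ)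
      show (starRingEnd ℂ) (Cfsg.classInner _ _) = _
      rw [← h1, classInner_conj_symm, hk]
      exact classInner_irrSum (fun ψ => (k ψ : ℂ)) χ
    simp only [hkm, ν, Finset.mul_sum]
    rw [Finset.sum_comm]
    have h2 : ∀ g : G, ∑ χ : Cfsg.IrrCharacter G, (k χ : ℂ) * ((Nat.card G : ℂ)⁻¹ * (χ : G → ℂ) (g * g)) =
        (Nat.card G : ℂ)⁻¹ * Cfsg.indFun N (θ : N → ℂ) (g * g) := fun g => by
      rw [hk]
      simp only [Finset.sum_apply, Pi.smul_apply, smul_eq_mul, Finset.mul_sum]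
      exact Finset.sum_congr rfl fun χ _ => by ring
    simp only [h2, indFun_apply, Finset.mul_sum]
    rw [Finset.sum_comm]
    have h3 : ∀ x : G, ∑ g : G, (Nat.card G : ℂ)⁻¹ * ((Nat.card N : ℂ)⁻¹ *
        Cfsg.extendByZero N (θ : N → ℂ) (x⁻¹ * (g * g) * x)) =
        (Nat.card G : ℂ)⁻¹ * ((Nat.card N : ℂ)⁻¹ * ∑ n : N, (θ : N → ℂ) (n * n)) := by
      intro x
      simp only [← Finset.mul_sum]
      congr 2
      rw [← Fintype.sum_equiv (MulAut.conj x).toEquiv (fun g => Cfsg.extendByZero N (θ : N → ℂ) (g * g)) _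
        fun g => by simp [mul_assoc]]
      rw [← Finset.sum_subset (Finset.subset_univ (Finset.univ.filter fun g : G => g ∈ N))
        fun g _ hg => extendByZero_not_mem _ fun h => hg (Finset.mem_filter.2 ⟨Finset.mem_univ _, hsq g h⟩)]
      refine Finset.sum_bij (fun g hg => (⟨g, (Finset.mem_filter.1 hg).2⟩ : N)) (fun g hg => Finset.mem_univ _)
        (fun g hg g' hg' h => congrArg Subtype.val h) (fun n _ => ⟨n, Finset.mem_filter.2 ⟨Finset.mem_univ _, n.2⟩, rfl⟩)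
        fun g hg => ?_
      exact extendByZero_apply N (θ : N → ℂ) (⟨g, (Finset.mem_filter.1 hg).2⟩ * ⟨g, (Finset.mem_filter.1 hg).2⟩)
    rw [Finset.sum_congr rfl fun x _ => h3 x, Finset.sum_const, Finset.card_univ, nsmul_eq_mul,
      ← Nat.card_eq_fintype_card, ← mul_assoc, mul_inv_cancel₀ hG0, one_mul, Finset.mul_sum]
  have hzero : ∀ χ : Cfsg.IrrCharacter G, ¬ (∀ g, ((χ : G → ℂ) g).im = 0) → ν χ = 0 := fun χ h => by
    rcases indicator_irr χ.2 with ⟨-, h'⟩ | ⟨h', -⟩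
    · exact h'
    · exact absurd h' h
  -- real characters over real characters
  have hover : ∀ θ : Cfsg.IrrCharacter N, (∀ n, ((θ : N → ℂ) n).im = 0) →
      ∃ χ : Cfsg.IrrCharacter G, (∀ g, ((χ : G → ℂ) g).im = 0) ∧ m χ θ ≠ 0 := by
    intro θ hθ
    by_contra hcon
    push Not at hcon
    have h0 : ∑ χ : Cfsg.IrrCharacter G, (starRingEnd ℂ) (m χ θ) * ν χ = 0 := Finset.sum_eq_zero fun χ _ => by
      by_cases h : ∀ g, ((χ : G → ℂ) g).im = 0
      · rw [hcon χ h, map_zero, zero_mul]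
      · rw [hzero χ h, mul_zero]
    rw [hsum] at h0
    rcases indicator_irr θ.2 with ⟨⟨n, hn⟩, -⟩ | ⟨-, h | ⟨h, -⟩⟩
    · exact hn (hθ n)
    · exact one_ne_zero (h.symm.trans h0)
    · exact neg_ne_zero.2 one_ne_zero (h.symm.trans h0)
  have hconst : ∀ χ : Cfsg.IrrCharacter G, (∀ g, ((χ : G → ℂ) g).im = 0) →
      ∃ θ : {θ : Cfsg.IrrCharacter N // ∀ n, ((θ : N → ℂ) n).im = 0}, m χ θ.1 ≠ 0 := by
    intro χ hχ
    obtain ⟨θ, hθ, hc⟩ := exists_constituent N (isCharacter_of_irr χ.2) (IsIrrCharacter.apply_one_ne_zero χ.2)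
    let O := {ψ : N → ℂ // ψ ∈ conjOrbit N θ}
    have hconjmem : ∀ ψ ∈ conjOrbit N θ, (fun n => (starRingEnd ℂ) (ψ n)) ∈ conjOrbit N θ := by
      intro ψ hψ
      obtain ⟨g, rfl⟩ := (mem_conjOrbit N).1 hψ
      rw [mem_conjOrbit]
      have hirr := IsIrrCharacter.conjugate (IsIrrCharacter.conjN hθ g)
      obtain ⟨a, ha⟩ := exists_conjN_of_constituents N χ.2 hθ hirr hc (by
        intro h0
        refine hc ?_
        rw [← classInner_restrict_conjN N (isClassFunction_irr χ) θ g]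
        rw [classInner_def, mul_eq_zero] at h0
        have h1 := h0.resolve_left (inv_ne_zero hN0)
        rw [classInner_def]
        refine mul_eq_zero_of_right _ ?_
        have h2 := congrArg (starRingEnd ℂ) h1
        rw [map_sum, map_zero] at h2
        rw [← h2]
        refine Finset.sum_congr rfl fun n _ => ?_
        rw [map_mul, Complex.conj_conj, Complex.conj_eq_iff_im.2 (hχ _)])
      exact ⟨a, ha.symm⟩
    let c : O → O := fun ψ => ⟨_, hconjmem ψ.1 ψ.2⟩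
    have hc2 : Function.Involutive c := fun ψ => Subtype.ext (funext fun n => Complex.conj_conj _)
    have hoddO : Odd (Fintype.card O) := by
      rw [Fintype.card_coe]
      have h2 := card_conjOrbit N θ
      obtain ⟨d, hd⟩ := Subgroup.card_dvd_of_le (le_inertia (isClassFunction_isChar (isCharacter_of_irr hθ)) : N ≤ _)
      rw [hd, ← Subgroup.index_mul_card N] at h2
      have h3 : (conjOrbit N θ).card * d = N.index :=
        Nat.eq_of_mul_eq_mul_right (Nat.card_pos (α := N)) (by rw [← h2]; ring)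
      exact (Nat.odd_mul.1 (h3 ▸ hodd)).1
    obtain ⟨ψ, hψ⟩ : ∃ ψ : O, hc2.toPerm c ψ = ψ := by
      haveI := Fact.mk Nat.prime_two
      exact Equiv.Perm.exists_fixed_point_of_prime (p := 2) (n := 1) (σ := hc2.toPerm c)
        (fun h => Nat.not_even_iff_odd.2 hoddO (even_iff_two_dvd.2 h)) (Equiv.ext fun x => hc2 x)
    obtain ⟨g, hg⟩ := (mem_conjOrbit N).1 ψ.2
    refine ⟨⟨⟨ψ.1, hg ▸ IsIrrCharacter.conjN hθ g⟩, fun n => Complex.conj_eq_iff_im.1
      (congrFun (congrArg Subtype.val hψ) n)⟩, ?_⟩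
    show Cfsg.classInner _ ψ.1 ≠ 0
    rw [← hg, classInner_restrict_conjN N (isClassFunction_irr χ)]
    exact hc
  -- relation
  let r := fun θ η : {θ : Cfsg.IrrCharacter ↥N // (∀ k : ↥N, ((θ : ↥N → ℂ) k).im = 0)} =>
    ∃ g : G, ∀ k k' : ↥N, (k' : G) = g * (k : G) * g⁻¹ → (η.1 : ↥N → ℂ) k' = (θ.1 : ↥N → ℂ) k
  have hrel : ∀ (χ : Cfsg.IrrCharacter G) (a b : {θ : Cfsg.IrrCharacter ↥N // ∀ n, ((θ : ↥N → ℂ) n).im = 0}),
      m χ a.1 ≠ 0 → m χ b.1 ≠ 0 → r a b := by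
    intro χ a b ha hb
    obtain ⟨g, hg⟩ := exists_conjN_of_constituents N χ.2 b.1.2 a.1.2 hb ha
    exact ⟨g, fun k k' hk => by
      rw [hg]
      exact congrArg (b.1 : N → ℂ) (Subtype.ext hk)⟩
  choose Θ hΘ using hconst
  let Φ : {χ : Cfsg.IrrCharacter G // ∀ g, ((χ : G → ℂ) g).im = 0} → Quot r := fun χ => Quot.mk r (Θ χ.1 χ.2)
  have hΦs : Function.Surjective Φ := by
    rintro ⟨θ⟩
    obtain ⟨χ, hχ, hm⟩ := hover θ.1 θ.2
    exact ⟨⟨χ, hχ⟩, Quot.sound (hrel χ _ _ (hΘ χ hχ) hm)⟩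
  have hclass : Nat.card {C : ConjClasses G // ∀ g : G, ConjClasses.mk g = C → IsConj g g⁻¹} =
      Nat.card (Quot (fun x y : {x : ↥N // IsConj x x⁻¹} => ∃ g : G, (y.1 : G) = g * x.1 * g⁻¹)) := by
    symm
    refine Nat.card_eq_of_bijective (Quot.lift (fun x => (⟨ConjClasses.mk (x.1 : G), fun g hg => ?_⟩ :
      {C : ConjClasses G // ∀ g : G, ConjClasses.mk g = C → IsConj g g⁻¹})) fun x y ⟨g, hg⟩ => ?_) ⟨?_, ?_⟩
    · obtain ⟨b, hb⟩ := isConj_iff.1 x.2
      have h1 : IsConj g (x.1 : G) := ConjClasses.mk_eq_mk_iff_isConj.1 hg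
      have h2 : IsConj g⁻¹ (x.1 : G)⁻¹ := by
        obtain ⟨d, hd⟩ := isConj_iff.1 h1
        exact isConj_iff.2 ⟨d, by rw [← hd]; group⟩
      exact h1.trans ((isConj_iff.2 ⟨(b : G), congrArg Subtype.val hb⟩).trans h2.symm)
    · exact Subtype.ext (ConjClasses.mk_eq_mk_iff_isConj.2 (isConj_iff.2 ⟨g, hg.symm⟩))
    · rintro ⟨x⟩ ⟨y⟩ h
      obtain ⟨g, hg⟩ := isConj_iff.1 (ConjClasses.mk_eq_mk_iff_isConj.1 (congrArg Subtype.val h))
      exact Quot.sound ⟨g, hg.symm⟩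
    · rintro ⟨C, hC⟩
      obtain ⟨g, rfl⟩ := ConjClasses.exists_rep C
      obtain ⟨c, hc⟩ := isConj_iff.1 (hC g rfl)
      have hgN : g ∈ N := by
        rw [← QuotientGroup.eq_one_iff]
        refine eq_one_of_isConj_inv (by rw [← Subgroup.index_eq_card]; exact hodd) (isConj_iff.2 ⟨(c : G ⧸ N), ?_⟩)
        rw [← QuotientGroup.mk_inv, ← QuotientGroup.mk_mul, ← QuotientGroup.mk_mul, hc, QuotientGroup.mk_inv]
      have hinv : c * g⁻¹ * c⁻¹ = g := by
        have := congrArg (·⁻¹) hc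
        simpa [mul_assoc] using this
      have hpow : ∀ j : ℕ, c ^ (2 * j + 1) * g * (c ^ (2 * j + 1))⁻¹ = g⁻¹ := fun j => by
        induction j with
        | zero => simpa using hc
        | succ j ih =>
          rw [show 2 * (j + 1) + 1 = (2 * j + 1) + 1 + 1 by ring, pow_succ', pow_succ']
          calc c * (c * c ^ (2 * j + 1)) * g * (c * (c * c ^ (2 * j + 1)))⁻¹
              = c * (c * (c ^ (2 * j + 1) * g * (c ^ (2 * j + 1))⁻¹) * c⁻¹) * c⁻¹ := by group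
            _ = g⁻¹ := by rw [ih, hinv, hc]
      obtain ⟨j, hj⟩ := hodd
      refine ⟨Quot.mk _ ⟨⟨g, hgN⟩, isConj_iff.2 ⟨⟨c ^ (2 * j + 1), hj ▸ N.pow_index_mem c⟩, Subtype.ext (hpow j)⟩⟩, ?_⟩
      exact Subtype.ext rfl
  have hcard : Nat.card {χ : Cfsg.IrrCharacter G // ∀ g, ((χ : G → ℂ) g).im = 0} = Nat.card (Quot r) := by
    rw [card_real_irr, hclass]
    exact (Cfsg.Agent.S4866.result N hodd).symm
  have hΦi : Function.Injective Φ := ((Nat.bijective_iff_surjective_and_card Φ).2 ⟨hΦs, hcard⟩).1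
  -- uniqueness
  have hreal : ∀ n, ((φ : N → ℂ) n).im = 0 := by
    rcases indicator_irr φ.2 with ⟨-, h⟩ | ⟨h, -⟩
    · exact absurd (hφ.symm.trans h) one_ne_zero
    · exact h
  obtain ⟨χ, hχr, hχm⟩ := hover φ hreal
  have huniq : ∀ χ' : Cfsg.IrrCharacter G, (∀ g, ((χ' : G → ℂ) g).im = 0) → m χ' φ ≠ 0 → χ' = χ := by
    intro χ' h1 h2
    have e1 : Quot.mk r (Θ χ' h1) = Quot.mk r ⟨φ, hreal⟩ := Quot.sound (hrel χ' _ _ (hΘ χ' h1) h2)
    have e2 : Quot.mk r (Θ χ hχr) = Quot.mk r ⟨φ, hreal⟩ := Quot.sound (hrel χ _ _ (hΘ χ hχr) hχm)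
    exact congrArg Subtype.val (hΦi (a₁ := ⟨χ', h1⟩) (a₂ := ⟨χ, hχr⟩) (e1.trans e2.symm))
  have hνχ : ν χ = 1 := by
    have h := hsum φ
    rw [Finset.sum_eq_single χ ?_ (by simp), hφ] at h
    · rcases indicator_irr χ.2 with ⟨⟨g, hg⟩, -⟩ | ⟨-, h' | ⟨h', -⟩⟩
      · exact absurd (hχr g) hg
      · exact h'
      · exfalso
        obtain ⟨c, hc⟩ := IsCharacter.exists_mult (IsCharacter.restrict (isCharacter_of_irr χ.2) N) φ.2
        change (starRingEnd ℂ) (Cfsg.classInner _ _) * ν χ = 1 at h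
        rw [hc, Complex.conj_natCast, show ν χ = -1 from h', mul_neg_one] at h
        have h3 := congrArg Complex.re h
        rw [Complex.neg_re, Complex.natCast_re, Complex.one_re] at h3
        linarith [(Nat.cast_nonneg c : (0 : ℝ) ≤ c)]
    · intro χ' _ hne
      by_cases h1 : ∀ g, ((χ' : G → ℂ) g).im = 0
      · by_cases h2 : m χ' φ = 0
        · rw [h2, map_zero, zero_mul]
        · exact absurd (huniq χ' h1 h2) hne
      · rw [hzero χ' h1, mul_zero]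
  refine ⟨χ, ⟨hνχ, hN0, hχm⟩, fun χ' ⟨h1, _, h2⟩ => huniq χ' ?_ h2⟩
  rcases indicator_irr χ'.2 with ⟨-, h⟩ | ⟨h, -⟩
  · exact absurd (h1.symm.trans h) one_ne_zero
  · exact h

end Cfsg.Agent.S4873
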