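import Cfsg.Statements.S4881
import Cfsg.Agent.Blocks.ThreeClasses.Reduction

set_option autoImplicit false
set_option linter.style.haveILetI false
open Cfsg

namespace Cfsg.Agent.S4881

/-- Let p be a prime and G a finite p-solvable group with exactly three conjugacy classes of p-elements (counting the identity). Then twice the number of conjugacy classes of p-regular elements of G is at least p − 1, with equality if and only if p is odd, G has order p(p − 1)/2 and G embeds in the one-dimensional affine group over the field with p elements (so G is that group's subgroup of index 2: cyclic of order p extended by cyclic of order (p − 1)/2). -/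
theorem result {G : Type*} [Group G] [Finite G] (p : ℕ) [Fact p.Prime] (hsolv : Cfsg.IsPSolvable p G) (h3 : Nat.card {c : ConjClasses G // ∃ g : G, ConjClasses.mk g = c ∧ ∃ k : ℕ, orderOf g = p ^ k} = 3) : p - 1 ≤ 2 * Nat.card {c : ConjClasses G // ∃ g : G, ConjClasses.mk g = c ∧ ¬ p ∣ orderOf g} ∧ (2 * Nat.card {c : ConjClasses G // ∃ g : G, ConjClasses.mk g = c ∧ ¬ p ∣ orderOf g} = p - 1 ↔ (p ≠ 2 ∧ 2 * Nat.card G = p * (p - 1) ∧ ∃ f : G →* ↥(Cfsg.affineGroup (ZMod p)), Function.Injective f)) := by
  classical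
  let P := {c : ConjClasses G // ∃ g : G, ConjClasses.mk g = c ∧ ∃ k : ℕ, orderOf g = p ^ k}
  have h3' : Cfsg.Lib.Blocks.ThreeClasses.Three p G := by
    intro x y z hx hy hz px py pz
    by_contra hno
    push Not at hno
    obtain ⟨hxy, hxz, hyz⟩ := hno
    let F : Fin 4 → P := ![⟨ConjClasses.mk 1, 1, rfl, 0, by rw [orderOf_one, pow_zero]⟩,
      ⟨ConjClasses.mk x, x, rfl, px⟩, ⟨ConjClasses.mk y, y, rfl, py⟩, ⟨ConjClasses.mk z, z, rfl, pz⟩]
    have hone : ∀ g : G, g ≠ 1 → ConjClasses.mk 1 ≠ ConjClasses.mk g := fun g hg e =>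
      hg (isConj_one_right.1 (ConjClasses.mk_eq_mk_iff_isConj.1 e))
    have hne : ∀ a b : G, ¬ IsConj a b → ConjClasses.mk a ≠ ConjClasses.mk b := fun a b h e =>
      h (ConjClasses.mk_eq_mk_iff_isConj.1 e)
    have hF : Function.Injective F := by
      intro i j h
      have h' := congrArg Subtype.val h
      fin_cases i <;> fin_cases j <;> first
        | rfl
        | exact absurd h' (hone x hx)
        | exact absurd h'.symm (hone x hx)
        | exact absurd h' (hone y hy)
        | exact absurd h'.symm (hone y hy)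
        | exact absurd h' (hone z hz)
        | exact absurd h'.symm (hone z hz)
        | exact absurd h' (hne x y hxy)
        | exact absurd h'.symm (hne x y hxy)
        | exact absurd h' (hne x z hxz)
        | exact absurd h'.symm (hne x z hxz)
        | exact absurd h' (hne y z hyz)
        | exact absurd h'.symm (hne y z hyz)
    have := Nat.card_le_card_of_injective F hF
    rw [Nat.card_fin, show Nat.card P = 3 from h3] at this
    omega
  have hex : ∃ x y : G, x ≠ 1 ∧ y ≠ 1 ∧ (∃ k : ℕ, orderOf x = p ^ k) ∧ (∃ k : ℕ, orderOf y = p ^ k) ∧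
      ¬ IsConj x y := by
    haveI := Fintype.ofFinite P
    let e : P := ⟨ConjClasses.mk 1, 1, rfl, 0, by rw [orderOf_one, pow_zero]⟩
    have hc : (Finset.univ.erase e).card = 2 := by
      rw [Finset.card_erase_of_mem (Finset.mem_univ _), Finset.card_univ, ← Nat.card_eq_fintype_card,
        show Nat.card P = 3 from h3]
    obtain ⟨c, d, hcd, hE⟩ := Finset.card_eq_two.1 hc
    have hce : c ≠ e := Finset.ne_of_mem_erase (hE ▸ Finset.mem_insert_self c {d})
    have hde : d ≠ e := Finset.ne_of_mem_erase (hE ▸ Finset.mem_insert_of_mem (Finset.mem_singleton_self d))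
    obtain ⟨⟨cx, x, rfl, px⟩, ⟨cy, y, rfl, py⟩⟩ := c, d
    refine ⟨x, y, fun h => hce (Subtype.ext (congrArg ConjClasses.mk h)), fun h => hde (Subtype.ext (congrArg ConjClasses.mk h)), px, py,
      fun h => hcd (Subtype.ext (ConjClasses.mk_eq_mk_iff_isConj.2 h))⟩
  obtain ⟨x, y, hx, hy, px, py, hxy⟩ := hex
  show p - 1 ≤ 2 * Nat.card (Cfsg.Lib.Blocks.CoprimeTransitive.RegClass p G) ∧
    (2 * Nat.card (Cfsg.Lib.Blocks.CoprimeTransitive.RegClass p G) = p - 1 ↔ _)
  rcases Cfsg.Lib.Blocks.ThreeClasses.main hsolv h3' hx hy px py hxy with h | ⟨h, hp2, hG, hf⟩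
  · refine ⟨h.le, fun e => absurd e h.ne', ?_⟩
    rintro ⟨hp2, hG, f, hf⟩
    have := Cfsg.Lib.Blocks.ThreeClasses.affine_count hf hG hp2
    omega
  · exact ⟨h.ge, fun _ => ⟨hp2, hG, hf⟩, fun _ => h⟩

end Cfsg.Agent.S4881
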