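import Cfsg.Statements.S4885
import Cfsg.Agent.Blocks.KernelFrattini
-- import your own Cfsg.Agent.* helpers here

set_option autoImplicit false
open Cfsg

namespace Cfsg.Agent.S4885

set_option linter.unusedSectionVars false

open Cfsg.Lib.Blocks Cfsg.Lib.Chars

/-- Let p and q be primes dividing the order of the finite group G, and suppose G is p-solvable and q-solvable. Fix maximal ideals of the algebraic integers containing p and q, defining the principal p-block and the principal q-block. If the irreducible characters of degree prime to p in the principal p-block are exactly the irreducible characters of degree prime to q in the principal q-block, then p = q. -/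
theorem result {G : Type*} [Group G] [Finite G] (p q : ℕ) [Fact p.Prime] [Fact q.Prime] (hp : p ∣ Nat.card G) (hq : q ∣ Nat.card G) (hps : Cfsg.IsPSolvable p G) (hqs : Cfsg.IsPSolvable q G) (Mp Mq : Ideal Cfsg.AlgInt) (hMp : Cfsg.IsPModular p Mp) (hMq : Cfsg.IsPModular q Mq) (h : ∀ χ : Cfsg.IrrCharacter G, (χ ∈ Cfsg.principalBlock Mp G ∧ ¬ p ∣ Cfsg.charDegree (χ : G → ℂ)) ↔ (χ ∈ Cfsg.principalBlock Mq G ∧ ¬ q ∣ Cfsg.charDegree (χ : G → ℂ))) : p = q := by
  classical
  letI := Fintype.ofFinite G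
  by_contra hne
  have hP : p.Prime := Fact.out
  have hQ : q.Prime := Fact.out
  haveI := Cfsg.Lib.Components.pPrimeCore_normal' (G := G) p
  haveI := Cfsg.Lib.Components.pPrimeCore_normal' (G := G) q
  set K := Cfsg.pPrimeCore p G ⊔ Cfsg.pPrimeCore q G with hK
  haveI : K.Normal := Subgroup.sup_normal _ _
  obtain ⟨hXp, hKne⟩ := Cfsg.Lib.KernelFrattini.sup_core_facts hps hp (Cfsg.pPrimeCore q G)
    (fun χ h1 h2 => (mem_principalBlock_iff_of_isPSolvable hMq hqs χ).1
      ((h χ).1 ⟨(mem_principalBlock_iff_of_isPSolvable hMp hps χ).2 h1, h2⟩).1) K hK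
  obtain ⟨hXq, -⟩ := Cfsg.Lib.KernelFrattini.sup_core_facts hqs hq (Cfsg.pPrimeCore p G)
    (fun χ h1 h2 => (mem_principalBlock_iff_of_isPSolvable hMp hps χ).1
      ((h χ).2 ⟨(mem_principalBlock_iff_of_isPSolvable hMq hqs χ).2 h1, h2⟩).1) K
    (by rw [hK, sup_comm])
  haveI := Cfsg.Lib.Components.pCore_normal' (G := G ⧸ K) p
  have hOp : Cfsg.pCore p (G ⧸ K) = ⊥ := by
    rw [eq_bot_iff, ← hXq]
    refine Cfsg.Lib.Components.le_pPrimeCore ?_
    obtain ⟨k, hk⟩ := IsPGroup.iff_card.1 (Cfsg.Lib.Components.isPGroup_pCore (G := G ⧸ K) p)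
    rw [hk]
    exact ((Nat.coprime_primes hP hQ).2 hne).pow_left k
  have hc := centralizer_pCore_le_of_isPSolvable p (Cfsg.Lib.GaschutzYen.isPSolvable_quotient K hps) hXp
  rw [hOp] at hc
  refine hKne (eq_top_iff.2 fun g _ => ?_)
  rw [← QuotientGroup.eq_one_iff, ← Subgroup.mem_bot]
  exact hc (Subgroup.mem_centralizer_iff.2 fun y hy => by
    rw [Subgroup.mem_bot.1 hy, one_mul, mul_one])

end Cfsg.Agent.S4885
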