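import Cfsg.Statements.S4886
import Cfsg.Agent.Blocks.CommSylow.Core
-- import your own Cfsg.Agent.* helpers here

set_option autoImplicit false
open Cfsg

namespace Cfsg.Agent.S4886

open Cfsg.Lib.Chars Cfsg.Lib.Blocks Cfsg.Lib.Blocks.CommSylow

universe u

theorem dvd_index {G : Type u} [Group G] [Finite G] (p q : ℕ) [Fact p.Prime] [Fact q.Prime]
    (hpq : p ≠ q) (M : Ideal Cfsg.AlgInt) (hM : Cfsg.IsPModular p M)
    (hps : Cfsg.IsPSolvable p G) (hqs : Cfsg.IsPSolvable q G)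
    (h : ∀ χ : Cfsg.IrrCharacter G, χ ∈ Cfsg.principalBlock M G →
      ¬ p ∣ Cfsg.charDegree (χ : G → ℂ) → ¬ q ∣ Cfsg.charDegree (χ : G → ℂ)) :
    ¬ q ∣ (Cfsg.pPrimeCore p G).index := by
  haveI := Fintype.ofFinite G
  haveI := Cfsg.Lib.Components.pPrimeCore_normal' (G := G) p
  set K := Cfsg.pPrimeCore p G with hK
  rw [Subgroup.index_eq_card]
  refine not_dvd_card hpq _ (G ⧸ K) rfl (Cfsg.Lib.GaschutzYen.isPSolvable_quotient K hps)
    (Cfsg.Lib.GaschutzYen.isPSolvable_quotient K hqs) ?_ Cfsg.Lib.Coprime.pPrimeCore_quotient_eq_bot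
  intro χ hχ hq
  have hd : deg (inflate K χ : G → ℂ) = deg (χ : G ⧸ K → ℂ) := by
    apply Nat.cast_injective (R := ℂ)
    rw [← irr_apply_one_eq_deg, ← irr_apply_one_eq_deg, inflate_val, QuotientGroup.mk_one]
  refine h (inflate K χ) ((mem_principalBlock_iff_of_isPSolvable hM hps _).2 fun n hn => ?_)
    (fun e => hχ (hd ▸ e)) (show q ∣ deg (inflate K χ : G → ℂ) from hd ▸ hq)
  rw [inflate_val, inflate_val, (QuotientGroup.eq_one_iff n).2 hn, QuotientGroup.mk_one]

theorem coprime_of_commute {G : Type u} [Group G] [Finite G] (p q : ℕ) [Fact p.Prime]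
    [Fact q.Prime] (hpq : p ≠ q) (M : Ideal Cfsg.AlgInt) (hM : Cfsg.IsPModular p M)
    (hps : Cfsg.IsPSolvable p G) (P : Sylow p G) (Q : Sylow q G)
    (hc : ∀ x ∈ (P : Subgroup G), ∀ y ∈ (Q : Subgroup G), x * y = y * x)
    (χ : Cfsg.IrrCharacter G) (hχ : χ ∈ Cfsg.principalBlock M G) :
    ¬ q ∣ Cfsg.charDegree (χ : G → ℂ) := fun hd => by
  haveI := Fintype.ofFinite G
  haveI := Cfsg.Lib.Components.pPrimeCore_normal' (G := G) p
  refine SylowNorm.not_dvd_index_pPrimeCore hpq hps P Q ?_ (dvd_trans hd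
    (deg_dvd_index_of_le_ker χ.2 _ ((mem_principalBlock_iff_of_isPSolvable hM hps χ).1 hχ)))
  exact le_trans (fun x hx => Subgroup.mem_centralizer_iff.2 fun y hy => (hc x hx y hy).symm)
    (Subgroup.centralizer_le_normalizer ((Q : Subgroup G) : Set G))

theorem sylow_le {G : Type u} [Group G] [Finite G] {q : ℕ} [Fact q.Prime] (K : Subgroup G)
    [K.Normal] (hK : ¬ q ∣ K.index) (Q : Sylow q G) : (Q : Subgroup G) ≤ K := by
  obtain ⟨R, hR⟩ := SylowNorm.exists_sylow_le (p := q) K hK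
  obtain ⟨g, rfl⟩ := MulAction.exists_smul_eq G R Q
  rintro _ ⟨y, hy, rfl⟩
  exact Subgroup.Normal.conj_mem inferInstance y (hR hy) g

/-- Let p ≠ q be primes and G a finite group that is p-solvable and q-solvable. Fix maximal ideals of the algebraic integers containing p and q, defining the principal p-block and the principal q-block. Then every irreducible character of degree prime to p in the principal p-block has degree prime to q and every irreducible character of degree prime to q in the principal q-block has degree prime to p, if and only if some Sylow p-subgroup of G commutes elementwise with some Sylow q-subgroup. -/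
theorem result {G : Type*} [Group G] [Finite G] (p q : ℕ) [Fact p.Prime] [Fact q.Prime] (hpq : p ≠ q) (Mp Mq : Ideal Cfsg.AlgInt) (hMp : Cfsg.IsPModular p Mp) (hMq : Cfsg.IsPModular q Mq) (hps : Cfsg.IsPSolvable p G) (hqs : Cfsg.IsPSolvable q G) : ((∀ χ : Cfsg.IrrCharacter G, χ ∈ Cfsg.principalBlock Mp G → ¬ p ∣ Cfsg.charDegree (χ : G → ℂ) → ¬ q ∣ Cfsg.charDegree (χ : G → ℂ)) ∧ (∀ χ : Cfsg.IrrCharacter G, χ ∈ Cfsg.principalBlock Mq G → ¬ q ∣ Cfsg.charDegree (χ : G → ℂ) → ¬ p ∣ Cfsg.charDegree (χ : G → ℂ))) ↔ ∃ (P : Sylow p G) (Q : Sylow q G), ∀ x ∈ (P : Subgroup G), ∀ y ∈ (Q : Subgroup G), x * y = y * x := by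
  classical
  constructor
  · rintro ⟨h1, h2⟩
    have hp := Cfsg.Lib.Components.pPrimeCore_normal' (G := G) p
    have hq := Cfsg.Lib.Components.pPrimeCore_normal' (G := G) q
    set K := Cfsg.pPrimeCore p G
    set L := Cfsg.pPrimeCore q G
    obtain ⟨P⟩ : Nonempty (Sylow p G) := inferInstance
    obtain ⟨Q, hPQ, -, hQK⟩ := exists_invariant_sylow_le K
      (Cfsg.Lib.Components.coprime_card_pPrimeCore p) (dvd_index p q hpq Mp hMp hps hqs h1)
      (P : Subgroup G) P.isPGroup' ⊤ le_top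
      (by rw [Subgroup.index_top]; exact (Fact.out : q.Prime).not_dvd_one)
    have hPL := sylow_le L (dvd_index q p hpq.symm Mq hMq hqs hps h2) P
    refine ⟨P, Q, fun x hx y hy => ?_⟩
    have hQc : (Nat.card L).Coprime (Nat.card (Q : Subgroup G)) := by
      rw [Sylow.card_eq_multiplicity]
      exact (Cfsg.Lib.Components.coprime_card_pPrimeCore q).pow_right _
    have h3 : x * y * x⁻¹ * y⁻¹ ∈ L ⊓ (Q : Subgroup G) := by
      refine ⟨?_, (Q : Subgroup G).mul_mem ((Subgroup.mem_normalizer_iff.1 (hPQ hx) y).1 hy)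
        ((Q : Subgroup G).inv_mem hy)⟩
      rw [show x * y * x⁻¹ * y⁻¹ = x * (y * x⁻¹ * y⁻¹) by group]
      exact L.mul_mem (hPL hx) (hq.conj_mem _ (L.inv_mem (hPL hx)) y)
    rw [Cfsg.Lib.Coprime.inf_eq_bot_of_coprime hQc, Subgroup.mem_bot, mul_inv_eq_one,
      mul_inv_eq_iff_eq_mul] at h3
    exact h3
  · rintro ⟨P, Q, hc⟩
    exact ⟨fun χ hχ _ => coprime_of_commute p q hpq Mp hMp hps P Q hc χ hχ,
      fun χ hχ _ => coprime_of_commute q p hpq.symm Mq hMq hqs Q P
        (fun x hx y hy => (hc y hy x hx).symm) χ hχ⟩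

end Cfsg.Agent.S4886
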