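import Cfsg.Statements.S4889
import Cfsg.Agent.Blocks.IBr.EqualDegreeInertia
import Cfsg.Agent.Blocks.FirstMain
import Cfsg.Agent.Blocks.Star.NilpotentBlock
import Cfsg.Agent.Chars.Galois
import Cfsg.Agent.S4687

set_option autoImplicit false
open Cfsg

namespace Cfsg.Agent.S4889

/-- Let G be a finite group, p a prime, M a maximal ideal of the algebraic integers containing p, and B a p-block of G that has an abelian defect group and in which every irreducible character has height zero. Then all irreducible characters of B have the same degree if and only if B is a nilpotent block. -/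
theorem result {G : Type*} [Group G] [Finite G] (p : ℕ) [Fact p.Prime] (M : Ideal Cfsg.AlgInt) (hM : Cfsg.IsPModular p M) (B : Set (Cfsg.IrrCharacter G)) (hB : Cfsg.IsPBlock M B) (D : Subgroup G) (hD : Cfsg.IsDefectGroup p M B D) (hDab : IsMulCommutative ↥D) (h0 : ∀ χ : Cfsg.IrrCharacter G, χ ∈ B → Cfsg.blockHeight p B (χ : G → ℂ) = 0) : (∃ d : ℕ, ∀ χ : Cfsg.IrrCharacter G, χ ∈ B → Cfsg.charDegree (χ : G → ℂ) = d) ↔ Cfsg.IsNilpotentBlock p M B := by
  classical
  letI := Fintype.ofFinite G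
  have hab : ∀ a ∈ D, ∀ b ∈ D, a * b = b * a := fun a ha b hb =>
    congrArg Subtype.val (hDab.is_comm.comm (⟨a, ha⟩ : ↥D) ⟨b, hb⟩)
  constructor
  · rintro ⟨f, hf⟩
    obtain ⟨c, hmax, htriv⟩ :=
      Cfsg.Lib.Blocks.IBr.exists_trivial_inertia hM hB hD hab (f := f) hf
    exact (Cfsg.Agent.S4687.result p M hM B D c hmax hab).2 htriv
  · intro hnil
    obtain ⟨c, hmax⟩ := Cfsg.Lib.Blocks.exists_pair_of_defect hM hB hD
    letI := Fintype.ofFinite D
    obtain ⟨χ₀, -, -, Φ, hΦ⟩ := Cfsg.Lib.Blocks.Star.nilpotent_characters hM hmax hnil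
    refine ⟨Cfsg.charDegree (χ₀ : G → ℂ), fun χ hχ => ?_⟩
    obtain ⟨ζ, hζ⟩ := Φ.surjective ⟨χ, hχ⟩
    have h1 : ¬ p ∣ orderOf (1 : G) := by rw [orderOf_one]; exact (Fact.out : p.Prime).not_dvd_one
    have h := hΦ ζ 1 h1
    rw [hζ, Cfsg.Lib.Chars.irr_deg_one_of_comm
      (fun a b => Subtype.ext (hab a a.2 b b.2)) ζ.2, one_mul] at h
    show ⌊((χ : G → ℂ) 1).re⌋₊ = _
    rw [show (χ : G → ℂ) 1 = (χ₀ : G → ℂ) 1 from h]
    rfl

end Cfsg.Agent.S4889
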