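import Cfsg.Statements.S4890
import Cfsg.Agent.Blocks.NormalDefectNilpotent
import Cfsg.Agent.Blocks.FirstMain
import Cfsg.Agent.Blocks.Star.NilpotentBlock
import Cfsg.Agent.Chars.DegreeTools
-- import your own Cfsg.Agent.* helpers here

set_option autoImplicit false
open Cfsg

namespace Cfsg.Agent.S4890

/-- Let G be a finite group, p a prime, M a maximal ideal of the algebraic integers containing p, and B a p-block of G with a defect group that is normal in G. Then all height-zero irreducible characters of B have the same degree if and only if B is a nilpotent block. -/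
theorem result {G : Type*} [Group G] [Finite G] (p : ℕ) [Fact p.Prime] (M : Ideal Cfsg.AlgInt) (hM : Cfsg.IsPModular p M) (B : Set (Cfsg.IrrCharacter G)) (hB : Cfsg.IsPBlock M B) (D : Subgroup G) (hD : Cfsg.IsDefectGroup p M B D) (hDn : D.Normal) : (∃ d : ℕ, ∀ χ : Cfsg.IrrCharacter G, χ ∈ B → Cfsg.blockHeight p B (χ : G → ℂ) = 0 → Cfsg.charDegree (χ : G → ℂ) = d) ↔ Cfsg.IsNilpotentBlock p M B := by
  classical
  letI := Fintype.ofFinite G
  haveI := hDn
  obtain ⟨c, hmax⟩ := Cfsg.Lib.Blocks.exists_pair_of_defect hM hB hD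
  have hp : p.Prime := Fact.out
  constructor
  · rintro ⟨d, hd⟩
    exact Cfsg.Lib.Blocks.NormalNil.nilpotent_of_normal hM hmax
      (Cfsg.Lib.Blocks.NormalNil.regular_stab_le_centralizer hM hD hmax (d := d) fun χ hχ h0 => by
        rw [← Cfsg.Lib.Chars.charDegree_eq_deg χ.2]; exact hd χ hχ h0)
  · intro hnil
    letI := Fintype.ofFinite D
    obtain ⟨χ₀, hχ₀, h00, Φ, hΦ⟩ := Cfsg.Lib.Blocks.Star.nilpotent_characters hM hmax hnil
    obtain ⟨g, hg⟩ := Cfsg.Lib.Blocks.exists_defectClass hM hB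
    refine ⟨Cfsg.charDegree (χ₀ : G → ℂ), fun χ hχ h0 => ?_⟩
    obtain ⟨ζ, hζ⟩ := Φ.surjective ⟨χ, hχ⟩
    have h := hΦ ζ 1 (by rw [orderOf_one]; exact hp.not_dvd_one)
    rw [hζ, Cfsg.Lib.Chars.irr_apply_one_eq_deg, Cfsg.Lib.Chars.irr_apply_one_eq_deg,
      Cfsg.Lib.Chars.irr_apply_one_eq_deg] at h
    have h' : Cfsg.Lib.Chars.deg (χ : G → ℂ) =
        Cfsg.Lib.Chars.deg (ζ : D → ℂ) * Cfsg.Lib.Chars.deg (χ₀ : G → ℂ) := by exact_mod_cast h
    have e1 := (Cfsg.Lib.Blocks.blockHeight_eq_zero_iff hM hB hg hχ).1 h0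
    have e2 := (Cfsg.Lib.Blocks.blockHeight_eq_zero_iff hM hB hg hχ₀).1 h00
    rw [h', Nat.factorization_mul (Cfsg.Lib.Chars.deg_irr_pos ζ).ne'
      (Cfsg.Lib.Chars.deg_irr_pos χ₀).ne', Finsupp.add_apply, e2, add_eq_right] at e1
    obtain ⟨k, hk⟩ := IsPGroup.iff_card.1 (Cfsg.Lib.Blocks.IsDefectGroup.isPGroup hD)
    have hdvd := Cfsg.Lib.Chars.IsIrrCharacter.deg_dvd ζ.2
    rw [hk] at hdvd
    obtain ⟨i, -, hi⟩ := (Nat.dvd_prime_pow hp).1 hdvd
    rw [hi, hp.factorization_pow, Finsupp.single_eq_same] at e1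
    rw [Cfsg.Lib.Chars.charDegree_eq_deg χ.2, Cfsg.Lib.Chars.charDegree_eq_deg χ₀.2, h', hi, e1,
      pow_zero, one_mul]

end Cfsg.Agent.S4890
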