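import Cfsg.Statements.S4892
import Cfsg.Agent.Blocks.RationalExtension
import Cfsg.Agent.Coprime.Basic

set_option autoImplicit false
set_option maxHeartbeats 800000
open Cfsg Cfsg.Lib Cfsg.Lib.Chars Cfsg.Lib.Blocks

namespace Cfsg.Agent.S4892

/-- Let p be an odd prime, M a maximal ideal of the algebraic integers containing p, N a normal subgroup of the finite group G, and θ an irreducible character of N that is G-invariant, of degree prime to p, p-rational (values in the field generated over ℚ by a root of unity of order prime to p) and lies in the principal p-block of N. Let Q be a Sylow p-subgroup of N and suppose the index of N·C_G(Q) in G is a power of p. Then θ extends to a p-rational irreducible character of G lying in the principal p-block of G. -/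
theorem result {G : Type*} [Group G] [Finite G] (p : ℕ) [Fact p.Prime] (hp : p ≠ 2) (M : Ideal Cfsg.AlgInt) (hM : Cfsg.IsPModular p M) (N : Subgroup G) [N.Normal] (θ : Cfsg.IrrCharacter ↥N) (hinv : ∀ g : G, ∀ n n' : ↥N, (n' : G) = g * (n : G) * g⁻¹ → (θ : ↥N → ℂ) n' = (θ : ↥N → ℂ) n) (hdeg : ¬ p ∣ Cfsg.charDegree (θ : ↥N → ℂ)) (hrat : ∃ m : ℕ, ¬ p ∣ m ∧ ∀ n : ↥N, (θ : ↥N → ℂ) n ∈ IntermediateField.adjoin ℚ ({Complex.exp (2 * Real.pi * Complex.I / m)} : Set ℂ)) (hB : θ ∈ Cfsg.principalBlock M ↥N) (Q : Sylow p ↥N) (hidx : ∃ a : ℕ, (N ⊔ Subgroup.centralizer (((Q : Subgroup ↥N).map N.subtype : Subgroup G) : Set G)).index = p ^ a) : ∃ χ : Cfsg.IrrCharacter G, χ ∈ (Cfsg.principalBlock M G) ∧ (∃ n : ℕ, ¬ p ∣ n ∧ ∀ g : G, (χ : G → ℂ) g ∈ IntermediateField.adjoin ℚ ({Complex.exp (2 * Real.pi * Complex.I / n)} : Set ℂ)) ∧ ∀ n : ↥N, (χ : G → ℂ) n = (θ : ↥N → ℂ) n := by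
  classical
  have := Fintype.ofFinite G
  have := Fintype.ofFinite N
  have hpp : p.Prime := Fact.out
  obtain ⟨m, hm, hθm⟩ := hrat
  obtain ⟨α, hα⟩ := hidx
  set d := Cfsg.charDegree (θ : ↥N → ℂ) with hd0
  have hd : (θ : ↥N → ℂ) 1 = d := by
    obtain ⟨e, he, he1⟩ := IsIrrCharacter.apply_one θ.2
    rw [hd0, Cfsg.charDegree, he1, Complex.natCast_re, Nat.floor_natCast]
  -- the field
  have hG0 : Nat.card G ≠ 0 := Nat.card_pos.ne'
  set a := (Nat.card G).factorization p with ha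
  set n := ordCompl[p] (Nat.card G) * m with hn
  have hpn : ¬ p ∣ n := fun h => by
    rcases hpp.dvd_mul.1 h with h | h
    · exact Nat.not_dvd_ordCompl hpp hG0 h
    · exact hm h
  have hn0 : n ≠ 0 := fun h => hpn (h ▸ dvd_zero p)
  have : NeZero n := ⟨hn0⟩
  have hGn : Nat.card G ∣ p ^ a * n :=
    ⟨m, by rw [hn, ← mul_assoc, ha, Nat.ordProj_mul_ordCompl_eq_self]⟩
  have : NeZero (p ^ a * n) := ⟨mul_ne_zero (pow_ne_zero _ hpp.ne_zero) hn0⟩
  have hzn : ∀ (σ : ℂ ≃+* ℂ) (k : ℕ), IsGalConj σ (p ^ a * n) k → σ (zetaC n) = zetaC n →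
      k ≡ 1 [MOD n] := fun σ k hσ hfix => by
    have hz : zetaC n ^ (p ^ a * n) = 1 := by
      rw [mul_comm, pow_mul, (isPrimitiveRoot_zetaC n).pow_eq_one, one_pow]
    have h2 : zetaC n ^ k = zetaC n ^ 1 := by rw [pow_one, ← hσ _ hz, hfix]
    have hord : ∀ j : ℕ, zetaC n ^ j = zetaC n ^ (j % n) := fun j => by
      conv_lhs => rw [← Nat.div_add_mod j n, pow_add, pow_mul, (isPrimitiveRoot_zetaC n).pow_eq_one,
        one_pow, one_mul]
    rw [hord k, hord 1] at h2
    exact (isPrimitiveRoot_zetaC n).pow_inj (Nat.mod_lt _ (Nat.pos_of_ne_zero hn0))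
      (Nat.mod_lt _ (Nat.pos_of_ne_zero hn0)) h2
  have hσθ : ∀ σ : ℂ ≃+* ℂ, σ (zetaC n) = zetaC n → ∀ x : N, σ ((θ : ↥N → ℂ) x) = (θ : ↥N → ℂ) x := by
    intro σ hfix x
    refine fixed_adjoin (fun s hs => ?_) _ (hθm x)
    rw [Set.mem_singleton_iff.1 hs]
    have hm0 : m ≠ 0 := fun h => hm (h ▸ dvd_zero p)
    have : NeZero m := ⟨hm0⟩
    have hw : Complex.exp (2 * Real.pi * Complex.I / m) ^ n = 1 := by
      rw [hn, mul_comm (ordCompl[p] (Nat.card G)) m, pow_mul,
        (Complex.isPrimitiveRoot_exp m hm0).pow_eq_one, one_pow]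
    obtain ⟨i, -, hi⟩ := (isPrimitiveRoot_zetaC n).eq_pow_of_pow_eq_one hw
    rw [← hi, map_pow, hfix]
  -- the determinantal order of `θ`
  have hoθ : ¬ p ∣ Cfsg.detOrder (θ : ↥N → ℂ) := by
    have hcop : Nat.Coprime (p ^ (a + 1)) n := Nat.Coprime.pow_left _ (hpp.coprime_iff_not_dvd.2 hpn)
    set k : ℕ := (Nat.chineseRemainder hcop 2 1 : ℕ) with hk
    have hk1 : k ≡ 2 [MOD p ^ (a + 1)] := (Nat.chineseRemainder hcop 2 1).2.1
    have hk2 : k ≡ 1 [MOD n] := (Nat.chineseRemainder hcop 2 1).2.2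
    have hk1' : k ≡ 2 [MOD p] := hk1.of_dvd (dvd_pow_self p (Nat.succ_ne_zero a))
    have hpk : ¬ p ∣ k := fun h => by
      have h2 : (2 : ℕ) ≡ 0 [MOD p] := hk1'.symm.trans (Nat.modEq_zero_iff_dvd.2 h)
      exact hp ((Nat.prime_dvd_prime_iff_eq hpp Nat.prime_two).1 (Nat.modEq_zero_iff_dvd.1 h2))
    have hkc : k.Coprime (p ^ a * n) := Nat.Coprime.mul_right
      (Nat.Coprime.pow_right a ((hpp.coprime_iff_not_dvd.2 hpk).symm)) (by
        rw [Nat.Coprime, hk2.gcd_eq, Nat.gcd_one_left])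
    obtain ⟨σ, hσ⟩ := exists_galConj_auto hkc
    have hfix : σ (zetaC n) = zetaC n := by
      have hz : zetaC n ^ (p ^ a * n) = 1 := by
        rw [mul_comm, pow_mul, (isPrimitiveRoot_zetaC n).pow_eq_one, one_pow]
      rw [hσ _ hz]
      conv_rhs => rw [← pow_one (zetaC n)]
      conv_lhs => rw [← Nat.div_add_mod k n, pow_add, pow_mul, (isPrimitiveRoot_zetaC n).pow_eq_one,
        one_pow, one_mul, hk2]
      conv_rhs => rw [← Nat.div_add_mod 1 n, pow_add, pow_mul, (isPrimitiveRoot_zetaC n).pow_eq_one,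
        one_pow, one_mul]
    have hσd := detChar_map_auto (isCharacter_of_irr θ.2) σ
    rw [show (fun x => σ ((θ : ↥N → ℂ) x)) = (θ : ↥N → ℂ) from funext (hσθ σ hfix)] at hσd
    obtain ⟨δ, hδ⟩ := detChar_is_hom (isCharacter_of_irr θ.2)
    have hδk : δ ^ k = δ := by
      ext1 x
      apply Units.ext
      have h := congrFun hσd x
      rw [hδ] at h
      simp only at h
      rw [MonoidHom.pow_apply, Units.val_pow_eq_pow_val]
      refine Eq.trans ?_ h.symm
      refine (hσ _ ?_).symm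
      obtain ⟨q, hq⟩ := (Subgroup.card_subgroup_dvd_card N).trans hGn
      rw [← Units.val_pow_eq_pow_val, ← map_pow, hq, pow_mul, pow_card_eq_one', one_pow, map_one,
        Units.val_one]
    rw [Cfsg.detOrder, hδ, orderOf_linear]
    intro hdvd
    have hk0 : k ≠ 0 := fun h => hpk (h ▸ dvd_zero p)
    have hdk : orderOf δ ∣ k - 1 := by
      refine orderOf_dvd_of_pow_eq_one (MonoidHom.ext fun x => ?_)
      have h := DFunLike.congr_fun hδk x
      rw [MonoidHom.pow_apply] at h ⊢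
      rw [MonoidHom.one_apply]
      refine mul_right_cancel (b := δ x) ?_
      rw [← pow_succ, Nat.sub_add_cancel (Nat.pos_of_ne_zero hk0), h, one_mul]
    have h21 : (2 : ℕ) ≡ 1 [MOD p] := hk1'.symm.trans
      ((Nat.modEq_iff_dvd' (Nat.pos_of_ne_zero hk0)).2 (hdvd.trans hdk)).symm
    have h1 := (Nat.modEq_iff_dvd' (show 1 ≤ 2 by norm_num)).1 h21.symm
    exact hpp.not_dvd_one h1
  -- the intermediate subgroup
  set Q' : Subgroup G := (Q : Subgroup ↥N).map N.subtype with hQ'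
  set H : Subgroup G := N ⊔ Subgroup.centralizer (Q' : Set G) with hH
  have hNH : N ≤ H := le_sup_left
  have hCnorm : Subgroup.normalizer (Q' : Set G) ≤
      Subgroup.normalizer ((Subgroup.centralizer (Q' : Set G) : Subgroup G) : Set G) := by
    have key : ∀ g ∈ Subgroup.normalizer (Q' : Set G), ∀ c ∈ Subgroup.centralizer (Q' : Set G),
        g * c * g⁻¹ ∈ Subgroup.centralizer (Q' : Set G) := by
      intro g hg c hc
      rw [Subgroup.mem_centralizer_iff]
      intro x hx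
      have hx' : g⁻¹ * x * g ∈ Q' := by
        have := (Subgroup.mem_normalizer_iff.1 ((Subgroup.normalizer (Q' : Set G)).inv_mem hg) x).1 hx
        simpa using this
      have h := Subgroup.mem_centralizer_iff.1 hc _ hx'
      calc x * (g * c * g⁻¹) = g * ((g⁻¹ * x * g) * c) * g⁻¹ := by group
        _ = g * (c * (g⁻¹ * x * g)) * g⁻¹ := by rw [h]
        _ = g * c * g⁻¹ * x := by group
    intro g hg
    rw [Subgroup.mem_normalizer_iff]
    intro c
    refine ⟨key g hg c, fun h => ?_⟩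
    have := key g⁻¹ ((Subgroup.normalizer (Q' : Set G)).inv_mem hg) _ h
    simpa [mul_assoc] using this
  have hHn : H.Normal := by
    rw [← Subgroup.normalizer_eq_top_iff, ← top_le_iff, ← Sylow.normalizer_sup_eq_top Q, sup_le_iff]
    refine ⟨fun g hg => ?_, fun g hg => Subgroup.le_normalizer (hNH hg)⟩
    have hgC := hCnorm hg
    have h1 : Coprime.conjMap g N = N := Coprime.conjMap_eq_self
      (by rw [Subgroup.normalizer_eq_top (H := N)]; exact Subgroup.mem_top g)
    exact Coprime.conjMap_eq_self_iff.1 (by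
      rw [hH, Coprime.conjMap_sup, h1, Coprime.conjMap_eq_self hgC])
  have := Fintype.ofFinite H
  let N1 : Subgroup H := N.subgroupOf H
  have := Fintype.ofFinite N1
  let e : N1 ≃* N := Subgroup.subgroupOfEquivOfLe hNH
  let θ1 : Cfsg.IrrCharacter N1 := irrEquiv e θ
  have hθ1B : θ1 ∈ Cfsg.principalBlock M N1 := by
    have h : Cfsg.SameBlock M (principalChar N : N → ℂ) (θ : N → ℂ) := hB
    exact (sameBlock_irrEquiv e (principalChar N) θ).2 h
  have hQN : Q' ≤ N := Subgroup.map_subtype_le _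
  have hgood : GoodCosets p N1 := by
    refine goodCosets_of_supplement N1 (Q'.subgroupOf H) (fun x hx => hQN hx) ?_ ?_
    · show ¬ p ∣ (Q'.subgroupOf H).relIndex (N.subgroupOf H)
      rw [Subgroup.relIndex_subgroupOf hNH]
      show ¬ p ∣ (Q'.subgroupOf N).index
      rw [hQ', Subgroup.subgroupOf, Subgroup.comap_map_eq_self_of_injective N.subtype_injective]
      exact Q.not_dvd_index
    · rw [eq_top_iff]
      have hle : (Subgroup.centralizer (Q' : Set G)).subgroupOf H ≤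
          Subgroup.centralizer ((Q'.subgroupOf H : Subgroup H) : Set H) := fun c hc =>
        Subgroup.mem_centralizer_iff.2 fun x hx =>
          Subtype.ext (Subgroup.mem_centralizer_iff.1 hc (x : G) hx)
      refine le_trans ?_ (sup_le_sup_left hle _)
      rw [← Subgroup.subgroupOf_sup hNH le_sup_right, Subgroup.subgroupOf_self]
  have hd1 : (θ1 : N1 → ℂ) 1 = d := by
    rw [irrEquiv_apply, map_one, hd]
  have ho1 : ¬ p ∣ Cfsg.detOrder (θ1 : N1 → ℂ) := by
    intro hdvd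
    apply hoθ
    refine hdvd.trans ?_
    obtain ⟨r, ρ, hρ⟩ := isCharacter_of_irr θ.2
    have h : Cfsg.detChar (θ1 : N1 → ℂ) = fun x => Cfsg.detChar (θ : ↥N → ℂ) (e x) := funext fun x => by
      let ρ1 : Representation ℂ N1 (Fin r → ℂ) := ρ.comp e.toMonoidHom
      have h1 : (θ1 : N1 → ℂ) = ρ1.character := funext fun y => by
        rw [irrEquiv_apply, ← hρ]; rfl
      rw [h1, ← hρ, detChar_character ρ1 x, detChar_character ρ (e x)]
      rfl
    rw [Cfsg.detOrder, Cfsg.detOrder, h]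
    exact orderOf_map_dvd ({ toFun := fun f x => f (e x), map_one' := rfl, map_mul' := fun _ _ => rfl } :
      (N → ℂ) →* (N1 → ℂ)) _
  obtain ⟨χ1, hχ1res, hχ1l, hχ1o⟩ := exists_augLike_det hM hθ1B hgood hd1 hdeg ho1
  have hχ1d : (χ1 : H → ℂ) 1 = d := by rw [← hd1]; exact hχ1res 1
  have huniq : ∀ χ' : Cfsg.IrrCharacter H, (∀ x : N1, (χ' : H → ℂ) x = (θ1 : N1 → ℂ) x) →
      AugLike M N1 (χ' : H → ℂ) → ¬ p ∣ Cfsg.detOrder (χ' : H → ℂ) → χ' = χ1 := fun χ' h1 h2 h3 =>
    eq_of_augLike_det hM hgood hd1 hdeg hχ1res h1 hχ1l h2 hχ1o h3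
  have hinvH : ∀ g : G, conjN H g (χ1 : H → ℂ) = χ1 := by
    intro g
    let eg : H ≃* H := MulAut.conjNormal g
    have h := huniq ⟨fun x => (χ1 : H → ℂ) (eg x), IsIrrCharacter.comp_mulEquiv χ1.2 eg⟩ ?_ ?_ ?_
    · rw [conjN_eq_comp]
      exact congrArg Subtype.val h
    · intro x
      have hx : (eg (x : H) : G) ∈ N := by
        rw [MulAut.conjNormal_apply]
        exact ‹N.Normal›.conj_mem _ x.2 g
      refine (hχ1res ⟨eg x, hx⟩).trans ?_
      rw [irrEquiv_apply, irrEquiv_apply]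
      exact hinv g (e x) (e ⟨eg x, hx⟩) (MulAut.conjNormal_apply g (x : H))
    · refine hχ1l.comp_mulEquiv eg fun x => ?_
      show (MulAut.conjNormal g x : G) ∈ N ↔ (x : G) ∈ N
      rw [MulAut.conjNormal_apply]
      exact ⟨fun h => by simpa [mul_assoc] using ‹N.Normal›.conj_mem _ h g⁻¹,
        fun h => ‹N.Normal›.conj_mem _ h g⟩
    · show ¬ p ∣ Cfsg.detOrder fun x => (χ1 : H → ℂ) (eg x)
      rw [detOrder_comp_mulEquiv (isCharacter_of_irr χ1.2) eg]
      exact hχ1o
  have hcopG : Nat.Coprime H.index (Cfsg.detOrder (χ1 : H → ℂ) * d) := by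
    rw [hα]
    exact Nat.Coprime.pow_left _ (Nat.Coprime.mul_right (hpp.coprime_iff_not_dvd.2 hχ1o)
      (hpp.coprime_iff_not_dvd.2 hdeg))
  obtain ⟨χ, ⟨hχ, hχres, hχo⟩, hχu⟩ := exists_canonical_extension H χ1.2 hinvH hχ1d hcopG
  refine ⟨⟨χ, hχ⟩, ?_, ⟨n, hpn, fun g => ?_⟩, fun x => ?_⟩
  · have hB1 : Cfsg.IsPBlock M (Cfsg.principalBlock M H) := isPBlock_blockOf (principalChar H)
    have hG1 : Cfsg.IsPBlock M (Cfsg.principalBlock M G) := isPBlock_blockOf (principalChar G)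
    obtain ⟨B, -, hBu⟩ := existsUnique_covering hM H hα hB1
    have hχB : Cfsg.IsPBlock M (Cfsg.blockOf M χ) := ⟨⟨χ, hχ⟩, rfl⟩
    have h1H : principalChar H ∈ Cfsg.principalBlock M H := mem_blockOf_self hM (principalChar H)
    have h1G : principalChar G ∈ Cfsg.principalBlock M G := mem_blockOf_self hM (principalChar G)
    have e1 : Cfsg.principalBlock M G = B := by
      refine hBu _ ⟨hG1, _, h1G, _, h1H, ?_⟩
      have e : (fun x : H => (principalChar G : G → ℂ) x) = (principalChar H : H → ℂ) :=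
        funext fun _ => rfl
      rw [e, classInner_self_irr (principalChar H).2]
      exact one_ne_zero
    have e2 : Cfsg.blockOf M χ = B := by
      refine hBu _ ⟨hχB, ⟨χ, hχ⟩, mem_blockOf_self hM (⟨χ, hχ⟩ : Cfsg.IrrCharacter G), χ1,
        hχ1l.mem_principalBlock hM, ?_⟩
      have e : (fun x : H => χ x) = (χ1 : H → ℂ) := funext hχres
      show Cfsg.classInner (fun x : H => χ x) (χ1 : H → ℂ) ≠ 0
      rw [e, classInner_self_irr χ1.2]
      exact one_ne_zero
    rw [e1, ← e2]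
    exact mem_blockOf_self hM (⟨χ, hχ⟩ : Cfsg.IrrCharacter G)
  · show χ g ∈ IntermediateField.adjoin ℚ ({zetaC n} : Set ℂ)
    have hzc : zetaC n ∈ cycField (p ^ a * n) := mem_cycField_of_pow_eq_one _ (by
      rw [mul_comm, pow_mul, (isPrimitiveRoot_zetaC n).pow_eq_one, one_pow])
    refine mem_adjoin_of_fixed (N := p ^ a * n) (fun s hs => by rw [Set.mem_singleton_iff.1 hs]; exact hzc)
      (IsCharacter.mem_cycField (isCharacter_of_irr hχ) ((orderOf_dvd_natCard g).trans hGn))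
      fun σ k hkc hσ hfix => ?_
    have hfixn : σ (zetaC n) = zetaC n := hfix _ rfl
    have hσ' : IsGalConj σ (p ^ a * n) (k + p ^ a * n) := fun z hz => by
      rw [hσ z hz, pow_add, hz, mul_one]
    have hk1 := hzn σ _ hσ' hfixn
    have hk0 : k + p ^ a * n ≠ 0 := by
      have := NeZero.ne (p ^ a * n)
      omega
    have hσ1 : (fun x => σ ((χ1 : H → ℂ) x)) = (χ1 : H → ℂ) := by
      refine congrArg Subtype.val (huniq ⟨_, IsIrrCharacter.map_auto χ1.2 σ⟩ (fun x => ?_) ?_ ?_)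
      · show σ ((χ1 : H → ℂ) x) = _
        rw [hχ1res, irrEquiv_apply, hσθ σ hfixn]
      · have hHdvd : Nat.card H ∣ p ^ a * n := (Subgroup.card_subgroup_dvd_card H).trans hGn
        exact hχ1l.map_auto hM hχ1d hdeg σ hHdvd hσ' hHdvd hk1 hk0
      · show ¬ p ∣ Cfsg.detOrder fun x => σ ((χ1 : H → ℂ) x)
        rw [detOrder_map_auto' (isCharacter_of_irr χ1.2) σ]
        exact hχ1o
    have h := hχu (fun x => σ (χ x)) (IsIrrCharacter.map_auto hχ σ)
      (fun x => by rw [hχres x]; exact congrFun hσ1 x) (by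
        rw [detOrder_map_auto' (isCharacter_of_irr hχ) σ, hχo]
        exact (Nat.coprime_mul_iff_right.1 hcopG).1)
    exact congrFun h g
  · show χ (x : G) = _
    have h1 := hχres ⟨(x : G), hNH x.2⟩
    rw [h1]
    exact (hχ1res ⟨⟨x, hNH x.2⟩, x.2⟩).trans rfl

end Cfsg.Agent.S4892
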