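import Cfsg.Statements.S4911
import Cfsg.Agent.Blocks.GlaubermanApi
import Cfsg.Agent.Chars.Real
-- import your own Cfsg.Agent.* helpers here

set_option autoImplicit false
open Cfsg

namespace Cfsg.Agent.S4911

set_option linter.unusedSectionVars false

open Cfsg.Lib.Blocks Cfsg.Lib.Chars Cfsg.Lib.Glauberman

/-- Let P and K be subgroups of a finite group with P a p-group normalizing K and K of order prime to p. Then the number of P-invariant real-valued irreducible complex characters of K equals the number of conjugacy classes of K that are real (closed under inversion) and P-invariant. Moreover, if every real-valued irreducible character of K is P-invariant, then every real element of K (one conjugate in K to its inverse) is conjugate in K to an element centralized by P. -/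
theorem result {G : Type*} [Group G] [Finite G] (p : ℕ) [Fact p.Prime] (P K : Subgroup G) (hP : IsPGroup p ↥P) (hK : ¬ p ∣ Nat.card ↥K) (hPK : P ≤ Subgroup.normalizer (K : Set G)) : Nat.card {θ : Cfsg.IrrCharacter ↥K // (∀ k : ↥K, ((θ : ↥K → ℂ) k).im = 0) ∧ (∀ x ∈ P, ∀ k k' : ↥K, (k' : G) = x * (k : G) * x⁻¹ → (θ : ↥K → ℂ) k' = (θ : ↥K → ℂ) k)} = Nat.card {c : ConjClasses ↥K // (∀ k : ↥K, ConjClasses.mk k = c → IsConj k k⁻¹) ∧ ∀ k : ↥K, ConjClasses.mk k = c → ∀ x ∈ P, ∀ k' : ↥K, (k' : G) = x * (k : G) * x⁻¹ → ConjClasses.mk k' = c} ∧ ((∀ θ : Cfsg.IrrCharacter ↥K, (∀ k : ↥K, ((θ : ↥K → ℂ) k).im = 0) → (∀ x ∈ P, ∀ k k' : ↥K, (k' : G) = x * (k : G) * x⁻¹ → (θ : ↥K → ℂ) k' = (θ : ↥K → ℂ) k)) → ∀ k : ↥K, IsConj k k⁻¹ → ∃ k' : ↥K, IsConj k k' ∧ ∀ x ∈ P, x * (k' : G) * x⁻¹ = (k' : G)) := by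
  classical
  letI := Fintype.ofFinite G
  letI := Fintype.ofFinite K
  letI := Fintype.ofFinite ↥(K ⊓ Subgroup.centralizer (P : Set G))
  have hnorm : ∀ s ∈ P, ∀ g ∈ K, s * g * s⁻¹ ∈ K := fun s hs g hg =>
    (Subgroup.mem_normalizer_iff.1 (hPK hs) g).1 hg
  have hfix := isFixed_opHom hnorm (C := K ⊓ Subgroup.centralizer (P : Set G)) rfl inf_le_left
  have hcount := card_real_inv_chars hnorm hP hK
    (C := K ⊓ Subgroup.centralizer (P : Set G)) rfl inf_le_left
  have hinv : ∀ θ : Cfsg.IrrCharacter K, Inv (opHom K P hnorm) (θ : K → ℂ) ↔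
      ∀ x ∈ P, ∀ k k' : K, (k' : G) = x * (k : G) * x⁻¹ → (θ : K → ℂ) k' = (θ : K → ℂ) k :=
    fun θ => inv_opHom_iff hnorm _
  have hcls : ∀ c : ConjClasses K, InvClass (opHom K P hnorm).range c ↔
      ∀ k : K, ConjClasses.mk k = c → ∀ x ∈ P, ∀ k' : K, (k' : G) = x * (k : G) * x⁻¹ →
        ConjClasses.mk k' = c := fun c => (invClass_range_iff hnorm c).trans
    ⟨fun h k hk x hx k' he => h x hx k k' he hk, fun h x hx k k' he hk => h k hk x hx k' he⟩
  refine ⟨?_, fun hall k hk => ?_⟩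
  · rw [Nat.card_congr (Equiv.subtypeEquivRight fun θ => and_congr_right fun _ => (hinv θ).symm),
      hcount]
    exact Nat.card_congr (Equiv.subtypeEquivRight fun c => and_congr_right fun _ => hcls c)
  · have h1 : Nat.card {θ : Cfsg.IrrCharacter K // (∀ k : K, ((θ : K → ℂ) k).im = 0) ∧
        Inv (opHom K P hnorm) (θ : K → ℂ)} =
        Nat.card {θ : Cfsg.IrrCharacter K // ∀ k : K, ((θ : K → ℂ) k).im = 0} :=
      Nat.card_congr (Equiv.subtypeEquivRight fun θ =>
        ⟨fun h => h.1, fun h => ⟨h, (hinv θ).2 (hall θ h)⟩⟩)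
    rw [hcount, card_real_irr] at h1
    -- all real classes are invariant
    have hall' : InvClass (opHom K P hnorm).range (ConjClasses.mk k) := by
      by_contra hnot
      have hlt : Nat.card {c : ConjClasses K // (∀ g : K, ConjClasses.mk g = c → IsConj g g⁻¹) ∧
          InvClass (opHom K P hnorm).range c} <
          Nat.card {c : ConjClasses K // ∀ g : K, ConjClasses.mk g = c → IsConj g g⁻¹} := by
        letI : Fintype (ConjClasses K) := Fintype.ofFinite _
        rw [Nat.card_eq_fintype_card, Nat.card_eq_fintype_card, Fintype.card_subtype,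
          Fintype.card_subtype]
        refine Finset.card_lt_card ((Finset.ssubset_iff_of_subset
          (Finset.monotone_filter_right _ fun c _ hc => hc.1)).2 ⟨ConjClasses.mk k, ?_,
            fun h => hnot (Finset.mem_filter.1 h).2.2⟩)
        rw [Finset.mem_filter]
        refine ⟨Finset.mem_univ _, fun g hg => ?_⟩
        obtain ⟨x, hx⟩ := isConj_iff.1 (ConjClasses.mk_eq_mk_iff_isConj.1 hg)
        refine (ConjClasses.mk_eq_mk_iff_isConj.1 hg).trans (hk.trans (isConj_iff.2 ⟨x⁻¹, ?_⟩))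
        rw [← hx]; group
      omega
    obtain ⟨c, hc⟩ := exists_fixed_isConj hP hK hfix
      fun a => (ConjClasses.mk_eq_mk_iff_isConj.1 (hall' _ ⟨a, rfl⟩ k rfl)).symm
    exact ⟨_, hc, fun x hx => congrArg Subtype.val (apply_iota hfix ⟨x, hx⟩ c)⟩

end Cfsg.Agent.S4911
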