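import Cfsg.Statements.S4914
import Cfsg.Agent.Blocks.RelativeGlauberman
-- import your own Cfsg.Agent.* helpers here

set_option autoImplicit false
open Cfsg

namespace Cfsg.Agent.S4914

/-- Let P and K be subgroups of a finite group G with P a p-group normalizing K, and suppose K has a normal Sylow p-subgroup Q. Let C be the subgroup of those k ∈ K whose commutator with every element of P lies in Q (so that C/Q is the fixed-point subgroup of P on K/Q). Then there is a bijection f from the P-invariant irreducible complex characters of K onto the P-invariant irreducible complex characters of C such that, for every P-invariant irreducible character χ of K, the multiplicity of f(χ) in the restriction of χ to C is a natural number congruent to 1 or to −1 modulo p, every other P-invariant irreducible character of C occurs in that restriction with multiplicity divisible by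 p, and the degrees of χ and f(χ) are congruent modulo p up to sign. -/
theorem result {G : Type*} [Group G] [Finite G] (p : ℕ) [Fact p.Prime] (P K Q C : Subgroup G) (hP : IsPGroup p ↥P) (hPK : P ≤ Subgroup.normalizer (K : Set G)) (hQK : Q ≤ K) (hQn : ∀ k ∈ K, ∀ q ∈ Q, k * q * k⁻¹ ∈ Q) (hQp : ∃ a : ℕ, Nat.card ↥Q = p ^ a) (hQsyl : ¬ p ∣ Q.relIndex K) (hCK : C ≤ K) (hC : ∀ k : G, k ∈ C ↔ (k ∈ K ∧ ∀ x ∈ P, x * k * x⁻¹ * k⁻¹ ∈ Q)) : ∃ f : {χ : Cfsg.IrrCharacter ↥K // (∀ x ∈ P, ∀ k k' : ↥K, (k' : G) = x * (k : G) * x⁻¹ → (χ : ↥K → ℂ) k' = (χ : ↥K → ℂ) k)} → {ξ : Cfsg.IrrCharacter ↥C // (∀ x ∈ P, ∀ k k' : ↥C, (k' : G) = x * (k : G) * x⁻¹ → (ξ : ↥C → ℂ) k' = (ξ : ↥C → ℂ) k)}, Function.Bijective f ∧ ∀ χ, (∀ ξ : {ξ : Cfsg.IrrCharacter ↥C // (∀ x ∈ P, ∀ k k' : ↥C, (k' : G) = x * (k : G) * x⁻¹ → (ξ : ↥C → ℂ) k' = (ξ : ↥C → ℂ) k)}, ∃ m : ℕ, (Nat.card ↥C : ℂ)⁻¹ * ∑ᶠ c : ↥C, (χ.1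 : ↥K → ℂ) (Subgroup.inclusion hCK c) * (starRingEnd ℂ) ((ξ.1 : ↥C → ℂ) c) = (m : ℂ) ∧ (ξ = f χ → ((m : ZMod p) = 1 ∨ (m : ZMod p) = -1)) ∧ (ξ ≠ f χ → p ∣ m)) ∧ ((Cfsg.charDegree ((f χ).1 : ↥C → ℂ) : ZMod p) = (Cfsg.charDegree (χ.1 : ↥K → ℂ) : ZMod p) ∨ (Cfsg.charDegree ((f χ).1 : ↥C → ℂ) : ZMod p) = -(Cfsg.charDegree (χ.1 : ↥K → ℂ) : ZMod p)) := by
  classical
  have := Fintype.ofFinite ↥K
  have := Fintype.ofFinite ↥C
  have hnorm : ∀ s ∈ P, ∀ g ∈ K, s * g * s⁻¹ ∈ K := fun s hs g hg =>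
    (Subgroup.mem_normalizer_iff.1 (hPK hs) g).1 hg
  have hn : (Q.subgroupOf K).Normal := ⟨fun q hq k => hQn k k.2 q hq⟩
  have hmem : ∀ x ∈ P, ∀ q ∈ Q, x * q * x⁻¹ ∈ Q := by
    intro x hx q hq
    obtain ⟨a, ha⟩ := hQp
    let y : ↥K := ⟨x * q * x⁻¹, hnorm x hx q (hQK hq)⟩
    have hq1 : q ^ p ^ a = 1 := by
      rw [← ha]
      exact congrArg Subtype.val (pow_card_eq_one' (x := (⟨q, hq⟩ : ↥Q)))
    have hy : y ^ p ^ a = 1 := Subtype.ext (by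
      rw [SubmonoidClass.coe_pow]
      show (x * q * x⁻¹) ^ p ^ a = 1
      rw [conj_pow, hq1, mul_one, mul_inv_cancel])
    have h1 : (y : ↥K ⧸ Q.subgroupOf K) ^ p ^ a = 1 := by
      rw [← QuotientGroup.mk_pow, hy, QuotientGroup.mk_one]
    have h2 : (y : ↥K ⧸ Q.subgroupOf K) ^ Q.relIndex K = 1 := pow_card_eq_one'
    have h3 := pow_gcd_eq_one (a := (y : ↥K ⧸ Q.subgroupOf K)) (m := p ^ a) (n := Q.relIndex K)
    have h4 : Nat.gcd (p ^ a) (Q.relIndex K) = 1 :=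
      ((Fact.out : p.Prime).coprime_iff_not_dvd.2 hQsyl).pow_left a
    have h5 := h3.2 ⟨h1, h2⟩
    rw [h4, pow_one, QuotientGroup.eq_one_iff] at h5
    exact h5
  have hS : Cfsg.Lib.RelGlauberman.Setup p (Cfsg.Lib.Glauberman.opHom K P hnorm)
      (Q.subgroupOf K) (Subgroup.inclusion hCK) := by
    refine ⟨hP, ?_, hQsyl, fun a q hq => hmem a a.2 q hq, Subgroup.inclusion_injective hCK,
      fun k => ⟨fun hk => ?_, ?_⟩⟩
    · obtain ⟨a, ha⟩ := hQp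
      exact (IsPGroup.of_card ha).of_equiv (Subgroup.subgroupOfEquivOfLe hQK).symm
    · exact ⟨⟨k, (hC k).2 ⟨k.2, fun x hx => hk ⟨x, hx⟩⟩⟩, rfl⟩
    · rintro ⟨c, rfl⟩ a
      exact ((hC c).1 c.2).2 a a.2
  obtain ⟨f, hf, hprop⟩ := Cfsg.Lib.RelGlauberman.exists_corr hS
  have e1 : ∀ χ : Cfsg.IrrCharacter ↥K,
      (∀ x ∈ P, ∀ k k' : ↥K, (k' : G) = x * (k : G) * x⁻¹ → (χ : ↥K → ℂ) k' = (χ : ↥K → ℂ) k) ↔
      Cfsg.Lib.Glauberman.Inv (Cfsg.Lib.Glauberman.opHom K P hnorm) (χ : ↥K → ℂ) :=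
    fun χ => (Cfsg.Lib.Glauberman.inv_opHom_iff hnorm _).symm
  have e2 : ∀ ξ : Cfsg.IrrCharacter ↥C,
      (∀ x ∈ P, ∀ k k' : ↥C, (k' : G) = x * (k : G) * x⁻¹ → (ξ : ↥C → ℂ) k' = (ξ : ↥C → ℂ) k) ↔
      Cfsg.Lib.RelGlauberman.InvC (Cfsg.Lib.Glauberman.opHom K P hnorm) (Subgroup.inclusion hCK)
        (ξ : ↥C → ℂ) := fun ξ =>
    ⟨fun h a c c' he => h a a.2 c c' (congrArg Subtype.val he),
      fun h x hx c c' he => h ⟨x, hx⟩ c c' (Subtype.ext he)⟩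
  let E1 := Equiv.subtypeEquivRight e1
  let E2 := Equiv.subtypeEquivRight e2
  refine ⟨fun χ => E2.symm (f (E1 χ)), E2.symm.bijective.comp (hf.comp E1.bijective),
    fun χ => ⟨fun ξ => ?_, (hprop (E1 χ)).2⟩⟩
  obtain ⟨m, hm, h1, h2⟩ := (hprop (E1 χ)).1 (E2 ξ)
  refine ⟨m, ?_, fun he => h1 ?_, fun he => h2 fun hh => he ?_⟩
  · rw [← hm, Cfsg.Lib.Chars.classInner_eq_finsum]
    rfl
  · rw [he, Equiv.apply_symm_apply]
  · show ξ = E2.symm (f (E1 χ))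
    rw [← hh, Equiv.symm_apply_apply]

end Cfsg.Agent.S4914
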