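import Cfsg.Statements.S4916
import Cfsg.Agent.Blocks.Feit3
-- import your own Cfsg.Agent.* helpers here

set_option autoImplicit false
open Cfsg

namespace Cfsg.Agent.S4916

set_option linter.unusedSectionVars false

open Cfsg.Lib.Blocks Cfsg.Lib.Chars

/-- Let G be a finite group, p a prime and M a maximal ideal of the algebraic integers containing p. Then the principal character is the only irreducible character of degree prime to p in the principal p-block of G if and only if p does not divide the order of G. -/
theorem result {G : Type*} [Group G] [Finite G] (p : ℕ) [Fact p.Prime] (M : Ideal Cfsg.AlgInt) (hM : Cfsg.IsPModular p M) : (∀ χ : Cfsg.IrrCharacter G, χ ∈ Cfsg.principalBlock M G → ¬ p ∣ Cfsg.charDegree (χ : G → ℂ) → (χ : G → ℂ) = fun _ => (1 : ℂ)) ↔ ¬ p ∣ Nat.card G := by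
  classical
  have := Fintype.ofFinite G
  have hp : p.Prime := Fact.out
  have hB := isPBlock_blockOf (M := M) (principal G : Cfsg.IrrCharacter G)
  have hmem : (principal G : Cfsg.IrrCharacter G) ∈ Cfsg.principalBlock M G :=
    mem_blockOf_self hM (principal G)
  have hB' : Cfsg.IsPBlock M (Cfsg.principalBlock M G) := hB
  have hd1 : deg ((principal G : Cfsg.IrrCharacter G) : G → ℂ) = 1 := by simp [deg, principal]
  obtain ⟨g, hg⟩ := exists_defectClass hM hB'
  have hidx := (degree_bounds hM hB' hg).1 _ hmem
  rw [hd1, Nat.factorization_one, Finsupp.coe_zero, Pi.zero_apply, Nat.le_zero] at hidx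
  have hdef := defect_add_index hM hB' hg
  constructor
  · intro h hd
    set A := fun ψ : Cfsg.IrrCharacter G => regInt p (principal G) ψ with hA
    have h0 : Cfsg.blockHeight p (Cfsg.principalBlock M G)
        ((principal G : Cfsg.IrrCharacter G) : G → ℂ) = 0 := by
      rw [blockHeight_eq hM hB' hg, hd1]; simp
    have hsum := sum_regInt_mul_deg hM hB' hmem
    rw [← Finset.add_sum_erase _ _ (show (principal G : Cfsg.IrrCharacter G) ∈
      Finset.univ.filter (· ∈ Cfsg.principalBlock M G) by simp [hmem]), hd1] at hsum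
    obtain ⟨hne, hν⟩ := regInt_height_zero hM hB' hmem h0 hmem
    rw [hd1, Nat.factorization_one, Finsupp.coe_zero, Pi.zero_apply] at hν
    have hnd : ¬ (p : ℤ) ∣ regInt p (principal G : Cfsg.IrrCharacter G) (principal G) := by
      rw [Int.natCast_dvd]
      intro hdv
      have := hp.factorization_pos_of_dvd (Int.natAbs_ne_zero.2 hne) hdv
      omega
    refine hnd ?_
    have hpa : (p : ℤ) ∣ (p : ℤ) ^ (Nat.card G).factorization p :=
      dvd_pow_self _ (hp.factorization_pos_of_dvd Nat.card_pos.ne' hd).ne'
    rw [Nat.cast_one, mul_one, mul_one] at hsum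
    rw [← hsum] at hpa
    refine (Int.dvd_add_left (Finset.dvd_sum fun ψ hψ => ?_)).1 hpa
    obtain ⟨hne', hψB⟩ := Finset.mem_erase.1 hψ
    have hψd : p ∣ Cfsg.charDegree (ψ : G → ℂ) := by
      by_contra hnd'
      exact hne' (Subtype.ext (h ψ (Finset.mem_filter.1 hψB).2 hnd'))
    exact dvd_mul_of_dvd_right (Int.natCast_dvd_natCast.2 hψd) _
  · intro hnd χ hχ _
    have hd0 : Cfsg.blockDefect p (Cfsg.principalBlock M G) = 0 := by
      have := Nat.factorization_eq_zero_of_not_dvd hnd
      omega
    have hk := four_mul_card_le hM hB'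
    rw [hd0] at hk
    have hsub : Subsingleton (Cfsg.principalBlock M G) := by
      rw [← Finite.card_le_one_iff_subsingleton]
      rw [mul_zero, pow_zero] at hk
      omega
    exact congrArg (fun x : Cfsg.principalBlock M G => ((x.1 : Cfsg.IrrCharacter G) : G → ℂ))
      (hsub.allEq ⟨χ, hχ⟩ ⟨principal G, hmem⟩)

end Cfsg.Agent.S4916
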