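import Cfsg.Statements.S4923
import Cfsg.Agent.Chars.SylowTwoField
import Cfsg.Agent.Chars.FixedField
import Cfsg.Agent.Chars.Count
-- import your own Cfsg.Agent.* helpers here

set_option autoImplicit false
open Cfsg

namespace Cfsg.Agent.S4923

set_option linter.unusedSectionVars false

open Cfsg.Lib.Chars Cfsg.Lib.Chars.SylowTwoField

/-- Let G be a finite group with Sylow 2-subgroup P of order 2^n ≥ 8, and let ζ be a primitive 2^(n−1)-th root of unity in ℂ. Then the commutator subgroup of P has index 4 in P if and only if there is an element g of P whose conjugacy class in G has even size and such that the field generated over ℚ by the values at g of all irreducible complex characters of G equals ℚ(ζ + ζ⁻¹) or ℚ(ζ − ζ⁻¹). -/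
theorem result {G : Type*} [Group G] [Finite G] (P : Sylow 2 G) (n : ℕ) (hn : 3 ≤ n) (hP : Nat.card P = 2 ^ n) (ζ : ℂ) (hζ : IsPrimitiveRoot ζ (2 ^ (n - 1))) :
    (commutator ↥P).index = 4 ↔
      ∃ g : G, g ∈ (P : Subgroup G) ∧ 2 ∣ (Subgroup.centralizer ({g} : Set G)).index ∧
        (IntermediateField.adjoin ℚ {z : ℂ | ∃ χ : Cfsg.IrrCharacter G, (χ : G → ℂ) g = z} = IntermediateField.adjoin ℚ ({ζ + ζ⁻¹} : Set ℂ) ∨
          IntermediateField.adjoin ℚ {z : ℂ | ∃ χ : Cfsg.IrrCharacter G, (χ : G → ℂ) g = z} = IntermediateField.adjoin ℚ ({ζ - ζ⁻¹} : Set ℂ)) := by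
  classical
  set m := 2 ^ (n - 1) with hm
  have hmpos : 0 < m := Nat.two_pow_pos _
  have hmN : m ∣ 2 ^ n := pow_dvd_pow 2 (Nat.sub_le n 1)
  have hm2 : m = 2 ^ (n - 2) * 2 := by rw [hm, ← pow_succ]; congr 1; omega
  haveI : NeZero (2 ^ n) := ⟨(Nat.two_pow_pos n).ne'⟩
  have hζN : ζ ^ 2 ^ n = 1 := hζ.pow_eq_one_iff_dvd _ |>.2 hmN
  have hζc : ζ ∈ cycField (2 ^ n) := mem_cycField_of_pow_eq_one _ hζN
  -- the criterion
  have key : ∀ (g : G) (z₀ : ℂ) (d : ℕ), g ∈ (P : Subgroup G) → z₀ ∈ cycField (2 ^ n) →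
      (∀ (σ : ℂ ≃+* ℂ) (u : ℕ), σ ζ = ζ ^ u →
        (σ z₀ = z₀ ↔ (u ≡ 1 [MOD m] ∨ u ≡ d [MOD m]))) →
      (IntermediateField.adjoin ℚ {z : ℂ | ∃ χ : Cfsg.IrrCharacter G, (χ : G → ℂ) g = z} =
          IntermediateField.adjoin ℚ ({z₀} : Set ℂ) ↔
        ∀ u : ℕ, Odd u → (IsConj (g ^ u) g ↔ (u ≡ 1 [MOD m] ∨ u ≡ d [MOD m]))) := by
    intro g z₀ d hg hz₀ hfix
    have hgN : orderOf g ∣ 2 ^ n := hP ▸ (P : Subgroup G).orderOf_dvd_natCard hg
    have hval : ∀ (σ : ℂ ≃+* ℂ) (u : ℕ), IsGalConj σ (2 ^ n) u →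
        ((∀ s ∈ {z : ℂ | ∃ χ : Cfsg.IrrCharacter G, (χ : G → ℂ) g = z}, σ s = s) ↔
          IsConj (g ^ u) g) := by
      intro σ u hσ
      rw [isConj_iff_forall_irr]
      refine ⟨fun h χ => ?_, ?_⟩
      · rw [← hσ.apply_character (isCharacter_of_irr χ.2) hgN]
        exact h _ ⟨χ, rfl⟩
      · rintro h _ ⟨χ, rfl⟩
        rw [hσ.apply_character (isCharacter_of_irr χ.2) hgN]
        exact h χ
    have hodd : ∀ u : ℕ, Odd u ↔ u.Coprime (2 ^ n) := fun u => by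
      rw [Nat.coprime_pow_right_iff (show 0 < n by omega), Nat.coprime_two_right]
    rw [adjoin_eq_iff_fixed (N := 2 ^ n)
      (by rintro _ ⟨χ, rfl⟩; exact IsCharacter.mem_cycField (isCharacter_of_irr χ.2) hgN)
      (by rintro _ rfl; exact hz₀)]
    constructor
    · intro h u hu
      obtain ⟨σ, hσ⟩ := exists_galConj_auto ((hodd u).1 hu)
      rw [← hval σ u hσ, h σ u ((hodd u).1 hu) hσ, ← hfix σ u (hσ ζ hζN)]
      exact ⟨fun h => h z₀ rfl, fun h t ht => by rw [Set.mem_singleton_iff.1 ht, h]⟩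
    · intro h σ u hu hσ
      rw [hval σ u hσ, h u ((hodd u).2 hu), ← hfix σ u (hσ ζ hζN)]
      exact ⟨fun h t ht => by rw [Set.mem_singleton_iff.1 ht, h], fun h => h z₀ rfl⟩
  have hadd : ∀ (σ : ℂ ≃+* ℂ) (u : ℕ), σ ζ = ζ ^ u →
      (σ (ζ + ζ⁻¹) = ζ + ζ⁻¹ ↔ (u ≡ 1 [MOD m] ∨ u ≡ 2 ^ (n - 1) - 1 [MOD m])) :=
    fun σ u hσ => fixes_add_inv_iff hmpos hζ hσ
  have hsub : ∀ (σ : ℂ ≃+* ℂ) (u : ℕ), σ ζ = ζ ^ u →
      (σ (ζ - ζ⁻¹) = ζ - ζ⁻¹ ↔ (u ≡ 1 [MOD m] ∨ u ≡ 2 ^ (n - 2) - 1 [MOD m])) := by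
    intro σ u hσ
    have hζ' : IsPrimitiveRoot ζ (2 ^ (n - 2) * 2) := hm2 ▸ hζ
    rw [hm2]
    exact fixes_sub_inv_iff (Nat.two_pow_pos _) hζ' hσ
  constructor
  · intro h4
    obtain ⟨g, d, hgP, -, hd, heven, hg⟩ := exists_class P hn hP h4
    refine ⟨g, hgP, heven, ?_⟩
    rcases hd with rfl | rfl
    · exact Or.inl ((key g _ _ hgP (add_mem hζc (inv_mem hζc)) hadd).2 hg)
    · exact Or.inr ((key g _ _ hgP (sub_mem hζc (inv_mem hζc)) hsub).2 hg)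
  · rintro ⟨g, hgP, heven, h | h⟩
    · exact index_eq_four P hn hP (Or.inl rfl) hgP heven
        ((key g _ _ hgP (add_mem hζc (inv_mem hζc)) hadd).1 h)
    · exact index_eq_four P hn hP (Or.inr rfl) hgP heven
        ((key g _ _ hgP (sub_mem hζc (inv_mem hζc)) hsub).1 h)

end Cfsg.Agent.S4923
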