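import Cfsg.Statements.S4931
import Cfsg.Agent.Blocks.SylowExtend
-- import your own Cfsg.Agent.* helpers here

set_option autoImplicit false
open Cfsg

namespace Cfsg.Agent.S4931

/-- Let G be a finite group, p a prime and P a Sylow p-subgroup of G with normalizer N. Then every irreducible complex character of N of degree not divisible by p is the restriction of an irreducible character of G if and only if there is a normal subgroup K of G with KN = G and K ∩ N = 1. -/
theorem result {G : Type*} [Group G] [Finite G] (p : ℕ) [Fact p.Prime] (P : Sylow p G) :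
    (∀ θ : Cfsg.IrrCharacter ↥(Subgroup.normalizer ((P : Subgroup G) : Set G)), ¬ p ∣ Cfsg.charDegree (θ : ↥(Subgroup.normalizer ((P : Subgroup G) : Set G)) → ℂ) →
        ∃ χ : Cfsg.IrrCharacter G, ∀ x : ↥(Subgroup.normalizer ((P : Subgroup G) : Set G)), (χ : G → ℂ) x = (θ : ↥(Subgroup.normalizer ((P : Subgroup G) : Set G)) → ℂ) x) ↔
      ∃ K : Subgroup G, K.Normal ∧ K ⊔ Subgroup.normalizer ((P : Subgroup G) : Set G) = ⊤ ∧ K ⊓ Subgroup.normalizer ((P : Subgroup G) : Set G) = ⊥ := by
  classical
  constructor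
  · exact Cfsg.Lib.SylowExtend.exists_complement P
  · rintro ⟨K, hK, hsup, hinf⟩
    haveI := hK
    set N := Subgroup.normalizer ((P : Subgroup G) : Set G)
    rintro θ -
    let f : ↥N →* G ⧸ K := (QuotientGroup.mk' K).comp N.subtype
    have hinj : Function.Injective f := (injective_iff_map_eq_one f).2 fun x hx => by
      have h1 : (x : G) ∈ K ⊓ N := ⟨(QuotientGroup.eq_one_iff _).1 hx, x.2⟩
      rw [hinf, Subgroup.mem_bot] at h1
      exact Subtype.ext h1
    have hsurj : Function.Surjective f := by
      intro y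
      obtain ⟨g, rfl⟩ := QuotientGroup.mk'_surjective K y
      have hg : g ∈ K ⊔ N := hsup ▸ Subgroup.mem_top g
      obtain ⟨k, hk, n, hn, rfl⟩ := Subgroup.mem_sup_of_normal_left.1 hg
      refine ⟨⟨n, hn⟩, ?_⟩
      have hk1 : QuotientGroup.mk' K k = 1 := (QuotientGroup.eq_one_iff k).2 hk
      show QuotientGroup.mk' K n = _
      rw [map_mul, hk1, one_mul]
    let e : ↥N ≃* G ⧸ K := MulEquiv.ofBijective f ⟨hinj, hsurj⟩
    have h := Cfsg.Lib.Chars.IsIrrCharacter.comp_surjective θ.2
      (e.symm.toMonoidHom.comp (QuotientGroup.mk' K))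
      (e.symm.surjective.comp (QuotientGroup.mk'_surjective K))
    exact ⟨⟨_, h⟩, fun x => congrArg (θ : ↥N → ℂ) (e.symm_apply_apply x)⟩

end Cfsg.Agent.S4931
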