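import Cfsg.Statements.S4955
import Cfsg.Agent.Chars.NonVanish
import Cfsg.Agent.Chars.Degree
import Cfsg.Agent.Chars.IrrTools
import Cfsg.Agent.S0169
import Mathlib
-- import your own Cfsg.Agent.* helpers here

set_option autoImplicit false
open Cfsg

namespace Cfsg.Agent.S4955

set_option linter.unusedSectionVars false

open Cfsg.Lib.Chars

/-- Let X be a finite group with an abelian normal Sylow p-subgroup V (a normal p-subgroup of index prime to p in which any two elements commute), and let G be a complement to V in X. Then for every v in V, writing C for the centralizer of v in G, the number k(X) of conjugacy classes of X satisfies k(X) ≤ (order of C)·(order of V) − ((order of G) − k(G)); the statement is written with the subtracted term moved to the left. In particular, if some v in V is centralized by no nonidentity element of G, then k(X) is at most the order of V. -/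
theorem result {X : Type*} [Group X] [Finite X] (p : ℕ) [Fact p.Prime] (V : Subgroup X) [V.Normal] (hVp : IsPGroup p V) (hidx : ¬ p ∣ V.index) (hab : ∀ a ∈ V, ∀ b ∈ V, a * b = b * a) (G : Subgroup X) (hGV : Subgroup.IsComplement' V G) (v : X) (hv : v ∈ V) : Nat.card (ConjClasses X) + Nat.card G ≤ Nat.card ↥(G ⊓ Subgroup.centralizer ({v} : Set X)) * Nat.card V + Nat.card (ConjClasses G) := by
  classical
  letI := Fintype.ofFinite X
  set m := Nat.card X with hm
  haveI : NeZero m := ⟨Nat.card_pos.ne'⟩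
  obtain ⟨a, ha⟩ : ∃ a, v ^ p ^ a = 1 := by
    obtain ⟨a, ha⟩ := hVp ⟨v, hv⟩
    exact ⟨a, congrArg Subtype.val ha⟩
  have hndvd : ∀ χ : Cfsg.IrrCharacter X, ¬ p ∣ deg (χ : X → ℂ) := fun χ h => by
    obtain ⟨n, ρ, hρ, hρc⟩ := χ.2
    rw [← hρc, deg_character] at h
    exact hidx (h.trans (Cfsg.Agent.S0169.result ρ V hab))
  have hord : orderOf v ∣ m := orderOf_dvd_natCard v
  set D := Subgroup.centralizer ({v} : Set X) with hD
  have hcen : ∀ k : (ZMod m)ˣ, Subgroup.centralizer ({v ^ (k : ZMod m).val} : Set X) = D := by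
    intro k
    obtain ⟨u, hu⟩ := exists_pow_eq_self_of_coprime (x := v)
      ((ZMod.val_coe_unit_coprime k).coprime_dvd_right hord)
    ext x
    simp only [hD, Subgroup.mem_centralizer_singleton_iff]
    exact ⟨fun h => hu ▸ (Commute.pow_right (show Commute x (v ^ (k : ZMod m).val) from h) u),
      fun h => Commute.pow_right (show Commute x v from h) _⟩
  have hne : ∀ (χ : Cfsg.IrrCharacter X) (k : (ZMod m)ˣ), (χ : X → ℂ) (v ^ (k : ZMod m).val) ≠ 0 :=
    fun χ k => apply_ne_zero_of_not_dvd (isCharacter_of_irr χ.2) (Fact.out : p.Prime)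
      (a := a) (by rw [← pow_mul, mul_comm, pow_mul, ha, one_pow]) (hndvd χ)
  set φ := Fintype.card (ZMod m)ˣ with hφ
  set w : Cfsg.IrrCharacter X → ℝ := fun χ =>
    ∑ k : (ZMod m)ˣ, ‖(χ : X → ℂ) (v ^ (k : ZMod m).val)‖ ^ 2 with hw
  have htot : ∑ χ : Cfsg.IrrCharacter X, w χ = (φ : ℝ) * (Nat.card D : ℝ) := by
    simp only [hw]
    rw [Finset.sum_comm, Finset.sum_congr rfl (g := fun _ => (Nat.card D : ℝ)) fun k _ => by
      rw [sum_norm_sq_irr, hcen], Finset.sum_const, Finset.card_univ, nsmul_eq_mul]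
  -- the characters of the quotient
  haveI : Finite (X ⧸ V) := Quotient.finite _
  letI := Fintype.ofFinite (X ⧸ V)
  set π := QuotientGroup.mk' V with hπ
  let infl : Cfsg.IrrCharacter (X ⧸ V) → Cfsg.IrrCharacter X := fun ψ =>
    ⟨fun x => (ψ : X ⧸ V → ℂ) (π x),
      IsIrrCharacter.comp_surjective ψ.2 π (QuotientGroup.mk'_surjective V)⟩
  have hinfl : Function.Injective infl := fun ψ ψ' h => Subtype.ext (funext fun q => by
    obtain ⟨x, rfl⟩ := QuotientGroup.mk'_surjective V q
    exact congrFun (congrArg Subtype.val h) x)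
  set S := Finset.univ.image infl with hS
  have hScard : S.card = Nat.card (ConjClasses (X ⧸ V)) := by
    rw [hS, Finset.card_image_of_injective _ hinfl, Finset.card_univ, ← Nat.card_eq_fintype_card,
      card_irrCharacter]
  have hSval : ∑ χ ∈ S, w χ = (φ : ℝ) * (Nat.card (X ⧸ V) : ℝ) := by
    rw [hS, Finset.sum_image (fun a _ b _ h => hinfl h)]
    have h1 : ∀ ψ : Cfsg.IrrCharacter (X ⧸ V), w (infl ψ) = (φ : ℝ) * ‖(ψ : X ⧸ V → ℂ) 1‖ ^ 2 := by
      intro ψ
      simp only [hw]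
      rw [Finset.sum_congr rfl (g := fun _ => ‖(ψ : X ⧸ V → ℂ) 1‖ ^ 2) (fun k _ => by
        show ‖(ψ : X ⧸ V → ℂ) (π (v ^ (k : ZMod m).val))‖ ^ 2 = _
        rw [map_pow, show π v = 1 from (QuotientGroup.eq_one_iff v).2 hv, one_pow]),
        Finset.sum_const, Finset.card_univ, nsmul_eq_mul]
    rw [Finset.sum_congr rfl (fun ψ _ => h1 ψ), ← Finset.mul_sum, sum_norm_sq_irr]
    have hc1 : Subgroup.centralizer ({(1 : X ⧸ V)} : Set (X ⧸ V)) = ⊤ :=
      eq_top_iff.2 fun y _ => Subgroup.mem_centralizer_singleton_iff.2 (by rw [mul_one, one_mul])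
    rw [hc1, Subgroup.card_top]
  have hrest : ((Finset.univ \ S).card : ℝ) * φ ≤ ∑ χ ∈ Finset.univ \ S, w χ := by
    rw [← nsmul_eq_mul, ← Finset.sum_const]
    exact Finset.sum_le_sum fun χ _ =>
      (card_units_le_sum_norm_sq (isCharacter_of_irr χ.2) hord (hne χ)).1
  have hmain : ((Finset.univ \ S).card : ℝ) * φ + (φ : ℝ) * (Nat.card (X ⧸ V) : ℝ) ≤
      (φ : ℝ) * (Nat.card D : ℝ) := by
    rw [← htot, ← hSval, ← Finset.sum_sdiff (Finset.subset_univ S)]
    exact add_le_add hrest le_rfl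
  have hφ0 : (0 : ℝ) < φ := by exact_mod_cast Fintype.card_pos
  have hmain' : (Finset.univ \ S).card + Nat.card (X ⧸ V) ≤ Nat.card D := by
    have : ((((Finset.univ \ S).card + Nat.card (X ⧸ V) : ℕ)) : ℝ) ≤ (Nat.card D : ℝ) := by
      push_cast
      refine le_of_mul_le_mul_left ?_ hφ0
      linarith [hmain]
    exact_mod_cast this
  have htotal : (Finset.univ \ S).card + S.card = Nat.card (ConjClasses X) := by
    rw [Finset.card_sdiff_add_card_eq_card (Finset.subset_univ S), Finset.card_univ,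
      ← Nat.card_eq_fintype_card, card_irrCharacter]
  -- the complement
  have hGV' : Function.Bijective fun x : V × G => (x.1 : X) * x.2 := hGV
  let e : G ≃* X ⧸ V := MulEquiv.ofBijective (π.comp G.subtype) ⟨fun g g' h => by
      have h1 : (g : X)⁻¹ * g' ∈ V := QuotientGroup.eq.1 h
      have h2 := hGV'.1 (a₁ := (⟨(g : X)⁻¹ * g', h1⟩, ⟨1, G.one_mem⟩))
        (a₂ := (⟨1, V.one_mem⟩, ⟨(g : X)⁻¹ * g', G.mul_mem (G.inv_mem g.2) g'.2⟩))
        (by simp)
      have h3 : (g : X)⁻¹ * g' = 1 := (congrArg (fun y : V × G => (y.2 : X)) h2).symm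
      exact Subtype.ext (inv_mul_eq_one.1 h3),
    fun q => by
      obtain ⟨x, rfl⟩ := QuotientGroup.mk'_surjective V q
      obtain ⟨⟨a, g⟩, hag⟩ := hGV'.2 x
      refine ⟨⟨g, g.2⟩, QuotientGroup.eq.2 ?_⟩
      show (g : X)⁻¹ * x ∈ V
      rw [← show (a : X) * g = x from hag, ← mul_assoc]
      have := Subgroup.Normal.conj_mem ‹V.Normal› (a : X) a.2 (g : X)⁻¹
      rwa [inv_inv] at this⟩
  have hkG : Nat.card (ConjClasses G) = Nat.card (ConjClasses (X ⧸ V)) :=
    Nat.card_eq_of_bijective (ConjClasses.map e.toMonoidHom) ⟨fun a b h => by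
      obtain ⟨a, rfl⟩ := ConjClasses.mk_surjective a
      obtain ⟨b, rfl⟩ := ConjClasses.mk_surjective b
      have h2 := (ConjClasses.mk_eq_mk_iff_isConj.1 h : IsConj (e a) (e b))
      have h3 := e.symm.toMonoidHom.map_isConj h2
      simp only [MulEquiv.coe_toMonoidHom, MulEquiv.symm_apply_apply] at h3
      exact ConjClasses.mk_eq_mk_iff_isConj.2 h3,
    ConjClasses.map_surjective e.surjective⟩
  set C := G ⊓ D with hCdef
  have hDcard : Nat.card D = Nat.card C * Nat.card V := by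
    rw [← Nat.card_prod]
    refine (Nat.card_eq_of_bijective (fun z : C × V => (⟨(z.2 : X) * z.1, D.mul_mem
      (Subgroup.mem_centralizer_singleton_iff.2 (hab _ z.2.2 v hv)) z.1.2.2⟩ : D)) ⟨?_, ?_⟩).symm
    · rintro ⟨c, b⟩ ⟨c', b'⟩ h
      have h1 := hGV'.1 (a₁ := (⟨b, b.2⟩, ⟨c, c.2.1⟩)) (a₂ := (⟨b', b'.2⟩, ⟨c', c'.2.1⟩))
        (congrArg Subtype.val h :)
      simp only [Prod.mk.injEq, Subtype.mk.injEq] at h1
      exact Prod.ext (Subtype.ext h1.2) (Subtype.ext h1.1)
    · rintro ⟨y, hy⟩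
      obtain ⟨⟨b, g⟩, hbg⟩ := hGV'.2 y
      have hgD : (g : X) ∈ D := by
        rw [show (g : X) = (b : X)⁻¹ * y by rw [← show (b : X) * g = y from hbg, inv_mul_cancel_left]]
        exact D.mul_mem (D.inv_mem (Subgroup.mem_centralizer_singleton_iff.2 (hab _ b.2 v hv))) hy
      exact ⟨(⟨g, g.2, hgD⟩, ⟨b, b.2⟩), Subtype.ext hbg⟩
  have hcardG : Nat.card G = Nat.card (X ⧸ V) := Nat.card_congr e.toEquiv
  rw [hkG, hcardG, ← hDcard, ← htotal, hScard]
  omega

end Cfsg.Agent.S4955
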