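import Cfsg.Statements.S4956
import Mathlib
-- import your own Cfsg.Agent.* helpers here

set_option autoImplicit false
open Cfsg

namespace Cfsg.Agent.S4956

set_option linter.unusedSectionVars false

lemma card_kernel_pair {V : Type*} [CommGroup V] [Finite V] (σ τ : V ≃* V) (hστ : ∀ v, σ (τ v) = τ (σ v))
    (A : Subgroup (MulAut V)) [Finite A] (hA : A = Subgroup.closure {σ, τ})
    (hcop : (Nat.card A).Coprime (Nat.card V)) :
    Nat.card {q : V × V // q.1 * σ q.2 = q.2 * τ q.1} =
      Nat.card V * Nat.card {v : V // σ v = v ∧ τ v = v} := by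
  classical
  haveI := Fintype.ofFinite A
  let L : V × V →* V :=
    { toFun := fun q => (q.1 * (τ q.1)⁻¹) * (q.2 * (σ q.2)⁻¹)⁻¹
      map_one' := by simp
      map_mul' := fun a b => by
        simp only [Prod.fst_mul, Prod.snd_mul, map_mul, mul_inv_rev, inv_inv]
        ac_rfl }
  have hker : ∀ q : V × V, q ∈ L.ker ↔ q.1 * σ q.2 = q.2 * τ q.1 := fun q => by
    rw [MonoidHom.mem_ker]
    show q.1 * (τ q.1)⁻¹ * (q.2 * (σ q.2)⁻¹)⁻¹ = 1 ↔ _
    rw [mul_inv_eq_one, mul_inv_eq_iff_eq_mul, mul_right_comm, eq_mul_inv_iff_mul_eq]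
  let C : Subgroup V :=
    { carrier := {v | σ v = v ∧ τ v = v}
      one_mem' := ⟨map_one _, map_one _⟩
      mul_mem' := fun {a b} ha hb => ⟨by rw [map_mul, ha.1, hb.1], by rw [map_mul, ha.2, hb.2]⟩
      inv_mem' := fun {a} ha => ⟨by rw [map_inv, ha.1], by rw [map_inv, ha.2]⟩ }
  let D : Subgroup (MulAut V) :=
    { carrier := {a | ∀ v, v * (a v)⁻¹ ∈ L.range}
      one_mem' := fun v => by simp
      mul_mem' := fun {a b} ha hb v => by
        have := mul_mem (hb v) (ha (b v))
        rwa [mul_assoc, inv_mul_cancel_left] at this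
      inv_mem' := fun {a} ha v => by
        have := inv_mem (ha (a⁻¹ v))
        rw [MulAut.apply_inv_self, mul_inv_rev, inv_inv] at this
        exact this }
  have hAD : A ≤ D := by
    rw [hA, Subgroup.closure_le]
    rintro a (rfl | rfl)
    · exact fun v => inv_mem_iff.1 ⟨(1, v), by simp [L]⟩
    · exact fun v => ⟨(v, 1), by simp [L]⟩
  let E : V →* V :=
    { toFun := fun v => ∏ a : A, (a : MulAut V) v
      map_one' := by simp
      map_mul' := fun a b => by simp [Finset.prod_mul_distrib] }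
  have hσA : σ ∈ A := hA ▸ Subgroup.subset_closure (Set.mem_insert _ _)
  have hτA : τ ∈ A := hA ▸ Subgroup.subset_closure (Set.mem_insert_of_mem _ rfl)
  have hEr : ∀ b ∈ A, ∀ v, E ((b : MulAut V) v) = E v := fun b hb v =>
    Fintype.prod_equiv (Equiv.mulRight (⟨b, hb⟩ : A)) _ _ fun a => rfl
  have hEl : ∀ b ∈ A, ∀ v, (b : MulAut V) (E v) = E v := fun b hb v => by
    show b (∏ a : A, (a : MulAut V) v) = _
    rw [map_prod]
    exact Fintype.prod_equiv (Equiv.mulLeft (⟨b, hb⟩ : A)) _ _ fun a => rfl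
  have hfixA : ∀ v ∈ C, ∀ a ∈ A, (a : MulAut V) v = v := by
    intro v hv a ha
    rw [hA] at ha
    induction ha using Subgroup.closure_induction with
    | mem x hx => rcases hx with rfl | rfl; exacts [hv.1, hv.2]
    | one => rfl
    | mul x y _ _ hx hy => rw [MulAut.mul_apply, hy, hx]
    | inv x _ hx => conv_lhs => rw [← hx, MulAut.inv_apply_self]
  have hEC : ∀ v ∈ C, E v = v ^ Nat.card A := fun v hv => by
    show ∏ a : A, (a : MulAut V) v = _
    rw [Finset.prod_congr rfl fun (a : A) _ => hfixA v hv _ a.2, Finset.prod_const, Finset.card_univ,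
      Nat.card_eq_fintype_card]
  have hEL : ∀ y ∈ L.range, E y = 1 := by
    rintro _ ⟨⟨a, b⟩, rfl⟩
    show E (a * (τ a)⁻¹ * (b * (σ b)⁻¹)⁻¹) = 1
    simp only [map_mul, map_inv, hEr σ hσA, hEr τ hτA, mul_inv_cancel, inv_one, mul_one]
  have hbij : Function.Bijective fun v : V => v ^ Nat.card A := (powCoprime hcop.symm).bijective
  have hmulfull : ∀ v : V, ∃ c : C, ∃ y : L.range, (c : V) * y = v := by
    intro v
    obtain ⟨w, rfl⟩ := hbij.2 v
    refine ⟨⟨E w, hEl σ hσA w, hEl τ hτA w⟩, ⟨∏ a : A, w * ((a : MulAut V) w)⁻¹,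
      Subgroup.prod_mem _ fun a _ => hAD a.2 w⟩, ?_⟩
    show (∏ a : A, (a : MulAut V) w) * ∏ a : A, w * ((a : MulAut V) w)⁻¹ = w ^ Nat.card A
    rw [← Finset.prod_mul_distrib, Nat.card_eq_fintype_card, ← Finset.card_univ, ← Finset.prod_const]
    exact Finset.prod_congr rfl fun a _ => by rw [mul_left_comm, mul_inv_cancel, mul_one]
  have hdisj : Disjoint C L.range := by
    rw [Subgroup.disjoint_def]
    intro y hyC hyI
    refine hbij.1 ?_
    show y ^ Nat.card A = 1 ^ Nat.card A
    rw [one_pow, ← hEC y hyC, hEL y hyI]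
  have hcompl : Subgroup.IsComplement' C L.range :=
    Subgroup.isComplement'_of_disjoint_and_mul_eq_univ hdisj (Set.eq_univ_of_forall fun v => by
      obtain ⟨c, y, h⟩ := hmulfull v
      exact ⟨c, c.2, y, y.2, h⟩)
  have h1 : L.ker.index * Nat.card L.ker = Nat.card V * Nat.card V := by
    rw [Subgroup.index_mul_card, Nat.card_prod]
  rw [Subgroup.index_ker] at h1
  have h2 : Nat.card C * Nat.card L.range = Nat.card V := hcompl.card_mul
  rw [show Nat.card {q : V × V // q.1 * σ q.2 = q.2 * τ q.1} = Nat.card L.ker from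
    Nat.card_congr (Equiv.subtypeEquivRight fun q => (hker q).symm)]
  show Nat.card L.ker = Nat.card V * Nat.card C
  refine Nat.eq_of_mul_eq_mul_left (Nat.card_pos (α := L.range)) (h1.trans ?_)
  conv_lhs => arg 1; rw [← h2]
  ring

/-- Let X be a finite group, V an abelian normal subgroup of X (any two elements of V commute) and G a complement to V in X whose order is coprime to that of V. Let S be a set of representatives of the orbits of G on V under conjugation: S lies in V and every element of V is conjugate under G to exactly one member of S. Then the number of conjugacy classes of X equals the sum, over s in S, of the number of conjugacy classes of the centralizer of s in G. -/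
theorem result {X : Type*} [Group X] [Finite X] (V : Subgroup X) [V.Normal] (hab : ∀ a ∈ V, ∀ b ∈ V, a * b = b * a) (G : Subgroup X) (hGV : Subgroup.IsComplement' V G) (hcop : (Nat.card V).Coprime (Nat.card G)) (S : Finset X) (hSV : ∀ s ∈ S, s ∈ V) (hrep : ∀ v ∈ V, ∃! s, s ∈ S ∧ ∃ g ∈ G, g * v * g⁻¹ = s) : Nat.card (ConjClasses X) = ∑ s ∈ S, Nat.card (ConjClasses ↥(G ⊓ Subgroup.centralizer ({s} : Set X))) := by
  classical
  haveI := Fintype.ofFinite X
  haveI := Fintype.ofFinite G
  letI : CommGroup V := { (inferInstance : Group V) with mul_comm := fun a b => Subtype.ext (hab a a.2 b b.2) }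
  let act : G →* MulAut V := (MulAut.conjNormal : X →* MulAut V).comp G.subtype
  have hact : ∀ (g : G) (v : V), ((act g v : V) : X) = (g : X) * v * (g : X)⁻¹ := fun g v => MulAut.conjNormal_apply _ _
  let F : V → ℕ := fun v => Nat.card {q : G × G // Commute q.1 q.2 ∧ act q.1 v = v ∧ act q.2 v = v}
  let Q := {q : G × G // Commute q.1 q.2}
  -- coordinates
  let e : V × G → X := fun q => (q.1 : X) * q.2
  have he : Function.Bijective e := hGV
  have hmul : ∀ a b : V × G, e a * e b = e (a.1 * act a.2 b.1, a.2 * b.2) := fun a b => by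
    simp only [e, Subgroup.coe_mul, hact]
    group
  have hcomm : ∀ a b : V × G, Commute (e a) (e b) ↔
      Commute a.2 b.2 ∧ a.1 * act a.2 b.1 = b.1 * act b.2 a.1 := by
    intro a b
    show e a * e b = e b * e a ↔ _
    rw [hmul, hmul, he.1.eq_iff, Prod.ext_iff, and_comm]
    rfl
  have hpairs : Nat.card {p : X × X // Commute p.1 p.2} =
      ∑ q : Q, Nat.card {w : V × V // w.1 * act q.1.1 w.2 = w.2 * act q.1.2 w.1} := by
    rw [← Nat.card_sigma]
    symm
    refine Nat.card_eq_of_bijective (fun z => (⟨(e (z.2.1.1, z.1.1.1), e (z.2.1.2, z.1.1.2)),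
      (hcomm _ _).2 ⟨z.1.2, z.2.2⟩⟩ : {p : X × X // Commute p.1 p.2})) ⟨fun z z' h => ?_, fun p => ?_⟩
    · have h1 := he.1 (congrArg (fun p : {p : X × X // Commute p.1 p.2} => p.1.1) h)
      have h2 := he.1 (congrArg (fun p : {p : X × X // Commute p.1 p.2} => p.1.2) h)
      obtain ⟨⟨⟨g, k⟩, hq⟩, ⟨⟨v, w⟩, hw⟩⟩ := z
      obtain ⟨⟨⟨g', k'⟩, hq'⟩, ⟨⟨v', w'⟩, hw'⟩⟩ := z'
      simp only [Prod.mk.injEq] at h1 h2
      obtain ⟨rfl, rfl⟩ := h1
      obtain ⟨rfl, rfl⟩ := h2
      rfl
    · obtain ⟨⟨x, y⟩, hxy⟩ := p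
      obtain ⟨⟨v, g⟩, rfl⟩ := he.2 x
      obtain ⟨⟨w, k⟩, rfl⟩ := he.2 y
      exact ⟨⟨⟨(g, k), ((hcomm _ _).1 hxy).1⟩, ⟨(v, w), ((hcomm _ _).1 hxy).2⟩⟩, rfl⟩
  have hker : ∀ q : Q, Nat.card {w : V × V // w.1 * act q.1.1 w.2 = w.2 * act q.1.2 w.1} =
      Nat.card V * Nat.card {v : V // act q.1.1 v = v ∧ act q.1.2 v = v} := by
    intro q
    have hst : ∀ v, act q.1.1 (act q.1.2 v) = act q.1.2 (act q.1.1 v) := fun v => by
      rw [← MulAut.mul_apply, ← MulAut.mul_apply, ← map_mul, ← map_mul, q.2.eq]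
    haveI : Finite (Subgroup.closure ({act q.1.1, act q.1.2} : Set (MulAut V))) :=
      Finite.of_injective (Subgroup.inclusion (show Subgroup.closure ({act q.1.1, act q.1.2} : Set (MulAut V)) ≤ act.range by
        rw [Subgroup.closure_le]; rintro x (rfl | rfl) <;> exact ⟨_, rfl⟩)) (Subgroup.inclusion_injective _)
    refine card_kernel_pair _ _ hst _ rfl (Nat.Coprime.coprime_dvd_left ?_ hcop.symm)
    refine (Subgroup.card_dvd_of_le (show Subgroup.closure ({act q.1.1, act q.1.2} : Set (MulAut V)) ≤ act.range by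
      rw [Subgroup.closure_le]; rintro x (rfl | rfl) <;> exact ⟨_, rfl⟩)).trans ?_
    exact Subgroup.card_range_dvd act
  have hswap : ∑ q : Q, Nat.card {v : V // act q.1.1 v = v ∧ act q.1.2 v = v} = ∑ v : V, F v := by
    rw [← Nat.card_sigma, ← Nat.card_sigma]
    exact Nat.card_congr
      { toFun := fun z => ⟨z.2.1, ⟨z.1.1, z.1.2, z.2.2⟩⟩
        invFun := fun z => ⟨⟨z.2.1, z.2.2.1⟩, ⟨z.1, z.2.2.2⟩⟩
        left_inv := fun z => rfl
        right_inv := fun z => rfl }
  -- orbits
  letI : MulAction G V := MulAction.compHom V act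
  have hsm : ∀ (g : G) (v : V), g • v = act g v := fun g v => rfl
  have hstabiso : ∀ s : X, ∀ hs : s ∈ V, ∀ g : G, act g (⟨s, hs⟩ : V) = ⟨s, hs⟩ ↔
      (g : X) ∈ G ⊓ Subgroup.centralizer ({s} : Set X) := by
    intro s hs g
    rw [Subgroup.mem_inf, Subgroup.mem_centralizer_singleton_iff, Subtype.ext_iff, hact, mul_inv_eq_iff_eq_mul]
    exact ⟨fun h => ⟨g.2, h⟩, fun h => h.2⟩
  have hF : ∀ (s : X) (hs : s ∈ V), F ⟨s, hs⟩ =
      Nat.card (ConjClasses ↥(G ⊓ Subgroup.centralizer ({s} : Set X))) *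
        Nat.card ↥(G ⊓ Subgroup.centralizer ({s} : Set X)) := by
    intro s hs
    rw [← card_comm_eq_card_conjClasses_mul_card]
    exact Nat.card_congr
      { toFun := fun q => ⟨(⟨_, (hstabiso s hs q.1.1).1 q.2.2.1⟩, ⟨_, (hstabiso s hs q.1.2).1 q.2.2.2⟩),
          Subtype.ext (congrArg (fun z : G => (z : X)) q.2.1.eq)⟩
        invFun := fun p => ⟨(⟨p.1.1.1, p.1.1.2.1⟩, ⟨p.1.2.1, p.1.2.2.1⟩),
          Subtype.ext (congrArg (fun z : ↥(G ⊓ Subgroup.centralizer ({s} : Set X)) => (z : X)) p.2.eq),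
          (hstabiso s hs _).2 p.1.1.2, (hstabiso s hs _).2 p.1.2.2⟩
        left_inv := fun q => rfl
        right_inv := fun p => rfl }
  have hFinv : ∀ (g : G) (v : V), F (act g v) = F v := by
    intro g v
    refine Nat.card_congr (Equiv.subtypeEquiv (Equiv.prodCongr (MulAut.conj g⁻¹).toEquiv (MulAut.conj g⁻¹).toEquiv) fun q => ?_)
    have key : ∀ a : G, act a (act g v) = act g v ↔ act (MulAut.conj g⁻¹ a) v = v := fun a => by
      rw [MulAut.conj_apply, inv_inv, map_mul, map_mul, MulAut.mul_apply, MulAut.mul_apply, map_inv,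
        MulAut.inv_apply, MulEquiv.symm_apply_eq]
    show _ ↔ Commute (MulAut.conj g⁻¹ q.1) (MulAut.conj g⁻¹ q.2) ∧ _
    refine and_congr ⟨fun h => h.map (MulAut.conj g⁻¹).toMonoidHom, fun h => ?_⟩ (and_congr (key _) (key _))
    exact (MulAut.conj g⁻¹).injective (by rw [map_mul, map_mul]; exact h.eq)
  have hmem : ∀ v : V, ∃! s, s ∈ S ∧ ∃ g ∈ G, g * (v : X) * g⁻¹ = s := fun v => hrep v v.2
  choose R hR hRu using hmem
  have horbsum : ∑ v : V, F v = ∑ s ∈ S, Nat.card G * Nat.card (ConjClasses ↥(G ⊓ Subgroup.centralizer ({s} : Set X))) := by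
    rw [← Finset.sum_fiberwise_of_maps_to (g := fun v : V => R v) (fun v _ => (hR v).1)]
    refine Finset.sum_congr rfl fun s hsS => ?_
    have hs := hSV s hsS
    have hfib : ∀ v : V, R v = s ↔ v ∈ MulAction.orbit G (⟨s, hs⟩ : V) := by
      intro v
      constructor
      · intro h
        obtain ⟨g, hg, hgv⟩ := (hR v).2
        rw [h] at hgv
        refine ⟨(⟨g, hg⟩ : G)⁻¹, Subtype.ext ?_⟩
        show ((act (⟨g, hg⟩ : G)⁻¹ _ : V) : X) = v
        rw [hact, Subgroup.coe_inv, inv_inv]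
        show g⁻¹ * s * g = _
        rw [← hgv]; group
      · rintro ⟨g, rfl⟩
        refine (hRu _ s ⟨hsS, (g : X)⁻¹, inv_mem g.2, ?_⟩).symm
        show (g : X)⁻¹ * ((act g _ : V) : X) * ((g : X)⁻¹)⁻¹ = s
        rw [hact]; group
    rw [Finset.sum_congr rfl (g := fun _ => F ⟨s, hs⟩) fun v hv => ?_, Finset.sum_const, smul_eq_mul, hF s hs]
    · have hcard : (Finset.univ.filter fun v : V => R v = s).card *
          Nat.card ↥(G ⊓ Subgroup.centralizer ({s} : Set X)) = Nat.card G := by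
        rw [← Fintype.card_subtype, ← Nat.card_eq_fintype_card, Nat.card_congr (Equiv.subtypeEquivRight hfib)]
        have hst : Nat.card (MulAction.stabilizer G (⟨s, hs⟩ : V)) =
            Nat.card ↥(G ⊓ Subgroup.centralizer ({s} : Set X)) :=
          Nat.card_congr
            { toFun := fun g => ⟨_, (hstabiso s hs g.1).1 g.2⟩
              invFun := fun z => ⟨⟨z.1, z.2.1⟩, (hstabiso s hs _).2 z.2⟩
              left_inv := fun g => rfl
              right_inv := fun z => rfl }
        rw [← hst, ← Nat.card_prod]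
        exact Nat.card_congr (MulAction.orbitProdStabilizerEquivGroup G (⟨s, hs⟩ : V))
      rw [← hcard]
      ring
    · obtain ⟨g, rfl⟩ := (hfib v).1 (Finset.mem_filter.1 hv).2
      exact hFinv g _
  have hX : Nat.card X = Nat.card V * Nat.card G := hGV.card_mul.symm
  have hmain := card_comm_eq_card_conjClasses_mul_card X
  rw [hpairs, Finset.sum_congr rfl fun q _ => hker q, ← Finset.mul_sum, hswap, horbsum, hX, ← Finset.mul_sum] at hmain
  refine Nat.eq_of_mul_eq_mul_right (show 0 < Nat.card V * Nat.card G from Nat.mul_pos Nat.card_pos Nat.card_pos) ?_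
  rw [← hmain]
  ring

end Cfsg.Agent.S4956
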