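import Cfsg.Statements.S4957
import Cfsg.Agent.Blocks.CoprimeTransitive.Transitive
import Cfsg.Agent.S4956

set_option autoImplicit false
open Cfsg

namespace Cfsg.Agent.S4957

open Subgroup

/-- Let X be a finite group and V a normal subgroup of X in which every element has order dividing the prime p, whose index in X is prime to p and which is its own centralizer in X; so V is an elementary abelian normal Sylow p-subgroup, and any complement G to V in X is a group of order prime to p acting faithfully on the vector space V by conjugation (the coprime linear setting of the k(GV) problem). Suppose a complement G to V in X is transitive by conjugation on the nonidentity elements of V. Then X has at most (order of V) conjugacy classes, and if equality holds then G is cyclic (hence, being transitive, a Singer cycle), or V has order 8 and G has order 21 (the nonabelian group of order 21 inside the simple group of order 168), or V has order 9 and G has order 16 (a semidihedral Sylow 2-subgroup of the 2-dimensional general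 linear group over the field with 3 elements). -/
theorem result {X : Type*} [Group X] [Finite X] (p : ℕ) [Fact p.Prime] (V : Subgroup X) [V.Normal] (hVexp : ∀ v ∈ V, v ^ p = 1) (hidx : ¬ p ∣ V.index) (hself : Subgroup.centralizer (V : Set X) = V) (G : Subgroup X) (hGV : Subgroup.IsComplement' V G) (htrans : ∀ v ∈ V, ∀ w ∈ V, v ≠ 1 → w ≠ 1 → ∃ g ∈ G, g * v * g⁻¹ = w) : Nat.card (ConjClasses X) ≤ Nat.card V ∧ (Nat.card (ConjClasses X) = Nat.card V → (IsCyclic G ∨ (Nat.card V = 8 ∧ Nat.card G = 21) ∨ (Nat.card V = 9 ∧ Nat.card G = 16))) := by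
  classical
  have hcomm : ∀ a ∈ V, ∀ b ∈ V, a * b = b * a := fun a ha b hb =>
    (mem_centralizer_iff.1 (hself.symm ▸ hb : b ∈ centralizer (V : Set X)) a ha)
  have hp : p.Prime := Fact.out
  by_cases hV : V = ⊥
  · have htop : centralizer ((⊥ : Subgroup X) : Set X) = ⊤ := eq_top_iff.2 fun x _ =>
      mem_centralizer_iff.2 fun y hy => by
        rw [SetLike.mem_coe, mem_bot] at hy
        simp [hy]
    rw [hV, htop] at hself
    haveI : Subsingleton X := ⟨fun a b => by
      have ha : a ∈ (⊥ : Subgroup X) := hself ▸ mem_top a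
      have hb : b ∈ (⊥ : Subgroup X) := hself ▸ mem_top b
      rw [mem_bot.1 ha, mem_bot.1 hb]⟩
    haveI : Subsingleton (ConjClasses X) := ConjClasses.mk_surjective.subsingleton
    refine ⟨?_, fun _ => Or.inl isCyclic_of_subsingleton⟩
    rw [Nat.card_of_subsingleton (ConjClasses.mk 1), hV, Subgroup.card_bot]
  obtain ⟨v, hvV, hv1⟩ := V.bot_or_exists_ne_one.resolve_left hV
  have hG : Nat.card G = V.index := hGV.symm.index_eq_card.symm
  have hcop : ¬ p ∣ Nat.card G := hG ▸ hidx
  have hVp : IsPGroup p V := fun a => ⟨1, Subtype.ext (by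
    rw [SubmonoidClass.coe_pow, pow_one, hVexp a a.2, OneMemClass.coe_one])⟩
  have hcop' : (Nat.card V).Coprime (Nat.card G) := by
    obtain ⟨j, hj⟩ := IsPGroup.iff_card.1 hVp
    rw [hj]
    exact Nat.Coprime.pow_left j (hp.coprime_iff_not_dvd.2 hcop)
  -- the two orbits
  have hconj1 : ∀ g u : X, g * u * g⁻¹ = 1 → u = 1 := fun g u h => by
    rwa [mul_inv_eq_one, mul_eq_left] at h
  have hrep : ∀ u ∈ V, ∃! s, s ∈ ({1, v} : Finset X) ∧ ∃ g ∈ G, g * u * g⁻¹ = s := by
    intro u hu
    by_cases hu1 : u = 1
    · subst hu1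
      refine ⟨1, ⟨Finset.mem_insert_self _ _, 1, one_mem G, by simp⟩, ?_⟩
      rintro s ⟨-, g, -, rfl⟩
      simp
    · obtain ⟨g, hg, hgu⟩ := htrans u hu v hvV hu1 hv1
      refine ⟨v, ⟨Finset.mem_insert_of_mem (Finset.mem_singleton_self _), g, hg, hgu⟩, ?_⟩
      rintro s ⟨hs, g', -, hg'⟩
      rw [Finset.mem_insert, Finset.mem_singleton] at hs
      exact hs.resolve_left fun h => hu1 (hconj1 g' u (hg'.trans h))
  have hk := Cfsg.Agent.S4956.result V hcomm G hGV hcop' {1, v} (fun s hs => by
    rw [Finset.mem_insert, Finset.mem_singleton] at hs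
    rcases hs with rfl | rfl
    · exact one_mem V
    · exact hvV) hrep
  rw [Finset.sum_pair (fun h => hv1 h.symm)] at hk
  have hC1 : G ⊓ centralizer ({(1 : X)} : Set X) = G := inf_eq_left.2 fun g _ =>
    mem_centralizer_singleton_iff.2 (by simp)
  rw [hC1] at hk
  -- the linear group
  haveI : Nontrivial V := (nontrivial_iff_ne_bot V).2 hV
  letI : CommGroup V := { mul_comm := fun a b => Subtype.ext (hcomm a a.2 b b.2) }
  let act : G →* MulAut V := (MulAut.conjNormal (H := V)).comp G.subtype
  have hval : ∀ (x : G) (a : V), ((act x a : V) : X) = (x : X) * (a : X) * (x : X)⁻¹ :=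
    fun x a => MulAut.conjNormal_apply _ _
  have hinj : Function.Injective act := by
    intro a b h
    have hC : (a : X)⁻¹ * b ∈ V := by
      rw [← hself, mem_centralizer_iff]
      intro u hu
      have h' := congrArg (fun f : MulAut V => ((f ⟨u, hu⟩ : V) : X)) h
      simp only [hval] at h'
      calc u * ((a : X)⁻¹ * b) = (a : X)⁻¹ * ((a : X) * u * (a : X)⁻¹) * b := by group
        _ = (a : X)⁻¹ * ((b : X) * u * (b : X)⁻¹) * b := by rw [h']
        _ = (a : X)⁻¹ * b * u := by group
    have h1 : (a : X)⁻¹ * b ∈ V ⊓ G := Subgroup.mem_inf.2 ⟨hC, G.mul_mem (G.inv_mem a.2) b.2⟩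
    rw [hGV.disjoint.eq_bot, mem_bot, inv_mul_eq_one] at h1
    exact Subtype.ext h1
  have htr : ∀ a b : V, a ≠ 1 → b ≠ 1 → ∃ h, act h a = b := by
    intro a b ha hb
    obtain ⟨g, hg, h⟩ := htrans a a.2 b b.2 (fun e => ha (Subtype.ext e)) (fun e => hb (Subtype.ext e))
    exact ⟨⟨g, hg⟩, Subtype.ext (by rw [hval]; exact h)⟩
  set S := (G ⊓ centralizer ({v} : Set X)).subgroupOf G
  have hS : ∀ h : G, h ∈ S ↔ act h ⟨v, hvV⟩ = ⟨v, hvV⟩ := fun h => by
    rw [mem_subgroupOf, Subgroup.mem_inf, mem_centralizer_singleton_iff, Subtype.ext_iff, hval,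
      mul_inv_eq_iff_eq_mul]
    exact and_iff_right h.2
  have hkS : Nat.card (ConjClasses ↥(G ⊓ centralizer ({v} : Set X))) ≤ Nat.card S :=
    (Nat.card_le_card_of_surjective ConjClasses.mk ConjClasses.mk_surjective).trans_eq
      (Nat.card_congr (subgroupOfEquivOfLe inf_le_left).toEquiv).symm
  obtain ⟨hle, heq⟩ := @Cfsg.Lib.Blocks.CoprimeTransitive.action_bound p _ G _ _ V _ _ _
    (AddCommGroup.zmodModule (n := p) fun a => Additive.toMul.injective (Subtype.ext (by
      simpa using hVexp _ (Additive.toMul a).2))) act hinj hcop htr ⟨v, hvV⟩ (fun e => hv1 (congrArg Subtype.val e))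
    S hS
  rw [hk]
  refine ⟨(Nat.add_le_add_left hkS _).trans hle, fun e => heq ?_⟩
  exact le_antisymm hle (e.symm.le.trans (Nat.add_le_add_left hkS _))

end Cfsg.Agent.S4957
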