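import Cfsg.Statements.S4964
import Cfsg.Agent.Blocks.Quotient
import Cfsg.Agent.Coprime.Sylow
import Cfsg.Agent.PGroups.Basic
-- import your own Cfsg.Agent.* helpers here

set_option autoImplicit false
open Cfsg

namespace Cfsg.Agent.S4964

set_option linter.unusedSectionVars false

open Cfsg.Lib.Blocks Cfsg.Lib.Chars

/-- Let D be a normal p-subgroup of the finite group G, let D′ be its commutator subgroup (normal in G), and fix a maximal ideal M of the algebraic integers containing p. Then (i) two irreducible characters of G ⧸ D′ lie in the same p-block if and only if their inflations to G do, and (ii) every p-block of G contains the inflation of some irreducible character of G ⧸ D′; so inflation induces a bijection between the p-blocks of G ⧸ D′ and the p-blocks of G. -/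
theorem result {G : Type*} [Group G] [Finite G] (p : ℕ) [Fact p.Prime] (M : Ideal Cfsg.AlgInt) (hM : Cfsg.IsPModular p M) (D : Subgroup G) [D.Normal] (hD : IsPGroup p D) : (∀ χ ψ : Cfsg.IrrCharacter (G ⧸ ⁅D, D⁆), Cfsg.SameBlock M (χ : G ⧸ ⁅D, D⁆ → ℂ) (ψ : G ⧸ ⁅D, D⁆ → ℂ) ↔ Cfsg.SameBlock M ((χ : G ⧸ ⁅D, D⁆ → ℂ) ∘ QuotientGroup.mk) ((ψ : G ⧸ ⁅D, D⁆ → ℂ) ∘ QuotientGroup.mk)) ∧ ∀ B : Set (Cfsg.IrrCharacter G), Cfsg.IsPBlock M B → ∃ χ : Cfsg.IrrCharacter (G ⧸ ⁅D, D⁆), ∃ θ ∈ B, (θ : G → ℂ) = (χ : G ⧸ ⁅D, D⁆ → ℂ) ∘ QuotientGroup.mk := by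
  classical
  letI := Fintype.ofFinite G
  set N : Subgroup G := ⁅D, D⁆ with hN
  have hND : N ≤ D := Subgroup.commutator_le_right D D
  have hNp : IsPGroup p N := hD.to_le hND
  letI := Fintype.ofFinite (G ⧸ N)
  have hp : p.Prime := Fact.out
  have hfwd : ∀ χ ψ : Cfsg.IrrCharacter (G ⧸ N), Cfsg.SameBlock M (χ : G ⧸ N → ℂ) (ψ : G ⧸ N → ℂ) →
      Cfsg.SameBlock M (inflate N χ : G → ℂ) (inflate N ψ : G → ℂ) := by
    intro χ ψ h
    set B := Cfsg.blockOf M (inflate N χ : G → ℂ) with hBdef
    have hB : Cfsg.IsPBlock M B := isPBlock_blockOf _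
    refine IsPBlock.sameBlock hM hB (mem_blockOf_self hM _) ?_
    have hr := res_omega_eq_of_sameBlock hM h (isCentralFn_qmap N (isCentralFn_blockElem B))
      (integral_qmap N (integral_blockElem hM hB))
    rw [omega_qmap_blockElem, omega_qmap_blockElem, if_pos (mem_blockOf_self hM _)] at hr
    by_contra hc
    rw [if_neg hc, res_one, res_zero] at hr
    exact one_ne_zero hr
  refine ⟨fun χ ψ => ⟨hfwd χ ψ, fun h => ?_⟩, fun B hB => ?_⟩
  · change Cfsg.SameBlock M (inflate N χ : G → ℂ) (inflate N ψ : G → ℂ) at h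
    set E := Cfsg.blockOf M (χ : G ⧸ N → ℂ) with hE
    have hEB : Cfsg.IsPBlock M E := isPBlock_blockOf χ
    set f := QuotientGroup.mk' N with hf
    set Dbar := D.map f with hDbar
    haveI : Dbar.Normal := Subgroup.Normal.map inferInstance f (QuotientGroup.mk'_surjective N)
    let C := Subgroup.centralizer (D : Set G)
    let a : MonoidAlgebra ℂ G := ofFn fun x =>
      if x ∈ C ∧ ¬ p ∣ orderOf x then Cfsg.blockCoeff E (x : G ⧸ N) else 0
    have hac : IsCentralFn a := by
      intro x y
      simp only [a, fn_ofFn]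
      haveI : C.Normal := Subgroup.normal_centralizer
      have hord : orderOf (y * x * y⁻¹) = orderOf x :=
        orderOf_injective (MulAut.conj y).toMonoidHom (MulAut.conj y).injective x
      refine if_congr ?_ ?_ rfl
      · rw [hord]
        refine and_congr_left' ⟨fun hh => ?_, fun hh => Subgroup.Normal.conj_mem ‹C.Normal› x hh y⟩
        simpa [mul_assoc] using Subgroup.Normal.conj_mem ‹C.Normal› _ hh y⁻¹
      · rw [QuotientGroup.mk_mul, QuotientGroup.mk_mul, QuotientGroup.mk_inv, blockCoeff_conj]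
    have hai : Integral M a := fun x => by
      simp only [a, fn_ofFn]
      split_ifs
      · exact blockCoeff_mem_place hM hEB _
      · exact zero_mem _
    -- a `p'`-element centralising `D` modulo `N` centralises `D`
    have hlift : ∀ x : G, ¬ p ∣ orderOf x →
        (x : G ⧸ N) ∈ Subgroup.centralizer (Dbar : Set (G ⧸ N)) → x ∈ C := by
      intro x hx hxc
      refine (Cfsg.Lib.Coprime.le_centralizer_of_frattini (A := Subgroup.zpowers x) (K := D) ?_ ?_ ?_)
        (Subgroup.mem_zpowers x)
      · rw [Subgroup.normalizer_eq_top]; exact le_top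
      · rw [Nat.card_zpowers]
        obtain ⟨j, hj⟩ := IsPGroup.iff_card.1 (hD.to_subgroup (frattini D))
        rw [hj]
        exact (hp.coprime_iff_not_dvd.2 hx).symm.pow_right j
      · intro b hb k hk
        have hle : N ≤ (frattini D).map D.subtype := by
          rw [hN, ← Subgroup.map_subtype_commutator D]
          exact Subgroup.map_mono (Cfsg.Lib.PGroups.commutator_le_frattini hD)
        refine hle ((QuotientGroup.eq_one_iff _).1 ?_)
        obtain ⟨i, rfl⟩ := Subgroup.mem_zpowers_iff.1 hb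
        have hc : Commute ((x : G ⧸ N) ^ i) (k : G ⧸ N) :=
          Commute.zpow_left (Subgroup.mem_centralizer_iff.1 hxc _ (Subgroup.mem_map_of_mem f hk)).symm i
        rw [QuotientGroup.mk_mul, QuotientGroup.mk_mul, QuotientGroup.mk_mul, QuotientGroup.mk_inv,
          QuotientGroup.mk_inv, QuotientGroup.mk_zpow, hc.eq, mul_inv_cancel_right, mul_inv_cancel]
    have hCN : ∀ x ∈ C, x ∈ Subgroup.centralizer (N : Set G) := fun x hx =>
      Subgroup.centralizer_le (fun y hy => hND hy) hx
    have hqa : qmap N a = blockElem E := by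
      refine fn_ext fun q => ?_
      rw [fn_qmap, fn_blockElem]
      by_cases hq : q ∈ Subgroup.centralizer (Dbar : Set (G ⧸ N)) ∧ ¬ p ∣ orderOf q
      · obtain ⟨x₀, rfl⟩ := QuotientGroup.mk_surjective q
        obtain ⟨n, hn1, hn2⟩ := Nat.chineseRemainder
          ((hp.coprime_iff_not_dvd.2 hq.2).symm.pow_right ((Nat.card G).factorization p)) 1 0
        have hx : ((x₀ ^ n : G) : G ⧸ N) = (x₀ : G ⧸ N) := by
          rw [QuotientGroup.mk_pow, (pow_eq_pow_iff_modEq.2 hn1 :
            ((x₀ : G ⧸ N)) ^ n = (x₀ : G ⧸ N) ^ 1), pow_one]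
        have hxr : ¬ p ∣ orderOf (x₀ ^ n) := by
          intro hd
          obtain ⟨c, hc'⟩ := Nat.modEq_zero_iff_dvd.1 hn2
          have hpow : (x₀ ^ n) ^ (Nat.card G / p ^ (Nat.card G).factorization p) = 1 := by
            rw [← pow_mul, hc', mul_comm (p ^ _) c, mul_assoc,
              Nat.mul_div_cancel' (Nat.ordProj_dvd _ _), mul_comm, pow_mul, pow_card_eq_one', one_pow]
          exact Nat.not_dvd_ordCompl hp Nat.card_pos.ne'
            (hd.trans (orderOf_dvd_of_pow_eq_one hpow))
        have hxC : x₀ ^ n ∈ C := hlift _ hxr (by rw [hx]; exact hq.1)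
        rw [Finset.sum_eq_single (x₀ ^ n)]
        · simp only [a, fn_ofFn]
          rw [if_pos ⟨hxC, hxr⟩, hx]
        · intro y hy hne
          simp only [a, fn_ofFn]
          rw [if_neg]
          rintro ⟨hyC, hyr⟩
          have hm : (x₀ ^ n)⁻¹ * y ∈ N := by
            rw [← QuotientGroup.eq, hx]
            exact (Finset.mem_filter.1 hy).2.symm
          exact hne (inv_mul_eq_one.1 (eq_one_of_regular_mul hp hNp (hCN _ hxC) hxr hm
            (by rwa [mul_inv_cancel_left]))).symm
        · intro hh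
          refine absurd ?_ hh
          rw [Finset.mem_filter]
          exact ⟨Finset.mem_univ _, hx⟩
      · have h0 : Cfsg.blockCoeff E q = 0 := by
          rw [not_and_or, not_not] at hq
          rcases hq with hq | hq
          · exact blockCoeff_eq_zero_of_not_mem_centralizer hM (hD.map f) hEB hq
          · exact blockCoeff_eq_zero_of_singular hM hEB hq
        rw [h0]
        refine Finset.sum_eq_zero fun y hy => ?_
        simp only [a, fn_ofFn]
        rw [(Finset.mem_filter.1 hy).2, h0, ite_self]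
    have e1 : ∀ φ : Cfsg.IrrCharacter (G ⧸ N),
        omega (inflate N φ : G → ℂ) a = omega (φ : G ⧸ N → ℂ) (blockElem E) := fun φ => by
      rw [← hqa, omega_qmap]; rfl
    have hr := res_omega_eq_of_sameBlock hM h hac hai
    rw [e1, e1, omega_blockElem, omega_blockElem, if_pos (mem_blockOf_self hM χ)] at hr
    have hψ : ψ ∈ E := by
      by_contra hc
      rw [if_neg hc, res_one, res_zero] at hr
      exact one_ne_zero hr
    exact IsPBlock.sameBlock hM hEB (mem_blockOf_self hM χ) hψ
  · obtain ⟨Bbar, hBbar, hsub, -⟩ := exists_block_quotient hM N hNp hB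
    obtain ⟨φ, hφ⟩ := IsPBlock.nonempty hM hBbar
    exact ⟨φ, inflate N φ, hsub φ hφ, rfl⟩

end Cfsg.Agent.S4964
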