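import Cfsg.Statements.S4965
import Mathlib
-- import your own Cfsg.Agent.* helpers here

set_option autoImplicit false
open Cfsg

namespace Cfsg.Agent.S4965

set_option linter.unusedSectionVars false

/-- Let X be a finite group with an abelian normal subgroup V (any two elements of V commute), and let φ be the action of X ⧸ V on V induced by conjugation (well defined because V is abelian; the hypothesis hφ says that the class of x acts as conjugation by x). Then X has at most as many conjugacy classes as the semidirect product of V by X ⧸ V formed with this action: the split extension has the largest class number among extensions with the given action. -/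
theorem result {X : Type*} [Group X] [Finite X] (V : Subgroup X) [V.Normal] (hab : ∀ a ∈ V, ∀ b ∈ V, a * b = b * a) (φ : X ⧸ V →* MulAut ↥V) (hφ : ∀ (x : X) (v : ↥V), ((φ (QuotientGroup.mk x) v : ↥V) : X) = x * v * x⁻¹) : Nat.card (ConjClasses X) ≤ Nat.card (ConjClasses (SemidirectProduct ↥V (X ⧸ V) φ)) := by
  classical
  have key : Nat.card {q : X × X // Commute q.1 q.2} ≤
      Nat.card {q : SemidirectProduct V (X ⧸ V) φ × SemidirectProduct V (X ⧸ V) φ //
        Commute q.1 q.2} := by
    haveI : Finite (SemidirectProduct V (X ⧸ V) φ) :=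
      Finite.of_equiv _ SemidirectProduct.equivProd.symm
    have hbase : ∀ q : {q : X × X // Commute q.1 q.2},
        ∃ r : X × X, Commute r.1 r.2 ∧ (r.1 : X ⧸ V) = (q.1.1 : X ⧸ V) ∧
          (r.2 : X ⧸ V) = (q.1.2 : X ⧸ V) := fun q => ⟨q.1, q.2, rfl, rfl⟩
    let base : (X ⧸ V) × (X ⧸ V) → X × X := fun a =>
      if h : ∃ r : X × X, Commute r.1 r.2 ∧ (r.1 : X ⧸ V) = a.1 ∧ (r.2 : X ⧸ V) = a.2 then
        h.choose else 1
    have hb : ∀ q : {q : X × X // Commute q.1 q.2},
        let r := base ((q.1.1 : X ⧸ V), (q.1.2 : X ⧸ V))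
        Commute r.1 r.2 ∧ q.1.1 * r.1⁻¹ ∈ V ∧ q.1.2 * r.2⁻¹ ∈ V := fun q => by
      simp only [base, dif_pos (hbase q)]
      obtain ⟨h1, h2, h3⟩ := (hbase q).choose_spec
      refine ⟨h1, ?_, ?_⟩
      · rw [← QuotientGroup.eq_one_iff, QuotientGroup.mk_mul, QuotientGroup.mk_inv, h2, mul_inv_cancel]
      · rw [← QuotientGroup.eq_one_iff, QuotientGroup.mk_mul, QuotientGroup.mk_inv, h3, mul_inv_cancel]
    refine Nat.card_le_card_of_injective (fun q =>
      ⟨(⟨⟨_, (hb q).2.1⟩, (q.1.1 : X ⧸ V)⟩, ⟨⟨_, (hb q).2.2⟩, (q.1.2 : X ⧸ V)⟩), ?_⟩) ?_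
    · obtain ⟨hc, h1, h2⟩ := hb q
      set r := base ((q.1.1 : X ⧸ V), (q.1.2 : X ⧸ V)) with hr
      have ha : ((r.1 : X) : X ⧸ V) = (q.1.1 : X ⧸ V) := by
        have := (QuotientGroup.eq_one_iff _).2 h1
        rw [QuotientGroup.mk_mul, QuotientGroup.mk_inv, mul_inv_eq_one] at this
        exact this.symm
      have hb' : ((r.2 : X) : X ⧸ V) = (q.1.2 : X ⧸ V) := by
        have := (QuotientGroup.eq_one_iff _).2 h2
        rw [QuotientGroup.mk_mul, QuotientGroup.mk_inv, mul_inv_eq_one] at this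
        exact this.symm
      refine SemidirectProduct.ext ?_ ?_
      · simp only [SemidirectProduct.mul_left]
        apply Subtype.ext
        rw [Subgroup.coe_mul, Subgroup.coe_mul, show φ (q.1.1 : X ⧸ V) = φ (r.1 : X ⧸ V) from congrArg φ ha.symm, show φ (q.1.2 : X ⧸ V) = φ (r.2 : X ⧸ V) from congrArg φ hb'.symm, hφ, hφ]
        have e := q.2.eq
        calc q.1.1 * r.1⁻¹ * (r.1 * (q.1.2 * r.2⁻¹) * r.1⁻¹)
            = q.1.1 * q.1.2 * (r.1 * r.2)⁻¹ := by group
          _ = q.1.2 * q.1.1 * (r.2 * r.1)⁻¹ := by rw [e, hc.eq]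
          _ = q.1.2 * r.2⁻¹ * (r.2 * (q.1.1 * r.1⁻¹) * r.2⁻¹) := by group
      · simp only [SemidirectProduct.mul_right]
        rw [← QuotientGroup.mk_mul, q.2.eq, QuotientGroup.mk_mul]
    · intro q q' h
      have h' := congrArg Subtype.val h
      obtain ⟨h1, h2⟩ := Prod.ext_iff.1 h'
      have r1 : (q.1.1 : X ⧸ V) = (q'.1.1 : X ⧸ V) := congrArg SemidirectProduct.right h1
      have r2 : (q.1.2 : X ⧸ V) = (q'.1.2 : X ⧸ V) := congrArg SemidirectProduct.right h2
      have l1 := congrArg (fun z : SemidirectProduct V (X ⧸ V) φ => (z.left : X)) h1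
      have l2 := congrArg (fun z : SemidirectProduct V (X ⧸ V) φ => (z.left : X)) h2
      simp only [r1, r2] at l1 l2
      exact Subtype.ext (Prod.ext (mul_right_cancel l1) (mul_right_cancel l2))
  have hcard : Nat.card (SemidirectProduct V (X ⧸ V) φ) = Nat.card X := by
    rw [Nat.card_congr SemidirectProduct.equivProd, Nat.card_prod,
      Subgroup.card_eq_card_quotient_mul_card_subgroup V, mul_comm]
  rw [card_comm_eq_card_conjClasses_mul_card, card_comm_eq_card_conjClasses_mul_card, hcard] at key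
  exact Nat.le_of_mul_le_mul_right key Nat.card_pos

end Cfsg.Agent.S4965
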