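import Mathlib

/-!
# Self-dual coprime modules split into alternating and symmetric parts
-/

set_option autoImplicit false
set_option linter.unusedSectionVars false

namespace Cfsg.Lib.SelfDualSplit

universe u v w

variable {F : Type u} [Field F] {G : Type v} [Group G] {V : Type w} [AddCommGroup V] [Module F V]

/-- Invariance of a subspace. -/
def Inv (ρ : Representation F G V) (Z : Submodule F V) : Prop := ∀ g : G, ∀ v ∈ Z, ρ g v ∈ Z

/-- Invariance of a form on a subspace. -/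
def InvForm (ρ : Representation F G V) (Z : Submodule F V) (b : LinearMap.BilinForm F V) : Prop :=
  ∀ g : G, ∀ x ∈ Z, ∀ y ∈ Z, b (ρ g x) (ρ g y) = b x y

/-- Nondegeneracy on a subspace, on the left. -/
def ND (Z : Submodule F V) (b : LinearMap.BilinForm F V) : Prop :=
  ∀ x ∈ Z, (∀ y ∈ Z, b x y = 0) → x = 0

/-- A minimal invariant subspace. -/
def Atom (ρ : Representation F G V) (U : Submodule F V) : Prop :=
  Inv ρ U ∧ U ≠ ⊥ ∧ ∀ U' ≤ U, Inv ρ U' → U' = ⊥ ∨ U' = U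

/-- Carries an alternating form. -/
def AltType (ρ : Representation F G V) (U : Submodule F V) : Prop :=
  ∃ A : LinearMap.BilinForm F V, (∀ x : V, A x x = 0) ∧ InvForm ρ U A ∧ ND U A

/-- Carries a symmetric form. -/
def SymType (ρ : Representation F G V) (W : Submodule F V) : Prop :=
  ∃ S : LinearMap.BilinForm F V, (∀ x y : V, S x y = S y x) ∧ InvForm ρ W S ∧ ND W S

/-- A subspace with a type. -/
def Typed (ρ : Representation F G V) (p : ℕ) (U : Submodule F V) : Prop :=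
  AltType ρ U ∨ (SymType ρ U ∧ (p = 2 → ∀ g : G, ∀ w ∈ U, ρ g w = w))

/-- The decomposition to be proved. -/
def Good (ρ : Representation F G V) (p : ℕ) (Z : Submodule F V) : Prop :=
  ∃ U W : Submodule F V, Inv ρ U ∧ Inv ρ W ∧ U ⊓ W = ⊥ ∧ U ⊔ W = Z ∧ AltType ρ U ∧
    SymType ρ W ∧ (p = 2 → ∀ g : G, ∀ w ∈ W, ρ g w = w)

/-- The right orthogonal of `X` inside `Z`. -/
def perp (b : LinearMap.BilinForm F V) (X Z : Submodule F V) : Submodule F V where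
  carrier := {z | z ∈ Z ∧ ∀ x ∈ X, b x z = 0}
  zero_mem' := ⟨Z.zero_mem, fun x _ => map_zero _⟩
  add_mem' := fun {a c} ha hc => ⟨Z.add_mem ha.1 hc.1, fun x hx => by
    rw [map_add, ha.2 x hx, hc.2 x hx, add_zero]⟩
  smul_mem' := fun r a ha => ⟨Z.smul_mem r ha.1, fun x hx => by
    rw [map_smul, ha.2 x hx, smul_zero]⟩

lemma mem_perp {b : LinearMap.BilinForm F V} {X Z : Submodule F V} {z : V} :
    z ∈ perp b X Z ↔ z ∈ Z ∧ ∀ x ∈ X, b x z = 0 := Iff.rfl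

lemma perp_le (b : LinearMap.BilinForm F V) (X Z : Submodule F V) : perp b X Z ≤ Z :=
  fun _ h => h.1

/-- The pairing of two subspaces as a map to the dual. -/
def pairMap (b : LinearMap.BilinForm F V) (X Y : Submodule F V) : X →ₗ[F] Module.Dual F Y :=
  Y.subtype.dualMap.comp (LinearMap.comp b X.subtype)

lemma pairMap_apply (b : LinearMap.BilinForm F V) (X Y : Submodule F V) (x : X) (y : Y) :
    pairMap b X Y x y = b x y := rfl

lemma pairMap_injective {b : LinearMap.BilinForm F V} {X Y : Submodule F V}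
    (h : ∀ x ∈ X, (∀ y ∈ Y, b x y = 0) → x = 0) : Function.Injective (pairMap b X Y) := by
  rw [← LinearMap.ker_eq_bot, LinearMap.ker_eq_bot']
  intro x hx
  exact Subtype.ext (h x x.2 fun y hy => LinearMap.congr_fun hx ⟨y, hy⟩)

variable [FiniteDimensional F V]

lemma pairMap_bijective {b : LinearMap.BilinForm F V} {X Y : Submodule F V}
    (h : ∀ x ∈ X, (∀ y ∈ Y, b x y = 0) → x = 0) (h' : ∀ y ∈ Y, (∀ x ∈ X, b x y = 0) → y = 0) :
    Function.Bijective (pairMap b X Y) := by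
  refine ⟨pairMap_injective h, ?_⟩
  refine (LinearMap.injective_iff_surjective_of_finrank_eq_finrank (le_antisymm
    (LinearMap.finrank_le_finrank_of_injective (pairMap_injective h)) ?_)).1 (pairMap_injective h)
  rw [Subspace.dual_finrank_eq, ← Subspace.dual_finrank_eq (K := F) (V := X)]
  exact LinearMap.finrank_le_finrank_of_injective (pairMap_injective (b := b.flip) h')

/-- Left nondegeneracy is right nondegeneracy. -/
lemma nd_flip {Z : Submodule F V} {b : LinearMap.BilinForm F V} (h : ND Z b) : ND Z b.flip := by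
  have hs : Function.Surjective (pairMap b Z Z) :=
    (LinearMap.injective_iff_surjective_of_finrank_eq_finrank (by
      rw [Subspace.dual_finrank_eq])).1 (pairMap_injective h)
  intro y hy h0
  refine congrArg Subtype.val
    ((Module.forall_dual_apply_eq_zero_iff F (⟨y, hy⟩ : Z)).1 fun φ => ?_)
  obtain ⟨x, rfl⟩ := hs φ
  exact h0 x x.2

variable {ρ : Representation F G V}

lemma rho_inv_apply (ρ : Representation F G V) (g : G) (x : V) : ρ g (ρ g⁻¹ x) = x := by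
  rw [← Module.End.mul_apply, ← map_mul, mul_inv_cancel, map_one, Module.End.one_apply]

lemma inv_sup {X Y : Submodule F V} (hX : Inv ρ X) (hY : Inv ρ Y) : Inv ρ (X ⊔ Y) := fun g v hv => by
  obtain ⟨x, hx, y, hy, rfl⟩ := Submodule.mem_sup.1 hv
  rw [map_add]
  exact Submodule.add_mem_sup (hX g x hx) (hY g y hy)

lemma inv_inf {X Y : Submodule F V} (hX : Inv ρ X) (hY : Inv ρ Y) : Inv ρ (X ⊓ Y) :=
  fun g v hv => ⟨hX g v hv.1, hY g v hv.2⟩

lemma inv_perp {X Z : Submodule F V} {b : LinearMap.BilinForm F V} (hX : Inv ρ X) (hZ : Inv ρ Z)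
    (hXZ : X ≤ Z) (hb : InvForm ρ Z b) : Inv ρ (perp b X Z) := by
  rintro g z ⟨hz, hz0⟩
  refine ⟨hZ g z hz, fun x hx => ?_⟩
  have h := hb g (ρ g⁻¹ x) (hZ _ x (hXZ hx)) z hz
  rw [rho_inv_apply] at h
  rw [h]
  exact hz0 _ (hX _ x hx)

/-- Projections along a pair of disjoint subspaces. -/
lemma exists_proj {X Y : Submodule F V} (h : X ⊓ Y = ⊥) :
    ∃ π π' : V →ₗ[F] V, (∀ v, π v ∈ X) ∧ (∀ v, π' v ∈ Y) ∧
      (∀ x ∈ X, ∀ y ∈ Y, π (x + y) = x ∧ π' (x + y) = y) := by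
  have hker : LinearMap.ker (X.subtype.coprod Y.subtype) = ⊥ := by
    rw [LinearMap.ker_eq_bot']
    rintro ⟨⟨x, hx⟩, ⟨y, hy⟩⟩ hxy
    have hxy' : x + y = 0 := hxy
    have hx' : x ∈ X ⊓ Y := ⟨hx, by rw [eq_neg_of_add_eq_zero_left hxy']; exact Y.neg_mem hy⟩
    rw [h, Submodule.mem_bot] at hx'
    subst hx'
    rw [zero_add] at hxy'
    subst hxy'
    rfl
  obtain ⟨L, hL⟩ := LinearMap.exists_leftInverse_of_injective _ hker
  refine ⟨X.subtype ∘ₗ LinearMap.fst F _ _ ∘ₗ L, Y.subtype ∘ₗ LinearMap.snd F _ _ ∘ₗ L,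
    fun v => (L v).1.2, fun v => (L v).2.2, fun x hx y hy => ?_⟩
  have h1 : L (x + y) = (⟨x, hx⟩, ⟨y, hy⟩) := LinearMap.congr_fun hL (⟨x, hx⟩, ⟨y, hy⟩)
  exact ⟨congrArg (fun q : X × Y => (q.1 : V)) h1, congrArg (fun q : X × Y => (q.2 : V)) h1⟩

/-- Splitting off a nondegenerate subspace. -/
lemma split {X Z : Submodule F V} {b : LinearMap.BilinForm F V}
    (hX : Inv ρ X) (hZ : Inv ρ Z) (hXZ : X ≤ Z) (hb : InvForm ρ Z b) (hndX : ND X b)
    (hnd : ND Z b) :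
    ∃ Y : Submodule F V, Inv ρ Y ∧ X ⊓ Y = ⊥ ∧ X ⊔ Y = Z ∧ ND Y b := by
  have hbij := pairMap_bijective (b := b.flip) (X := X) (Y := X) (nd_flip hndX) hndX
  have hdec : ∀ z ∈ Z, ∃ a ∈ X, z - a ∈ perp b X Z := fun z hz => by
    obtain ⟨a, ha⟩ := hbij.2 (X.subtype.dualMap (b.flip z))
    refine ⟨a, a.2, Z.sub_mem hz (hXZ a.2), fun w hw => ?_⟩
    have h : b w (a : V) = b w z := LinearMap.congr_fun ha ⟨w, hw⟩
    rw [map_sub, h, sub_self]
  refine ⟨perp b X Z, inv_perp hX hZ hXZ hb, ?_, ?_, ?_⟩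
  · refine (Submodule.eq_bot_iff _).2 fun x hx => ?_
    exact nd_flip hndX x hx.1 fun y hy => hx.2.2 y hy
  · refine le_antisymm (sup_le hXZ (perp_le b X Z)) fun z hz => ?_
    obtain ⟨a, ha, hza⟩ := hdec z hz
    exact Submodule.mem_sup.2 ⟨a, ha, z - a, hza, add_sub_cancel _ _⟩
  · intro x hx h0
    have hr : ND (perp b X Z) b.flip := by
      intro y hy hy0
      refine nd_flip hnd y hy.1 fun z hz => ?_
      obtain ⟨a, ha, hza⟩ := hdec z hz
      have h1 := hy0 _ hza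
      have h2 : b.flip y a = 0 := hy.2 _ ha
      rw [map_sub, h2, sub_zero] at h1
      exact h1
    exact nd_flip hr x hx h0

/-- Gluing forms on disjoint invariant subspaces. -/
lemma glue {X Y : Submodule F V} (hX : Inv ρ X) (hY : Inv ρ Y) (h : X ⊓ Y = ⊥)
    {b c : LinearMap.BilinForm F V} (hb : InvForm ρ X b) (hc : InvForm ρ Y c)
    (hbn : ND X b) (hcn : ND Y c) :
    ∃ d : LinearMap.BilinForm F V, InvForm ρ (X ⊔ Y) d ∧ ND (X ⊔ Y) d ∧
      ((∀ x, b x x = 0) → (∀ x, c x x = 0) → ∀ x, d x x = 0) ∧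
      ((∀ x y, b x y = b y x) → (∀ x y, c x y = c y x) → ∀ x y, d x y = d y x) := by
  obtain ⟨π, π', -, -, hs⟩ := exists_proj h
  refine ⟨b.compl₁₂ π π + c.compl₁₂ π' π', ?_, ?_, fun h1 h2 x => by simp [h1, h2],
    fun h1 h2 x y => by simp [h1 (π x), h2 (π' x)]⟩
  · intro g v hv w hw
    obtain ⟨x, hx, y, hy, rfl⟩ := Submodule.mem_sup.1 hv
    obtain ⟨x', hx', y', hy', rfl⟩ := Submodule.mem_sup.1 hw
    simp only [map_add (ρ g), LinearMap.add_apply, LinearMap.compl₁₂_apply,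
      (hs _ (hX g x hx) _ (hY g y hy)).1, (hs _ (hX g x hx) _ (hY g y hy)).2,
      (hs _ (hX g x' hx') _ (hY g y' hy')).1, (hs _ (hX g x' hx') _ (hY g y' hy')).2,
      (hs x hx y hy).1, (hs x hx y hy).2, (hs x' hx' y' hy').1, (hs x' hx' y' hy').2,
      hb g x hx x' hx', hc g y hy y' hy']
  · intro v hv h0
    obtain ⟨x, hx, y, hy, rfl⟩ := Submodule.mem_sup.1 hv
    have hx0 : x = 0 := hbn x hx fun a ha => by
      have := h0 (a + 0) (Submodule.add_mem_sup ha Y.zero_mem)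
      rwa [LinearMap.add_apply, LinearMap.add_apply, LinearMap.compl₁₂_apply,
        LinearMap.compl₁₂_apply, (hs x hx y hy).1, (hs x hx y hy).2,
        (hs a ha 0 Y.zero_mem).1, (hs a ha 0 Y.zero_mem).2, map_zero, add_zero] at this
    have hy0 : y = 0 := hcn y hy fun a ha => by
      have := h0 (0 + a) (Submodule.add_mem_sup X.zero_mem ha)
      rwa [LinearMap.add_apply, LinearMap.add_apply, LinearMap.compl₁₂_apply,
        LinearMap.compl₁₂_apply, (hs x hx y hy).1, (hs x hx y hy).2,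
        (hs 0 X.zero_mem a ha).1, (hs 0 X.zero_mem a ha).2, map_zero, zero_add] at this
    rw [hx0, hy0, add_zero]

lemma exists_atom {Z : Submodule F V} (hZ : Inv ρ Z) (h : Z ≠ ⊥) : ∃ U ≤ Z, Atom ρ U := by
  obtain ⟨U, ⟨hUZ, hU, hU0⟩, hmin⟩ :=
    wellFounded_lt.has_min {U : Submodule F V | U ≤ Z ∧ Inv ρ U ∧ U ≠ ⊥} ⟨Z, le_rfl, hZ, h⟩
  refine ⟨U, hUZ, hU, hU0, fun U' hle hU' => ?_⟩
  by_contra hne
  push Not at hne
  exact hmin U' ⟨hle.trans hUZ, hU', hne.1⟩ (lt_of_le_of_ne hle hne.2)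

/-- An atom pairing non-trivially pairs without radical. -/
lemma atom_pair {U Y Z : Submodule F V} {b : LinearMap.BilinForm F V} (hU : Atom ρ U)
    (hY : Inv ρ Y) (hUZ : U ≤ Z) (hYZ : Y ≤ Z) (hb : InvForm ρ Z b)
    (hne : ∃ u ∈ U, ∃ y ∈ Y, b u y ≠ 0) : ∀ u ∈ U, (∀ y ∈ Y, b u y = 0) → u = 0 := by
  intro u hu h0
  have hbf : InvForm ρ Z b.flip := fun g x hx y hy => hb g y hy x hx
  have hK : Inv ρ (perp b.flip Y U) := fun g z hz => ⟨hU.1 g z hz.1, fun y hy => by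
    have h := hbf g (ρ g⁻¹ y) (hYZ (hY _ y hy)) z (hUZ hz.1)
    rw [rho_inv_apply] at h
    rw [h]
    exact hz.2 _ (hY _ y hy)⟩
  rcases hU.2.2 (perp b.flip Y U) (perp_le _ _ _) hK with h | h
  · exact (Submodule.eq_bot_iff _).1 h u ⟨hu, h0⟩
  · obtain ⟨a, ha, y, hy, hay⟩ := hne
    have hav : a ∈ perp b.flip Y U := by rw [h]; exact ha
    exact absurd (hav.2 y hy) hay

/-- A right nondegenerate version of `atom_pair`. -/
lemma atom_pair' {U Y Z : Submodule F V} {b : LinearMap.BilinForm F V} (hU : Atom ρ U)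
    (hY : Inv ρ Y) (hUZ : U ≤ Z) (hYZ : Y ≤ Z) (hb : InvForm ρ Z b)
    (hne : ∃ y ∈ Y, ∃ u ∈ U, b y u ≠ 0) : ∀ u ∈ U, (∀ y ∈ Y, b y u = 0) → u = 0 := by
  obtain ⟨y, hy, u, hu, h⟩ := hne
  exact atom_pair hU hY hUZ hYZ (b := b.flip) (fun g a ha c hc => hb g c hc a ha)
    ⟨u, hu, y, hy, h⟩

section types

variable (p : ℕ) [Fact p.Prime] [CharP F p]

include p in
lemma two_ne {F : Type u} [Field F] [CharP F p] (hp : p ≠ 2) : (2 : F) ≠ 0 := by
  intro h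
  have h' : ((2 : ℕ) : F) = 0 := by exact_mod_cast h
  exact hp ((Nat.prime_dvd_prime_iff_eq Fact.out Nat.prime_two).1
    ((CharP.cast_eq_zero_iff F p 2).1 h'))

/-- An atom on which the form is not zero has a type. -/
lemma typed_atom {U : Submodule F V} {b : LinearMap.BilinForm F V} (hU : Atom ρ U)
    (hb : InvForm ρ U b) (hne : ∃ u ∈ U, ∃ y ∈ U, b u y ≠ 0) : Typed ρ p U := by
  classical
  have hS : InvForm ρ U (b + b.flip) := fun g x hx y hy => by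
    simp [hb g x hx y hy, hb g y hy x hx]
  have hA : InvForm ρ U (b - b.flip) := fun g x hx y hy => by
    simp [hb g x hx y hy, hb g y hy x hx]
  by_cases hs : ∃ u ∈ U, ∃ y ∈ U, (b + b.flip) u y ≠ 0
  · have hnd : ND U (b + b.flip) := atom_pair hU hU.1 le_rfl le_rfl hS hs
    by_cases hp : p = 2
    · subst hp
      refine Or.inl ⟨_, fun x => ?_, hS, hnd⟩
      rw [LinearMap.add_apply, LinearMap.add_apply, LinearMap.BilinForm.flip_apply, CharTwo.add_self_eq_zero]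
    · exact Or.inr ⟨⟨_, fun x y => by simp [add_comm], hS, hnd⟩, fun h => absurd h hp⟩
  push Not at hs
  have hsk : ∀ x ∈ U, ∀ y ∈ U, b x y = - b y x := fun x hx y hy => by
    have := hs x hx y hy
    simp only [LinearMap.add_apply, LinearMap.BilinForm.flip_apply] at this
    exact eq_neg_of_add_eq_zero_left this
  by_cases hp : p = 2
  swap
  · refine Or.inl ⟨_, fun x => by simp, hA, atom_pair hU hU.1 le_rfl le_rfl hA ?_⟩
    obtain ⟨u, hu, y, hy, huy⟩ := hne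
    refine ⟨u, hu, y, hy, ?_⟩
    rw [LinearMap.sub_apply, LinearMap.sub_apply, LinearMap.BilinForm.flip_apply, hsk y hy u hu,
      sub_neg_eq_add, ← two_mul]
    exact mul_ne_zero (two_ne p hp) huy
  subst hp
  obtain ⟨π, π₂, hπ, -, hs'⟩ := exists_proj (show U ⊓ ⊥ = ⊥ from inf_bot_eq U)
  have hid : ∀ x ∈ U, π x = x := fun x hx => by
    simpa using (hs' x hx 0 (Submodule.zero_mem _)).1
  have hsy : ∀ x ∈ U, ∀ y ∈ U, b x y = b y x := fun x hx y hy => by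
    rw [hsk x hx y hy, CharTwo.neg_eq]
  have hc : InvForm ρ U (b.compl₁₂ π π) := fun g x hx y hy => by
    simp [hid _ (hU.1 g x hx), hid _ (hU.1 g y hy), hid x hx, hid y hy, hb g x hx y hy]
  have hcn : ND U (b.compl₁₂ π π) := fun x hx h0 =>
    atom_pair hU hU.1 le_rfl le_rfl hb hne x hx fun y hy => by
      simpa [hid x hx, hid y hy] using h0 y hy
  let K : Submodule F V :=
    { carrier := {z | z ∈ U ∧ b z z = 0}
      zero_mem' := ⟨U.zero_mem, by simp⟩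
      add_mem' := fun {a c} ha hc => ⟨U.add_mem ha.1 hc.1, by
        simp [map_add, ha.2, hc.2, hsy a ha.1 c hc.1, CharTwo.add_self_eq_zero]⟩
      smul_mem' := fun r a ha => ⟨U.smul_mem r ha.1, by simp [ha.2]⟩ }
  have hK : Inv ρ K := fun g z hz => ⟨hU.1 g z hz.1, by rw [hb g z hz.1 z hz.1]; exact hz.2⟩
  rcases hU.2.2 K (fun z hz => hz.1) hK with h | h
  · refine Or.inr ⟨⟨_, fun x y => ?_, hc, hcn⟩, fun _ g w hw => ?_⟩
    · exact hsy _ (hπ x) _ (hπ y)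
    · refine sub_eq_zero.1 ((Submodule.eq_bot_iff K).1 h _
        ⟨U.sub_mem (hU.1 g w hw) hw, ?_⟩)
      simp only [map_sub, LinearMap.sub_apply, hb g w hw w hw, hsy w hw _ (hU.1 g w hw)]
      rw [show b w w - b (ρ g w) w - (b (ρ g w) w - b w w) = 2 * (b w w - b (ρ g w) w) by ring,
        CharTwo.two_eq_zero, zero_mul]
  · refine Or.inl ⟨_, fun x => ?_, hc, hcn⟩
    have : π x ∈ K := by rw [h]; exact hπ x
    exact this.2

/-- A hyperbolic pair. -/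
lemma typed_pair {U U' : Submodule F V} {b : LinearMap.BilinForm F V} (hU : Inv ρ U)
    (hU' : Inv ρ U') (hd : U ⊓ U' = ⊥) (hb : InvForm ρ (U ⊔ U') b)
    (hP : ∀ u ∈ U, (∀ y ∈ U', b u y = 0) → u = 0)
    (hP' : ∀ y ∈ U', (∀ u ∈ U, b u y = 0) → y = 0) : Typed ρ p (U ⊔ U') := by
  classical
  obtain ⟨π, π', -, -, hs⟩ := exists_proj hd
  let f : LinearMap.BilinForm F V := b.compl₁₂ π π' + (b.compl₁₂ π π').flip
  have hf : ∀ x y, f x y = b (π x) (π' y) + b (π y) (π' x) := fun x y => by simp [f]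
  have hinv : InvForm ρ (U ⊔ U') f := by
    intro g v hv w hw
    obtain ⟨x, hx, y, hy, rfl⟩ := Submodule.mem_sup.1 hv
    obtain ⟨x', hx', y', hy', rfl⟩ := Submodule.mem_sup.1 hw
    rw [hf, hf, map_add (ρ g), map_add (ρ g), (hs _ (hU g x hx) _ (hU' g y hy)).1,
      (hs _ (hU g x hx) _ (hU' g y hy)).2, (hs _ (hU g x' hx') _ (hU' g y' hy')).1,
      (hs _ (hU g x' hx') _ (hU' g y' hy')).2, (hs x hx y hy).1, (hs x hx y hy).2,
      (hs x' hx' y' hy').1, (hs x' hx' y' hy').2,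
      hb g x (Submodule.mem_sup_left hx) y' (Submodule.mem_sup_right hy'),
      hb g x' (Submodule.mem_sup_left hx') y (Submodule.mem_sup_right hy)]
  have hnd : ND (U ⊔ U') f := by
    intro v hv h0
    obtain ⟨x, hx, y, hy, rfl⟩ := Submodule.mem_sup.1 hv
    have hx0 : x = 0 := hP x hx fun a ha => by
      have := h0 (0 + a) (Submodule.add_mem_sup U.zero_mem ha)
      rwa [hf, (hs x hx y hy).1, (hs x hx y hy).2, (hs 0 U.zero_mem a ha).1,
        (hs 0 U.zero_mem a ha).2, map_zero, LinearMap.zero_apply, add_zero] at this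
    have hy0 : y = 0 := hP' y hy fun a ha => by
      have := h0 (a + 0) (Submodule.add_mem_sup ha U'.zero_mem)
      rwa [hf, (hs x hx y hy).1, (hs x hx y hy).2, (hs a ha 0 U'.zero_mem).1,
        (hs a ha 0 U'.zero_mem).2, map_zero, zero_add] at this
    rw [hx0, hy0, add_zero]
  by_cases hp : p = 2
  · subst hp
    exact Or.inl ⟨f, fun x => by rw [hf, CharTwo.add_self_eq_zero], hinv, hnd⟩
  · exact Or.inr ⟨⟨f, fun x y => by rw [hf, hf, add_comm], hinv, hnd⟩, fun h => absurd h hp⟩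

lemma inf_sup_eq_bot {X U W : Submodule F V} (hd : X ⊓ (U ⊔ W) = ⊥) (hUW : U ⊓ W = ⊥) :
    (X ⊔ U) ⊓ W = ⊥ := by
  refine (Submodule.eq_bot_iff _).2 fun z hz => ?_
  obtain ⟨x, hx, u, hu, rfl⟩ := Submodule.mem_sup.1 hz.1
  have hx' : x ∈ X ⊓ (U ⊔ W) := ⟨hx, by
    rw [show x = (x + u) - u from (add_sub_cancel_right x u).symm]
    exact Submodule.sub_mem _ (Submodule.mem_sup_right hz.2) (Submodule.mem_sup_left hu)⟩
  rw [hd, Submodule.mem_bot] at hx'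
  subst hx'
  rw [zero_add] at hz ⊢
  exact (Submodule.eq_bot_iff _).1 hUW u ⟨hu, hz.2⟩

/-- Joining a typed part to a decomposition. -/
lemma good_join {X Y : Submodule F V} (hX : Inv ρ X) (hd : X ⊓ Y = ⊥) (ht : Typed ρ p X)
    (hY : Good ρ p Y) : Good ρ p (X ⊔ Y) := by
  obtain ⟨U, W, hU, hW, hUW, rfl, ⟨A, hA0, hA, hAn⟩, ⟨S, hS0, hS, hSn⟩, htriv⟩ := hY
  rcases ht with ⟨A', hA0', hA', hAn'⟩ | ⟨⟨S', hS0', hS', hSn'⟩, htriv'⟩
  · have h1 : X ⊓ U = ⊥ := eq_bot_iff.2 ((inf_le_inf_left X le_sup_left).trans hd.le)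
    obtain ⟨d, h2, h3, h4, -⟩ := glue hX hU h1 hA' hA hAn' hAn
    exact ⟨X ⊔ U, W, inv_sup hX hU, hW, inf_sup_eq_bot hd hUW, by rw [sup_assoc],
      ⟨d, h4 hA0' hA0, h2, h3⟩, ⟨S, hS0, hS, hSn⟩, htriv⟩
  · have h1 : X ⊓ W = ⊥ := eq_bot_iff.2 ((inf_le_inf_left X le_sup_right).trans hd.le)
    obtain ⟨d, h2, h3, -, h5⟩ := glue hX hW h1 hS' hS hSn' hSn
    refine ⟨U, X ⊔ W, hU, inv_sup hX hW, ?_, by rw [sup_left_comm],
      ⟨A, hA0, hA, hAn⟩, ⟨d, h5 hS0' hS0, h2, h3⟩, fun hp g w hw => ?_⟩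
    · rw [inf_comm]
      exact inf_sup_eq_bot (by rwa [sup_comm]) (by rwa [inf_comm])
    · obtain ⟨x, hx, y, hy, rfl⟩ := Submodule.mem_sup.1 hw
      rw [map_add, htriv' hp g x hx, htriv hp g y hy]

section maschke

variable [Finite G] [NeZero (Nat.card G : F)]

lemma exists_compl {X Z : Submodule F V} (hX : Inv ρ X) (hZ : Inv ρ Z) (hXZ : X ≤ Z) :
    ∃ C ≤ Z, Inv ρ C ∧ X ⊓ C = ⊥ ∧ X ⊔ C = Z := by
  obtain ⟨C, hC⟩ := exists_isCompl (⟨X, fun g v hv => hX g v hv⟩ : Subrepresentation ρ)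
  have h1 : X ⊓ C.toSubmodule = ⊥ := congrArg Subrepresentation.toSubmodule hC.inf_eq_bot
  have h2 : X ⊔ C.toSubmodule = ⊤ := congrArg Subrepresentation.toSubmodule hC.sup_eq_top
  refine ⟨C.toSubmodule ⊓ Z, inf_le_right,
    inv_inf (fun g v hv => C.apply_mem_toSubmodule g hv) hZ, ?_, ?_⟩
  · rw [← inf_assoc, h1, bot_inf_eq]
  · rw [← sup_inf_assoc_of_le _ hXZ, h2, top_inf_eq]

/-- Making a one-sided pairing two-sided. -/
lemma twist {U U' Z : Submodule F V} {b : LinearMap.BilinForm F V} (hZ : Inv ρ Z)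
    (hb : InvForm ρ Z b) (hnd : ND Z b) (hU : Atom ρ U) (hUZ : U ≤ Z) (hU' : Atom ρ U')
    (hU'Z : U' ≤ Z) (hd : U ⊓ U' = ⊥) (hP : ∃ u ∈ U, ∃ y ∈ U', b u y ≠ 0)
    (h0 : ∀ y ∈ U', ∀ u ∈ U, b y u = 0) (h00 : ∀ y ∈ U', ∀ u ∈ U', b y u = 0) :
    ∃ c : LinearMap.BilinForm F V, InvForm ρ Z c ∧ ND Z c ∧
      (∃ u ∈ U, ∃ y ∈ U', c u y ≠ 0) ∧ ∃ y ∈ U', ∃ u ∈ U, c y u ≠ 0 := by
  classical
  have hR := inv_perp hU'.1 hZ hU'Z hb
  have hXR : U ⊔ U' ≤ perp b U' Z := sup_le (fun u hu => ⟨hUZ hu, fun x hx => h0 x hx u hu⟩)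
    (fun u hu => ⟨hU'Z hu, fun x hx => h00 x hx u hu⟩)
  obtain ⟨Y, hYZ, hY, hRY, hsup⟩ := exists_compl hR hZ (perp_le _ _ _)
  obtain ⟨C, hCR, hC, hXC, hXsup⟩ := exists_compl (inv_sup hU.1 hU'.1) hR hXR
  -- the two pairings with `U'`
  have hUl : ∀ u ∈ U, (∀ y ∈ U', b u y = 0) → u = 0 := atom_pair hU hU'.1 hUZ hU'Z hb hP
  have hUr : ∀ y ∈ U', (∀ u ∈ U, b u y = 0) → y = 0 := atom_pair' hU' hU.1 hU'Z hUZ hb hP
  have hYl : ∀ x ∈ Y, (∀ y ∈ U', b y x = 0) → x = 0 := fun x hx h =>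
    (Submodule.eq_bot_iff _).1 hRY x ⟨⟨hYZ hx, h⟩, hx⟩
  have hYr : ∀ y ∈ U', (∀ x ∈ Y, b y x = 0) → y = 0 := fun y hy h => hnd y (hU'Z hy) fun z hz => by
    rw [← hsup] at hz
    obtain ⟨r, hr, x, hx, rfl⟩ := Submodule.mem_sup.1 hz
    rw [map_add, hr.2 y hy, h x hx, add_zero]
  let eβ := LinearEquiv.ofBijective (pairMap b U U') (pairMap_bijective hUl hUr)
  let eγ := LinearEquiv.ofBijective (pairMap b.flip Y U') (pairMap_bijective (b := b.flip) hYl hYr)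
  let e : U ≃ₗ[F] Y := eβ.trans eγ.symm
  have he : ∀ (u : U), ∀ y ∈ U', b y (e u : V) = b u y := fun u y hy => by
    have h : pairMap b.flip Y U' (e u) = pairMap b U U' u := eγ.apply_symm_apply (eβ u)
    exact LinearMap.congr_fun h ⟨y, hy⟩
  have heq : ∀ (g : G) (u : U), ((e ⟨ρ g u, hU.1 g u u.2⟩ : Y) : V) = ρ g (e u : V) := by
    intro g u
    refine sub_eq_zero.1 (hYl _ (Y.sub_mem (e _).2 (hY g _ (e u).2)) fun y hy => ?_)
    have h := hb g (ρ g⁻¹ y) (hU'Z (hU'.1 _ y hy)) (e u : V) (hYZ (e u).2)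
    have h' := hb g (u : V) (hUZ u.2) (ρ g⁻¹ y) (hU'Z (hU'.1 _ y hy))
    rw [rho_inv_apply] at h h'
    rw [map_sub, he ⟨ρ g u, hU.1 g u u.2⟩ y hy, h, he u _ (hU'.1 _ y hy), ← h', sub_self]
  -- the automorphism
  have hd2 : U ⊓ Y = ⊥ :=
    eq_bot_iff.2 fun z hz => hRY.le ⟨hXR (Submodule.mem_sup_left hz.1), hz.2⟩
  have hd1 : (U' ⊔ C) ⊓ (U ⊔ Y) = ⊥ := by
    refine (Submodule.eq_bot_iff _).2 fun z hz => ?_
    obtain ⟨a, ha, c, hc, rfl⟩ := Submodule.mem_sup.1 hz.1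
    obtain ⟨u, hu, x, hx, hux⟩ := Submodule.mem_sup.1 hz.2
    have hxR : x ∈ perp b U' Z ⊓ Y := ⟨by
      rw [show x = a + c - u from by rw [← hux]; abel]
      exact Submodule.sub_mem _ (Submodule.add_mem _ (hXR (Submodule.mem_sup_right ha)) (hCR hc))
        (hXR (Submodule.mem_sup_left hu)), hx⟩
    rw [hRY, Submodule.mem_bot] at hxR
    subst hxR
    rw [add_zero] at hux
    have hc' : c ∈ (U ⊔ U') ⊓ C := ⟨by
      rw [show c = u - a from by rw [hux]; abel]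
      exact Submodule.sub_mem _ (Submodule.mem_sup_left hu) (Submodule.mem_sup_right ha), hc⟩
    rw [hXC, Submodule.mem_bot] at hc'
    subst hc'
    rw [add_zero] at hux ⊢
    have : a ∈ U ⊓ U' := ⟨hux ▸ hu, ha⟩
    rwa [hd, Submodule.mem_bot] at this
  have hdec : ∀ z ∈ Z, ∃ a ∈ U' ⊔ C, ∃ u ∈ U, ∃ x ∈ Y, z = a + (u + x) := by
    intro z hz
    rw [← hsup, ← hXsup] at hz
    obtain ⟨r, hr, x, hx, rfl⟩ := Submodule.mem_sup.1 hz
    obtain ⟨w, hw, c, hc, rfl⟩ := Submodule.mem_sup.1 hr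
    obtain ⟨u, hu, a, ha, rfl⟩ := Submodule.mem_sup.1 hw
    exact ⟨a + c, Submodule.add_mem_sup ha hc, u, hu, x, hx, by abel⟩
  obtain ⟨π₀, π₁, -, -, hs01⟩ := exists_proj hd1
  obtain ⟨σ, τ, hσ, hτ, hs2⟩ := exists_proj hd2
  let φ : V →ₗ[F] V := π₀ +
    Y.subtype ∘ₗ e.toLinearMap ∘ₗ (σ ∘ₗ π₁).codRestrict U (fun v => hσ _) +
    U.subtype ∘ₗ e.symm.toLinearMap ∘ₗ (τ ∘ₗ π₁).codRestrict Y (fun v => hτ _)
  have hφ : ∀ (a : V) (u : U) (x : Y), a ∈ U' ⊔ C →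
      φ (a + ((u : V) + x)) = a + (e u : V) + (e.symm x : V) := by
    intro a u x ha
    have h1 := hs01 a ha _ (Submodule.add_mem_sup u.2 x.2)
    have h2 := hs2 u u.2 x x.2
    have e1 : (σ ∘ₗ π₁).codRestrict U (fun v => hσ _) (a + ((u : V) + x)) = u :=
      Subtype.ext (show σ (π₁ _) = _ by rw [h1.2, h2.1])
    have e2 : (τ ∘ₗ π₁).codRestrict Y (fun v => hτ _) (a + ((u : V) + x)) = x :=
      Subtype.ext (show τ (π₁ _) = _ by rw [h1.2, h2.2])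
    simp only [φ, LinearMap.add_apply, LinearMap.comp_apply, Submodule.subtype_apply, e1, e2, h1.1,
      LinearEquiv.coe_coe]
  have hR0 : Inv ρ (U' ⊔ C) := inv_sup hU'.1 hC
  have hmem0 : ∀ a ∈ U' ⊔ C, a ∈ Z := fun a ha =>
    perp_le _ _ _ (hXsup.le (sup_le_sup_right le_sup_right C ha))
  have hφZ : ∀ z ∈ Z, φ z ∈ Z := fun z hz => by
    obtain ⟨a, ha, u, hu, x, hx, rfl⟩ := hdec z hz
    rw [hφ a ⟨u, hu⟩ ⟨x, hx⟩ ha]
    exact Z.add_mem (Z.add_mem (hmem0 a ha) (hYZ (e _).2)) (hUZ (e.symm _).2)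
  have hφg : ∀ g : G, ∀ z ∈ Z, φ (ρ g z) = ρ g (φ z) := fun g z hz => by
    obtain ⟨a, ha, u, hu, x, hx, rfl⟩ := hdec z hz
    rw [show ρ g (a + (u + x)) = ρ g a + (ρ g u + ρ g x) by rw [map_add, map_add],
      hφ _ ⟨ρ g u, hU.1 g u hu⟩ ⟨ρ g x, hY g x hx⟩ (hR0 g a ha),
      hφ a ⟨u, hu⟩ ⟨x, hx⟩ ha, map_add, map_add, heq g ⟨u, hu⟩]
    congr 1
    have h := heq g (e.symm ⟨x, hx⟩)
    rw [LinearEquiv.apply_symm_apply] at h
    have h' : e ⟨ρ g (e.symm ⟨x, hx⟩ : V), hU.1 g _ (e.symm ⟨x, hx⟩).2⟩ = ⟨ρ g x, hY g x hx⟩ :=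
      Subtype.ext h
    rw [← h', LinearEquiv.symm_apply_apply]
  have hφ2 : ∀ z ∈ Z, φ (φ z) = z := fun z hz => by
    obtain ⟨a, ha, u, hu, x, hx, rfl⟩ := hdec z hz
    rw [hφ a ⟨u, hu⟩ ⟨x, hx⟩ ha, add_assoc, add_comm (e ⟨u, hu⟩ : V),
      hφ a (e.symm ⟨x, hx⟩) (e ⟨u, hu⟩) ha, LinearEquiv.apply_symm_apply,
      LinearEquiv.symm_apply_apply]
    abel
  obtain ⟨u, hu, y, hy, huy⟩ := hP
  refine ⟨b.compl₂ φ, fun g x hx z hz => ?_, fun x hx h => hnd x hx fun z hz => ?_,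
    ⟨u, hu, y, hy, ?_⟩, ⟨y, hy, u, hu, ?_⟩⟩
  · simp only [LinearMap.compl₂_apply]
    rw [hφg g z hz, hb g x hx _ (hφZ z hz)]
  · have := h (φ z) (hφZ z hz)
    rwa [LinearMap.compl₂_apply, hφ2 z hz] at this
  · have h := hφ y 0 0 (Submodule.mem_sup_left hy)
    simp only [ZeroMemClass.coe_zero, map_zero, add_zero] at h
    rwa [LinearMap.compl₂_apply, h]
  · have h := hφ 0 ⟨u, hu⟩ 0 (Submodule.zero_mem _)
    simp only [ZeroMemClass.coe_zero, map_zero, add_zero, zero_add] at h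
    rwa [LinearMap.compl₂_apply, h, he ⟨u, hu⟩ y hy]

/-- Some typed part splits off. -/
lemma exists_typed {Z : Submodule F V} (hZ : Inv ρ Z) (hne : Z ≠ ⊥)
    {b : LinearMap.BilinForm F V} (hb : InvForm ρ Z b) (hnd : ND Z b) :
    ∃ (c : LinearMap.BilinForm F V) (X : Submodule F V), InvForm ρ Z c ∧ ND Z c ∧ X ≤ Z ∧
      Inv ρ X ∧ X ≠ ⊥ ∧ ND X c ∧ Typed ρ p X := by
  classical
  have case1 : ∀ (c : LinearMap.BilinForm F V) (U : Submodule F V), InvForm ρ Z c → ND Z c →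
      U ≤ Z → Atom ρ U → (∃ u ∈ U, ∃ y ∈ U, c u y ≠ 0) →
      ∃ (c : LinearMap.BilinForm F V) (X : Submodule F V), InvForm ρ Z c ∧ ND Z c ∧ X ≤ Z ∧
        Inv ρ X ∧ X ≠ ⊥ ∧ ND X c ∧ Typed ρ p X := fun c U hc hcn hUZ hU h =>
    ⟨c, U, hc, hcn, hUZ, hU.1, hU.2.1, atom_pair hU hU.1 hUZ hUZ hc h,
      typed_atom p hU (fun g x hx y hy => hc g x (hUZ hx) y (hUZ hy)) h⟩
  by_cases hcase : ∃ U ≤ Z, Atom ρ U ∧ ∃ u ∈ U, ∃ y ∈ U, b u y ≠ 0
  · obtain ⟨U, hUZ, hU, h⟩ := hcase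
    exact case1 b U hb hnd hUZ hU h
  push Not at hcase
  obtain ⟨U, hUZ, hU⟩ := exists_atom hZ hne
  obtain ⟨C, hCZ, hC, hKC, hsup⟩ := exists_compl (inv_perp hU.1 hZ hUZ hb) hZ (perp_le _ _ _)
  have hC0 : C ≠ ⊥ := by
    rintro rfl
    rw [sup_bot_eq] at hsup
    obtain ⟨u, hu, hu0⟩ := Submodule.exists_mem_ne_zero_of_ne_bot hU.2.1
    exact hu0 (hnd u (hUZ hu) fun z hz => (hsup.ge hz).2 u hu)
  obtain ⟨U', hU'C, hU'⟩ := exists_atom hC hC0
  have hU'Z : U' ≤ Z := hU'C.trans hCZ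
  have hd : U ⊓ U' = ⊥ := eq_bot_iff.2 fun z hz =>
    hKC.le ⟨⟨hUZ hz.1, fun x hx => hcase U hUZ hU x hx z hz.1⟩, hU'C hz.2⟩
  have hP : ∃ u ∈ U, ∃ y ∈ U', b u y ≠ 0 := by
    by_contra h
    push Not at h
    obtain ⟨y, hy, hy0⟩ := Submodule.exists_mem_ne_zero_of_ne_bot hU'.2.1
    exact hy0 ((Submodule.eq_bot_iff _).1 hKC y
      ⟨⟨hU'Z hy, fun x hx => h x hx y hy⟩, hU'C hy⟩)
  have final : ∀ c : LinearMap.BilinForm F V, InvForm ρ Z c → ND Z c →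
      (∃ u ∈ U, ∃ y ∈ U', c u y ≠ 0) → (∃ y ∈ U', ∃ u ∈ U, c y u ≠ 0) →
      ∃ (c : LinearMap.BilinForm F V) (X : Submodule F V), InvForm ρ Z c ∧ ND Z c ∧ X ≤ Z ∧
        Inv ρ X ∧ X ≠ ⊥ ∧ ND X c ∧ Typed ρ p X := by
    intro c hc hcn h1 h2
    by_cases h : ∃ u ∈ U, ∃ y ∈ U, c u y ≠ 0
    · exact case1 c U hc hcn hUZ hU h
    push Not at h
    have hl := atom_pair hU hU'.1 hUZ hU'Z hc h1
    have hl' := atom_pair hU' hU.1 hU'Z hUZ hc h2
    have hr := atom_pair' hU' hU.1 hU'Z hUZ hc h1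
    refine ⟨c, U ⊔ U', hc, hcn, sup_le hUZ hU'Z, inv_sup hU.1 hU'.1,
      fun e => hU.2.1 (eq_bot_iff.2 (le_sup_left.trans e.le)), fun v hv h0 => ?_,
      typed_pair p hU.1 hU'.1 hd
        (fun g x hx y hy => hc g x (sup_le hUZ hU'Z hx) y (sup_le hUZ hU'Z hy)) hl hr⟩
    obtain ⟨x, hx, y, hy, rfl⟩ := Submodule.mem_sup.1 hv
    have hy0 : y = 0 := hl' y hy fun a ha => by
      have := h0 a (Submodule.mem_sup_left ha)
      rwa [map_add, LinearMap.add_apply, h x hx a ha, zero_add] at this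
    subst hy0
    rw [add_zero] at h0 ⊢
    exact hl x hx fun a ha => h0 a (Submodule.mem_sup_right ha)
  by_cases hQ : ∃ y ∈ U', ∃ u ∈ U, b y u ≠ 0
  · exact final b hb hnd hP hQ
  push Not at hQ
  obtain ⟨c, hc, hcn, h1, h2⟩ := twist hZ hb hnd hU hUZ hU' hU'Z hd hP hQ (hcase U' hU'Z hU')
  exact final c hc hcn h1 h2

/-- Every subspace with a nondegenerate invariant form decomposes. -/
theorem good_all : ∀ (n : ℕ) (Z : Submodule F V), Module.finrank F Z ≤ n → Inv ρ Z →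
    ∀ b : LinearMap.BilinForm F V, InvForm ρ Z b → ND Z b → Good ρ p Z := by
  intro n
  induction n with
  | zero =>
    intro Z hn _ b _ _
    have hZ : Z = ⊥ := Submodule.finrank_eq_zero.1 (Nat.le_zero.1 hn)
    subst hZ
    have hbot : Inv ρ (⊥ : Submodule F V) := fun g v hv => by
      rw [(Submodule.mem_bot F).1 hv, map_zero]; exact Submodule.zero_mem _
    exact ⟨⊥, ⊥, hbot, hbot, inf_bot_eq _, sup_bot_eq _,
      ⟨0, fun x => rfl, fun g x _ y _ => rfl, fun x hx _ => (Submodule.mem_bot F).1 hx⟩,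
      ⟨0, fun x y => rfl, fun g x _ y _ => rfl, fun x hx _ => (Submodule.mem_bot F).1 hx⟩,
      fun _ g w hw => by rw [(Submodule.mem_bot F).1 hw, map_zero]⟩
  | succ n ih =>
    intro Z hn hZ b hb hnd
    by_cases hne : Z = ⊥
    · exact ih Z (by rw [hne, finrank_bot]; exact Nat.zero_le _) hZ b hb hnd
    obtain ⟨c, X, hc, hcn, hXZ, hX, hX0, hXn, ht⟩ := exists_typed p hZ hne hb hnd
    obtain ⟨Y, hY, hd, hsup, hYn⟩ := split hX hZ hXZ hc hXn hcn
    have hYle : Y ≤ Z := hsup ▸ le_sup_right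
    have hlt : Module.finrank F Y < Module.finrank F Z := by
      have h1 := Submodule.finrank_sup_add_finrank_inf_eq X Y
      rw [hsup, hd, finrank_bot, add_zero] at h1
      have : Module.finrank F X ≠ 0 := fun e => hX0 (Submodule.finrank_eq_zero.1 e)
      omega
    rw [← hsup]
    exact good_join p hX hd ht (ih Y (by omega) hY c
      (fun g x hx y hy => hc g x (hYle hx) y (hYle hy)) hYn)

end maschke
end types

end Cfsg.Lib.SelfDualSplit
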