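import Cfsg.Statements.S4967
import Mathlib
-- import your own Cfsg.Agent.* helpers here

set_option autoImplicit false
open Cfsg

namespace Cfsg.Agent.S4967

set_option linter.unusedSectionVars false

/-- Let F be a finite field with r elements and of characteristic p, H a finite abelian group of order prime to p, and V a faithful irreducible representation of H over F of dimension n (faithful: distinct elements act differently; irreducible: the only H-invariant subspaces are 0 and V). Call V self-dual when it carries a nondegenerate H-invariant bilinear form. If n = 1 and V is self-dual then H has order at most 2. If n ≥ 2 then V is self-dual if and only if n is even and the order of H divides r^(n/2) + 1. -/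
theorem result {F : Type*} [Field F] [Fintype F] (p : ℕ) [Fact p.Prime] [CharP F p] {H : Type*} [CommGroup H] [Finite H] (hcop : ¬ p ∣ Nat.card H) {V : Type*} [AddCommGroup V] [Module F V] [FiniteDimensional F V] (ρ : Representation F H V) (hfaith : Function.Injective ρ) (hirr : ∀ U : Submodule F V, (∀ h : H, ∀ u ∈ U, ρ h u ∈ U) → U = ⊥ ∨ U = ⊤) : (Module.finrank F V = 1 → (∃ B : LinearMap.BilinForm F V, B.Nondegenerate ∧ ∀ h : H, ∀ x y : V, B (ρ h x) (ρ h y) = B x y) → Nat.card H ≤ 2) ∧ (2 ≤ Module.finrank F V → ((∃ B : LinearMap.BilinForm F V, B.Nondegenerate ∧ ∀ h : H, ∀ x y : V, B (ρ h x) (ρ h y) = B x y) ↔ (Even (Module.finrank F V) ∧ Nat.card H ∣ Fintype.card F ^ (Module.finrank F V / 2) + 1))) := by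
  classical
  set n := Module.finrank F V with hn
  by_cases hn0 : n = 0
  · exact ⟨fun h => absurd h (by omega), fun h => absurd h (by omega)⟩
  haveI : Nontrivial V := Module.nontrivial_of_finrank_pos (Nat.pos_of_ne_zero hn0)
  obtain ⟨v0, hv0⟩ := exists_ne (0 : V)
  haveI : Finite V := Module.finite_of_finite F
  set A := Algebra.adjoin F (Set.range ρ) with hA
  have hcomm0 : ∀ a ∈ A, ∀ h : H, a * ρ h = ρ h * a := by
    intro a ha h
    refine Algebra.adjoin_induction (p := fun a _ => a * ρ h = ρ h * a) ?_ ?_ ?_ ?_ ha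
    · rintro _ ⟨g, rfl⟩
      rw [← map_mul, ← map_mul, mul_comm]
    · intro r
      exact Algebra.commutes r _
    · intro a b _ _ ha hb
      rw [add_mul, mul_add, ha, hb]
    · intro a b _ _ ha hb
      rw [mul_assoc, hb, ← mul_assoc, ha, mul_assoc]
  have hcommA : ∀ a b : A, a * b = b * a := by
    intro a b
    refine Subtype.ext ?_
    refine Algebra.adjoin_induction (p := fun b _ => (a : Module.End F V) * b = b * a) ?_ ?_ ?_ ?_ b.2
    · rintro _ ⟨g, rfl⟩
      exact hcomm0 a a.2 g
    · intro r
      exact (Algebra.commutes r _).symm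
    · intro x y _ _ hx hy
      rw [mul_add, add_mul, hx, hy]
    · intro x y _ _ hx hy
      rw [← mul_assoc, hx, mul_assoc, hy, ← mul_assoc]
  letI : CommRing A := { (inferInstance : Ring A) with mul_comm := hcommA }
  have hker : ∀ a : A, a ≠ 0 → ∀ v : V, (a : Module.End F V) v = 0 → v = 0 := by
    intro a ha v hv
    rcases hirr (LinearMap.ker (a : Module.End F V)) (fun h u hu => by
      rw [LinearMap.mem_ker] at hu ⊢
      have := LinearMap.congr_fun (hcomm0 a a.2 h) u
      simp only [Module.End.mul_apply] at this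
      rw [this, hu, map_zero]) with h1 | h1
    · have : v ∈ LinearMap.ker (a : Module.End F V) := hv
      rwa [h1, Submodule.mem_bot] at this
    · exact absurd (Subtype.ext (LinearMap.ker_eq_top.1 h1)) ha
  haveI : Nontrivial A := ⟨⟨1, 0, fun h => hv0 (by
    have h2 := LinearMap.congr_fun (congrArg Subtype.val h) v0
    simpa using h2)⟩⟩
  haveI : NoZeroDivisors A := ⟨fun {a b} hab => by
    by_contra hne
    rw [not_or] at hne
    refine hne.2 (Subtype.ext (LinearMap.ext fun v => ?_))
    exact hker a hne.1 _ (LinearMap.congr_fun (congrArg Subtype.val hab) v)⟩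
  haveI : IsDomain A := NoZeroDivisors.to_isDomain A
  haveI : Finite (V →ₗ[F] V) := Module.finite_of_finite F
  haveI : Finite A := Subtype.finite
  letI : Fintype A := Fintype.ofFinite A
  letI : Field A := IsField.toField (Finite.isField_of_domain A)
  let ev : A →ₗ[F] V :=
    { toFun := fun a => (a : Module.End F V) v0
      map_add' := fun a b => rfl
      map_smul' := fun r a => rfl }
  have hinj : Function.Injective ev := by
    intro a b hab
    by_contra hne
    refine hv0 (hker (a - b) (sub_ne_zero.2 hne) v0 ?_)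
    show (a : Module.End F V) v0 - (b : Module.End F V) v0 = 0
    exact sub_eq_zero.2 hab
  have hsurj : Function.Surjective ev := by
    rw [← LinearMap.range_eq_top]
    refine (hirr _ fun h u hu => ?_).resolve_left fun h => hv0 ?_
    · obtain ⟨a, rfl⟩ := hu
      exact ⟨⟨ρ h, Algebra.subset_adjoin ⟨h, rfl⟩⟩ * a, rfl⟩
    · have : ev 1 ∈ LinearMap.range ev := ⟨1, rfl⟩
      rw [h, Submodule.mem_bot] at this
      exact this
  let e : A ≃ₗ[F] V := LinearEquiv.ofBijective ev ⟨hinj, hsurj⟩
  haveI : Module.Finite F A := Module.Finite.equiv e.symm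
  have hrank : Module.finrank F A = n := e.finrank_eq
  let gH : H →* A :=
    { toFun := fun h => ⟨ρ h, Algebra.subset_adjoin ⟨h, rfl⟩⟩
      map_one' := Subtype.ext (map_one ρ)
      map_mul' := fun a b => Subtype.ext (map_mul ρ a b) }
  have hgH : Function.Injective gH := fun a b h => hfaith (congrArg Subtype.val h)
  have hfwd : ∀ B : LinearMap.BilinForm F V, B.Nondegenerate →
      (∀ h : H, ∀ x y : V, B (ρ h x) (ρ h y) = B x y) →
      ∃ j : ℕ, j < n ∧ n ∣ 2 * j ∧ ∀ h : H, gH h ^ (Fintype.card F ^ j) = gH h⁻¹ := by
    intro B hB hinv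
    have hex : ∀ a : A, ∃ b : A, ∀ x y : V,
        B ((a : Module.End F V) x) y = B x ((b : Module.End F V) y) := by
      rintro ⟨a, ha⟩
      refine Algebra.adjoin_induction (p := fun a _ => ∃ b : A, ∀ x y : V,
        B (a x) y = B x ((b : Module.End F V) y)) ?_ ?_ ?_ ?_ ha
      · rintro _ ⟨h, rfl⟩
        refine ⟨gH h⁻¹, fun x y => ?_⟩
        show B (ρ h x) y = B x (ρ h⁻¹ y)
        conv_lhs => rw [show y = ρ h (ρ h⁻¹ y) by rw [← Module.End.mul_apply, ← map_mul, mul_inv_cancel, map_one, Module.End.one_apply]]
        exact hinv h x _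
      · intro r
        refine ⟨algebraMap F A r, fun x y => ?_⟩
        show B (r • x) y = B x (r • y)
        rw [map_smul, map_smul, LinearMap.smul_apply]
      · rintro a b _ _ ⟨a', ha⟩ ⟨b', hb⟩
        refine ⟨a' + b', fun x y => ?_⟩
        show B (a x + b x) y = B x ((a' : Module.End F V) y + (b' : Module.End F V) y)
        rw [map_add, map_add, LinearMap.add_apply, ha, hb]
      · rintro a b _ _ ⟨a', ha⟩ ⟨b', hb⟩
        refine ⟨b' * a', fun x y => ?_⟩
        show B (a (b x)) y = B x ((b' : Module.End F V) ((a' : Module.End F V) y))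
        rw [ha, hb]
    choose τ hτ using hex
    have huniq : ∀ (a b : A), (∀ x y : V, B ((a : Module.End F V) x) y = B x ((b : Module.End F V) y)) →
        τ a = b := by
      intro a b h
      refine Subtype.ext (LinearMap.ext fun y => ?_)
      refine sub_eq_zero.1 (hB.2 _ fun x => ?_)
      rw [map_sub, ← hτ a x y, h x y, sub_self]
    let τh : A →ₐ[F] A :=
      { toFun := τ
        map_one' := huniq 1 1 fun x y => rfl
        map_mul' := fun a b => huniq (a * b) (τ a * τ b) fun x y => by
          rw [mul_comm (τ a) (τ b)]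
          show B ((a : Module.End F V) ((b : Module.End F V) x)) y =
            B x ((τ b : Module.End F V) ((τ a : Module.End F V) y))
          rw [hτ, hτ]
        map_zero' := huniq 0 0 fun x y => by simp
        map_add' := fun a b => huniq (a + b) (τ a + τ b) fun x y => by
          show B ((a : Module.End F V) x + (b : Module.End F V) x) y =
            B x ((τ a : Module.End F V) y + (τ b : Module.End F V) y)
          rw [map_add, map_add, LinearMap.add_apply, hτ, hτ]
        commutes' := fun r => huniq _ _ fun x y => by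
          show B (r • x) y = B x (r • y)
          rw [map_smul, map_smul, LinearMap.smul_apply] }
    have hgen : ∀ h : H, τh (gH h) = gH h⁻¹ := fun h => huniq _ _ fun x y => by
      show B (ρ h x) y = B x (ρ h⁻¹ y)
      conv_lhs => rw [show y = ρ h (ρ h⁻¹ y) by rw [← Module.End.mul_apply, ← map_mul, mul_inv_cancel, map_one, Module.End.one_apply]]
      exact hinv h x _
    obtain ⟨j, hj⟩ := (FiniteField.bijective_frobeniusAlgHom_pow F A).2 τh
    simp only at hj
    have hsq : τh.comp τh = AlgHom.id F A := by
      refine AlgHom.ext fun a => ?_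
      obtain ⟨a, ha⟩ := a
      refine Algebra.adjoin_induction (p := fun a ha => τh (τh ⟨a, ha⟩) = ⟨a, ha⟩) ?_ ?_ ?_ ?_ ha
      · rintro _ ⟨h, rfl⟩
        show τh (τh (gH h)) = gH h
        rw [hgen, hgen, inv_inv]
      · intro r
        show τh (τh (algebraMap F A r)) = algebraMap F A r
        rw [AlgHom.commutes, AlgHom.commutes]
      · intro a b ha hb iha ihb
        show τh (τh (⟨a, ha⟩ + ⟨b, hb⟩)) = _
        rw [map_add, map_add, iha, ihb]
        rfl
      · intro a b ha hb iha ihb
        show τh (τh (⟨a, ha⟩ * ⟨b, hb⟩)) = _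
        rw [map_mul, map_mul, iha, ihb]
        rfl
    refine ⟨j.1, hrank ▸ j.2, ?_, fun h => ?_⟩
    · have ho := FiniteField.orderOf_frobeniusAlgHom F A
      refine (hrank.symm.trans ho.symm) ▸ orderOf_dvd_of_pow_eq_one (?_ : FiniteField.frobeniusAlgHom F A ^ (2 * j.1) = 1)
      rw [two_mul, pow_add, hj]
      exact hsq
    · rw [← hgen h, ← hj]
      rw [AlgHom.coe_pow, FiniteField.coe_frobeniusAlgHom, pow_iterate]
  have htwo : ∀ h : H, gH h = gH h⁻¹ → gH h = 1 ∨ gH h = -1 := fun h hh => by
    refine mul_self_eq_one_iff.1 ?_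
    nth_rewrite 2 [hh]
    rw [← map_mul, mul_inv_cancel, map_one]
  refine ⟨fun h1 hB => ?_, fun h2 => ⟨?_, ?_⟩⟩
  · obtain ⟨B, hB, hinv⟩ := hB
    obtain ⟨j, hj, -, hact⟩ := hfwd B hB hinv
    have hj0 : j = 0 := by omega
    have h3 : ∀ h : H, gH h ∈ ({1, -1} : Finset A) := fun h => by
      rw [Finset.mem_insert, Finset.mem_singleton]
      refine htwo h ?_
      have := hact h
      rwa [hj0, pow_zero, pow_one] at this
    calc Nat.card H ≤ Nat.card ({1, -1} : Finset A) :=
          Nat.card_le_card_of_injective (fun h => (⟨gH h, h3 h⟩ : ({1, -1} : Finset A)))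
            fun a b hab => hgH (congrArg Subtype.val hab)
      _ ≤ 2 := by rw [Nat.card_eq_finsetCard]; exact Finset.card_le_two
  · rintro ⟨B, hB, hinv⟩
    obtain ⟨j, hj, hdvd, hact⟩ := hfwd B hB hinv
    have hj0 : j ≠ 0 := by
      intro hj0
      have hbot : A ≤ (⊥ : Subalgebra F (Module.End F V)) := by
        rw [hA, Algebra.adjoin_le_iff]
        rintro _ ⟨h, rfl⟩
        have := hact h
        rw [hj0, pow_zero, pow_one] at this
        rcases htwo h this with h4 | h4
        · rw [show ρ h = 1 from congrArg Subtype.val h4]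
          exact one_mem _
        · rw [show ρ h = -1 from congrArg Subtype.val h4]
          exact neg_mem (one_mem _)
      have h5 : Module.finrank F A = 1 := by
        rw [le_bot_iff.1 hbot]
        exact Subalgebra.finrank_bot
      omega
    obtain ⟨c, hc⟩ := hdvd
    have hc1 : c = 1 := by
      rcases Nat.lt_or_ge c 2 with h6 | h6
      · interval_cases c
        · omega
        · rfl
      · have := Nat.mul_le_mul_left n h6
        omega
    rw [hc1, mul_one] at hc
    refine ⟨⟨j, by omega⟩, ?_⟩
    haveI : IsCyclic H := isCyclic_of_subgroup_isDomain gH hgH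
    obtain ⟨g, hg⟩ := IsCyclic.exists_ofOrder_eq_natCard (α := H)
    rw [← hg, show n / 2 = j by omega]
    refine orderOf_dvd_of_pow_eq_one (hgH ?_)
    rw [map_pow, pow_succ, hact g, ← map_mul, inv_mul_cancel]
  · rintro ⟨hev, hdvd⟩
    set q := Fintype.card F ^ (n / 2) with hq
    let σ : A →ₐ[F] A := FiniteField.frobeniusAlgHom F A ^ (n / 2)
    have hσ : ∀ a : A, σ a = a ^ q := fun a => by
      show (FiniteField.frobeniusAlgHom F A ^ (n / 2)) a = _
      rw [AlgHom.coe_pow, FiniteField.coe_frobeniusAlgHom, pow_iterate]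
    let B : LinearMap.BilinForm F V :=
      (Algebra.traceForm F A).compl₁₂ e.symm.toLinearMap (σ.toLinearMap ∘ₗ e.symm.toLinearMap)
    have hBdef : ∀ x y : V, B x y = Algebra.trace F A (e.symm x * σ (e.symm y)) := fun x y => rfl
    have heq : ∀ h x, e.symm (ρ h x) = gH h * e.symm x := fun h x => by
      apply e.injective
      rw [LinearEquiv.apply_symm_apply]
      show ρ h x = (gH h : Module.End F V) ((e.symm x : Module.End F V) v0)
      exact congrArg (ρ h) (e.apply_symm_apply x).symm
    have hσb : Function.Bijective σ := (Finite.injective_iff_bijective).1 σ.toRingHom.injective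
    have hT := _root_.traceForm_nondegenerate F A
    refine ⟨B, ⟨fun x hx => ?_, fun y hy => ?_⟩, fun h x y => ?_⟩
    · apply e.symm.injective
      rw [map_zero]
      refine hT.1 _ fun b => ?_
      obtain ⟨c, rfl⟩ := hσb.2 b
      have := hx (e c)
      rw [hBdef, e.symm_apply_apply] at this
      rwa [Algebra.traceForm_apply]
    · apply e.symm.injective
      apply hσb.1
      rw [map_zero, map_zero]
      refine hT.2 _ fun b => ?_
      have := hy (e b)
      rw [hBdef, e.symm_apply_apply] at this
      rwa [Algebra.traceForm_apply]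
    · rw [hBdef, hBdef, heq, heq, map_mul σ, hσ (gH h)]
      have h1 : gH h * gH h ^ q = 1 := by
        rw [← pow_succ', ← map_pow]
        obtain ⟨d, hd⟩ := hdvd
        rw [hd, pow_mul, pow_card_eq_one', one_pow, map_one]
      rw [mul_mul_mul_comm, h1, one_mul]

end Cfsg.Agent.S4967
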