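import Cfsg.Statements.S4976
import Cfsg.Agent.SThreeReal.Structure
-- import your own Cfsg.Agent.* helpers here

set_option autoImplicit false
set_option linter.style.haveILetI false
open Cfsg

namespace Cfsg.Agent.S4976

/-- Let G be a finite group of order divisible by 3 that is generated by its 2-elements (G has no proper normal subgroup of odd index). Then no element of order 3 in G is conjugate to its inverse if and only if the quotient of G by its largest normal subgroup of order prime to 3 is isomorphic to a direct product of groups PSL₂ over fields with 3^{2f+1} elements, f ≥ 1 (the exponents may differ between factors). -/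
theorem result {G : Type*} [Group G] [Finite G] (h3 : 3 ∣ Nat.card G) (hgen : Subgroup.closure {g : G | ∃ k : ℕ, orderOf g = 2 ^ k} = ⊤) : (∀ x : G, orderOf x = 3 → ¬ IsConj x x⁻¹) ↔ ∃ (k : ℕ) (f : Fin k → ℕ), (∀ i, 1 ≤ f i) ∧ Nonempty (G ⧸ Cfsg.pPrimeCore 3 G ≃* ((i : Fin k) → Matrix.ProjectiveSpecialLinearGroup (Fin 2) (GaloisField 3 (2 * f i + 1)))) := by
  haveI : Fact (Nat.Prime 3) := ⟨Nat.prime_three⟩
  set q := QuotientGroup.mk' (Cfsg.pPrimeCore 3 G)
  have hq : Function.Surjective q := QuotientGroup.mk'_surjective _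
  constructor
  · intro hno
    have hfree : ¬ Cfsg.Involves (Equiv.Perm (Fin 3)) (G ⧸ Cfsg.pPrimeCore 3 G) := fun h => by
      obtain ⟨x, y, -, hy, hxy⟩ :=
        Cfsg.Lib.GoldschmidtSFour.inverted_of_involves (Cfsg.Lib.QuadPair.involves_of_surjective hq h)
      exact hno y hy (isConj_iff.2 ⟨x, hxy⟩)
    refine Cfsg.Lib.SThreeReal.structure_psl hfree (eq_top_iff.2 ?_)
      Cfsg.Lib.Components.pPrimeCore_quotient_eq_bot
    rw [← Subgroup.map_top_of_surjective q hq, ← hgen, MonoidHom.map_closure, Subgroup.closure_le]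
    rintro _ ⟨g, ⟨k, hk⟩, rfl⟩
    obtain ⟨j, -, hj⟩ := (Nat.dvd_prime_pow Nat.prime_two).1 (hk ▸ orderOf_map_dvd q g)
    exact Subgroup.subset_closure ⟨j, hj⟩
  · rintro ⟨k, f, -, ⟨e⟩⟩ x hx hc
    obtain ⟨c, hc⟩ := isConj_iff.1 hc
    have hne : e (q x) ≠ 1 := fun h => by
      have h1 : q x = 1 := e.injective (h.trans (map_one e).symm)
      have hd := Subgroup.orderOf_dvd_natCard (Cfsg.pPrimeCore 3 G) ((QuotientGroup.eq_one_iff x).1 h1)
      rw [hx] at hd
      exact (Nat.prime_three.coprime_iff_not_dvd).1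
        (Cfsg.Lib.Components.coprime_card_pPrimeCore (G := G) 3).symm hd
    obtain ⟨i, hi⟩ := Function.ne_iff.1 hne
    haveI : Fintype (GaloisField 3 (2 * f i + 1)) := Fintype.ofFinite _
    refine Cfsg.Lib.GoldschmidtSFour.psl_three_not_involves_three
      (G := Matrix.ProjectiveSpecialLinearGroup (Fin 2) (GaloisField 3 (2 * f i + 1))) (n := f i)
      (F := GaloisField 3 (2 * f i + 1)) ?_ (MulEquiv.refl _)
      (Cfsg.Lib.GoldschmidtSFour.involves_of_real (x := e (q c) i) (y := e (q x) i) ?_ ?_)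
    · rw [← Nat.card_eq_fintype_card, GaloisField.card 3 (2 * f i + 1) (by omega)]
    · refine orderOf_eq_prime ?_ hi
      have hx3 : x ^ 3 = 1 := orderOf_dvd_iff_pow_eq_one.1 (hx ▸ dvd_rfl)
      rw [← Pi.pow_apply, ← map_pow, ← map_pow, hx3, map_one, map_one, Pi.one_apply]
    · have := congrFun (congrArg e (congrArg q hc)) i
      simpa only [map_mul, map_inv, Pi.mul_apply, Pi.inv_apply] using this

end Cfsg.Agent.S4976
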