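import Cfsg.Statements.S4989
import Cfsg.Agent.Blocks.ZeroCounting
-- import your own Cfsg.Agent.* helpers here

set_option autoImplicit false
open Cfsg

namespace Cfsg.Agent.S4989

set_option linter.unusedSectionVars false

open Cfsg.Lib.Chars Cfsg.Lib.Blocks

/-- Let H be a subgroup of the finite group G and χ an irreducible complex character of G. Then the inner product of the restriction of χ to H with itself, (1/#H)·Σ_{h ∈ H} |χ(h)|², is at most 1 + #(Z ∖ H)/#H, where Z is the set of zeros of χ in G. -/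
theorem result {G : Type*} [Group G] [Finite G] (H : Subgroup G) (χ : Cfsg.IrrCharacter G) : (Nat.card ↥H : ℝ)⁻¹ * ∑ᶠ h : ↥H, ‖(χ : G → ℂ) h‖ ^ 2 ≤ 1 + (Set.ncard ({x : G | (χ : G → ℂ) x = 0} \ (H : Set G)) : ℝ) / (Nat.card ↥H : ℝ) := by
  classical
  haveI := Fintype.ofFinite G
  rw [finsum_eq_sum_of_fintype]
  set A := Finset.univ.filter (fun g : G => g ∈ H) with hA
  set V := Finset.univ.filter (fun g : G => g ∉ H ∧ (χ : G → ℂ) g = 0) with hV
  set R := Finset.univ.filter (fun g : G => g ∉ H ∧ (χ : G → ℂ) g ≠ 0) with hR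
  have hAV : Disjoint A V := Finset.disjoint_filter.2 fun g _ h1 h2 => h2.1 h1
  have hAVR : Disjoint (A ∪ V) R := by
    rw [Finset.disjoint_union_left]
    exact ⟨Finset.disjoint_filter.2 fun g _ h1 h2 => h2.1 h1,
      Finset.disjoint_filter.2 fun g _ h1 h2 => h2.2 h1.2⟩
  have huniv : A ∪ V ∪ R = Finset.univ := by
    ext g
    simp only [hA, hV, hR, Finset.mem_union, Finset.mem_filter, Finset.mem_univ, true_and, iff_true]
    tauto
  have hAc : A.card = Nat.card H := by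
    rw [hA, Nat.card_eq_fintype_card, Fintype.card_subtype]
  have hVc : ({x : G | (χ : G → ℂ) x = 0} \ (H : Set G)).ncard = V.card := by
    rw [Set.ncard_eq_toFinset_card']
    congr 1
    ext g
    simp [hV, and_comm]
  have hcard : (Nat.card G : ℝ) = A.card + V.card + R.card := by
    rw [Nat.card_eq_fintype_card, ← Finset.card_univ, ← huniv, Finset.card_union_of_disjoint hAVR,
      Finset.card_union_of_disjoint hAV]
    push_cast; ring
  have hsum : (Nat.card G : ℝ) = ∑ g ∈ A, ‖(χ : G → ℂ) g‖ ^ 2 + ∑ g ∈ R, ‖(χ : G → ℂ) g‖ ^ 2 := by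
    rw [← sum_norm_sq_eq_card χ.2, ← huniv, Finset.sum_union hAVR, Finset.sum_union hAV,
      Finset.sum_eq_zero (s := V) (fun g hg => by
        rw [(Finset.mem_filter.1 hg).2.2, norm_zero, zero_pow two_ne_zero]), add_zero]
  have hle : (R.card : ℝ) ≤ ∑ g ∈ R, ‖(χ : G → ℂ) g‖ ^ 2 := by
    refine card_le_sum_norm_sq (isCharacter_of_irr χ.2) R (fun g hg k hk => ?_)
      fun g hg => (Finset.mem_filter.1 hg).2.2
    simp only [hR, Finset.mem_filter, Finset.mem_univ, true_and] at hg ⊢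
    refine ⟨fun h => hg.1 ?_, fun h => hg.2 ((apply_pow_eq_zero_iff (isCharacter_of_irr χ.2) hk g).1 h)⟩
    have h1 : g ^ k ∈ Subgroup.zpowers g := pow_mem (Subgroup.mem_zpowers g) k
    have h2 : orderOf (g ^ k) = orderOf g :=
      Nat.Coprime.orderOf_pow ((hk.coprime_dvd_right (orderOf_dvd_natCard g)).symm)
    have h3 : Subgroup.zpowers (g ^ k) = Subgroup.zpowers g :=
      Subgroup.eq_of_le_of_card_ge (Subgroup.zpowers_le.2 h1) (by rw [Nat.card_zpowers, Nat.card_zpowers, h2])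
    exact (Subgroup.zpowers_le.2 h : Subgroup.zpowers (g ^ k) ≤ H) (h3 ▸ Subgroup.mem_zpowers g)
  have hHsum : ∑ h : H, ‖(χ : G → ℂ) h‖ ^ 2 = ∑ g ∈ A, ‖(χ : G → ℂ) g‖ ^ 2 :=
    (Finset.sum_subtype A (fun g => by simp [hA]) (fun g => ‖(χ : G → ℂ) g‖ ^ 2)).symm
  have hH0 : (0 : ℝ) < Nat.card H := by exact_mod_cast Nat.card_pos
  rw [hHsum, hVc, inv_mul_eq_div, ← sub_nonneg]
  rw [show (1 : ℝ) + (V.card : ℝ) / (Nat.card H : ℝ) - (∑ g ∈ A, ‖(χ : G → ℂ) g‖ ^ 2) / (Nat.card H : ℝ) =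
    ((Nat.card H : ℝ) + V.card - ∑ g ∈ A, ‖(χ : G → ℂ) g‖ ^ 2) / (Nat.card H : ℝ) by field_simp]
  refine div_nonneg ?_ hH0.le
  have : (A.card : ℝ) = Nat.card H := by rw [hAc]
  linarith

end Cfsg.Agent.S4989
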