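import Cfsg.Statements.S4993
import Cfsg.Agent.Chars.PrimitiveMetanilpotent
-- import your own Cfsg.Agent.* helpers here

set_option autoImplicit false
open Cfsg

namespace Cfsg.Agent.S4993

/-- Let G be a group of odd order whose order has exactly two prime divisors and whose quotient by its Fitting subgroup is nilpotent (G is metanilpotent), and let χ be a primitive irreducible complex character of G (not induced from a character of any proper subgroup). Then χ(1) divides the size of some conjugacy class of G. -/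
theorem result {G : Type*} [Group G] [Fintype G] (hodd : Odd (Nat.card G)) (h2 : (Nat.card G).primeFactors.card = 2) [hF : (Cfsg.fittingSubgroup G).Normal] (hmeta : Group.IsNilpotent (G ⧸ Cfsg.fittingSubgroup G)) (χ : Cfsg.IrrCharacter G) (hprim : ¬ ∃ (H : Subgroup G), H ≠ ⊤ ∧ ∃ θ : ↥H → ℂ, Cfsg.IsCharacter ↥H θ ∧ Cfsg.indFun H θ = (χ : G → ℂ)) : ∃ g : G, Cfsg.charDegree (χ : G → ℂ) ∣ (Subgroup.centralizer ({g} : Set G)).index := by
  classical
  obtain ⟨p, q, hpq, hs⟩ := Finset.card_eq_two.1 h2
  haveI : Fact p.Prime := ⟨Nat.prime_of_mem_primeFactors (hs ▸ Finset.mem_insert_self p _)⟩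
  haveI : Fact q.Prime :=
    ⟨Nat.prime_of_mem_primeFactors (hs ▸ Finset.mem_insert_of_mem (Finset.mem_singleton_self q))⟩
  haveI := hF
  haveI := Cfsg.Lib.Components.isNilpotent_fitting (G := G)
  obtain ⟨g, hg⟩ := Cfsg.Lib.Chars.PrimChar.dvd_class (χ := (χ : G → ℂ)) hprim χ.2
    (Cfsg.fittingSubgroup G) hmeta hpq fun r hr hd => by
      have : r ∈ (Nat.card G).primeFactors := Nat.mem_primeFactors.2 ⟨hr, hd, Nat.card_pos.ne'⟩
      rw [hs] at this
      simpa using this
  exact ⟨g, by rw [Cfsg.Lib.Chars.charDegree_eq_deg χ.2]; exact hg⟩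

end Cfsg.Agent.S4993
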