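import Cfsg.Statements.S4996
import Cfsg.Agent.Blocks.ZeroCounting
import Cfsg.Agent.Chars.Quotient
import Cfsg.Agent.Chars.Sums
-- import your own Cfsg.Agent.* helpers here

set_option autoImplicit false
open Cfsg

namespace Cfsg.Agent.S4996

set_option linter.unusedSectionVars false

open Cfsg.Lib.Chars Cfsg.Lib.Blocks

/-- Let N be a normal subgroup of the finite group G and χ an irreducible complex character of G. Then the restriction of χ to N is not irreducible if and only if χ vanishes on some whole coset Nx of N in G. -/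
theorem result {G : Type*} [Group G] [Finite G] (N : Subgroup G) [N.Normal] (χ : Cfsg.IrrCharacter G) : ¬ Cfsg.IsIrrCharacter ↥N (fun n : ↥N => (χ : G → ℂ) n) ↔ ∃ x : G, ∀ n : ↥N, (χ : G → ℂ) ((n : G) * x) = 0 := by
  classical
  haveI := Fintype.ofFinite G
  have hc := isCharacter_of_irr χ.2
  have hN0 : (Nat.card N : ℂ) ≠ 0 := Nat.cast_ne_zero.2 Nat.card_pos.ne'
  set w : G → ℂ := fun g => (χ : G → ℂ) g * (starRingEnd ℂ) ((χ : G → ℂ) g) with hw
  set f : G → ℂ := fun g => (Nat.card N : ℂ)⁻¹ * ∑ n : N, w ((n : G) * g) with hf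
  constructor
  · intro hnirr
    by_contra hcon
    push Not at hcon
    -- `f` is a class function
    have hwc : Cfsg.IsClassFunction G w := fun g y => by
      simp only [hw, isClassFunction_irr χ g y]
    have hfc : Cfsg.IsClassFunction G f := fun g y => by
      simp only [hf]
      congr 1
      refine Fintype.sum_equiv (MulAut.conjNormal (H := N) y⁻¹).toEquiv _ _ fun n => ?_
      simp only [MulEquiv.toEquiv_eq_coe, EquivLike.coe_coe, MulAut.conjNormal_apply, inv_inv]
      rw [← hwc ((y⁻¹ * (n : G) * y) * g) y]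
      congr 1
      group
    have hwchar : Cfsg.IsCharacter G w := by
      have := IsCharacter.mul hc (IsCharacter.conjugate hc)
      exact this
    have hfchar : Cfsg.IsCharacter G f := by
      refine isCharacter_of_coeff hfc fun η => ?_
      -- the average of `η` over cosets
      obtain ⟨a, ha⟩ : ∃ a : ℕ, ∀ g : G, ∑ n : N, (η : G → ℂ) ((n : G) * g) =
          (Nat.card N : ℂ) * a * (η : G → ℂ) g := by
        obtain ⟨d, ρ, hρ, hη⟩ := η.2
        have hind : Cfsg.IsClassFunction G (fun x : G => if x ∈ N then (1 : ℂ) else 0) := fun x y => by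
          have : y * x * y⁻¹ ∈ N ↔ x ∈ N := ⟨fun h => by
            simpa [mul_assoc] using (inferInstance : N.Normal).conj_mem _ h y⁻¹,
            fun h => (inferInstance : N.Normal).conj_mem x h y⟩
          simp only [this]
        have hconv : ∀ F : G → ℂ, ∑ x, (if x ∈ N then (1 : ℂ) else 0) * F x = ∑ n : N, F n := fun F => by
          simp only [ite_mul, one_mul, zero_mul]
          rw [← Finset.sum_filter]
          exact Finset.sum_subtype _ (fun x => by simp) F
        have h1 : ∀ g : G, ∑ n : N, (η : G → ℂ) ((n : G) * g) =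
            (∑ n : N, (η : G → ℂ) n) / (Module.finrank ℂ (Fin d → ℂ) : ℂ) * (η : G → ℂ) g := by
          intro g
          rw [← hconv (fun x => (η : G → ℂ) (x * g)), ← hconv, ← hη]
          exact sum_smul_rep_trace ρ hind g
        have hdim : (Module.finrank ℂ (Fin d → ℂ) : ℂ) = (η : G → ℂ) 1 := by rw [← hη, ρ.char_one]
        have h10 : (η : G → ℂ) 1 ≠ 0 := IsIrrCharacter.apply_one_ne_zero η.2
        by_cases hS : ∑ n : N, (η : G → ℂ) n = 0
        · exact ⟨0, fun g => by rw [h1, hS]; simp⟩
        · refine ⟨1, fun g => ?_⟩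
          have hm : ∀ m : N, (η : G → ℂ) m = (η : G → ℂ) 1 := fun m => by
            have h2 := h1 (m : G)
            rw [show ∑ n : N, (η : G → ℂ) ((n : G) * m) = ∑ n : N, (η : G → ℂ) n from
              Fintype.sum_equiv (Equiv.mulRight m) _ _ fun n => rfl, hdim, div_mul_eq_mul_div,
              eq_div_iff h10] at h2
            exact (mul_left_cancel₀ hS h2).symm
          rw [h1, hdim, Finset.sum_congr rfl fun m _ => hm m, Finset.sum_const, Finset.card_univ,
            nsmul_eq_mul, ← Nat.card_eq_fintype_card, mul_div_assoc, div_self h10]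
          simp
      obtain ⟨k, hk⟩ := classInner_char_nat hwchar (isCharacter_of_irr η.2)
      refine ⟨a * k, ?_⟩
      push_cast
      rw [← hk, classInner_def, classInner_def]
      simp only [hf]
      have h3 : ∑ g : G, (Nat.card N : ℂ)⁻¹ * (∑ n : N, w ((n : G) * g)) * (starRingEnd ℂ) ((η : G → ℂ) g) =
          (a : ℂ) * ∑ g : G, w g * (starRingEnd ℂ) ((η : G → ℂ) g) := by
        simp only [Finset.mul_sum, Finset.sum_mul]
        rw [Finset.sum_comm]
        refine (Finset.sum_congr rfl fun (n : N) _ => Fintype.sum_equiv (Equiv.mulLeft (n : G))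
          (fun g => (Nat.card N : ℂ)⁻¹ * w ((n : G) * g) * (starRingEnd ℂ) ((η : G → ℂ) g))
          (fun g => (Nat.card N : ℂ)⁻¹ * w g * (starRingEnd ℂ) ((η : G → ℂ) ((n : G)⁻¹ * g))) fun g => by simp).trans ?_
        rw [Finset.sum_comm]
        refine Finset.sum_congr rfl fun g _ => ?_
        rw [← Finset.mul_sum, ← map_sum, show ∑ n : N, (η : G → ℂ) ((n : G)⁻¹ * g) =
          ∑ n : N, (η : G → ℂ) ((n : G) * g) from Fintype.sum_equiv (Equiv.inv N) _ _ fun n => rfl, ha,
          map_mul, map_mul, map_natCast, map_natCast]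
        field_simp
      rw [h3]
      ring
    have hnonneg : ∀ g, ∃ r : ℝ, 0 < r ∧ f g = r := by
      intro g
      refine ⟨(Nat.card N : ℝ)⁻¹ * ∑ n : N, ‖(χ : G → ℂ) ((n : G) * g)‖ ^ 2, ?_, ?_⟩
      · refine mul_pos (inv_pos.2 (by exact_mod_cast Nat.card_pos)) ?_
        obtain ⟨n, hn⟩ := hcon g
        exact Finset.sum_pos' (fun n _ => sq_nonneg _) ⟨n, Finset.mem_univ n, pow_pos (norm_pos_iff.2 hn) 2⟩
      · simp only [hf, hw, Complex.mul_conj']
        push_cast
        rfl
    haveI : NeZero (Nat.card G) := ⟨Nat.card_pos.ne'⟩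
    have hf1 : 1 < (f 1).re := by
      obtain ⟨k, hk⟩ := classInner_char_nat (IsCharacter.restrict hc N) (IsCharacter.restrict hc N)
      have hfk : f 1 = k := by
        rw [← hk, classInner_def]
        simp [hf, hw]
      rw [hfk, Complex.natCast_re]
      obtain ⟨r, hr, hr'⟩ := hnonneg 1
      have hk1 : k ≠ 1 := fun h => hnirr (isIrrCharacter_of_norm_one (IsCharacter.restrict hc N)
        (by rw [hk, h, Nat.cast_one]))
      have hk0 : k ≠ 0 := fun h => by
        rw [hfk, h, Nat.cast_zero, eq_comm, Complex.ofReal_eq_zero] at hr'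
        exact hr.ne' hr'
      exact_mod_cast Nat.lt_of_le_of_ne (Nat.one_le_iff_ne_zero.2 hk0) (Ne.symm hk1)
    have hsumf : ∑ g : G, f g = (Nat.card G : ℂ) := by
      simp only [hf]
      have hsh : ∀ n : N, ∑ x, w ((n : G) * x) = ∑ x, w x := fun n => Equiv.sum_comp (Equiv.mulLeft (n : G)) w
      rw [← Finset.mul_sum, Finset.sum_comm]
      simp only [hsh]
      rw [Finset.sum_const,
        Finset.card_univ, nsmul_eq_mul, ← Nat.card_eq_fintype_card, ← mul_assoc, inv_mul_cancel₀ hN0, one_mul]
      have h4 : (1 : ℂ) = (Nat.card G : ℂ)⁻¹ * ∑ g, w g := by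
        rw [← classInner_self_irr χ.2, classInner_def]
      rw [eq_inv_mul_iff_mul_eq₀ (Nat.cast_ne_zero.2 Nat.card_pos.ne'), mul_one] at h4
      exact h4.symm
    set φ : ℝ := (Fintype.card (ZMod (Nat.card G))ˣ : ℝ) with hφ
    have hall : ∑ _g : G, φ < ∑ g : G, ∑ k : (ZMod (Nat.card G))ˣ, (f (g ^ (k : ZMod (Nat.card G)).val)).re := by
      refine Finset.sum_lt_sum (fun g _ => card_le_sum_re hfchar hnonneg g _ (orderOf_dvd_natCard g))
        ⟨1, Finset.mem_univ _, ?_⟩
      simp only [one_pow, Finset.sum_const, Finset.card_univ, nsmul_eq_mul]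
      exact lt_mul_of_one_lt_right (by rw [hφ]; exact_mod_cast Fintype.card_pos) hf1
    rw [Finset.sum_comm] at hall
    have hk : ∀ k : (ZMod (Nat.card G))ˣ, ∑ g : G, (f (g ^ (k : ZMod (Nat.card G)).val)).re = (Nat.card G : ℝ) := by
      intro k
      rw [show ∑ g : G, (f (g ^ (k : ZMod (Nat.card G)).val)).re = ∑ g : G, (f g).re from
        Equiv.sum_comp (powCoprime (coprime_val k).symm) (fun g => (f g).re), ← Complex.re_sum, hsumf,
        Complex.natCast_re]
    rw [Finset.sum_congr rfl fun k _ => hk k, Finset.sum_const, Finset.sum_const, Finset.card_univ,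
      Finset.card_univ, nsmul_eq_mul, nsmul_eq_mul, ← Nat.card_eq_fintype_card (α := G)] at hall
    rw [hφ, mul_comm] at hall
    exact lt_irrefl _ hall
  · rintro ⟨x, hx⟩ hirr
    have hfx : f x = 0 := by simp [hf, hw, hx]
    have hne : Cfsg.classInner (fun n : N => (χ : G → ℂ) n) (fun n : N => (χ : G → ℂ) n) ≠ 0 := by
      rw [classInner_self_irr hirr]; exact one_ne_zero
    obtain ⟨β, hβ, -, hmul, hη⟩ := (coset_average N χ.2 hirr χ.2 f rfl).1 hne
    have hb1 : β 1 = 1 := by
      have := congrFun hmul 1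
      rw [Pi.mul_apply] at this
      exact mul_right_cancel₀ (IsIrrCharacter.apply_one_ne_zero χ.2) (by rw [one_mul]; exact this.symm)
    obtain ⟨l, hl⟩ := exists_hom_of_deg_one (isCharacter_of_irr hβ) hb1
    rw [hη, hl] at hfx
    exact Units.ne_zero _ hfx

end Cfsg.Agent.S4996
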