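import Cfsg.Statements.S4997
import Cfsg.Agent.Blocks.VanishingOrder
-- import your own Cfsg.Agent.* helpers here

set_option autoImplicit false
open Cfsg

namespace Cfsg.Agent.S4997

/-- Let p be an odd prime and G a finite solvable group with exactly one conjugacy class consisting of vanishing elements (elements at which some irreducible complex character is zero) of order divisible by p. Let P be a Sylow p-subgroup of G. Then the order of P is at most p times the order of the largest normal p-subgroup of G. -/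
theorem result {G : Type*} [Group G] [Finite G] (hsolv : Group.IsSolvable G) (p : ℕ) [Fact p.Prime] (hp : p ≠ 2) (h1 : Set.ncard {C : ConjClasses G | (∀ g ∈ C.carrier, ∃ χ : Cfsg.IrrCharacter G, (χ : G → ℂ) g = 0) ∧ ∃ g ∈ C.carrier, p ∣ orderOf g} = 1) (P : Sylow p G) : Nat.card ↥(P : Subgroup G) ≤ p * Nat.card ↥(Cfsg.pCore p G) := by
  classical
  obtain ⟨C, hC⟩ := Set.ncard_eq_one.1 h1
  obtain ⟨g₀, rfl⟩ := ConjClasses.exists_rep C
  refine Cfsg.Lib.VanOrder.card_sylow_le hsolv (orderOf g₀) (fun x hx hd => ?_) P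
  have hmem : ConjClasses.mk x ∈ ({ConjClasses.mk g₀} : Set (ConjClasses G)) := by
    rw [← hC]
    refine ⟨fun g hg => ?_, x, ConjClasses.mem_carrier_mk, hd⟩
    obtain ⟨χ, hχ⟩ := hx
    rw [ConjClasses.mem_carrier_iff_mk_eq, ConjClasses.mk_eq_mk_iff_isConj] at hg
    obtain ⟨c, hc⟩ := isConj_iff.1 hg
    refine ⟨χ, ?_⟩
    rw [← hχ, ← hc]
    exact (Cfsg.Lib.Chars.isClassFunction_irr χ g c).symm
  rw [Set.mem_singleton_iff, ConjClasses.mk_eq_mk_iff_isConj] at hmem
  obtain ⟨c, hc⟩ := isConj_iff.1 hmem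
  rw [← hc, ← MulAut.conj_apply, MulEquiv.orderOf_eq]

end Cfsg.Agent.S4997
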