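import Cfsg.Statements.S5011
-- import your own Cfsg.Agent.* helpers here

set_option autoImplicit false
open Cfsg

namespace Cfsg.Agent.S5011

set_option linter.unusedSectionVars false

/-- Let G be a finite non-abelian simple group and ρ an irreducible complex representation of G on a space of dimension greater than one (irreducible in the sense that the only subspaces invariant under every ρ(x) are 0 and the whole space). Then for every non-identity element g of G, the centralizer of g does not act irreducibly: there is a non-zero proper subspace invariant under ρ(c) for every c commuting with g. -/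
theorem result {G : Type*} [Group G] [Finite G] [IsSimpleGroup G]
    (hG : ¬ IsMulCommutative G) {V : Type*} [AddCommGroup V] [Module ℂ V] [FiniteDimensional ℂ V]
    (ρ : Representation ℂ G V)
    (hirr : ∀ W : Submodule ℂ V, (∀ x : G, ∀ v ∈ W, ρ x v ∈ W) → W = ⊥ ∨ W = ⊤)
    (hdim : 1 < Module.finrank ℂ V) (g : G) (hg : g ≠ 1) :
    ∃ W : Submodule ℂ V, W ≠ ⊥ ∧ W ≠ ⊤ ∧ ∀ c ∈ Subgroup.centralizer ({g} : Set G), ∀ v ∈ W, ρ c v ∈ W := by
  classical
  let Z : Subgroup G :=
    { carrier := {x | ∃ c : ℂ, ∀ v, ρ x v = c • v}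
      one_mem' := ⟨1, fun v => by simp⟩
      mul_mem' := fun {a b} ⟨c, hc⟩ ⟨d, hd⟩ => ⟨c * d, fun v => by
        rw [map_mul, Module.End.mul_apply, hd, map_smul, hc, smul_smul, mul_comm]⟩
      inv_mem' := fun {a} ⟨c, hc⟩ => ⟨c⁻¹, fun v => by
        have h1 : ρ a⁻¹ (ρ a v) = v := by rw [← Module.End.mul_apply, ← map_mul]; simp
        rw [hc, map_smul] at h1
        rcases eq_or_ne c 0 with rfl | h0
        · have hv : ∀ w : V, w = 0 := fun w => by
            have h2 : ρ a⁻¹ (ρ a w) = w := by rw [← Module.End.mul_apply, ← map_mul]; simp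
            rw [hc, zero_smul, map_zero] at h2
            exact h2.symm
          rw [hv v]; simp
        · have h2 := congrArg (fun w => c⁻¹ • w) h1
          simpa [smul_smul, h0] using h2⟩ }
  haveI : Z.Normal := ⟨fun x ⟨c, hc⟩ y => ⟨c, fun v => by
    rw [map_mul, map_mul, Module.End.mul_apply, Module.End.mul_apply, hc, map_smul,
      ← Module.End.mul_apply, ← map_mul]
    simp⟩⟩
  have hgZ : g ∉ Z := by
    intro hgz
    rcases IsSimpleGroup.eq_bot_or_eq_top_of_normal Z inferInstance with hb | ht
    · rw [hb, Subgroup.mem_bot] at hgz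
      exact hg hgz
    · haveI : Nontrivial V := Module.nontrivial_of_finrank_pos (R := ℂ) (by omega)
      obtain ⟨v, hv⟩ := exists_ne (0 : V)
      rcases hirr (ℂ ∙ v) (fun x w hw => by
        obtain ⟨c, hc⟩ := (ht ▸ Subgroup.mem_top x : x ∈ Z)
        rw [hc]; exact Submodule.smul_mem _ _ hw) with h | h
      · exact hv (Submodule.span_singleton_eq_bot.1 h)
      · have := finrank_span_singleton (K := ℂ) hv
        rw [h, finrank_top] at this
        omega
  haveI : Nontrivial V := Module.nontrivial_of_finrank_pos (R := ℂ) (by omega)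
  obtain ⟨c, hc⟩ := Module.End.exists_eigenvalue (ρ g)
  refine ⟨Module.End.eigenspace (ρ g) c, hc, fun htop => hgZ ⟨c, fun v => ?_⟩, fun x hx v hv => ?_⟩
  · exact Module.End.mem_eigenspace_iff.1 (htop ▸ Submodule.mem_top)
  · rw [Module.End.mem_eigenspace_iff] at hv ⊢
    rw [← Module.End.mul_apply, ← map_mul, ← Subgroup.mem_centralizer_singleton_iff.1 hx, map_mul,
      Module.End.mul_apply, hv, map_smul]

end Cfsg.Agent.S5011
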