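import Cfsg.Statements.S5015
import Cfsg.Agent.RootSub.Basic

set_option autoImplicit false
set_option linter.style.haveILetI false
open Cfsg

namespace Cfsg.Agent.S5015

/-- Let a group Y act doubly transitively on a set Ω with at least three points, and suppose that the stabilizer of a point α contains a nilpotent subgroup A, normalized by that stabilizer, which acts regularly on the points other than α. Then for any y in Y moving α, the subgroups A and y A y⁻¹ are the unipotent subgroups of a rank one group, and the normal closure of A in Y (the subgroup generated by all conjugates of A) is generated by A and y A y⁻¹ alone. -/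
theorem result {Y Ω : Type*} [Group Y] [MulAction Y Ω]
    (h2 : MulAction.IsMultiplyPretransitive Y Ω 2) (hΩ : 3 ≤ ENat.card Ω) (α : Ω) (A : Subgroup Y)
    (hA : A ≤ MulAction.stabilizer Y α) (hAn : ∀ y ∈ MulAction.stabilizer Y α, Cfsg.conjBy A y = A)
    (hnil : Group.IsNilpotent A) (hreg : ∀ β γ : Ω, β ≠ α → γ ≠ α → ∃! a : Y, a ∈ A ∧ a • β = γ)
    (y : Y) (hy : y ∉ MulAction.stabilizer Y α) :
    Cfsg.IsRankOnePair A (Cfsg.conjBy A y) ∧ Subgroup.normalClosure (A : Set Y) = A ⊔ Cfsg.conjBy A y := by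
  open Cfsg.Lib.RootSub in
  have htr : ∀ {p q r s : Ω}, p ≠ q → r ≠ s → ∃ g : Y, g • p = r ∧ g • q = s := fun h1 h2' =>
    (MulAction.is_two_pretransitive_iff.mp h2) h1 h2'
  -- the conjugate of `A` only depends on the image of `α`
  have hkey : ∀ g g' : Y, g • α = g' • α → Cfsg.conjBy A g = Cfsg.conjBy A g' := by
    intro g g' hg
    have h1 : g'⁻¹ * g ∈ MulAction.stabilizer Y α := by
      rw [MulAction.mem_stabilizer_iff, mul_smul, hg, inv_smul_smul]
    have h3 := congrArg (fun S => Cfsg.conjBy S g') (hAn _ h1)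
    simpa [conjBy_conjBy] using h3
  set β := y • α with hβ
  have hβα : β ≠ α := hy
  obtain ⟨γ, hγα, hγβ⟩ : ∃ γ : Ω, γ ≠ α ∧ γ ≠ β := by
    by_contra hno
    push Not at hno
    have : (Set.univ : Set Ω) ⊆ {α, β} := fun γ _ => by
      by_cases h' : γ = α
      · exact Or.inl h'
      · exact Or.inr (hno γ h')
    have h4 := (Set.encard_le_encard this).trans (Set.encard_insert_le _ _)
    rw [Set.encard_univ, Set.encard_singleton] at h4
    exact absurd (hΩ.trans h4) (by norm_num)
  have hfixA : ∀ a ∈ A, a • α = α := fun a ha => hA ha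
  have hmemB : ∀ b ∈ Cfsg.conjBy A y, b • β = β := fun b hb => by
    have := hfixA _ (mem_conjBy.mp hb)
    rw [mul_smul, mul_smul, inv_smul_eq_iff] at this
    exact this
  have hregB : ∀ p q : Ω, p ≠ β → q ≠ β → ∃ b ∈ Cfsg.conjBy A y, b • p = q := by
    intro p q hp hq
    have hp' : y⁻¹ • p ≠ α := fun h' => hp (by rw [hβ, ← h', smul_inv_smul])
    have hq' : y⁻¹ • q ≠ α := fun h' => hq (by rw [hβ, ← h', smul_inv_smul])
    obtain ⟨a, ⟨ha, hap⟩, -⟩ := hreg _ _ hp' hq'
    refine ⟨y * a * y⁻¹, mem_conjBy.mpr (by simpa [mul_assoc] using ha), ?_⟩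
    rw [mul_smul, mul_smul, hap, smul_inv_smul]
  have hpair : Cfsg.IsRankOnePair A (Cfsg.conjBy A y) := by
    refine ⟨fun he => ?_, hnil, ?_, ?_, ?_⟩
    · obtain ⟨a, ⟨ha, hab⟩, -⟩ := hreg β γ hβα hγα
      exact hγβ (hab.symm.trans (hmemB a (he ▸ ha)))
    · exact Group.nilpotent_of_mulEquiv (A.equivMapOfInjective _ (MulAut.conj y).injective)
    · intro a ha ha1
      have h1 : a⁻¹ • β ≠ β := by
        intro h'
        obtain ⟨a', -, hu⟩ := hreg β β hβα hβα
        exact ha1 (inv_eq_one.mp ((hu a⁻¹ ⟨inv_mem ha, h'⟩).trans (hu 1 ⟨A.one_mem, one_smul _ _⟩).symm))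
      have h2 : a⁻¹ • β ≠ α := fun h' => hβα (by
        rw [inv_smul_eq_iff, hfixA a ha] at h'; exact h')
      obtain ⟨b, hb, hbα⟩ := hregB α (a⁻¹ • β) hβα.symm h1
      refine ⟨b⁻¹, inv_mem hb, fun h' => h2 ?_, ?_⟩
      · rw [inv_eq_one] at h'
        rw [← hbα, h', one_smul]
      · rw [inv_inv, conjBy_conjBy]
        exact hkey _ _ (by rw [hbα, mul_smul])
    · intro b hb hb1
      have h2 : b⁻¹ • α ≠ β := fun h' => hβα (by
        rw [inv_smul_eq_iff, hmemB b hb] at h'; exact h'.symm)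
      have h1 : b⁻¹ • α ≠ α := by
        intro h'
        have hy' : y⁻¹ • α ≠ α := fun h' => hβα (by rw [inv_smul_eq_iff] at h'; exact h'.symm)
        obtain ⟨a', -, hu⟩ := hreg (y⁻¹ • α) (y⁻¹ • α) hy' hy'
        have hm := mem_conjBy.mp (inv_mem hb)
        have h3 : (y⁻¹ * b⁻¹ * y) • y⁻¹ • α = y⁻¹ • α := by
          rw [mul_smul, mul_smul, smul_inv_smul, h']
        have := (hu _ ⟨hm, h3⟩).trans (hu 1 ⟨A.one_mem, one_smul _ _⟩).symm
        apply hb1
        have e : b⁻¹ = y * (y⁻¹ * b⁻¹ * y) * y⁻¹ := by group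
        rw [this, mul_one, mul_inv_cancel, inv_eq_one] at e
        exact e
      obtain ⟨a, ⟨ha, haβ⟩, -⟩ := hreg β (b⁻¹ • α) hβα h1
      refine ⟨a⁻¹, inv_mem ha, fun h' => h2 ?_, ?_⟩
      · rw [inv_eq_one] at h'
        rw [← haβ, h', one_smul]
      · rw [inv_inv, conjBy_conjBy]
        exact hkey _ _ (by rw [mul_smul]; exact haβ)
  refine ⟨hpair, le_antisymm ?_ ?_⟩
  · rw [Subgroup.normalClosure, Subgroup.closure_le]
    intro x hx
    rw [Group.mem_conjugatesOfSet_iff] at hx
    obtain ⟨a, ha, hax⟩ := hx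
    obtain ⟨g, rfl⟩ := isConj_iff.mp hax
    by_cases hg : g • α = α
    · refine Subgroup.mem_sup_left ?_
      rw [← hAn g hg, mem_conjBy]
      simpa [mul_assoc] using ha
    · obtain ⟨a', ⟨ha', ha'β⟩, -⟩ := hreg β (g • α) hβα hg
      have he := hkey g (a' * y) (by rw [mul_smul]; exact ha'β.symm)
      have hm : g * a * g⁻¹ ∈ Cfsg.conjBy A g := mem_conjBy.mpr (by simpa [mul_assoc] using ha)
      rw [he, ← conjBy_conjBy, mem_conjBy] at hm
      have := mul_mem (mul_mem (Subgroup.mem_sup_left (T := Cfsg.conjBy A y) ha') (Subgroup.mem_sup_right hm))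
        (inv_mem (Subgroup.mem_sup_left ha'))
      simpa [mul_assoc] using this
  · refine sup_le Subgroup.subset_normalClosure ?_
    intro x hx
    have := Subgroup.normalClosure_normal.conj_mem _ (Subgroup.subset_normalClosure (mem_conjBy.mp hx)) y
    simpa [mul_assoc] using this

end Cfsg.Agent.S5015
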