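import Cfsg.Statements.S5017
import Cfsg.Agent.RootSub.Basic

set_option autoImplicit false
set_option linter.style.haveILetI false
open Cfsg

namespace Cfsg.Agent.S5017

/-- Let X be a rank one group with unipotent subgroups A and B and N a normal subgroup of X. Then either X = N A or N lies in the centre of X. Consequently a perfect rank one group is quasisimple. -/
theorem result {X : Type*} [Group X] {A B : Subgroup X} (h : Cfsg.IsRankOneGroup X A B) :
    (∀ N : Subgroup X, N.Normal → N ⊔ A = ⊤ ∨ N ≤ Subgroup.center X) ∧
    (Group.IsPerfect X → Cfsg.IsQuasisimple X) := by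
  open Cfsg.Lib.RootSub in
  refine ⟨fun N hN => normal_sup_eq_top h N hN, fun hp => ⟨hp, ?_⟩⟩
  have key : ∀ N : Subgroup X, N.Normal → N = ⊤ ∨ N ≤ Subgroup.center X := by
    intro N hN
    rcases normal_sup_eq_top h N hN with h1 | h1
    · left
      haveI := nilpotent_quotient h N h1
      obtain ⟨n, hn⟩ := Subgroup.nilpotent_iff_lowerCentralSeries.mp this
      have hperf : ∀ k, (⊤ : Subgroup X).lowerCentralSeries k = ⊤ := by
        intro k
        induction k with
        | zero => rfl
        | succ k ih =>
          rw [Subgroup.lowerCentralSeries_succ, ih, ← _root_.commutator_def]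
          exact Group.isPerfect_def.mp hp
      have h2 := Subgroup.map_lowerCentralSeries (⊤ : Subgroup X) (QuotientGroup.mk' N) n
      rw [hperf, Subgroup.map_top_of_surjective _ (QuotientGroup.mk'_surjective N), hn] at h2
      rw [eq_top_iff]
      intro x _
      have h3 : QuotientGroup.mk' N x ∈ (⊥ : Subgroup (X ⧸ N)) := by
        rw [← h2]; exact Subgroup.mem_top _
      exact (QuotientGroup.eq_one_iff x).mp (Subgroup.mem_bot.mp h3)
    · exact Or.inr h1
  have hne : Subgroup.center X ≠ ⊤ := by
    intro hc
    obtain ⟨a, ha, ha1⟩ := exists_ne_one h.2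
    obtain ⟨b, hb, hab⟩ := not_commute h.2 ha ha1
    exact hab (Subgroup.mem_center_iff.mp (hc ▸ Subgroup.mem_top b : b ∈ Subgroup.center X) a)
  haveI : Nontrivial (X ⧸ Subgroup.center X) := QuotientGroup.nontrivial_iff.mpr hne
  refine ⟨fun K hK => ?_⟩
  rcases key (K.comap (QuotientGroup.mk' _)) (hK.comap _) with h1 | h1
  · right
    exact Subgroup.comap_injective (QuotientGroup.mk'_surjective _) (h1.trans (Subgroup.comap_top _).symm)
  · left
    rw [eq_bot_iff]
    intro q hq
    obtain ⟨x, rfl⟩ := QuotientGroup.mk'_surjective _ q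
    exact Subgroup.mem_bot.mpr ((QuotientGroup.eq_one_iff x).mpr (h1 hq))

end Cfsg.Agent.S5017
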