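import Cfsg.Statements.S5020
import Cfsg.Agent.RootSub.SpecialDichotomy

set_option autoImplicit false
set_option linter.style.haveILetI false
open Cfsg

namespace Cfsg.Agent.S5020

/-- Let X be a special rank one group with abelian unipotent subgroups A and B, and H = N(A) ∩ N(B) its diagonal subgroup. Then either A has at most three elements and X is isomorphic to SL₂(2), SL₂(3) or PSL₂(3); or X = X' A with the commutator subgroup X' quasisimple and the commutator subgroup ⁅A, H⁆ having more than three elements. -/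
theorem result {X : Type*} [Group X] {A B : Subgroup X} (h : Cfsg.IsRankOneGroup X A B)
    (hs : Cfsg.IsSpecialRankOnePair A B) (hab : Cfsg.HasAbelianUnipotents A B) :
    (ENat.card A ≤ 3 ∧ (Nonempty (X ≃* Matrix.SpecialLinearGroup (Fin 2) (ZMod 2)) ∨
        Nonempty (X ≃* Matrix.SpecialLinearGroup (Fin 2) (ZMod 3)) ∨
        Nonempty (X ≃* Matrix.ProjectiveSpecialLinearGroup (Fin 2) (ZMod 3)))) ∨
    (commutator X ⊔ A = ⊤ ∧ Cfsg.IsQuasisimple (commutator X) ∧
      3 < ENat.card ↥(⁅A, Cfsg.rankOneDiagonal A B⁆ : Subgroup X)) := by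
  by_cases h4 : 3 < ENat.card A
  · right
    obtain ⟨hperf, hq⟩ := Cfsg.Lib.RootSub.large_special h hs hab.1 h4
    refine ⟨by rw [hperf, top_sup_eq], hq, ?_⟩
    rw [Cfsg.Lib.RootSub.commutator_diagonal_eq hs hab.1 h4]
    exact h4
  · left
    rw [not_lt] at h4
    refine ⟨h4, ?_⟩
    haveI : Finite A := ENat.card_lt_top.mp (h4.trans_lt (ENat.coe_lt_top 3))
    obtain ⟨a, ha, ha1⟩ := Cfsg.Lib.RootSub.exists_ne_one h.2
    haveI : Nontrivial A := (Subgroup.nontrivial_iff_ne_bot A).mpr (Cfsg.Lib.RootSub.left_ne_bot h.2)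
    have h2 : 1 < Nat.card A := Finite.one_lt_card
    rw [ENat.card_eq_coe_natCard] at h4
    have h3 : Nat.card A ≤ 3 := by exact_mod_cast h4
    rcases (show Nat.card A = 2 ∨ Nat.card A = 3 by omega) with hc | hc
    · haveI : Fact (Nat.Prime 2) := ⟨Nat.prime_two⟩
      rcases Cfsg.Lib.RootSub.small_special_iso h hs hab.1 hc with ⟨⟨f⟩⟩ | ⟨hp, -⟩
      · exact Or.inl ⟨f⟩
      · exact absurd rfl hp
    · haveI : Fact (Nat.Prime 3) := ⟨Nat.prime_three⟩
      rcases Cfsg.Lib.RootSub.small_special_iso h hs hab.1 hc with ⟨⟨f⟩⟩ | ⟨-, ⟨f⟩⟩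
      · exact Or.inr (Or.inl ⟨f⟩)
      · exact Or.inr (Or.inr ⟨f⟩)

end Cfsg.Agent.S5020
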