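import Cfsg.Statements.S5024
import Cfsg.Agent.RootSub.Basic

set_option autoImplicit false
set_option linter.style.haveILetI false
open Cfsg

namespace Cfsg.Agent.S5024

/-- Let S be a set of abstract root subgroups of G, A and C members of S, B a rank one partner of A in S and D a rank one partner of C in S. If the rank one group ⟨A, B⟩ is contained in ⟨C, D⟩ then the two coincide, and C and D are conjugates of A inside ⟨A, B⟩. -/
theorem result {G : Type*} [Group G] {S : Set (Subgroup G)} (hS : Cfsg.IsRootSubgroupSet S)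
    {A B C D : Subgroup G} (hA : A ∈ S) (hC : C ∈ S) (hB : B ∈ Cfsg.rankOnePartners S A) (hD : D ∈ Cfsg.rankOnePartners S C)
    (hle : A ⊔ B ≤ C ⊔ D) : A ⊔ B = C ⊔ D ∧ C ∈ Cfsg.unipotentSubgroups A B ∧ D ∈ Cfsg.unipotentSubgroups A B := by
  open Cfsg.Lib.RootSub in
  have hAB := hB.2
  have hCD := hD.2
  have hA' := mem_unipotent_of_le hS hA hB.1 hAB hC hD.1 hCD hle
  have hB' := mem_unipotent_of_le hS hB.1 hA (Cfsg.RankOnePair_symm hAB) hC hD.1 hCD (sup_comm B A ▸ hle)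
  have heq : A ⊔ B = C ⊔ D := sup_eq_of_unipotent hCD hA' hB' hAB.ne
  obtain ⟨x, hx, hx1, hx2⟩ := unipotent_two_trans hCD hA' hB' hAB.ne
  refine ⟨heq, ⟨x⁻¹, heq ▸ inv_mem hx, ?_⟩, ?_⟩
  · rw [← hx1, conjBy_conjBy, inv_mul_cancel, conjBy_one]
  · obtain ⟨y, hy, hye⟩ := right_mem hCD
    refine ⟨y * x⁻¹, heq ▸ mul_mem hy (inv_mem hx), ?_⟩
    rw [← hx1, conjBy_conjBy, inv_mul_cancel_right]
    exact hye

end Cfsg.Agent.S5024
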