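import Cfsg.Statements.S5026
import Cfsg.Agent.RootSub.Basic

set_option autoImplicit false
set_option linter.style.haveILetI false
open Cfsg

namespace Cfsg.Agent.S5026

/-- Let S be a degenerate set of abstract root subgroups of G (a set of abstract transvection groups) and let a, b be commuting non-identity elements of members of S with a b ≠ 1. Then the members of S centralizing a b are exactly those centralizing both a and b. -/
theorem result {G : Type*} [Group G] {S : Set (Subgroup G)} (hS : Cfsg.IsRootSubgroupSet S) (hdeg : Cfsg.IsDegenerateRootSet S)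
    {a b : G} (ha : a ∈ Cfsg.rootElements S) (hb : b ∈ Cfsg.rootElements S) (hab : a * b = b * a) (hab1 : a * b ≠ 1) :
    Cfsg.centralizingMembers S (Subgroup.zpowers (a * b)) =
      Cfsg.centralizingMembers S (Subgroup.zpowers a) ∩ Cfsg.centralizingMembers S (Subgroup.zpowers b) := by
  open Cfsg.Lib.RootSub in
  obtain ⟨ha1, A, hA, haA⟩ := ha
  obtain ⟨hb1, B, hB, hbB⟩ := hb
  have hcent : ∀ (C : Subgroup G) (g : G), C ≤ Subgroup.centralizer ((Subgroup.zpowers g : Subgroup G) : Set G) ↔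
      ∀ c ∈ C, g * c = c * g := by
    intro C g
    refine ⟨fun h c hc => Subgroup.mem_centralizer_iff.mp (h hc) g (Subgroup.mem_zpowers g), fun h c hc => ?_⟩
    rw [Subgroup.mem_centralizer_iff]
    rintro _ ⟨n, rfl⟩
    exact (Commute.zpow_left (h c hc : Commute g c) n).eq
  ext C
  simp only [Cfsg.centralizingMembers, Set.mem_ofPred_eq, Set.mem_inter_iff, hcent]
  refine ⟨fun ⟨hC, hC'⟩ => ?_, fun ⟨⟨hC, h1⟩, _, h2⟩ => ⟨hC, fun c hc => ((Commute.mul_left (h1 c hc) (h2 c hc)) : Commute (a * b) c).eq⟩⟩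
  suffices h1 : ∀ c ∈ C, a * c = c * a by
    refine ⟨⟨hC, h1⟩, hC, fun c hc => ?_⟩
    have e1 : Commute a c := h1 c hc
    have e2 : Commute (a * b) c := hC' c hc
    have h2 := (e1.inv_left.mul_left e2).eq
    simpa using h2
  have hpairs : ∀ E ∈ S, ∀ F ∈ S, ⁅E, F⁆ = ⊥ ∨ Cfsg.IsRankOnePair E F := fun E hE F hF =>
    (hS.pair E hE F hF).imp id fun h => h.resolve_right (hdeg E hE F hF)
  rcases hpairs A hA C hC with h0 | hAC
  · exact fun c hc => commute_of_bot h0 haA hc
  rcases hpairs B hB C hC with h0 | hBC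
  · intro c hc
    have e1 : Commute (a * b) c := hC' c hc
    have e2 : Commute b c := commute_of_bot h0 hbB hc
    have h2 := (e1.mul_left e2.inv_left).eq
    simpa using h2
  exfalso
  have hab' : Cfsg.conjBy C (a * b) = C := conjBy_eq_self_iff.mpr
    (Subgroup.centralizer_le_normalizer _ (Subgroup.mem_centralizer_iff.mpr fun c hc => (hC' c hc).symm))
  have haC : Cfsg.conjBy C a = Cfsg.conjBy C b⁻¹ := by
    conv_rhs => rw [← hab', conjBy_conjBy, show b⁻¹ * (a * b) = a by rw [hab, inv_mul_cancel_left]]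
  obtain ⟨c₁, hc₁, -, he₁⟩ := hAC.cond_left a⁻¹ (inv_mem haA) (inv_ne_one.mpr ha1)
  obtain ⟨c₂, hc₂, -, he₂⟩ := hBC.cond_left b hbB hb1
  rw [inv_inv, haC, ← he₂] at he₁
  have hBe : B = Cfsg.conjBy A (c₂ * c₁⁻¹) := by
    rw [← conjBy_conjBy, he₁, conjBy_conjBy, mul_inv_cancel, conjBy_one]
  have hBA : B = A := by
    by_contra hne
    have hpair : Cfsg.IsRankOnePair A B := unipotent_pair hAC (left_mem A C)
      (hBe ▸ ⟨_, Subgroup.mem_sup_right (mul_mem hc₂ (inv_mem hc₁)), rfl⟩) (Ne.symm hne)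
    refine hb1 (eq_one_of_normalizes (Cfsg.RankOnePair_symm hpair) hbB ?_)
    rcases inf_bot_or_eq hS hA hC hAC (hS.conj_mem A hA b) with h0 | h0
    · exfalso
      apply ha1
      rw [← Subgroup.mem_bot, ← h0]
      refine ⟨haA, mem_conjBy.mpr ?_⟩
      rwa [mul_assoc, hab, inv_mul_cancel_left]
    · exact h0.symm
  subst hBA
  exact hab1 (eq_one_of_normalizes hAC (mul_mem haA hbB) hab')

end Cfsg.Agent.S5026
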