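import Cfsg.Statements.S5027
import Cfsg.Agent.RootSub.Basic

set_option autoImplicit false
set_option linter.style.haveILetI false
open Cfsg

namespace Cfsg.Agent.S5027

/-- Let S be a set of abstract root subgroups of G such that every member of S has a rank one partner in S (the graph of rank one pairs on S has no isolated vertex). Then the second centre of G equals its centre. -/
theorem result {G : Type*} [Group G] {S : Set (Subgroup G)} (hS : Cfsg.IsRootSubgroupSet S)
    (hF : ∀ A ∈ S, ¬ Cfsg.IsIsolatedIn (Cfsg.FAdj S) S A) : Subgroup.upperCentralSeries G 2 = Subgroup.center G := by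
  open Cfsg.Lib.RootSub in
  open scoped commutatorElement in
  refine le_antisymm (fun z hz => ?_) (fun z hz => ?_)
  · have hle : (⊤ : Subgroup G) ≤ Subgroup.centralizer {z} := by
      rw [← hS.generates]
      refine iSup₂_le fun A hA => fun a ha => ?_
      rw [Subgroup.mem_centralizer_singleton_iff]
      by_cases ha1 : a = 1
      · simp [ha1]
      obtain ⟨B, hB, hAB⟩ := exists_partner hS hA (hF A hA)
      have hw := Subgroup.mem_upperCentralSeries_succ_iff.mp hz a
      rw [Subgroup.upperCentralSeries_one] at hw
      have hmem : ⁅z, a⁆ * a ∈ Cfsg.conjBy A z := by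
        rw [mem_conjBy, commutatorElement_def]
        simpa [mul_assoc] using ha
      have h1 := (root_shift hS hA hB hAB (fun x _ => (Subgroup.mem_center_iff.mp hw x).symm) ha ha1
        (hS.conj_mem A hA z) hmem).1
      rw [commutatorElement_eq_one_iff_mul_comm] at h1
      exact h1.symm
    exact Subgroup.mem_center_iff.mpr fun g => Subgroup.mem_centralizer_singleton_iff.mp (hle (Subgroup.mem_top g))
  · rw [Subgroup.mem_upperCentralSeries_succ_iff]
    intro y
    rw [commutatorElement_eq_one_iff_mul_comm.mpr (Subgroup.mem_center_iff.mp hz y).symm]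
    exact one_mem _

end Cfsg.Agent.S5027
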