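import Cfsg.Statements.S5029
import Cfsg.Agent.RootSub.CommCase

set_option autoImplicit false
set_option linter.style.haveILetI false
open Cfsg

namespace Cfsg.Agent.S5029

/-- Let S be a set of abstract root subgroups of G, A ∈ S having a rank one partner in S, and B ∈ S with C = ⁅A, B⁆ ∈ S. Then the members of S contained in AC are the conjugates of A by elements of B together with C, they partition AC, the members of S inside AC partition AC so that A is a line partner of C, and for every non-identity a ∈ A the map b ↦ a⁻¹ b⁻¹ a b is an isomorphism from B onto C. -/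
theorem result {G : Type*} [Group G] {S : Set (Subgroup G)} (hS : Cfsg.IsRootSubgroupSet S)
    {A B : Subgroup G} (hA : ¬ Cfsg.IsIsolatedIn (Cfsg.FAdj S) S A) (hAS : A ∈ S) (hB : B ∈ S) (hC : ⁅A, B⁆ ∈ S) :
    Cfsg.membersIn S (A ⊔ ⁅A, B⁆) = (fun b : G => Cfsg.conjBy A b) '' (B : Set G) ∪ {⁅A, B⁆} ∧
    Cfsg.IsSubgroupPartition (A ⊔ ⁅A, B⁆) (Cfsg.membersIn S (A ⊔ ⁅A, B⁆)) ∧
    A ∈ Cfsg.linePartners S ⁅A, B⁆ ∧
    ∀ a ∈ A, a ≠ 1 → ∃ φ : ↥B ≃* ↥⁅A, B⁆, ∀ b : ↥B, (φ b : G) = a⁻¹ * (b : G)⁻¹ * a * b := by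
  open Cfsg.Lib.RootSub in
  open scoped commutatorElement in
  obtain ⟨P, hP, hAP⟩ := exists_partner hS hAS hA
  refine ⟨line_members hS hAS hP hAP hB hC, line_partition hS hAS hP hAP hB hC, ?_, ?_⟩
  · refine ⟨⟨hAS, fun h => ?_, ?_⟩, ?_⟩
    · obtain ⟨a, ha, ha1⟩ := exists_ne_one hAP
      apply ha1
      rw [← Subgroup.mem_bot, ← inf_commutator hS hAS hP hAP hB hC]
      exact ⟨ha, h ▸ ha⟩
    · rw [Subgroup.commutator_eq_bot_iff_le_centralizer]
      intro c hc
      rw [Subgroup.mem_centralizer_iff]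
      exact fun a ha => ((commutator_case hS hAS hB hC).2.1 c hc a (Subgroup.mem_sup_left ha)).symm
    · rw [sup_comm]
      exact line_partition hS hAS hP hAP hB hC
  · intro a ha ha1
    have hne : ((⟨a⁻¹, inv_mem ha⟩ : ↥A) : G) ≠ 1 := inv_ne_one.mpr ha1
    let φ₀ := commHom hS hAS hB hC ⟨a⁻¹, inv_mem ha⟩
    let ψ : ↥B →* ↥⁅A, B⁆ :=
      { toFun := fun b => φ₀ b⁻¹
        map_one' := by rw [inv_one, map_one]
        map_mul' := fun b b' => by
          have hcomm : b * b' = b' * b := Subtype.ext (abelian_comm hS hB b.2 b'.2)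
          rw [hcomm, mul_inv_rev, map_mul] }
    have hbij : Function.Bijective ψ :=
      ⟨fun b b' h => inv_injective (commHom_injective hS hAS hP hAP hB hC hne h), fun c => by
        obtain ⟨b, hb⟩ := commHom_surjective hS hAS hB hC hne c
        exact ⟨b⁻¹, by show φ₀ b⁻¹⁻¹ = c; rw [inv_inv]; exact hb⟩⟩
    refine ⟨MulEquiv.ofBijective ψ hbij, fun b => ?_⟩
    show ⁅a⁻¹, ((b⁻¹ : ↥B) : G)⁆ = _
    rw [commutatorElement_def, Subgroup.coe_inv]
    group

end Cfsg.Agent.S5029
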