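import Cfsg.Statements.S5049
import Cfsg.Agent.Components.Cores

set_option autoImplicit false
set_option linter.style.haveILetI false
open Cfsg

namespace Cfsg.Agent.S5049

/-- Let G be a finite group generated by a set D of odd transpositions (root involutions with no product of order 4), Q = O₂(G), and for a ∈ D let Q_a be the commutator subgroup of Q with a. Then every member of D commuting with a centralizes Q_a; and for b ∈ D with ab of odd order greater than 1, the centralizer of ab in Q is the intersection of the centralizers of a and b in Q. -/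
theorem result {G : Type*} [Group G] [Finite G] {D : Set G} (hD : Cfsg.IsOddTranspositionSet D) {a : G} (ha : a ∈ D) :
    (∀ e ∈ Cfsg.commutingMembers D a, ∀ q ∈ ⁅Cfsg.pCore 2 G, Subgroup.zpowers a⁆, e * q = q * e) ∧
    (∀ b ∈ Cfsg.oddPartners D a,
      Cfsg.pCore 2 G ⊓ Subgroup.centralizer {a * b} = Cfsg.pCore 2 G ⊓ Subgroup.centralizer {a} ⊓ Subgroup.centralizer {b}) := by
  open scoped commutatorElement in
  obtain ⟨hR, hno4⟩ := hD
  set Q := Cfsg.pCore 2 G
  have hQn : Q.Normal := Cfsg.Lib.Components.pCore_normal' 2
  have hQp : IsPGroup 2 Q := Cfsg.Lib.Components.isPGroup_pCore 2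
  have hinv : ∀ d ∈ D, d * d = 1 := fun d hd => by
    rw [← pow_two, ← hR.orderOf_eq d hd]; exact pow_orderOf_eq_one d
  have hpair : ∀ x ∈ D, ∀ y ∈ D, x * y = y * x ∨ Odd (orderOf (x * y)) := fun x hx y hy => by
    rcases hR.pair x hx y hy with h | h | h
    · exact Or.inl h
    · exact Or.inr h
    · exact absurd h.1 (hno4 x hx y hy)
  -- an involution commuting with `a` commutes with every conjugate of `a` under `Q`
  have hkey : ∀ e ∈ D, e * a = a * e → ∀ q ∈ Q, e * (q * a * q⁻¹) = (q * a * q⁻¹) * e := by
    intro e he hea q hq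
    have ha' : q * a * q⁻¹ ∈ D := hR.conj_mem a ha q
    rcases hpair e he _ ha' with h | h
    · exact h
    have hπ : QuotientGroup.mk' Q ((e * (q * a * q⁻¹)) ^ 2) = 1 := by
      rw [map_pow, map_mul, map_mul, map_mul, map_inv,
        show QuotientGroup.mk' Q q = 1 from (QuotientGroup.eq_one_iff q).mpr hq, one_mul, inv_one, mul_one,
        ← map_mul, ← map_pow, pow_two, show e * a * (e * a) = 1 by
          calc e * a * (e * a) = e * a * (a * e) := by rw [hea]
            _ = e * (a * a) * e := by group
            _ = 1 := by rw [hinv a ha, mul_one, hinv e he], map_one]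
    obtain ⟨k, hk⟩ := hQp ⟨_, (QuotientGroup.eq_one_iff _).mp hπ⟩
    have hk' : (e * (q * a * q⁻¹)) ^ 2 ^ (k + 1) = 1 := by
      rw [pow_succ', pow_mul]; exact congrArg Subtype.val hk
    have h1 : orderOf (e * (q * a * q⁻¹)) = 1 := by
      have hd := orderOf_dvd_of_pow_eq_one hk'
      exact Nat.Coprime.eq_one_of_dvd (Nat.Coprime.pow_right _ (Nat.coprime_two_right.mpr h)) hd
    rw [orderOf_eq_one_iff, mul_eq_one_iff_eq_inv, ← mul_eq_one_iff_inv_eq.mp (hinv _ ha')] at h1
    simp [h1, inv_eq_of_mul_eq_one_right (hinv _ ha')]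
  refine ⟨fun e he x hx => ?_, fun b hb => ?_⟩
  · suffices hle : ⁅Q, Subgroup.zpowers a⁆ ≤ Subgroup.centralizer {e} from
      (Subgroup.mem_centralizer_singleton_iff.mp (hle hx)).symm
    rw [Subgroup.commutator_le]
    intro q hq y hy
    obtain ⟨n, rfl⟩ := Subgroup.mem_zpowers_iff.mp hy
    rw [← zpow_mod_orderOf, hR.orderOf_eq a ha, Subgroup.mem_centralizer_singleton_iff]
    rcases Int.emod_two_eq_zero_or_one n with h | h <;> simp only [Nat.cast_ofNat, h, zpow_zero, zpow_one]
    · simp
    · have e1 : Commute e (q * a * q⁻¹) := hkey e he.1 he.2 q hq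
      have e2 : Commute e a := he.2
      rw [commutatorElement_def]
      exact (e1.mul_right e2.inv_right).eq.symm
  · obtain ⟨hbD, hba, hodd⟩ := hb
    refine le_antisymm ?_ ?_
    · rintro q ⟨hq, hqc⟩
      replace hqc : q * (a * b) = (a * b) * q := Subgroup.mem_centralizer_singleton_iff.mp hqc
      have ha' : q * a * q⁻¹ ∈ D := hR.conj_mem a ha q
      set u := q * a * q⁻¹ * a⁻¹ with hu
      have hua : Commute u a := (show Commute (q * a * q⁻¹) a from (hkey a ha rfl q hq).symm).mul_left (Commute.refl a).inv_left
      have huu : u * u = 1 := by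
        have h1 : Commute a⁻¹ (q * a * q⁻¹) := (show Commute a (q * a * q⁻¹) from hkey a ha rfl q hq).inv_left
        calc u * u = q * a * q⁻¹ * (a⁻¹ * (q * a * q⁻¹)) * a⁻¹ := by rw [hu]; group
          _ = q * a * q⁻¹ * (q * a * q⁻¹) * (a⁻¹ * a⁻¹) := by rw [h1.eq]; group
          _ = 1 := by rw [hinv _ ha', inv_eq_of_mul_eq_one_right (hinv a ha), hinv a ha, one_mul]
      have hvu : q * b * q⁻¹ * b⁻¹ = u := by
        have hab : q * a * q⁻¹ * (q * b * q⁻¹) = a * b := by
          calc _ = q * (a * b) * q⁻¹ := by group
            _ = a * b := by rw [hqc, mul_inv_cancel_right]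
        have h1 : q * b * q⁻¹ * b⁻¹ = a⁻¹ * u⁻¹ * a := by
          rw [show q * b * q⁻¹ = (q * a * q⁻¹)⁻¹ * (a * b) from eq_inv_mul_of_mul_eq hab, hu]
          group
        rw [h1, inv_eq_of_mul_eq_one_right huu, mul_assoc, hua.eq, inv_mul_cancel_left]
      have hub : Commute u b := by
        rw [← hvu]
        exact (show Commute (q * b * q⁻¹) b from by
          rcases hpair _ (hR.conj_mem b hbD q) b hbD with h | h
          · exact h
          · have e : q * b * q⁻¹ * b = u := by
              rw [← hvu, inv_eq_of_mul_eq_one_right (hinv b hbD)]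
            rw [e] at h
            have : u = 1 := by
              have hd := orderOf_dvd_of_pow_eq_one (show u ^ 2 = 1 by rw [pow_two, huu])
              exact orderOf_eq_one_iff.mp (Nat.Coprime.eq_one_of_dvd (Nat.coprime_two_right.mpr h) hd)
            rw [this, mul_inv_eq_one] at hvu
            rw [Commute, SemiconjBy, hvu]).mul_left (Commute.refl b).inv_left
      have huD : u * a ∈ D := by rw [hu, inv_mul_cancel_right]; exact ha'
      have hu1 : u = 1 := by
        rcases hpair (u * a) huD b hbD with h | h
        · exfalso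
          have h1 : a * b = b * a := by
            refine mul_left_cancel (a := u) ?_
            calc u * (a * b) = u * a * b := (mul_assoc u a b).symm
              _ = b * (u * a) := h
              _ = b * u * a := (mul_assoc b u a).symm
              _ = u * b * a := by rw [← hub.eq]
              _ = u * (b * a) := mul_assoc u b a
          have h2 : (a * b) ^ 2 = 1 := by
            rw [pow_two]; nth_rw 2 [h1]
            rw [mul_assoc, ← mul_assoc b, hinv b hbD, one_mul, hinv a ha]
          have h3 := orderOf_eq_one_iff.mp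
            (Nat.Coprime.eq_one_of_dvd (Nat.coprime_two_right.mpr hodd) (orderOf_dvd_of_pow_eq_one h2))
          exact hba (mul_left_cancel (h3.trans (hinv a ha).symm))
        · rw [mul_assoc] at h
          have hcomm : Commute u (a * b) := hua.mul_right hub
          have h1 := pow_orderOf_eq_one (u * (a * b))
          rw [hcomm.mul_pow] at h1
          have hu' : ∀ m, Odd m → u ^ m = u := by
            rintro m ⟨r, rfl⟩
            rw [pow_succ, pow_mul, pow_two, huu, one_pow, one_mul]
          rw [hu' _ h, mul_eq_one_iff_eq_inv] at h1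
          calc u = u ^ orderOf (a * b) := (hu' _ hodd).symm
            _ = 1 := by rw [h1, inv_pow, pow_right_comm, pow_orderOf_eq_one, one_pow, inv_one]
      rw [hu, mul_inv_eq_one, mul_inv_eq_iff_eq_mul] at hu1
      refine ⟨⟨hq, Subgroup.mem_centralizer_singleton_iff.mpr hu1⟩, Subgroup.mem_centralizer_singleton_iff.mpr ?_⟩
      ·
        have e1 : Commute q a := hu1
        have e2 : Commute q (a * b) := hqc
        have := (e1.inv_right.mul_right e2).eq
        simpa using this
    · rintro q ⟨⟨hq, h1⟩, h2⟩
      replace h1 : q * a = a * q := Subgroup.mem_centralizer_singleton_iff.mp h1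
      replace h2 : q * b = b * q := Subgroup.mem_centralizer_singleton_iff.mp h2
      refine ⟨hq, Subgroup.mem_centralizer_singleton_iff.mpr ?_⟩
      exact (Commute.mul_right (h1 : Commute q a) (h2 : Commute q b)).eq

end Cfsg.Agent.S5049
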