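import Cfsg.Statements.S5057


set_option autoImplicit false
set_option linter.style.haveILetI false
open Cfsg

namespace Cfsg.Agent.S5057

/-- The involutions of the alternating group of degree 6 form a class of root involutions (a single conjugacy class of involutions generating the group, any two of which commute, have product of odd order, or have product of order 4 whose square is again an involution of the class), and the product of any two of them has order at most 5. -/
theorem result :
    Cfsg.IsRootInvolutionClass {g : ↥(alternatingGroup (Fin 6)) | orderOf g = 2} ∧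
    ∀ d ∈ {g : ↥(alternatingGroup (Fin 6)) | orderOf g = 2}, ∀ e ∈ {g : ↥(alternatingGroup (Fin 6)) | orderOf g = 2},
      orderOf (d * e) ≤ 5 := by
  classical
  let a₀ : Equiv.Perm (Fin 6) := Equiv.swap 0 1 * Equiv.swap 2 3
  have hpairs : ∀ x : Equiv.Perm (Fin 6), x * x = 1 → Equiv.Perm.sign x = 1 →
      a₀ * x = x * a₀ ∨ (a₀ * x) ^ 3 = 1 ∨ (a₀ * x) ^ 5 = 1 ∨ (a₀ * x) ^ 4 = 1 := by
    decide +kernel
  have hsq : ∀ g : ↥(alternatingGroup (Fin 6)), orderOf g = 2 → g * g = 1 := fun g hg => by
    rw [← pow_two, ← hg]; exact pow_orderOf_eq_one g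
  have hct : ∀ g : ↥(alternatingGroup (Fin 6)), orderOf g = 2 →
      (g : Equiv.Perm (Fin 6)).cycleType = Multiset.replicate 2 2 := by
    intro g hg
    have h2 : orderOf (g : Equiv.Perm (Fin 6)) = 2 := by rwa [Subgroup.orderOf_coe]
    obtain ⟨n, hn⟩ := Equiv.Perm.cycleType_prime_order (h2.symm ▸ Nat.prime_two)
    rw [h2] at hn
    have h6 := (g : Equiv.Perm (Fin 6)).sum_cycleType ▸ Finset.card_le_univ (g : Equiv.Perm (Fin 6)).support
    have hs := Equiv.Perm.sign_of_cycleType (g : Equiv.Perm (Fin 6))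
    rw [show Equiv.Perm.sign (g : Equiv.Perm (Fin 6)) = 1 from g.2, hn, Multiset.sum_replicate, Multiset.card_replicate,
      smul_eq_mul] at hs
    rw [hn, Multiset.sum_replicate, smul_eq_mul, Fintype.card_fin] at h6
    have hn3 : n < 3 := by omega
    interval_cases n
    · exact absurd hs (by decide)
    · exact hn
    · exact absurd hs (by decide)
  have ha₀m : a₀ ∈ alternatingGroup (Fin 6) := by
    show Equiv.Perm.sign a₀ = 1
    decide
  let a : ↥(alternatingGroup (Fin 6)) := ⟨a₀, ha₀m⟩
  have ha : orderOf a = 2 := by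
    refine orderOf_eq_prime ?_ ?_
    · apply Subtype.ext; show a₀ ^ 2 = 1; decide
    · intro h'; exact absurd (congrArg Subtype.val h') (show a₀ ≠ 1 by decide)
  have hconj : ∀ g : ↥(alternatingGroup (Fin 6)), orderOf g = 2 → ∃ h : ↥(alternatingGroup (Fin 6)), g = h * a * h⁻¹ := by
    intro g hg
    obtain ⟨c, hc⟩ := isConj_iff.mp (Equiv.Perm.isConj_iff_cycleType_eq.mpr ((hct a ha).trans (hct g hg).symm))
    rcases Int.units_eq_one_or (Equiv.Perm.sign c) with h1 | h1
    · exact ⟨⟨c, h1⟩, Subtype.ext hc.symm⟩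
    · refine ⟨⟨c * Equiv.swap 0 1, ?_⟩, Subtype.ext ?_⟩
      · show Equiv.Perm.sign (c * Equiv.swap 0 1) = 1
        rw [map_mul, h1, Equiv.Perm.sign_swap (show (0 : Fin 6) ≠ 1 by decide)]
        decide
      · show (g : Equiv.Perm (Fin 6)) = c * Equiv.swap 0 1 * a₀ * (c * Equiv.swap 0 1)⁻¹
        rw [mul_inv_rev, show c * Equiv.swap 0 1 * a₀ * ((Equiv.swap 0 1)⁻¹ * c⁻¹) =
          c * (Equiv.swap 0 1 * a₀ * (Equiv.swap 0 1)⁻¹) * c⁻¹ by group,
          show Equiv.swap 0 1 * a₀ * (Equiv.swap (0 : Fin 6) 1)⁻¹ = a₀ by decide]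
        exact hc.symm
  set D : Set ↥(alternatingGroup (Fin 6)) := {g | orderOf g = 2} with hD
  have hD' : ∀ g h : ↥(alternatingGroup (Fin 6)), g ∈ D → h * g * h⁻¹ ∈ D := by
    intro g h hg
    show orderOf (h * g * h⁻¹) = 2
    rw [show h * g * h⁻¹ = MulAut.conj h g from rfl, MulEquiv.orderOf_eq]
    exact hg
  -- reduction to pairs containing `a`
  have hkey : ∀ g ∈ D, ∀ g' ∈ D, (g * g' = g' * g ∧ orderOf (g * g') ≤ 2) ∨
      (Odd (orderOf (g * g')) ∧ orderOf (g * g') ≤ 5) ∨ (orderOf (g * g') = 4 ∧ (g * g') ^ 2 ∈ D) := by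
    intro g hg g' hg'
    obtain ⟨h, rfl⟩ := hconj g hg
    have hx : h⁻¹ * g' * h ∈ D := by simpa using hD' g' h⁻¹ hg'
    set x := h⁻¹ * g' * h with hx'
    have he : h * a * h⁻¹ * g' = MulAut.conj h (a * x) := by
      rw [hx', MulAut.conj_apply]; group
    have he' : g' * (h * a * h⁻¹) = MulAut.conj h (x * a) := by
      rw [hx', MulAut.conj_apply]; group
    rw [he, he', MulEquiv.orderOf_eq]
    have hcase := hpairs x (congrArg Subtype.val (hsq x hx)) x.2
    rcases hcase with h1 | h1 | h1 | h1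
    · left
      have hc : a * x = x * a := Subtype.ext h1
      refine ⟨congrArg _ hc, Nat.le_of_dvd (by norm_num) (orderOf_dvd_of_pow_eq_one ?_)⟩
      rw [pow_two]; nth_rw 2 [hc]
      rw [mul_assoc, ← mul_assoc x, hsq x hx, one_mul, hsq a ha]
    · right; left
      have h3 := orderOf_dvd_of_pow_eq_one (show (a * x) ^ 3 = 1 from Subtype.ext h1)
      exact ⟨Odd.of_dvd_nat (by decide) h3, (Nat.le_of_dvd (by norm_num) h3).trans (by norm_num)⟩
    · right; left
      have h3 := orderOf_dvd_of_pow_eq_one (show (a * x) ^ 5 = 1 from Subtype.ext h1)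
      exact ⟨Odd.of_dvd_nat (by decide) h3, Nat.le_of_dvd (by norm_num) h3⟩
    · by_cases hc : a * x = x * a
      · left
        refine ⟨congrArg _ hc, Nat.le_of_dvd (by norm_num) (orderOf_dvd_of_pow_eq_one ?_)⟩
        rw [pow_two]; nth_rw 2 [hc]
        rw [mul_assoc, ← mul_assoc x, hsq x hx, one_mul, hsq a ha]
      · right; right
        have h2 : (a * x) ^ 2 ≠ 1 := by
          intro h2
          apply hc
          rw [pow_two, mul_eq_one_iff_eq_inv, mul_inv_rev, inv_eq_of_mul_eq_one_right (hsq x hx),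
            inv_eq_of_mul_eq_one_right (hsq a ha)] at h2
          exact h2
        have h4 : (a * x) ^ 4 = 1 := Subtype.ext h1
        refine ⟨orderOf_eq_prime_pow (p := 2) (n := 1) (by simpa using h2) (by simpa using h4), ?_⟩
        rw [← map_pow, MulAut.conj_apply]
        refine hD' _ h (orderOf_eq_prime ?_ h2)
        rw [← pow_mul]; exact h4
  haveI : IsSimpleGroup ↥(alternatingGroup (Fin 6)) := alternatingGroup.isSimpleGroup (by simp)
  refine ⟨⟨⟨fun d hd => hd, ?_, fun d hd g => hD' d g hd, ?_⟩, ⟨a, ha⟩, ?_⟩, ?_⟩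
  · have hn : (Subgroup.closure D).Normal := ⟨fun x hx g => by
      have : Subgroup.closure D ≤ (Subgroup.closure D).comap (MulAut.conj g).toMonoidHom := by
        rw [Subgroup.closure_le]
        exact fun d hd => Subgroup.subset_closure (hD' d g hd)
      exact this hx⟩
    refine (hn.eq_bot_or_eq_top).resolve_left fun h' => ?_
    have h1 : a ∈ Subgroup.closure D := Subgroup.subset_closure ha
    rw [h', Subgroup.mem_bot] at h1
    rw [h1, orderOf_one] at ha
    exact absurd ha (by norm_num)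
  · intro d hd e he
    rcases hkey d hd e he with h | h | h
    exacts [Or.inl h.1, Or.inr (Or.inl h.1), Or.inr (Or.inr h)]
  · intro d hd e he
    obtain ⟨h, rfl⟩ := hconj d hd
    obtain ⟨h', rfl⟩ := hconj e he
    exact ⟨h' * h⁻¹, by group⟩
  · intro d hd e he
    rcases hkey d hd e he with h | h | h <;> omega

end Cfsg.Agent.S5057
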