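import Cfsg.Statements.S5059


set_option autoImplicit false
set_option linter.style.haveILetI false
universe u
open Cfsg

namespace Cfsg.Agent.S5059

/-- Let k be a field of characteristic not 2 with k not of order 3, M a finite-dimensional k-vector space and G ≤ GL(M) such that (G, M) is a quadratic pair (M irreducible for G, and G generated by its quadratically acting elements σ whose scalar family 1 + c(σ − 1), c ∈ k, lies in G). Write 𝒬_d for the quadratic elements of G of minimal commutator rank, E(σ) for the subgroup generated by the members of 𝒬_d with the same fixed space and commutator space as σ, and Σ for the set of these subgroups. Then for σ ∈ 𝒬_d the subgroup E(σ) consists exactly of those members together with the identity, it is abelian, and if k has prime characteristic p every element of E(σ) has order dividing p. -/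
theorem result {k : Type u} [Field k] (hk2 : ringChar k ≠ 2) (hk3 : Nat.card k ≠ 3)
    {M : Type u} [AddCommGroup M] [Module k M] [FiniteDimensional k M]
    {G : Subgroup (LinearMap.GeneralLinearGroup k M)} (hG : Cfsg.IsQuadraticPair G)
    {σ : LinearMap.GeneralLinearGroup k M} (hσ : σ ∈ Cfsg.minimalQuadraticElements G) :
    (Cfsg.sameActionSubgroup G σ : Set (LinearMap.GeneralLinearGroup k M)) = Cfsg.sameActionClass G σ ∪ {1} ∧
    IsMulCommutative ↥(Cfsg.sameActionSubgroup G σ) ∧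
    (∀ p : ℕ, p.Prime → ringChar k = p → ∀ x ∈ Cfsg.sameActionSubgroup G σ, x ^ p = 1) := by
  classical
  obtain ⟨⟨hσG, hσq, hσs⟩, hσmin⟩ := hσ
  set f₀ : M →ₗ[k] M := (σ : M →ₗ[k] M) - 1 with hf₀
  -- endomorphisms killing the fixed space with image in the commutator space
  let N : (M →ₗ[k] M) → Prop := fun f => LinearMap.ker f₀ ≤ LinearMap.ker f ∧ LinearMap.range f ≤ LinearMap.range f₀
  have hRK : LinearMap.range f₀ ≤ LinearMap.ker f₀ := by
    rintro _ ⟨m, rfl⟩
    exact LinearMap.congr_fun hσq.1 m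
  have hmul0 : ∀ f g, N f → N g → f * g = 0 := by
    intro f g hf hg
    ext m
    exact hf.1 (hRK (hg.2 ⟨m, rfl⟩))
  have hclass : ∀ τ ∈ Cfsg.sameActionClass G σ, N ((τ : M →ₗ[k] M) - 1) := fun τ hτ => ⟨hτ.2.1.ge, hτ.2.2.le⟩
  have hNadd : ∀ f g, N f → N g → N (f + g) := fun f g hf hg =>
    ⟨fun m hm => by rw [LinearMap.mem_ker, LinearMap.add_apply, hf.1 hm, hg.1 hm, add_zero],
     by rintro _ ⟨m, rfl⟩; exact add_mem (hf.2 ⟨m, rfl⟩) (hg.2 ⟨m, rfl⟩)⟩
  have hNsmul : ∀ (c : k) f, N f → N (c • f) := fun c f hf =>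
    ⟨fun m hm => by rw [LinearMap.mem_ker, LinearMap.smul_apply, hf.1 hm, smul_zero],
     by rintro _ ⟨m, rfl⟩; exact Submodule.smul_mem _ c (hf.2 ⟨m, rfl⟩)⟩
  -- the set of elements of `G` whose scalar family lies in `G` with displacement in `N`
  let T : Set (LinearMap.GeneralLinearGroup k M) := {τ | N ((τ : M →ₗ[k] M) - 1) ∧
    ∀ c : k, ∃ g ∈ G, (g : M →ₗ[k] M) = 1 + c • ((τ : M →ₗ[k] M) - 1)}
  have hprod : ∀ f g, N f → N g → (1 + f) * (1 + g) = 1 + (f + g) := fun f g hf hg => by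
    rw [add_mul, one_mul, mul_add, mul_one, hmul0 f g hf hg, add_zero, add_assoc, add_comm g f]
  have hval : ∀ τ : LinearMap.GeneralLinearGroup k M, (τ : M →ₗ[k] M) = 1 + ((τ : M →ₗ[k] M) - 1) :=
    fun τ => (add_sub_cancel _ _).symm
  have hTone : ∀ x ∈ T, ∀ y ∈ T, ((x * y : LinearMap.GeneralLinearGroup k M) : M →ₗ[k] M) - 1 =
      ((x : M →ₗ[k] M) - 1) + ((y : M →ₗ[k] M) - 1) := by
    intro x hx y hy
    rw [Units.val_mul]
    conv_lhs => rw [hval x, hval y, hprod _ _ hx.1 hy.1]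
    rw [add_sub_cancel_left]
  have hscal : ∀ τ ∈ Cfsg.quadraticElements G, ∀ c : k, ∃ g ∈ G, (g : M →ₗ[k] M) = 1 + c • ((τ : M →ₗ[k] M) - 1) := by
    intro τ hτ c
    have hsq : ((τ : M →ₗ[k] M) - 1) * ((τ : M →ₗ[k] M) - 1) = 0 := hτ.2.1.1
    let g : LinearMap.GeneralLinearGroup k M :=
      ⟨1 + c • ((τ : M →ₗ[k] M) - 1), 1 - c • ((τ : M →ₗ[k] M) - 1),
        by rw [add_mul, one_mul, mul_sub, mul_one, smul_mul_smul_comm, hsq, smul_zero, sub_zero, sub_add_cancel],
        by rw [sub_mul, one_mul, mul_add, mul_one, smul_mul_smul_comm, hsq, smul_zero, add_zero, add_sub_cancel_right]⟩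
    exact ⟨g, hτ.2.2 ⟨c, rfl⟩, rfl⟩
  have hclassT : ∀ τ ∈ Cfsg.sameActionClass G σ, τ ∈ T := fun τ hτ => ⟨hclass τ hτ, hscal τ hτ.1.1⟩
  have hT1 : (1 : LinearMap.GeneralLinearGroup k M) ∈ T :=
    ⟨by simp [N], fun c => ⟨1, G.one_mem, by simp⟩⟩
  have hTmul : ∀ x ∈ T, ∀ y ∈ T, x * y ∈ T := by
    intro x hx y hy
    refine ⟨by rw [hTone x hx y hy]; exact hNadd _ _ hx.1 hy.1, fun c => ?_⟩
    obtain ⟨g, hg, hge⟩ := hx.2 c
    obtain ⟨g', hg', hge'⟩ := hy.2 c
    refine ⟨g * g', G.mul_mem hg hg', ?_⟩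
    rw [Units.val_mul, hge, hge', hprod _ _ (hNsmul c _ hx.1) (hNsmul c _ hy.1), hTone x hx y hy, smul_add]
  have hTinv : ∀ x ∈ T, x⁻¹ ∈ T := by
    intro x hx
    have he : ((x⁻¹ : LinearMap.GeneralLinearGroup k M) : M →ₗ[k] M) = 1 + (-1 : k) • ((x : M →ₗ[k] M) - 1) := by
      apply Units.inv_eq_of_mul_eq_one_right
      conv_lhs => arg 1; rw [hval x]
      rw [hprod _ _ hx.1 (hNsmul _ _ hx.1)]
      simp
    refine ⟨by rw [he, add_sub_cancel_left]; exact hNsmul _ _ hx.1, fun c => ?_⟩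
    obtain ⟨g, hg, hge⟩ := hx.2 (-c)
    exact ⟨g, hg, by rw [hge, he, add_sub_cancel_left, smul_smul, mul_neg_one]⟩
  let TS : Subgroup (LinearMap.GeneralLinearGroup k M) :=
    { carrier := T, mul_mem' := fun {x y} hx hy => hTmul x hx y hy, one_mem' := hT1, inv_mem' := fun {x} hx => hTinv x hx }
  have hle : Cfsg.sameActionSubgroup G σ ≤ TS := (Subgroup.closure_le _).mpr hclassT
  have hTclass : ∀ x ∈ T, x ≠ 1 → x ∈ Cfsg.sameActionClass G σ := by
    intro x hx hx1
    have hx0 : (x : M →ₗ[k] M) - 1 ≠ 0 := fun h' => hx1 (Units.ext (sub_eq_zero.mp h'))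
    have hxG : x ∈ G := by
      obtain ⟨g, hg, hge⟩ := hx.2 1
      rw [one_smul, ← hval x] at hge
      rwa [Units.ext hge] at hg
    have hxQ : x ∈ Cfsg.quadraticElements G := by
      refine ⟨hxG, ⟨hmul0 _ _ hx.1 hx.1, hx0⟩, ?_⟩
      rintro τ ⟨c, hc⟩
      obtain ⟨g, hg, hge⟩ := hx.2 c
      rwa [Units.ext (hc.trans hge.symm)]
    have hrange : LinearMap.range ((x : M →ₗ[k] M) - 1) = LinearMap.range f₀ :=
      Submodule.eq_of_le_of_finrank_le hx.1.2 (hσmin x hxQ)
    have hker : LinearMap.ker ((x : M →ₗ[k] M) - 1) = LinearMap.ker f₀ := by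
      refine (Submodule.eq_of_le_of_finrank_le hx.1.1 ?_).symm
      have h1 := LinearMap.finrank_range_add_finrank_ker f₀
      have h2 := LinearMap.finrank_range_add_finrank_ker ((x : M →ₗ[k] M) - 1)
      rw [hrange] at h2
      omega
    refine ⟨⟨hxQ, fun τ hτ => ?_⟩, hker, hrange⟩
    unfold Cfsg.commutatorRank at hσmin ⊢
    rw [hrange]
    exact hσmin τ hτ
  refine ⟨?_, ?_, ?_⟩
  · ext x
    refine ⟨fun hx => ?_, ?_⟩
    · by_cases hx1 : x = 1
      · exact Or.inr hx1
      · exact Or.inl (hTclass x (hle hx) hx1)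
    · rintro (hx | hx)
      · exact Subgroup.subset_closure hx
      · rw [Set.mem_singleton_iff] at hx
        subst hx
        exact one_mem _
  · refine ⟨⟨fun x y => Subtype.ext (Units.ext ?_)⟩⟩
    apply sub_left_injective (b := (1 : M →ₗ[k] M))
    show ((x.1 * y.1 : LinearMap.GeneralLinearGroup k M) : M →ₗ[k] M) - 1 = ((y.1 * x.1 : LinearMap.GeneralLinearGroup k M) : M →ₗ[k] M) - 1
    rw [hTone _ (hle x.2) _ (hle y.2), hTone _ (hle y.2) _ (hle x.2), add_comm]
  · intro p hp hchar x hx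
    have hpow : ∀ n : ℕ, x ^ n ∈ T ∧ ((x ^ n : LinearMap.GeneralLinearGroup k M) : M →ₗ[k] M) - 1 =
        (n : k) • ((x : M →ₗ[k] M) - 1) := by
      intro n
      induction n with
      | zero => exact ⟨by rw [pow_zero]; exact hT1, by simp⟩
      | succ n ih =>
        refine ⟨by rw [pow_succ]; exact hTmul _ ih.1 _ (hle hx), ?_⟩
        rw [pow_succ, hTone _ ih.1 _ (hle hx), ih.2, Nat.cast_succ, add_smul, one_smul]
    apply Units.ext
    have h1 := (hpow p).2
    rw [show (p : k) = 0 from hchar ▸ ringChar.Nat.cast_ringChar, zero_smul, sub_eq_zero] at h1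
    exact h1

end Cfsg.Agent.S5059
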