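import Cfsg.Statements.S5063
import Cfsg.Agent.RootSub.QuadPair.Decomp

set_option autoImplicit false
set_option linter.style.haveILetI false
universe u
open Cfsg

namespace Cfsg.Agent.S5063

/-- Let k be a field of characteristic not 2 with k not of order 3, M a finite-dimensional k-vector space and G ≤ GL(M) such that (G, M) is a quadratic pair (M irreducible for G, and G generated by its quadratically acting elements σ whose scalar family 1 + c(σ − 1), c ∈ k, lies in G). Write 𝒬_d for the quadratic elements of G of minimal commutator rank, E(σ) for the subgroup generated by the members of 𝒬_d with the same fixed space and commutator space as σ, and Σ for the set of these subgroups. Then G is a central product of finitely many quasisimple normal subgroups G₁, …, G_s (pairwise commuting and together generating G), each generated by the quadratic elements of G it contains, and every quadratic element of G lies in one of them. -/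
theorem result {k : Type u} [Field k] (hk2 : ringChar k ≠ 2) (hk3 : Nat.card k ≠ 3)
    {M : Type u} [AddCommGroup M] [Module k M] [FiniteDimensional k M]
    {G : Subgroup (LinearMap.GeneralLinearGroup k M)} (hG : Cfsg.IsQuadraticPair G) :
    ∃ (s : ℕ) (Gi : Fin s → Subgroup (LinearMap.GeneralLinearGroup k M)),
      (∀ i, Gi i ≤ G ∧ ∀ g ∈ G, Cfsg.conjBy (Gi i) g = Gi i) ∧ (∀ i j, i ≠ j → ⁅Gi i, Gi j⁆ = ⊥) ∧ (⨆ i, Gi i) = G ∧
      (∀ i, Cfsg.IsQuasisimple ↥(Gi i) ∧ Subgroup.closure (Cfsg.quadraticElements G ∩ (Gi i : Set (LinearMap.GeneralLinearGroup k M))) = Gi i) ∧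
      Cfsg.quadraticElements G ⊆ ⋃ i, (Gi i : Set (LinearMap.GeneralLinearGroup k M)) := by
  open Cfsg.Lib.QuadPair in
  have h2 : (2 : k) ≠ 0 := char_two_ne hk2
  open Cfsg.Lib.QuadPair in
  obtain ⟨𝒢, hfin, hmem, hcomm, hcov⟩ :=
    central_product h2 hk3 _ G (semi_of_irreducible hG.1) hG.2 le_rfl
  obtain ⟨s, f, hinj, hrange⟩ := hfin.fin_param
  have hf : ∀ i, f i ∈ 𝒢 := fun i => hrange ▸ Set.mem_range_self i
  have hsup : (⨆ i, f i) = G := by
    refine le_antisymm (iSup_le fun i => (hmem _ (hf i)).1) ?_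
    conv_lhs => rw [← hG.2]
    rw [Subgroup.closure_le]
    intro σ hσ
    obtain ⟨H, hH, hσH⟩ := hcov σ hσ
    obtain ⟨i, rfl⟩ : H ∈ Set.range f := hrange ▸ hH
    exact le_iSup f i hσH
  refine ⟨s, f, fun i => ⟨(hmem _ (hf i)).1, fun g hg => ?_⟩,
    fun i j hij => hcomm _ (hf i) _ (hf j) fun e => hij (hinj e), hsup,
    fun i => (hmem _ (hf i)).2, ?_⟩
  · rw [Cfsg.Lib.RootSub.conjBy_eq_self_iff]
    refine (iSup_le fun j => ?_ : (⨆ j, f j) ≤ Subgroup.normalizer (f i : Set (LinearMap.GeneralLinearGroup k M))) (hsup.symm ▸ hg)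
    rcases eq_or_ne j i with rfl | hne
    · exact Subgroup.le_normalizer
    · exact (Subgroup.commutator_eq_bot_iff_le_centralizer.mp (hcomm _ (hf j) _ (hf i) fun e => hne (hinj e))).trans
        (Subgroup.centralizer_le_normalizer _)
  · intro σ hσ
    obtain ⟨H, hH, hσH⟩ := hcov σ hσ
    obtain ⟨i, rfl⟩ : H ∈ Set.range f := hrange ▸ hH
    exact Set.mem_iUnion.mpr ⟨i, hσH⟩

end Cfsg.Agent.S5063
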