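import Cfsg.Statements.S5067


set_option autoImplicit false
set_option linter.style.haveILetI false
open Cfsg

namespace Cfsg.Agent.S5067

/-- Let P be a non-abelian nilpotent p-group (every element of p-power order; P possibly infinite) generated by two abelian subgroups E and F. Then the normal closure of E in P, and likewise that of F, has nilpotency class strictly smaller than that of P. -/
theorem result {P : Type*} [Group P] {p : ℕ} [Fact p.Prime] (hP : IsPGroup p P) [Group.IsNilpotent P]
    (hna : ¬ IsMulCommutative P) {E F : Subgroup P} (hE : IsMulCommutative ↥E) (hF : IsMulCommutative ↥F) (hgen : E ⊔ F = ⊤) :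
    Group.nilpotencyClass ↥(Subgroup.normalClosure (E : Set P)) < Group.nilpotencyClass P ∧
    Group.nilpotencyClass ↥(Subgroup.normalClosure (F : Set P)) < Group.nilpotencyClass P := by
  open scoped commutatorElement in
  have hc2 : 2 ≤ Group.nilpotencyClass P := by
    by_contra hlt
    have h1 := Subgroup.lowerCentralSeries_eq_bot_iff_nilpotencyClass_le.mpr (show Group.nilpotencyClass P ≤ 1 by omega)
    rw [Subgroup.top_lowerCentralSeries_one] at h1
    refine hna ⟨⟨fun x y => ?_⟩⟩
    have h3 : ⁅x, y⁆ ∈ commutator P := by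
      rw [commutator_def]; exact Subgroup.commutator_mem_commutator (Subgroup.mem_top x) (Subgroup.mem_top y)
    rwa [h1, Subgroup.mem_bot, commutatorElement_eq_one_iff_mul_comm] at h3
  suffices key : ∀ E : Subgroup P, IsMulCommutative ↥E →
      Group.nilpotencyClass ↥(Subgroup.normalClosure (E : Set P)) < Group.nilpotencyClass P from ⟨key E hE, key F hF⟩
  intro E hE
  set γ := fun n => (⊤ : Subgroup P).lowerCentralSeries n with hγ
  have hγ2 : ∀ n, ⁅γ n, (⊤ : Subgroup P)⁆ = γ (n + 1) := fun n => rfl
  have hγn : ∀ n, (γ n).Normal := fun n => inferInstanceAs ((⊤ : Subgroup P).lowerCentralSeries n).Normal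
  haveI := hγn 1
  haveI := hγn 2
  have hN : Subgroup.normalClosure (E : Set P) ≤ E ⊔ γ 1 := by
    have hnorm : (E ⊔ γ 1).Normal := ⟨fun x hx g => by
      have h1 : ⁅g, x⁆ ∈ γ 1 := by
        show ⁅g, x⁆ ∈ ⁅(⊤ : Subgroup P), ⊤⁆
        exact Subgroup.commutator_mem_commutator (Subgroup.mem_top g) (Subgroup.mem_top x)
      have := mul_mem (Subgroup.mem_sup_right (S := E) h1) hx
      simpa [commutatorElement_def, mul_assoc] using this⟩
    exact Subgroup.normalClosure_le_normal (le_sup_left : E ≤ E ⊔ γ 1)
  set N := Subgroup.normalClosure (E : Set P)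
  have hstep : ∀ n, N.lowerCentralSeries (n + 1) ≤ γ (n + 2) := by
    intro n
    induction n with
    | zero =>
      rw [Subgroup.lowerCentralSeries_succ, Subgroup.lowerCentralSeries_zero]
      refine (Subgroup.commutator_mono hN hN).trans ?_
      rw [Subgroup.commutator_le]
      intro x hx y hy
      rw [← SetLike.mem_coe, Subgroup.mul_normal] at hx hy
      obtain ⟨e, he, d, hd, rfl⟩ := hx
      obtain ⟨e', he', d', hd', rfl⟩ := hy
      rw [← QuotientGroup.eq_one_iff]
      show QuotientGroup.mk' (γ 2) ⁅e * d, e' * d'⁆ = 1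
      rw [map_commutatorElement, commutatorElement_eq_one_iff_mul_comm, map_mul, map_mul]
      have hcen : ∀ d ∈ γ 1, ∀ g : P, Commute (QuotientGroup.mk' (γ 2) d) (QuotientGroup.mk' (γ 2) g) := by
        intro d hd g
        apply commutatorElement_eq_one_iff_mul_comm.mp
        rw [← map_commutatorElement]
        exact (QuotientGroup.eq_one_iff _).mpr (Subgroup.commutator_mem_commutator hd (Subgroup.mem_top g))
      have hee : Commute (QuotientGroup.mk' (γ 2) e) (QuotientGroup.mk' (γ 2) e') :=
        Commute.map (congrArg Subtype.val (mul_comm' (⟨e, he⟩ : E) ⟨e', he'⟩)) _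
      exact ((hee.mul_right (hcen d' hd' e).symm).mul_left ((hcen d hd e').mul_right (hcen d hd d'))).eq
    | succ n ih =>
      rw [Subgroup.lowerCentralSeries_succ]
      exact (Subgroup.commutator_mono ih le_top).trans (hγ2 _).le
  obtain ⟨m, hm⟩ : ∃ m, Group.nilpotencyClass P = m + 2 := ⟨Group.nilpotencyClass P - 2, by omega⟩
  have hbot : N.lowerCentralSeries (m + 1) = ⊥ := by
    refine le_bot_iff.mp ((hstep m).trans ?_)
    simp only [hγ]
    rw [← hm, Subgroup.lowerCentralSeries_nilpotencyClass]
  have h2 : (⊤ : Subgroup N).lowerCentralSeries (m + 1) = ⊥ := by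
    rw [← Subgroup.map_subtype_inj, Subgroup.map_bot, Subgroup.top_subtype_lowerCentralSeries, hbot]
  have := Subgroup.lowerCentralSeries_eq_bot_iff_nilpotencyClass_le.mp h2
  omega

end Cfsg.Agent.S5067
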