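import Cfsg.Statements.S5069
import Cfsg.Agent.RootSub.QuadPair.Decomp

set_option autoImplicit false
set_option linter.style.haveILetI false
universe u
open Cfsg

namespace Cfsg.Agent.S5069

/-- Let k be a field of characteristic not 2 with k not of order 3, M a finite-dimensional k-vector space and G ≤ GL(M) such that (G, M) is a quadratic pair (M irreducible for G, and G generated by its quadratically acting elements σ whose scalar family 1 + c(σ − 1), c ∈ k, lies in G). Write 𝒬_d for the quadratic elements of G of minimal commutator rank, E(σ) for the subgroup generated by the members of 𝒬_d with the same fixed space and commutator space as σ, and Σ for the set of these subgroups. Then Σ is a disjoint union of finitely many parts Σ₁, …, Σ_r such that the subgroups G_i generated by the Σ_i commute pairwise, each G_i is quasisimple, and inside G_i the members of Σ_i form a class of abstract root subgroups in which every rank one pair A, B contains subgroups A₀ ≤ A, B₀ ≤ B generating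 an image of SL₂(k₁) with central kernel on unitriangular subgroups for some field k₁ with at least four elements. -/
theorem result {k : Type u} [Field k] (hk2 : ringChar k ≠ 2) (hk3 : Nat.card k ≠ 3)
    {M : Type u} [AddCommGroup M] [Module k M] [FiniteDimensional k M]
    {G : Subgroup (LinearMap.GeneralLinearGroup k M)} (hG : Cfsg.IsQuadraticPair G) :
    ∃ (r : ℕ) (part : Fin r → Set (Subgroup (LinearMap.GeneralLinearGroup k M))),
      (⋃ i, part i) = Cfsg.quadraticRootSubgroups G ∧ (∀ i j, i ≠ j → Disjoint (part i) (part j)) ∧ (∀ i, (part i).Nonempty) ∧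
      (∀ i j, i ≠ j → ⁅(⨆ A ∈ part i, A), (⨆ A ∈ part j, A)⁆ = ⊥) ∧
      (∀ i, Cfsg.IsQuasisimple ↥(⨆ A ∈ part i, A) ∧
        Cfsg.IsRootSubgroupClass ((fun A : Subgroup (LinearMap.GeneralLinearGroup k M) => A.subgroupOf (⨆ B ∈ part i, B)) '' (part i)) ∧
        ∀ A ∈ part i, ∀ B ∈ Cfsg.rankOnePartners (part i) A, ∃ A₀ B₀ : Subgroup (LinearMap.GeneralLinearGroup k M), A₀ ≤ A ∧ B₀ ≤ B ∧
          ∃ (k₁ : Type u) (_ : Field k₁), 3 < ENat.card k₁ ∧ Cfsg.IsPSL2PairOver k₁ A₀ B₀) := by
  open Cfsg.Lib.QuadPair in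
  have h2 : (2 : k) ≠ 0 := char_two_ne hk2
  open Cfsg.Lib.QuadPair in
  have hs : Semi G := semi_of_irreducible hG.1
  open Cfsg.Lib.QuadPair in
  obtain ⟨r, f, hinj, hrange⟩ := (parts_finite (G := G) h2 hk3 hs).fin_param
  open Cfsg.Lib.QuadPair in
  have hf : ∀ i, ∃ A ∈ Cfsg.quadraticRootSubgroups G, f i = part G A := fun i => by
    obtain ⟨A, hA, e⟩ : f i ∈ (fun A => part G A) '' Cfsg.quadraticRootSubgroups G := hrange ▸ Set.mem_range_self i
    exact ⟨A, hA, e.symm⟩
  refine ⟨r, f, ?_, ?_, ?_, ?_, ?_⟩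
  · ext B
    simp only [Set.mem_iUnion]
    constructor
    · rintro ⟨i, hB⟩
      obtain ⟨A, hA, e⟩ := hf i
      rw [e] at hB
      exact hB.1
    · intro hB
      open Cfsg.Lib.QuadPair in
      obtain ⟨i, hi⟩ : part G B ∈ Set.range f := hrange ▸ ⟨B, hB, rfl⟩
      exact ⟨i, hi ▸ Cfsg.Lib.QuadPair.self_mem_part hB⟩
  · intro i j hij
    obtain ⟨A, hA, eA⟩ := hf i
    obtain ⟨B, hB, eB⟩ := hf j
    have hne := fun e => hij (hinj (eA.trans (Eq.trans e eB.symm)))
    rw [eA, eB, Set.disjoint_right]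
    exact fun C hC => Cfsg.Lib.QuadPair.not_mem_part_of_ne hne hC
  · intro i
    obtain ⟨A, hA, e⟩ := hf i
    exact ⟨A, e ▸ Cfsg.Lib.QuadPair.self_mem_part hA⟩
  · intro i j hij
    obtain ⟨A, hA, eA⟩ := hf i
    obtain ⟨B, hB, eB⟩ := hf j
    have hne := fun e => hij (hinj (eA.trans (Eq.trans e eB.symm)))
    rw [eA, eB]
    exact Cfsg.Lib.QuadPair.partGroup_comm h2 hk3 hs hne
  · intro i
    obtain ⟨A, hA, e⟩ := hf i
    rw [e]
    refine ⟨Cfsg.Lib.QuadPair.part_quasisimple h2 hk3 hs hG.2 hA,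
      Cfsg.Lib.QuadPair.part_rootSet h2 hk3 hs hG.2 hA, ?_⟩
    intro B hB C hC
    exact Cfsg.Lib.QuadPair.pair_contains_psl2 h2 hk3 hB.1 hC.1.1 hC.2

end Cfsg.Agent.S5069
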