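import Cfsg.Statements.S5072
import Cfsg.Agent.RootSub.Siegel

set_option autoImplicit false
set_option linter.style.haveILetI false
open Matrix
open Cfsg

open Cfsg.Lib.RootSub
namespace Cfsg.Agent.S5072

/-- Let F be a field, m a natural number and V = F^{2(m+3)} with the hyperbolic quadratic form q(x, y) = Σ xᵢ yᵢ (non-degenerate, Witt index m + 3 ≥ 3). For a singular line ℓ (a 2-dimensional subspace on which q vanishes) let T(ℓ) be the group of isometries of q fixing every vector of ℓ^⊥ (the Siegel transvection group of ℓ), let Σ be the set of these groups and G₀ the subgroup they generate. Then, viewed inside G₀, the members of Σ form a set of abstract F-root subgroups of G₀ (any two commute, or are the unipotent subgroups of a rank one group that is an image of SL₂(F) with central kernel, or satisfy the commutator case), and their graph of rank one pairs is connected. -/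
theorem result (F : Type*) [Field F] (m : ℕ) :
    Cfsg.IsKRootSubgroupSet F ((fun A : Subgroup ↥(Cfsg.isometryGroup F (Cfsg.quadFormPlus (m + 3) F)) => A.subgroupOf (⨆ B ∈ {A : Subgroup ↥(Cfsg.isometryGroup F (Cfsg.quadFormPlus (m + 3) F)) | ∃ p r : Fin (m + 3) ⊕ Fin (m + 3) → F, LinearIndependent F ![p, r] ∧
          Cfsg.quadFormPlus (m + 3) F p = 0 ∧ Cfsg.quadFormPlus (m + 3) F r = 0 ∧
          Cfsg.quadFormPlus (m + 3) F (p + r) = 0 ∧
          A = Subgroup.closure {σ : ↥(Cfsg.isometryGroup F (Cfsg.quadFormPlus (m + 3) F)) | ∀ v : Fin (m + 3) ⊕ Fin (m + 3) → F,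
            Cfsg.quadFormPlus (m + 3) F (v + p) - Cfsg.quadFormPlus (m + 3) F v - Cfsg.quadFormPlus (m + 3) F p = 0 →
            Cfsg.quadFormPlus (m + 3) F (v + r) - Cfsg.quadFormPlus (m + 3) F v - Cfsg.quadFormPlus (m + 3) F r = 0 →
              ((σ : Matrix.GeneralLinearGroup (Fin (m + 3) ⊕ Fin (m + 3)) F) : Matrix (Fin (m + 3) ⊕ Fin (m + 3)) (Fin (m + 3) ⊕ Fin (m + 3)) F) *ᵥ v = v}}, B)) ''
      {A : Subgroup ↥(Cfsg.isometryGroup F (Cfsg.quadFormPlus (m + 3) F)) | ∃ p r : Fin (m + 3) ⊕ Fin (m + 3) → F, LinearIndependent F ![p, r] ∧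
          Cfsg.quadFormPlus (m + 3) F p = 0 ∧ Cfsg.quadFormPlus (m + 3) F r = 0 ∧
          Cfsg.quadFormPlus (m + 3) F (p + r) = 0 ∧
          A = Subgroup.closure {σ : ↥(Cfsg.isometryGroup F (Cfsg.quadFormPlus (m + 3) F)) | ∀ v : Fin (m + 3) ⊕ Fin (m + 3) → F,
            Cfsg.quadFormPlus (m + 3) F (v + p) - Cfsg.quadFormPlus (m + 3) F v - Cfsg.quadFormPlus (m + 3) F p = 0 →
            Cfsg.quadFormPlus (m + 3) F (v + r) - Cfsg.quadFormPlus (m + 3) F v - Cfsg.quadFormPlus (m + 3) F r = 0 →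
              ((σ : Matrix.GeneralLinearGroup (Fin (m + 3) ⊕ Fin (m + 3)) F) : Matrix (Fin (m + 3) ⊕ Fin (m + 3)) (Fin (m + 3) ⊕ Fin (m + 3)) F) *ᵥ v = v}}) ∧
    Cfsg.IsConnectedFamily (Cfsg.FAdj {A : Subgroup ↥(Cfsg.isometryGroup F (Cfsg.quadFormPlus (m + 3) F)) | ∃ p r : Fin (m + 3) ⊕ Fin (m + 3) → F, LinearIndependent F ![p, r] ∧
          Cfsg.quadFormPlus (m + 3) F p = 0 ∧ Cfsg.quadFormPlus (m + 3) F r = 0 ∧
          Cfsg.quadFormPlus (m + 3) F (p + r) = 0 ∧
          A = Subgroup.closure {σ : ↥(Cfsg.isometryGroup F (Cfsg.quadFormPlus (m + 3) F)) | ∀ v : Fin (m + 3) ⊕ Fin (m + 3) → F,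
            Cfsg.quadFormPlus (m + 3) F (v + p) - Cfsg.quadFormPlus (m + 3) F v - Cfsg.quadFormPlus (m + 3) F p = 0 →
            Cfsg.quadFormPlus (m + 3) F (v + r) - Cfsg.quadFormPlus (m + 3) F v - Cfsg.quadFormPlus (m + 3) F r = 0 →
              ((σ : Matrix.GeneralLinearGroup (Fin (m + 3) ⊕ Fin (m + 3)) F) : Matrix (Fin (m + 3) ⊕ Fin (m + 3)) (Fin (m + 3) ⊕ Fin (m + 3)) F) *ᵥ v = v}})
      {A : Subgroup ↥(Cfsg.isometryGroup F (Cfsg.quadFormPlus (m + 3) F)) | ∃ p r : Fin (m + 3) ⊕ Fin (m + 3) → F, LinearIndependent F ![p, r] ∧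
          Cfsg.quadFormPlus (m + 3) F p = 0 ∧ Cfsg.quadFormPlus (m + 3) F r = 0 ∧
          Cfsg.quadFormPlus (m + 3) F (p + r) = 0 ∧
          A = Subgroup.closure {σ : ↥(Cfsg.isometryGroup F (Cfsg.quadFormPlus (m + 3) F)) | ∀ v : Fin (m + 3) ⊕ Fin (m + 3) → F,
            Cfsg.quadFormPlus (m + 3) F (v + p) - Cfsg.quadFormPlus (m + 3) F v - Cfsg.quadFormPlus (m + 3) F p = 0 →
            Cfsg.quadFormPlus (m + 3) F (v + r) - Cfsg.quadFormPlus (m + 3) F v - Cfsg.quadFormPlus (m + 3) F r = 0 →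
              ((σ : Matrix.GeneralLinearGroup (Fin (m + 3) ⊕ Fin (m + 3)) F) : Matrix (Fin (m + 3) ⊕ Fin (m + 3)) (Fin (m + 3) ⊕ Fin (m + 3)) F) *ᵥ v = v}} := by
  set q := Cfsg.quadFormPlus (m + 3) F with hq
  let Q : Siegel.QS F ((Fin (m + 3) ⊕ Fin (m + 3)) → F) :=
    { q := q
      B := LinearMap.mk₂ F (fun v w : (Fin (m + 3) ⊕ Fin (m + 3)) → F => ∑ i, (v (.inl i) * w (.inr i) + v (.inr i) * w (.inl i)))
        (fun a b c => by simp only [Pi.add_apply, ← Finset.sum_add_distrib]; congr 1; funext i; ring)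
        (fun r a b => by simp only [Pi.smul_apply, smul_eq_mul, Finset.mul_sum]; congr 1; funext i; ring)
        (fun a b c => by simp only [Pi.add_apply, ← Finset.sum_add_distrib]; congr 1; funext i; ring)
        (fun r a b => by simp only [Pi.smul_apply, smul_eq_mul, Finset.mul_sum]; congr 1; funext i; ring)
      q_add := fun a b => by
        simp only [hq, Cfsg.quadFormPlus, Pi.add_apply, LinearMap.mk₂_apply, ← Finset.sum_add_distrib]
        congr 1; funext i; ring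
      q_smul := fun c a => by
        simp only [hq, Cfsg.quadFormPlus, Pi.smul_apply, smul_eq_mul, Finset.mul_sum]
        congr 1; funext i; ring
      nondeg := fun a ha => by
        funext j
        rcases j with j | j
        · simpa [Pi.single_apply, Sum.inr.injEq, Sum.inl.injEq] using ha (Pi.single (.inr j) 1)
        · simpa [Pi.single_apply, Sum.inr.injEq, Sum.inl.injEq] using ha (Pi.single (.inl j) 1) }
  let ρ : ↥(Cfsg.isometryGroup F q) →* Module.End F ((Fin (m + 3) ⊕ Fin (m + 3)) → F) :=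
    (Matrix.toLinAlgEquiv' (R := F) (n := (Fin (m + 3) ⊕ Fin (m + 3)))).toMonoidHom.comp
      ((Units.coeHom (Matrix (Fin (m + 3) ⊕ Fin (m + 3)) (Fin (m + 3) ⊕ Fin (m + 3)) F)).comp (Cfsg.isometryGroup F q).subtype)
  have ρ_apply : ∀ g v, ρ g v = ((g : Matrix.GeneralLinearGroup (Fin (m + 3) ⊕ Fin (m + 3)) F) : Matrix (Fin (m + 3) ⊕ Fin (m + 3)) (Fin (m + 3) ⊕ Fin (m + 3)) F) *ᵥ v := fun g v => rfl
  let M : Siegel.Model Q ↥(Cfsg.isometryGroup F q) :=
    { ρ := ρ
      inj := (Matrix.toLinAlgEquiv' (R := F) (n := (Fin (m + 3) ⊕ Fin (m + 3)))).injective.comp (Units.val_injective.comp Subtype.val_injective)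
      isom := fun g v => g.2 v v
      full := fun p r h c => by
        obtain ⟨opp, orr, opr, orp⟩ := h.ortho
        have hsq : ∀ d e : F, ((1 : Module.End F ((Fin (m + 3) ⊕ Fin (m + 3)) → F)) + d • Siegel.phi Q p r) * (1 + e • Siegel.phi Q p r) =
            1 + (d + e) • Siegel.phi Q p r := fun d e => LinearMap.ext fun a => by
          simp [Module.End.mul_apply, Siegel.Model.phi_sq h]
          module
        let u : (Module.End F ((Fin (m + 3) ⊕ Fin (m + 3)) → F))ˣ :=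
          ⟨1 + c • Siegel.phi Q p r, 1 + (-c) • Siegel.phi Q p r, by rw [hsq]; simp, by rw [hsq]; simp⟩
        let g : Matrix.GeneralLinearGroup (Fin (m + 3) ⊕ Fin (m + 3)) F := Units.mapEquiv (LinearMap.toMatrixAlgEquiv').toMulEquiv u
        have hg : ∀ v, ((g : Matrix (Fin (m + 3) ⊕ Fin (m + 3)) (Fin (m + 3) ⊕ Fin (m + 3)) F)) *ᵥ v = (1 + c • Siegel.phi Q p r : Module.End F ((Fin (m + 3) ⊕ Fin (m + 3)) → F)) v := fun v => by
          rw [← Matrix.toLinAlgEquiv'_apply]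
          simp [g, u]
        refine ⟨⟨g, fun v _ => ?_⟩, LinearMap.ext fun v => hg v⟩
        show Q.q (((g : Matrix (Fin (m + 3) ⊕ Fin (m + 3)) (Fin (m + 3) ⊕ Fin (m + 3)) F)) *ᵥ v) = Q.q v
        rw [hg, LinearMap.add_apply, LinearMap.smul_apply, Siegel.phi_apply, Module.End.one_apply, Q.q_add, Q.q_smul,
          sub_eq_add_neg, ← neg_smul, Q.q_add, Q.q_smul, Q.q_smul, h.hp, h.hr]
        simp [opr, orp]
        ring }
  have hfx : ∀ p r, Subgroup.closure {σ : ↥(Cfsg.isometryGroup F q) | ∀ v : (Fin (m + 3) ⊕ Fin (m + 3)) → F,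
      q (v + p) - q v - q p = 0 → q (v + r) - q v - q r = 0 →
        ((σ : Matrix.GeneralLinearGroup (Fin (m + 3) ⊕ Fin (m + 3)) F) : Matrix (Fin (m + 3) ⊕ Fin (m + 3)) (Fin (m + 3) ⊕ Fin (m + 3)) F) *ᵥ v = v} = M.fx p r := fun p r => by
    have h1 : ∀ v w, q (v + w) - q v - q w = Q.B v w := fun v w => by
      show Q.q (v + w) - Q.q v - Q.q w = _
      rw [Q.q_add]; ring
    refine le_antisymm ((Subgroup.closure_le _).mpr fun σ hσ v hp hr => ?_)
      (fun σ hσ => Subgroup.subset_closure fun v hp hr => ?_)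
    · exact (ρ_apply σ v).trans (hσ v ((h1 v p).trans hp) ((h1 v r).trans hr))
    · exact (ρ_apply σ v).symm.trans (hσ v ((h1 v p).symm.trans hp) ((h1 v r).symm.trans hr))
  have hS : {A : Subgroup ↥(Cfsg.isometryGroup F q) | ∃ p r : Fin (m + 3) ⊕ Fin (m + 3) → F, LinearIndependent F ![p, r] ∧
      q p = 0 ∧ q r = 0 ∧ q (p + r) = 0 ∧
      A = Subgroup.closure {σ : ↥(Cfsg.isometryGroup F q) | ∀ v : Fin (m + 3) ⊕ Fin (m + 3) → F,
        q (v + p) - q v - q p = 0 → q (v + r) - q v - q r = 0 →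
        ((σ : Matrix.GeneralLinearGroup (Fin (m + 3) ⊕ Fin (m + 3)) F) : Matrix (Fin (m + 3) ⊕ Fin (m + 3)) (Fin (m + 3) ⊕ Fin (m + 3)) F) *ᵥ v = v}} = M.roots := by
    ext A
    simp only [Set.mem_setOf_eq, hfx]
    constructor
    · rintro ⟨p, r, hli, hp, hr, hpr, rfl⟩
      have := (Q.q_add p r).symm.trans hpr
      exact ⟨p, r, ⟨hp, hr, by simpa [show Q.q p = 0 from hp, show Q.q r = 0 from hr] using this,
        LinearIndependent.pair_iff.mp hli⟩, rfl⟩
    · rintro ⟨p, r, h, rfl⟩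
      refine ⟨p, r, h.linearIndependent, h.hp, h.hr, ?_, rfl⟩
      show Q.q (p + r) = 0
      rw [Q.q_add, h.hp, h.hr, h.hpr]; simp
  rw [hS]
  let f : (Fin (m + 3) → F) →ₗ[F] ((Fin (m + 3) ⊕ Fin (m + 3)) → F) :=
    { toFun := fun x => Sum.elim x 0
      map_add' := fun a b => by funext j; cases j <;> simp
      map_smul' := fun a b => by funext j; cases j <;> simp }
  refine ⟨M.isKRootSubgroupSet_sup, M.connected (L := LinearMap.range f) ?_ ?_⟩
  · rw [LinearMap.finrank_range_of_inj (fun a b hab => funext fun i => congrFun hab (Sum.inl i)),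
      Module.finrank_fin_fun]
    omega
  · rintro _ ⟨x, rfl⟩
    show q (f x) = 0
    simp [hq, Cfsg.quadFormPlus, f]

end Cfsg.Agent.S5072
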