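import Cfsg.Statements.S5073
import Cfsg.Agent.RootSub.QuadPair.Bridge

set_option autoImplicit false
set_option linter.style.haveILetI false
universe u
open Cfsg

namespace Cfsg.Agent.S5073

/-- Let k be a field of characteristic not 2 with k not of order 3, M a finite-dimensional k-vector space and G ≤ GL(M) such that (G, M) is a quadratic pair (M irreducible for G, and G generated by its quadratically acting elements σ whose scalar family 1 + c(σ − 1), c ∈ k, lies in G). Write 𝒬_d for the quadratic elements of G of minimal commutator rank, E(σ) for the subgroup generated by the members of 𝒬_d with the same fixed space and commutator space as σ, and Σ for the set of these subgroups. Let E, F ∈ Σ. If some non-identity element of E commutes with some non-identity element of F, or some non-identity element of E normalizes F, then E and F commute elementwise. -/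
theorem result {k : Type u} [Field k] (hk2 : ringChar k ≠ 2) (hk3 : Nat.card k ≠ 3)
    {M : Type u} [AddCommGroup M] [Module k M] [FiniteDimensional k M]
    {G : Subgroup (LinearMap.GeneralLinearGroup k M)} (hG : Cfsg.IsQuadraticPair G)
    {E F : Subgroup (LinearMap.GeneralLinearGroup k M)} (hE : E ∈ Cfsg.quadraticRootSubgroups G) (hF : F ∈ Cfsg.quadraticRootSubgroups G)
    (h : (∃ e ∈ E, e ≠ 1 ∧ ∃ f ∈ F, f ≠ 1 ∧ e * f = f * e) ∨ E ⊓ Subgroup.normalizer (F : Set (LinearMap.GeneralLinearGroup k M)) ≠ ⊥) :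
    ⁅E, F⁆ = ⊥ := by
  open Cfsg.Lib.QuadPair in
  have h2 : (2 : k) ≠ 0 := char_two_ne hk2
  open Cfsg.Lib.QuadPair in
  obtain ⟨a, ha, rfl⟩ := exists_root hE
  open Cfsg.Lib.QuadPair in
  obtain ⟨b, hb, rfl⟩ := exists_root hF
  open Cfsg.Lib.QuadPair in
  suffices hone : ∃ x y : M →ₗ[k] M, Same G a x ∧ Same G b y ∧ x ≠ 0 ∧ y ≠ 0 ∧ x * y = y * x by
    obtain ⟨x, y, hx, hy, hx0, hy0, hxy⟩ := hone
    obtain ⟨mx, kx, rx⟩ := hx.data hx0
    obtain ⟨my, ky, ry⟩ := hy.data hy0
    rw [root_comm_bot ha hb]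
    exact fun u v hu hv => commute_all h2 hk3 mx my hxy (hu.trans kx.symm rx.symm) (hv.trans ky.symm ry.symm)
  open Cfsg.Lib.QuadPair in
  rcases h with ⟨e, he, he1, f, hf, hf1, hef⟩ | hN
  · exact ⟨_, _, (mem_rootOf ha).mp he, (mem_rootOf hb).mp hf, fun h0 => he1 (Units.ext (sub_eq_zero.mp h0)),
      fun h0 => hf1 (Units.ext (sub_eq_zero.mp h0)), unit_commute_iff.mp hef⟩
  · obtain ⟨e, he, he1⟩ := (Subgroup.bot_or_exists_ne_one _).resolve_left hN
    obtain ⟨heE, heN⟩ := Subgroup.mem_inf.mp he
    have hx := (mem_rootOf ha).mp heE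
    have hx0 : (e : M →ₗ[k] M) - 1 ≠ 0 := fun h0 => he1 (Units.ext (sub_eq_zero.mp h0))
    obtain ⟨mx, kx, rx⟩ := hx.data hx0
    have hxe : xu ((e : M →ₗ[k] M) - 1) mx.sq = e := Units.ext (by rw [xu_val, add_sub_cancel])
    refine ⟨_, b, hx, Same.refl hb, hx0, hb.ne, commute_of_normalizes h2 hk3 mx hb fun y hy => ?_⟩
    have hm := (mem_rootOf hb).mp ((Subgroup.mem_normalizer_iff.mp heN _).mp (xu_mem_rootOf hb hy))
    rw [hxe]
    rwa [Units.val_mul, Units.val_mul, xu_val, mul_add, add_mul, mul_one, Units.mul_inv, add_sub_cancel_left] at hm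

end Cfsg.Agent.S5073
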