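import Cfsg.Statements.S5082
import Mathlib
import Cfsg.Agent.Fusion.Essential

set_option autoImplicit false
open Cfsg

namespace Cfsg.Agent.S5082

/-- Alperin–Goldschmidt fusion Theorem for fusion systems: a saturated fusion system F over a finite p-group S is generated by the automorphism groups Aut_F(P) for P = S and for P essential — every fusion system over S whose automorphism groups of these subgroups contain those of F contains every map of F. -/
theorem result {Ω : Type*} [Group Ω] {S : Subgroup Ω} [Finite S] (p : ℕ) [Fact p.Prime] (hS : IsPGroup p S) (F : Cfsg.FusionSystem S) (hF : F.IsSaturated p) (E : Cfsg.FusionSystem S) (hE : ∀ P : Subgroup Ω, (P = S ∨ F.IsEssential p P) → F.autGroup P ≤ E.autGroup P) : F ≤ E := by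
  refine Lib.Fusion.le_iff_isMap.mpr fun P f hf => ?_
  refine Lib.Fusion.alperin_induction hS hF (Lib.Fusion.isMapClass_isMap F E) ?_ ?_ hf
  · intro g hg
    have : Finite S := inferInstance
    have hi : Lib.Fusion.img S g = S := Subgroup.eq_of_le_of_card_ge hg.img_le hg.card_img.ge
    obtain ⟨α, hα, e⟩ := hg.exists_aut hi
    exact ((Lib.Fusion.isMap_autFun le_rfl).mpr (hE S (Or.inl rfl) hα)).congr fun x hx => (e x hx).symm
  · intro Q hQS hQ hQc hIH α hα
    by_contra hbad
    exact hbad ((Lib.Fusion.isMap_autFun hQ.1).mpr (hE Q (Or.inr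
      (Lib.Fusion.essential_of_bad hS hF (Lib.Fusion.isMapClass_isMap F E) hQS hQ hQc hIH hα hbad)) hα))


end Cfsg.Agent.S5082
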