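import Cfsg.Statements.S5084
import Cfsg.Agent.Fusion.NormalCriteria
open Cfsg.FusionSystem Cfsg.Lib.Fusion

set_option autoImplicit false
open Cfsg

namespace Cfsg.Agent.S5084

/-- In a saturated fusion system over a finite p-group S, a subgroup Q is central in the system if and only if Q ≤ S and no element of Q is conjugate in the system to any element other than itself. -/
theorem result {Ω : Type*} [Group Ω] {S : Subgroup Ω} [Finite S] (p : ℕ) [Fact p.Prime] (hS : IsPGroup p S) (F : Cfsg.FusionSystem S) (hF : F.IsSaturated p) (Q : Subgroup Ω) : F.IsCentral Q ↔ (Q ≤ S ∧ ∀ x ∈ Q, ∀ y : Ω, F.IsConjElt x y → y = x) := by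
  constructor
  · intro h
    refine ⟨h.1, fun x hx y ⟨φ, hφ, e⟩ => ?_⟩
    obtain ⟨k, -, hkf, hkx⟩ := (isCentral_iff.mp h).2 _ _ (isMap_of_mem hφ)
    rw [← e, ← toFun'_apply φ ⟨x, Subgroup.mem_zpowers x⟩, ← hkf x (Subgroup.mem_zpowers x), hkx x hx]
  · rintro ⟨hQS, h⟩
    have hfix : ∀ x ∈ Q, ∀ (P : Subgroup Ω) (f : Ω → Ω), IsMap F P f → x ∈ P → f x = x := by
      intro x hx P f hf hxP
      obtain ⟨φ, hφ, e⟩ := hf.mono (Subgroup.zpowers_le.mpr hxP)
      exact h x hx (f x) ⟨φ, hφ, e _⟩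
    have hcen : Q ≤ F.center := fun x hx => by
      have hxc : ∀ s ∈ S, s * x = x * s := fun s hs =>
        mul_inv_eq_iff_eq_mul.mp (hfix x hx S _ (isMap_conj le_rfl hs) (hQS hx))
      refine mem_center_of_fixesElt (hQS hx) fun P f hf =>
        alperin_induction hS hF (isMapClass_fixesElt (hQS hx) hxc) (fun g hg => ?_)
          (fun R _ hRn hRc _ α hα => ?_) hf
      · exact ⟨g, hg.mono (sup_le le_rfl (Subgroup.zpowers_le.mpr (hQS hx))), fun _ _ => rfl,
          hfix x hx S g hg (hQS hx)⟩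
      · have hxR : x ∈ R := hRc.2 R (isConj_refl hRn.1) (mem_centralizerIn.mpr ⟨hQS hx, fun q hq => by
          rw [← hxc q (hRn.1 hq), mul_inv_cancel_right]⟩)
        have hm := (isMap_autFun hRn.1).mpr hα
        exact ⟨autFun α, hm.mono (sup_le le_rfl (Subgroup.zpowers_le.mpr hxR)), fun _ _ => rfl,
          hfix x hx R _ hm hxR⟩
    refine isCentral_iff.mpr ⟨hQS, fun P f hf => ?_⟩
    obtain ⟨k, hk, hkf, hkx⟩ := (isCentral_iff.mp isCentral_center).2 P f hf
    exact ⟨k, hk.mono (sup_le_sup_left hcen P), hkf, fun x hx => hkx x (hcen hx)⟩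

end Cfsg.Agent.S5084
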