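import Cfsg.Statements.S5087
import Cfsg.Agent.Fusion.NormalCriteria
open Cfsg.FusionSystem Cfsg.Lib.Fusion

set_option autoImplicit false
open Cfsg

namespace Cfsg.Agent.S5087

/-- In a saturated fusion system over a finite p-group S, a subgroup Q is normal in the system if and only if every subgroup P that equals S or is essential contains Q and every element of Aut_F(P) maps Q onto itself. -/
theorem result {Ω : Type*} [Group Ω] {S : Subgroup Ω} [Finite S] (p : ℕ) [Fact p.Prime] (hS : IsPGroup p S) (F : Cfsg.FusionSystem S) (hF : F.IsSaturated p) (Q : Subgroup Ω) : F.IsNormal Q ↔ ∀ P : Subgroup Ω, (P = S ∨ F.IsEssential p P) → (Q ≤ P ∧ ∀ α ∈ F.autGroup P, (Q.subgroupOf P).map α.toMonoidHom = Q.subgroupOf P) := by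
  have haut : ∀ P : Subgroup Ω, P ≤ S → Q ≤ P → ∀ α : MulAut P,
      ((Q.subgroupOf P).map α.toMonoidHom = Q.subgroupOf P ↔ ∀ x ∈ Q, autFun α x ∈ Q) := by
    intro P hP hQP α
    haveI := finite_of_le hP
    constructor
    · intro h x hx
      rw [autFun_apply_mem _ (hQP hx)]
      exact h.le ⟨⟨x, hQP hx⟩, hx, rfl⟩
    · intro h
      refine Subgroup.eq_of_le_of_card_ge ?_ (Subgroup.card_map_of_injective α.injective).ge
      rintro _ ⟨x, hx, rfl⟩
      show ((α x : P) : Ω) ∈ Q
      rw [← autFun_apply α x]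
      exact h x hx
  constructor
  · intro hQ P hP
    have hPS : P ≤ S ∧ Q ≤ P := by
      rcases hP with rfl | hess
      · exact ⟨le_rfl, hQ.1⟩
      · exact ⟨hess.1.1, le_radical_of_isNormal hS hQ hess.1 (radical_of_stronglyEmbedded hS hess)⟩
    exact ⟨hPS.2, fun α hα => (haut P hPS.1 hPS.2 α).mpr fun x hx =>
      stronglyClosed_apply (stronglyClosed_of_isNormal hQ) ((isMap_autFun hPS.1).mpr hα) (hPS.2 hx) hx⟩
  · intro h
    obtain ⟨hQS, hQaut⟩ := h S (Or.inl rfl)
    haveI := finite_of_le hQS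
    have hn : S ≤ Subgroup.normalizer (Q : Set Ω) := fun s hs => by
      refine mem_normalizer_of_maps_finite fun x hx => ?_
      have hsn := Subgroup.le_normalizer (H := S) hs
      have h1 := (haut S le_rfl hQS _).mp
        (hQaut _ (autInducedBy_le le_rfl (conjAut_mem_autInducedBy hsn hs))) x hx
      rwa [autFun_apply_mem _ (hQS hx), conjAut_apply] at h1
    have hclass := isMapClass_extendsWith (F := F) hQS (conj_map_eq hQS hn)
    refine isNormal_of_extendsWith hQS fun P f hf =>
      alperin_induction hS hF hclass (fun g hg => ?_) (fun R hRS hRn hRc hIH α hα => ?_) hf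
    · refine ⟨g, by rwa [sup_eq_left.mpr hQS], fun _ _ => rfl, img_eq_of_apply hg hQS fun x hx => ?_⟩
      obtain ⟨α, hα, he⟩ := hg.exists_aut (Subgroup.eq_of_le_of_card_ge hg.img_le hg.card_img.ge)
      rw [← he x (hQS hx)]
      exact (haut S le_rfl hQS α).mp (hQaut α hα) x hx
    · by_contra hbad
      obtain ⟨hQR, hRaut⟩ := h R (Or.inr (essential_of_bad hS hF hclass hRS hRn hRc hIH hα hbad))
      have hm := (isMap_autFun hRn.1).mpr hα
      exact hbad ⟨autFun α, by rwa [sup_eq_left.mpr hQR], fun _ _ => rfl,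
        img_eq_of_apply hm hQR fun x hx => (haut R hRn.1 hQR α).mp (hRaut α hα) x hx⟩

end Cfsg.Agent.S5087
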