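import Cfsg.Statements.S5088
import Cfsg.Agent.Fusion.NormalCriteria
open Cfsg.FusionSystem Cfsg.Lib.Fusion

set_option autoImplicit false
open Cfsg

namespace Cfsg.Agent.S5088

/-- In a saturated fusion system over a finite p-group, a subgroup Q is normal in the system if and only if there is a chain of subgroups 1 = Q₀ ≤ Q₁ ≤ ⋯ ≤ Qₙ = Q such that each Qᵢ with i ≥ 1 is strongly closed in the system and [Q, Qᵢ] ≤ Qᵢ₋₁. -/
theorem result {Ω : Type*} [Group Ω] {S : Subgroup Ω} [Finite S] (p : ℕ) [Fact p.Prime] (hS : IsPGroup p S) (F : Cfsg.FusionSystem S) (hF : F.IsSaturated p) (Q : Subgroup Ω) : F.IsNormal Q ↔ ∃ (n : ℕ) (Qs : Fin (n + 1) → Subgroup Ω), Qs 0 = ⊥ ∧ Qs (Fin.last n) = Q ∧ Monotone Qs ∧ ∀ i : Fin n, F.StronglyClosed (Qs i.succ) ∧ ⁅Q, Qs i.succ⁆ ≤ Qs (Fin.castSucc i) := by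
  constructor
  · intro hQ
    obtain ⟨n, C, h0, hn, hmono, hnor, hc⟩ := exists_chain_of_isNormal hS hQ
    refine ⟨n, fun i => C i, h0, by simpa using hn, fun i j hij => hmono hij, fun i => ⟨?_, ?_⟩⟩
    · exact stronglyClosed_of_isNormal (hnor _)
    · rw [Subgroup.commutator_comm]
      simpa using hc i
  · rintro ⟨n, Qs, h0, hn, hmono, h⟩
    rcases Nat.eq_zero_or_pos n with hn0 | hn0
    · subst hn0
      have e : Q = ⊥ := by rw [← hn]; exact h0
      rw [e]
      exact isNormal_bot'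
    · let C : ℕ → Subgroup Ω := fun i => if hi : i < n + 1 then Qs ⟨i, hi⟩ else Q
      have hCv : ∀ i (hi : i < n + 1), C i = Qs ⟨i, hi⟩ := fun i hi => dif_pos hi
      have hR : F.StronglyClosed Q := by
        have h1 := (h ⟨n - 1, by omega⟩).1
        have e : (⟨n - 1, by omega⟩ : Fin n).succ = Fin.last n := Fin.ext (by simp; omega)
        rwa [e, hn] at h1
      refine isNormal_of_chain hS hF hR n C ?_ ?_ (fun i hi => ?_) (fun i hi => ?_)
      · rw [hCv 0 (by omega)]
        exact h0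
      · rw [hCv n (by omega)]
        exact hn.ge
      · rw [hCv (i + 1) (by omega)]
        exact (h ⟨i, hi⟩).1
      · rw [hCv (i + 1) (by omega), hCv i (by omega), Subgroup.commutator_comm]
        exact (h ⟨i, hi⟩).2

end Cfsg.Agent.S5088
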