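import Cfsg.Statements.S5089
import Cfsg.Agent.Fusion.NormalCriteria

set_option autoImplicit false
open Cfsg

namespace Cfsg.Agent.S5089

/-- A saturated fusion system over a finite p-group has a nontrivial subgroup that is normal in the system (O_p(F) ≠ 1) if and only if some nontrivial abelian subgroup is strongly closed in the system. -/
theorem result {Ω : Type*} [Group Ω] {S : Subgroup Ω} [Finite S] (p : ℕ) [Fact p.Prime] (hS : IsPGroup p S) (F : Cfsg.FusionSystem S) (hF : F.IsSaturated p) : F.core ≠ ⊥ ↔ ∃ Q : Subgroup Ω, Q ≠ ⊥ ∧ IsMulCommutative Q ∧ F.StronglyClosed Q := by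
  open Cfsg.Lib.Fusion in
  constructor
  · intro hne
    have hcn := isNormal_core (F := F)
    haveI := finite_of_le hcn.1
    have hcp : IsPGroup p F.core := hS.of_injective _ (Subgroup.inclusion_injective hcn.1)
    haveI : Nontrivial F.core := (Subgroup.nontrivial_iff_ne_bot _).mpr hne
    haveI := hcp.center_nontrivial
    refine ⟨(Subgroup.center F.core).map F.core.subtype, ?_, ?_, ?_⟩
    · exact fun h => (Subgroup.nontrivial_iff_ne_bot _).mp ‹Nontrivial (Subgroup.center F.core)›
        ((Subgroup.map_eq_bot_iff_of_injective _ F.core.subtype_injective).mp h)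
    · exact Subgroup.map_isMulCommutative _ _
    · refine stronglyClosed_of_isNormal (isNormal_of_characteristic hcn (Subgroup.map_subtype_le _) ?_)
      rw [Subgroup.subgroupOf, Subgroup.comap_map_eq_self_of_injective F.core.subtype_injective]
      infer_instance
  · rintro ⟨Q, hne, hab, hQ⟩ hbot
    haveI := hab
    have hn : F.IsNormal Q := isNormal_of_chain hS hF hQ 1 (fun i => if i = 0 then ⊥ else Q) rfl
      (by simp) (fun i _ => by simp [hQ]) (fun i hi => by
        obtain rfl : i = 0 := by omega
        simp only [zero_add, one_ne_zero, if_false, if_true]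
        refine (Subgroup.commutator_eq_bot_iff_le_centralizer.mpr fun x hx => ?_).le
        exact Subgroup.mem_centralizer_iff.mpr fun y hy =>
          congrArg Subtype.val (hab.is_comm.comm (⟨y, hy⟩ : Q) ⟨x, hx⟩))
    exact hne (le_bot_iff.mp (hbot ▸ le_sSup hn))

end Cfsg.Agent.S5089
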