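import Cfsg.Statements.S5094
import Cfsg.Agent.InvolCalc.ZStarApps
import Cfsg.Agent.Fusion.GroupSystem

set_option autoImplicit false
open Cfsg

namespace Cfsg.Agent.S5094

/-- Glauberman's Z*-Theorem in fusion language: for a finite group G with Sylow 2-subgroup S, the centre of the fusion system of G on S is the set of elements of S whose image in G/O(G) is central, O(G) being the largest normal subgroup of odd order. -/
theorem result {G : Type*} [Group G] [Finite G] (S : Sylow 2 G) : (Cfsg.groupFusionSystem (S : Subgroup G)).center = (S : Subgroup G) ⊓ (Subgroup.center (G ⧸ Cfsg.oddCore G)).comap (QuotientGroup.mk' (Cfsg.oddCore G)) := by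
  open Cfsg.Lib.Fusion Cfsg.FusionSystem in
  haveI : Fact (Nat.Prime 2) := ⟨Nat.prime_two⟩
  set O := Cfsg.oddCore G with hO
  set π := QuotientGroup.mk' O with hπ
  set X := (S : Subgroup G) ⊓ (Subgroup.center (G ⧸ O)).comap π
  have hmod : ∀ {a b : G}, π a = π b → a ∈ (S : Subgroup G) → b ∈ (S : Subgroup G) → a = b := by
    intro a b hab ha hb
    have h1 : a⁻¹ * b ∈ O := QuotientGroup.eq.mp hab
    have h2 : a⁻¹ * b ∈ (S : Subgroup G) := Subgroup.mul_mem _ (Subgroup.inv_mem _ ha) hb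
    obtain ⟨k, hk⟩ := IsPGroup.iff_card.mp S.isPGroup'
    refine inv_mul_eq_one.mp (orderOf_eq_one_iff.mp (Nat.eq_one_of_dvd_coprimes
      ((Cfsg.Lib.Components.coprime_card_pPrimeCore (G := G) 2).pow_right k) ?_ ?_))
    · rw [← Subgroup.orderOf_mk _ h1]; exact orderOf_dvd_natCard _
    · rw [← Subgroup.orderOf_mk _ h2, ← hk]; exact orderOf_dvd_natCard _
  refine le_antisymm (sSup_le fun A hA => ?_) (le_sSup ⟨inf_le_left, ?_⟩)
  · intro x hx
    have hxS : x ∈ (S : Subgroup G) := hA.1 hx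
    obtain ⟨k, hk⟩ := IsPGroup.iff_card.mp S.isPGroup'
    have hord : orderOf x ∣ 2 ^ k := by
      rw [← hk, ← Subgroup.orderOf_mk x hxS]; exact orderOf_dvd_natCard _
    have hI : Cfsg.Lib.ZStarApps.Isolated2 x := by
      refine ⟨S, hxS, fun g hg => ?_⟩
      have hle : Subgroup.zpowers x ≤ (S : Subgroup G) := Subgroup.zpowers_le.mpr hxS
      have hm : Cfsg.conjHom (Subgroup.zpowers x) g ∈
          (Cfsg.groupFusionSystem (S : Subgroup G)).Hom (Subgroup.zpowers x) := by
        refine ⟨hle, ?_, g, fun _ => rfl⟩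
        rintro ⟨_, i, rfl⟩
        show g * x ^ i * g⁻¹ ∈ (S : Subgroup G)
        rw [← conj_zpow]
        exact Subgroup.zpow_mem _ hg i
      obtain ⟨ψ, -, hψ1, hψ2⟩ := hA.2 _ _ hm
      exact (hψ1 ⟨x, Subgroup.mem_zpowers x⟩).symm.trans (hψ2 ⟨x, hx⟩)
    refine Subgroup.mem_inf.mpr ⟨hxS, ?_⟩
    rw [Subgroup.mem_comap, Subgroup.mem_center_iff]
    intro gb
    obtain ⟨g, rfl⟩ := QuotientGroup.mk'_surjective O gb
    have h := (QuotientGroup.eq_one_iff _).mpr
      (Cfsg.Lib.ZStarApps.central_of_isolated2 k x hord hI g)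
    have h' : π g * π x * (π g)⁻¹ * (π x)⁻¹ = 1 := by
      rw [← map_inv, ← map_inv, ← map_mul, ← map_mul, ← map_mul]; exact h
    rwa [mul_inv_eq_one, mul_inv_eq_iff_eq_mul] at h'
  · intro P φ hφ
    obtain ⟨hP, hφS, g, hg⟩ := hφ
    set Y : Subgroup G := P.map (MulAut.conj g).toMonoidHom ⊔ X
    have hPS : P.map (MulAut.conj g).toMonoidHom ≤ (S : Subgroup G) :=
      map_conj_le fun y hy => hg ⟨y, hy⟩ ▸ hφS ⟨y, hy⟩
    have hY : Y ≤ (S : Subgroup G) := sup_le hPS inf_le_left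
    have hYp : IsPGroup 2 Y := isPGroup_of_le_sylow S hY
    have hmax : IsMaxPIn 2 Y (O ⊔ Y) := by
      refine ⟨le_sup_right, hYp, fun U hU hUp hle => (Subgroup.eq_of_le_of_card_ge hle ?_).symm⟩
      obtain ⟨j, hj⟩ := IsPGroup.iff_card.mp hUp
      have h1 : Nat.card U ∣ Nat.card O * Nat.card Y :=
        (Subgroup.card_dvd_of_le hU).trans (Cfsg.Lib.Components.card_sup_dvd_mul O Y)
      refine Nat.le_of_dvd Nat.card_pos (Nat.Coprime.dvd_of_dvd_mul_left ?_ h1)
      rw [hj]
      exact ((Cfsg.Lib.Components.coprime_card_pPrimeCore (G := G) 2).pow_right j).symm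
    have hgX : ∀ x ∈ X, π (g * x * g⁻¹) = π x := fun x hx => by
      rw [map_mul, map_mul, Subgroup.mem_center_iff.mp (Subgroup.mem_inf.mp hx).2, map_inv,
        mul_inv_cancel_right]
    have hU : ((P ⊔ X).map (MulAut.conj g).toMonoidHom) ≤ O ⊔ Y := by
      rw [Subgroup.map_sup]
      refine sup_le (le_sup_left.trans le_sup_right) (map_conj_le fun x hx => ?_)
      rw [show g * x * g⁻¹ = x * (x⁻¹ * (g * x * g⁻¹)) by group]
      exact Subgroup.mul_mem _ (Subgroup.mem_sup_right (Subgroup.mem_sup_right hx))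
        (Subgroup.mem_sup_left (QuotientGroup.eq.mp (hgX x hx).symm))
    obtain ⟨m, hm, hmY⟩ := hmax.exists_conj_le hU
      ((isPGroup_of_le_sylow S (sup_le hP inf_le_left)).map _)
    obtain ⟨o, ho, y₀, hy₀, rfl⟩ : ∃ o ∈ O, ∃ y ∈ Y, o * y = m := by
      rw [← SetLike.mem_coe, Subgroup.normal_mul] at hm
      exact Set.mem_mul.mp hm
    set k := y₀⁻¹ * (o * y₀) * g with hk
    have hkmem : ∀ z ∈ P ⊔ X, k * z * k⁻¹ ∈ (S : Subgroup G) := fun z hz => by
      refine hY ?_
      have := Y.mul_mem (Y.mul_mem (Y.inv_mem hy₀) (hmY _ ⟨z, hz, rfl⟩)) hy₀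
      simp only [MulEquiv.coe_toMonoidHom, MulAut.conj_apply] at this
      convert this using 1
      simp only [k]
      group
    have hkπ : π k = π g := by
      have h1 : π o = 1 := (QuotientGroup.eq_one_iff o).mpr ho
      simp only [k, map_mul, map_inv, h1, one_mul, inv_mul_cancel]
    refine ⟨Cfsg.conjHom (P ⊔ X) k, ⟨sup_le hP inf_le_left, fun z => hkmem z z.2, k, fun _ => rfl⟩,
      fun x => ?_, fun x => ?_⟩
    · refine hmod ?_ (hkmem x (Subgroup.mem_sup_left x.2)) (hφS x)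
      rw [hg]
      simp only [map_mul, map_inv]
      show π k * π x * (π k)⁻¹ = _
      rw [hkπ]
    · refine hmod ?_ (hkmem x (Subgroup.mem_sup_right x.2)) (Subgroup.mem_inf.mp x.2).1
      show π (k * (x : G) * k⁻¹) = π x
      rw [map_mul, map_mul, map_inv, hkπ, ← map_inv, ← map_mul, ← map_mul]
      exact hgX x x.2

end Cfsg.Agent.S5094
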