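import Cfsg.Statements.S5102
import Cfsg.Agent.Fusion.NormalCriteria
open Cfsg.FusionSystem Cfsg.Lib.Fusion

set_option autoImplicit false
open Cfsg

namespace Cfsg.Agent.S5102

/-- A normal p-subgroup of a finite group G is normal in the fusion system of G on a Sylow p-subgroup. -/
theorem result {G : Type*} [Group G] [Finite G] (p : ℕ) [Fact p.Prime] (S : Sylow p G) (R : Subgroup G) [R.Normal] (hR : IsPGroup p R) : (Cfsg.groupFusionSystem (S : Subgroup G)).IsNormal R := by
  have hRS : R ≤ (S : Subgroup G) := by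
    obtain ⟨T, hT⟩ := hR.exists_le_sylow
    obtain ⟨a, rfl⟩ := MulAction.exists_smul_eq G T S
    intro x hx
    rw [Sylow.coe_subgroup_smul, Subgroup.mem_smul_pointwise_iff_exists]
    exact ⟨a⁻¹ * x * a, hT (by simpa using (inferInstance : R.Normal).conj_mem x hx a⁻¹), by
      show a * (a⁻¹ * x * a) * a⁻¹ = x
      group⟩
  refine isNormal_of_extendsWith hRS fun P f hf => ?_
  obtain ⟨hP, hv, g, hg⟩ := isMap_group_iff.mp hf
  have hle : P ⊔ R ≤ (S : Subgroup G).comap (MulAut.conj g).toMonoidHom :=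
    sup_le (fun x hx => by
      show g * x * g⁻¹ ∈ (S : Subgroup G)
      rw [← hg x hx]
      exact hv x hx) (fun x hx => hRS ((inferInstance : R.Normal).conj_mem x hx g))
  have hm : IsMap (groupFusionSystem (S : Subgroup G)) (P ⊔ R) (fun x => g * x * g⁻¹) :=
    isMap_group_iff.mpr ⟨sup_le hP hRS, fun x hx => hle hx, g, fun _ _ => rfl⟩
  exact ⟨_, hm, fun x hx => (hg x hx).symm,
    img_eq_of_apply hm le_sup_right fun x hx => (inferInstance : R.Normal).conj_mem x hx g⟩

end Cfsg.Agent.S5102
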