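import Cfsg.Statements.S5106
import Cfsg.Agent.Fusion.NormalCriteria
open Cfsg.FusionSystem Cfsg.Lib.Fusion

set_option autoImplicit false
open Cfsg

open scoped commutatorElement
namespace Cfsg.Agent.S5106

/-- In a saturated fusion system over a finite p-group S, a subgroup R ≤ S is normal in the system if and only if every map of the system whose source is a subgroup of R is the restriction of an element of Aut_F(R). -/
theorem result {Ω : Type*} [Group Ω] {S : Subgroup Ω} [Finite S] (p : ℕ) [Fact p.Prime] (hS : IsPGroup p S) (F : Cfsg.FusionSystem S) (hF : F.IsSaturated p) (R : Subgroup Ω) (hRS : R ≤ S) : F.IsNormal R ↔ ∀ (P : Subgroup Ω) (hPR : P ≤ R) (φ : P →* Ω), φ ∈ F.Hom P → ∃ α ∈ F.autGroup R, ∀ x : P, ((α (Subgroup.inclusion hPR x) : R) : Ω) = φ x := by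
  constructor
  · intro hR P hPR φ hφ
    obtain ⟨k, hk, hkf, hki⟩ := extend_of_isNormal hR (isMap_of_mem hφ)
    obtain ⟨α, hα, he⟩ := (hk.mono le_sup_right).exists_aut hki
    refine ⟨α, hα, fun x => ?_⟩
    rw [← autFun_apply α (Subgroup.inclusion hPR x)]
    show autFun α (x : Ω) = φ x
    rw [he _ (hPR x.2), hkf _ x.2, toFun'_apply]
  · intro h
    haveI := finite_of_le hRS
    have hres : ∀ (P : Subgroup Ω) (f : Ω → Ω), IsMap F P f → ∀ x ∈ P, x ∈ R →
        ∃ α ∈ F.autGroup R, f x = autFun α x := by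
      intro P f hf x hx hxR
      obtain ⟨φ, hφ, e⟩ := hf.mono (Subgroup.zpowers_le.mpr hx)
      obtain ⟨α, hα, he⟩ := h _ (Subgroup.zpowers_le.mpr hxR) φ hφ
      refine ⟨α, hα, ?_⟩
      rw [← e ⟨x, Subgroup.mem_zpowers x⟩, ← he ⟨x, Subgroup.mem_zpowers x⟩]
      exact (autFun_apply α _).symm
    have hsc : F.StronglyClosed R := stronglyClosed_of_apply hRS fun P f hf x hx hxR => by
      obtain ⟨α, -, e⟩ := hres P f hf x hx hxR
      rw [e]
      exact autFun_mem α hxR
    haveI := (hS.of_injective _ (Subgroup.inclusion_injective hRS)).isNilpotent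
    obtain ⟨n, hn⟩ := Group.IsNilpotent.nilpotent R
    refine isNormal_of_chain hS hF hsc n (fun i => (Subgroup.upperCentralSeries R i).map R.subtype)
      ?_ ?_ (fun i _ => ?_) (fun i _ => ?_)
    · simp
    · show R ≤ (Subgroup.upperCentralSeries R n).map R.subtype
      rw [hn, ← MonoidHom.range_eq_map, Subgroup.range_subtype]
    · refine stronglyClosed_of_apply ((Subgroup.map_subtype_le _).trans hRS)
        fun P f hf x hx hxC => ?_
      obtain ⟨y, hy, rfl⟩ := hxC
      obtain ⟨α, -, e⟩ := hres P f hf (y : Ω) hx y.2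
      show f (y : Ω) ∈ _
      rw [e, autFun_apply]
      exact ⟨α y, Subgroup.characteristic_iff_map_le.mp inferInstance α ⟨y, hy, rfl⟩, rfl⟩
    · rw [Subgroup.commutator_le]
      rintro _ ⟨x, hx, rfl⟩ q hq
      exact ⟨⁅x, ⟨q, hq⟩⁆, Subgroup.mem_upperCentralSeries_succ_iff.mp hx ⟨q, hq⟩,
        map_commutatorElement R.subtype x ⟨q, hq⟩⟩

end Cfsg.Agent.S5106
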