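import Cfsg.Statements.S5107
import Cfsg.Agent.Fusion.ChainStab
import Cfsg.Agent.Fusion.GroupSystem

set_option autoImplicit false
open Cfsg

namespace Cfsg.Agent.S5107

/-- If a Sylow p-subgroup S of a finite group G has nilpotency class at most two and its centre is strongly closed in S with respect to G, then every map of the fusion system of G on S is conjugation by an element of N_G(S), and S is the largest subgroup normal in that fusion system. -/
theorem result {G : Type*} [Group G] [Finite G] (p : ℕ) [Fact p.Prime] (S : Sylow p G) (hcl : ⁅(S : Subgroup G), (S : Subgroup G)⁆ ≤ (S : Subgroup G) ⊓ Subgroup.centralizer ((S : Subgroup G) : Set G)) (hZ : Cfsg.IsStronglyClosed ((S : Subgroup G) ⊓ Subgroup.centralizer ((S : Subgroup G) : Set G)) (S : Subgroup G)) : (∀ (P : Subgroup G) (φ : P →* G), φ ∈ (Cfsg.groupFusionSystem (S : Subgroup G)).Hom P → ∃ g ∈ Subgroup.normalizer ((S : Subgroup G) : Set G), ∀ x : P, φ x = g * (x : G) * g⁻¹) ∧ (Cfsg.groupFusionSystem (S : Subgroup G)).core = S := by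
  open Cfsg.Lib.Fusion in
  set Z := (S : Subgroup G) ⊓ Subgroup.centralizer ((S : Subgroup G) : Set G)
  set F := Cfsg.groupFusionSystem (S : Subgroup G)
  have hF : F.IsSaturated p := saturated_group S
  have hSc : F.StronglyClosed (S : Subgroup G) :=
    stronglyClosed_of_apply le_rfl fun P f hf x hx _ => hf.mem_S hx
  have hZc : F.StronglyClosed Z := stronglyClosed_of_apply inf_le_left fun P f hf x hx hxZ => by
    obtain ⟨-, hv, g, hg⟩ := isMap_group_iff.mp hf
    have h1 := hv x hx
    rw [hg x hx] at h1 ⊢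
    exact hZ.2 x hxZ g h1
  have hbot : F.StronglyClosed (⊥ : Subgroup G) := stronglyClosed_of_apply bot_le fun P f hf x _ hx => by
    rw [Subgroup.mem_bot.mp hx, hf.map_one]; exact Subgroup.one_mem _
  have hn : F.IsNormal (S : Subgroup G) := by
    refine isNormal_of_sections S.2 hF hSc ![(S : Subgroup G), Z] ![Z, ⊥] ?_ ?_ ?_ ?_
    · intro j; fin_cases j
      · exact hSc
      · exact hZc
    · intro j; fin_cases j
      · exact hZc
      · exact hbot
    · intro j; fin_cases j
      · exact conj_diff_mem hcl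
      · intro x hx g hg
        show _ ∈ (⊥ : Subgroup G)
        rw [Subgroup.mem_centralizer_iff.mp hx.2 g hg, mul_inv_cancel_right, inv_mul_cancel]
        exact Subgroup.one_mem _
    intro P hPn hPc hPr α hα hcop h
    have hP := hPn.1
    refine MulEquiv.ext fun x => fix_of_fix_mem S.2 hP hcop (h 0 x (hP x.2)) fun y hy => ?_
    refine fix_of_fix_mem S.2 hP hcop (h 1 y hy) fun z hz => ?_
    rw [show z = 1 from Subtype.ext (Subgroup.mem_bot.mp hz), map_one]
  refine ⟨fun P φ hφ => ?_, le_antisymm (sSup_le fun Q hQ => hQ.1) (le_sSup hn)⟩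
  obtain ⟨k, hk, hkf, hki⟩ := extend_of_isNormal hn (isMap_of_mem hφ)
  obtain ⟨-, -, g, hg⟩ := isMap_group_iff.mp hk
  refine ⟨g, ?_, fun x => ?_⟩
  · refine mem_normalizer_of_maps_finite fun x hx => ?_
    rw [← hg x (Subgroup.mem_sup_right hx)]
    exact hki.le (IsMap.apply_mem_img hx)
  · rw [← hg x (Subgroup.mem_sup_left x.2), hkf x x.2, toFun'_apply]

end Cfsg.Agent.S5107
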