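import Cfsg.Statements.S5206
import Mathlib
import Cfsg.Agent.Fusion.QdFusion

set_option autoImplicit false
universe u
open Cfsg Cfsg.FusionSystem Cfsg.Lib.Fusion

namespace Cfsg.Agent.S5206

/-- Let p be an odd prime, G a finite group and P a Sylow p-subgroup of G. Then the fusion system of G on P is Qd(p)-free (Qd(p), the natural semidirect product of an elementary abelian group of order p² by SL₂(p), is not involved in any model of the normalizer system of a fully normalized centric subgroup) if and only if Qd(p) is not involved in G. -/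
theorem result {G : Type u} [Group G] [Finite G] {p : ℕ} [Fact p.Prime] (hp : p ≠ 2) (P : Sylow p G) : (Cfsg.groupFusionSystem (P : Subgroup G)).IsSectionFree p ↥(Cfsg.qd p) ↔ ¬ Cfsg.Involves ↥(Cfsg.qd p) G := by
  have hS := saturated_group (p := p) P
  have hreal : (groupFusionSystem (P : Subgroup G)).IsRealizedBy (P : Subgroup G).subtype :=
    ⟨Subtype.val_injective, fun Q hQ φ hφ => ⟨fun h => h.2.2, fun h => ⟨hQ, hφ, h⟩⟩⟩
  rw [isSectionFree_qd_iff P.2 hS, not_iff_not]
  constructor
  · rintro ⟨Q0, π, hQ0, hπ, hrel⟩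
    refine involves_of_isQdWitness (π := π) ⟨isPGroup_of_le_sylow P hQ0, hπ, fun M => ?_⟩
    obtain ⟨f, hf, hfrel⟩ := hrel M
    obtain ⟨-, -, g, hg⟩ := isMap_group_iff.mp hf
    refine ⟨g, fun x => ?_⟩
    obtain ⟨y, hy, hyπ⟩ := hfrel x
    exact ⟨y, hy.trans (hg x x.2), hyπ⟩
  · exact hasQd_of_group le_rfl (fun _ _ h => h) hreal ⟨P, (Subgroup.range_subtype _).symm⟩

end Cfsg.Agent.S5206
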