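import Cfsg.Statements.S5249
import Cfsg.Agent.Fusion.GlaubermanFunctor
import Cfsg.Agent.Components.ZJ.Stable
import Cfsg.Agent.Components.ZJ.Reduce
import Cfsg.Agent.Components.ZJ.Closed
import Cfsg.Agent.Quadratic.StableQd
import Cfsg.Agent.S5206

set_option autoImplicit false
open Cfsg Cfsg.FusionSystem Cfsg.Lib.Fusion

namespace Cfsg.Agent.S5249

theorem hasQd_of_quot {Ω : Type*} [Group Ω] {S : Subgroup Ω} {F : FusionSystem S} {p : ℕ}
    {Ω' : Type*} [Group Ω'] {θ : S →* Ω'} {S' : Subgroup Ω'} {E : FusionSystem S'}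
    (h : IsQuot F θ E) (hE : HasQd E p) : HasQd F p := by
  obtain ⟨Q0, π, hQ0, hπ, hrel⟩ := hE
  let ρ : preimageAlong θ Q0 →* Q0 := MonoidHom.mk'
    (fun x => ⟨qmap θ (x : Ω), (mem_preimageAlong.mp x.2).2⟩)
    (fun x y => Subtype.ext (qmap_mul (mem_preimageAlong.mp x.2).1 (mem_preimageAlong.mp y.2).1))
  refine ⟨preimageAlong θ Q0, π.comp ρ, preimageAlong_le _, fun v => ?_, fun A => ?_⟩
  · obtain ⟨y, rfl⟩ := hπ v
    obtain ⟨x, hx, e⟩ := exists_preimage (h.range.symm ▸ hQ0) y.2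
    exact ⟨⟨x, hx⟩, congrArg π (Subtype.ext e)⟩
  · obtain ⟨f', hf', hM⟩ := hrel A
    obtain ⟨f, hf, hfe⟩ := h.exists_lift hf'
    refine ⟨f, hf, fun x => ?_⟩
    obtain ⟨y, hy, hyπ⟩ := hM (ρ x)
    have e : qmap θ (f x) = y := ((hfe x x.2).symm.trans hy.symm)
    refine ⟨⟨f x, mem_preimageAlong.mpr ⟨hf.mem_S x.2, e ▸ y.2⟩⟩, rfl, ?_⟩
    exact (congrArg π (Subtype.ext e)).trans hyπ

/-- Let p be an odd prime, G a finite group in which Qd(p) (the natural semidirect product of an elementary abelian group of order p² by SL₂(p)) is not involved, and P a Sylow p-subgroup of G. Then the fusion system of G on P is a solvable fusion system. -/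
theorem result {G : Type*} [Group G] [Finite G] {p : ℕ} [Fact p.Prime] (hp : p ≠ 2) (hqd : ¬ Cfsg.Involves ↥(Cfsg.qd p) G) (P : Sylow p G) : (Cfsg.groupFusionSystem (P : Subgroup G)).IsSolvableSystem := by
  intro R hR hne _ E hE
  set F := groupFusionSystem (P : Subgroup G)
  have hF := saturated_group (p := p) P
  set θ := QuotientGroup.mk' (R.subgroupOf (P : Subgroup G))
  have hquot := isQuot_of_isFactorSystem hR hE
  have hEsat := hquot.saturated P.2 hF
  have hS' : IsPGroup p (⊤ : Subgroup ((P : Subgroup G) ⧸ R.subgroupOf (P : Subgroup G))) :=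
    (P.2.to_quotient _).of_equiv Subgroup.topEquiv.symm
  have hfree : ¬ HasQd E p := fun h =>
    (isSectionFree_qd_iff P.2 hF).mp ((Cfsg.Agent.S5206.result hp P).mpr hqd) (hasQd_of_quot hquot h)
  haveI : Nontrivial ((P : Subgroup G) ⧸ R.subgroupOf (P : Subgroup G)) :=
    QuotientGroup.nontrivial_iff.mpr fun h =>
      hne (le_antisymm hR.1 (Subgroup.subgroupOf_eq_top.mp h))
  haveI : Nontrivial (⊤ : Subgroup ((P : Subgroup G) ⧸ R.subgroupOf (P : Subgroup G))) :=
    Subgroup.topEquiv.toEquiv.nontrivial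
  let W : ∀ (Q : Type _) [Group Q], Subgroup Q := fun Q _ => centerThompsonAOf (⊤ : Subgroup Q)
  have hW1 : ∀ (Q : Type _) [Group Q] [Finite Q], IsPGroup p Q → Nontrivial Q → W Q ≠ ⊥ :=
    fun Q _ _ hQ _ => Cfsg.Lib.ZJ.centerThompsonAOf_ne_bot
      (hQ.of_equiv Subgroup.topEquiv.symm) top_ne_bot
  have hW2 : ∀ (Q R : Type _) [Group Q] [Group R] [Finite Q], IsPGroup p Q →
      ∀ φ : Q ≃* R, (W Q).map φ.toMonoidHom = W R := by
    intro Q R _ _ _ _ φ
    haveI : Finite R := Finite.of_equiv Q φ.toEquiv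
    show (centerThompsonAOf ⊤).map _ = centerThompsonAOf ⊤
    rw [Cfsg.Lib.ZJ.centerThompsonAOf_map_injOn φ.injective.injOn,
      Subgroup.map_top_of_surjective (f := φ.toMonoidHom) φ.surjective]
  have hW3 : ∀ (L : Type _) [Group L] [Finite L] (T : Sylow p L),
      Subgroup.centralizer ((pCore p L : Subgroup L) : Set L) ≤ pCore p L →
      ¬ Involves ↥(qd p) L →
      (((W ↥(T : Subgroup L)).map (T : Subgroup L).subtype : Subgroup L)).Normal := by
    intro L _ _ T hc hL
    have hst := Cfsg.Lib.ZJ.stable_of_isPStableOn fun B _ hB =>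
      Cfsg.Lib.QuadPair.stable_of_qd_free hp _ L hL B hB rfl
    show ((centerThompsonAOf ⊤).map _).Normal
    rw [Cfsg.Lib.ZJ.centerThompsonAOf_map_injOn (T : Subgroup L).subtype_injective.injOn,
      ← MonoidHom.range_eq_map, Subgroup.range_subtype]
    haveI := Cfsg.Lib.ZJ.centerThompsonA_characteristic hp hst hc T
    infer_instance
  have hnormal : E.IsNormal (fnImage W ⊤) := isNormal_of_extendsWith le_top
    (glauberman_main hW1 hW2 hW3 _ ⊤ rfl hS' _ E rfl hEsat hfree)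
  intro hcore
  have hbot : fnImage W (⊤ : Subgroup ((P : Subgroup G) ⧸ R.subgroupOf (P : Subgroup G))) = ⊥ :=
    le_bot_iff.mp (hcore ▸ le_sSup hnormal)
  exact hW1 _ hS' inferInstance
    ((Subgroup.map_eq_bot_iff_of_injective _ (Subgroup.subtype_injective _)).mp hbot)

end Cfsg.Agent.S5249
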