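import Cfsg.Statements.S5112
import Cfsg.Agent.Fusion.CyclicIndexTwoAut

set_option autoImplicit false
open Cfsg

namespace Cfsg.Agent.S5112

/-- If S is a dihedral or generalized quaternion 2-group of order at least 16, then in every saturated fusion system over S (at the prime 2) the automorphism group Aut_F(S) consists of the inner automorphisms of S. -/
theorem result {Ω : Type*} [Group Ω] {S : Subgroup Ω} [Finite S] (n : ℕ) (hn : 4 ≤ n) (hshape : Nonempty (S ≃* DihedralGroup (2 ^ (n - 1))) ∨ Nonempty (S ≃* QuaternionGroup (2 ^ (n - 2)))) (F : Cfsg.FusionSystem S) (hF : F.IsSaturated 2) : F.autGroup S = Cfsg.Inn S := by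
  haveI : Fact (Nat.Prime 2) := ⟨Nat.prime_two⟩
  obtain ⟨hA, hS⟩ : IsPGroup 2 (MulAut ↥S) ∧ IsPGroup 2 S := by
    rcases hshape with ⟨⟨e⟩⟩ | ⟨⟨e⟩⟩
    · haveI : NeZero (2 ^ (n - 1)) := ⟨pow_ne_zero _ two_ne_zero⟩
      refine ⟨(Cfsg.Lib.Fusion.isPGroup_mulAut_dihedral (by omega)).of_equiv (MulAut.congr e).symm, ?_⟩
      exact IsPGroup.of_card (n := n) (by
        rw [Nat.card_congr e.toEquiv, DihedralGroup.nat_card, ← pow_succ']
        congr 1
        omega)
    · haveI : NeZero (2 ^ (n - 2)) := ⟨pow_ne_zero _ two_ne_zero⟩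
      refine ⟨(Cfsg.Lib.Fusion.isPGroup_mulAut_quaternion (by omega)).of_equiv (MulAut.congr e).symm, ?_⟩
      exact IsPGroup.of_card (n := n) (by
        rw [Nat.card_congr e.toEquiv, Nat.card_eq_fintype_card, QuaternionGroup.card,
          show (4 : ℕ) = 2 ^ 2 from rfl, ← pow_add]
        congr 1
        omega)
  exact le_antisymm (Cfsg.Lib.Fusion.autGroup_le_inn hS hF hA)
    ((Cfsg.Lib.Fusion.inn_le_autInducedBy le_rfl).trans (Cfsg.Lib.Fusion.autInducedBy_le le_rfl))

end Cfsg.Agent.S5112
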