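import Cfsg.Statements.S5119
import Cfsg.Agent.Fusion.InvarianceEquiv

set_option autoImplicit false
open Cfsg

namespace Cfsg.Agent.S5119

/-- Let F be a saturated fusion system over a finite p-group S and E a subsystem of F over a subgroup T that is strongly closed in F. Then E is invariant in F (invariance under Aut_F(T) plus the Frattini condition) if and only if the strong invariance condition holds: for P ≤ Q ≤ T, every map φ of E from P into Q and every map ψ of F with source Q, the transported map ψ φ ψ⁻¹ on ψ(P) is a map of E. -/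
theorem result {Ω : Type*} [Group Ω] {S : Subgroup Ω} [Finite S] (p : ℕ) [Fact p.Prime] (hS : IsPGroup p S) (F : Cfsg.FusionSystem S) (hF : F.IsSaturated p) {T : Subgroup Ω} (E : Cfsg.FusionSystem T) (hE : E.IsSubsystemOf F) (hT : F.StronglyClosed T) : E.IsInvariantIn F ↔ ∀ (P Q : Subgroup Ω) (hPQ : P ≤ Q) (_ : Q ≤ T) (φ : P →* Ω) (_ : φ ∈ E.Hom P) (hφQ : ∀ x : P, φ x ∈ Q) (ψ : Q →* Ω) (_ : ψ ∈ F.Hom Q), ∃ χ ∈ E.Hom ((P.subgroupOf Q).map ψ), ∀ (x : P) (hx : ψ (Subgroup.inclusion hPQ x) ∈ (P.subgroupOf Q).map ψ), χ ⟨ψ (Subgroup.inclusion hPQ x), hx⟩ = ψ ⟨φ x, hφQ x⟩ := by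
  open Cfsg.Lib.Fusion in
  rw [invariant_iff_strongInv hS hF hE hT]
  constructor
  · intro hX P Q hPQ hQ φ hφ hφQ ψ hψ
    have hq : ∀ x ∈ P, toFun' φ x ∈ Q := fun x hx => by
      rw [toFun'_apply_mem φ hx]; exact hφQ ⟨x, hx⟩
    obtain ⟨d, hd, -, hdl, -⟩ := ((isMap_of_mem hψ).mono hPQ).exists_inv
    have h1 := hX P Q hPQ hQ _ (isMap_of_mem hφ) hq _ (isMap_of_mem hψ)
      (toFun' ψ ∘ toFun' φ ∘ d) fun x hx => by
        show toFun' ψ (toFun' φ (d (toFun' ψ x))) = _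
        rw [hdl x hx]
    have himg : img P (toFun' ψ) = (P.subgroupOf Q).map ψ := by
      refine le_antisymm (IsMap.img_le_iff.mpr fun x hx => ?_) ?_
      · rw [toFun'_apply_mem ψ (hPQ hx)]
        exact ⟨⟨x, hPQ hx⟩, hx, rfl⟩
      · rintro _ ⟨x, hx, rfl⟩
        rw [← toFun'_apply ψ x]
        exact IsMap.apply_mem_img hx
    rw [himg] at h1
    obtain ⟨χ, hχ, eχ⟩ := h1
    refine ⟨χ, hχ, fun x hx => ?_⟩
    rw [eχ]
    show toFun' ψ (toFun' φ (d (ψ (Subgroup.inclusion hPQ x)))) = _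
    rw [← toFun'_apply ψ (Subgroup.inclusion hPQ x)]
    show toFun' ψ (toFun' φ (d (toFun' ψ (x : Ω)))) = _
    rw [hdl x x.2, toFun'_apply φ x, toFun'_apply_mem ψ (hφQ x)]
  · intro h P Q hPQ hQ f hf hfQ g hg k hk
    obtain ⟨φ, hφ, eφ⟩ := hf
    obtain ⟨ψ, hψ, eψ⟩ := hg
    have hg : IsMap F Q g := ⟨ψ, hψ, eψ⟩
    have hφQ : ∀ x : P, φ x ∈ Q := fun x => by rw [eφ]; exact hfQ x x.2
    obtain ⟨χ, hχ, hχe⟩ := h P Q hPQ hQ φ hφ hφQ ψ hψ
    have himg : img P g = (P.subgroupOf Q).map ψ := by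
      refine le_antisymm (IsMap.img_le_iff.mpr fun x hx => ⟨⟨x, hPQ hx⟩, hx, eψ _⟩) ?_
      rintro _ ⟨x, hx, rfl⟩
      rw [eψ]
      exact IsMap.apply_mem_img hx
    rw [himg]
    refine ⟨χ, hχ, ?_⟩
    rintro ⟨y, q, hq, rfl⟩
    have := hχe ⟨q, hq⟩ ⟨q, hq, rfl⟩
    refine this.trans ?_
    show ψ ⟨φ ⟨q, hq⟩, _⟩ = k (ψ q)
    rw [eψ]
    show g (φ ⟨q, hq⟩) = k (ψ q)
    rw [eφ, eψ]
    exact (hk q hq).symm

end Cfsg.Agent.S5119
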