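import Cfsg.Statements.S5122
import Cfsg.Agent.Fusion.GroupSystem

set_option autoImplicit false
open Cfsg
open Cfsg.Lib.Fusion

namespace Cfsg.Agent.S5122

/-- Let G be a finite group with Sylow p-subgroup S. Every subgroup P of S has a G-conjugate Q ≤ S such that N_S(Q) is a Sylow p-subgroup of N_G(Q); and for any Q ≤ S with that property, C_S(Q) is a Sylow p-subgroup of C_G(Q) and the automorphisms of Q induced by N_S(Q) form a Sylow p-subgroup of those induced by N_G(Q). -/
theorem result {G : Type*} [Group G] [Finite G] (p : ℕ) [Fact p.Prime] (S : Sylow p G) : (∀ P : Subgroup G, P ≤ S → ∃ g : G, P.map (MulAut.conj g).toMonoidHom ≤ S ∧ (∃ R : Sylow p ↥(Subgroup.normalizer ((P.map (MulAut.conj g).toMonoidHom : Subgroup G) : Set G)), (R : Subgroup ↥(Subgroup.normalizer ((P.map (MulAut.conj g).toMonoidHom : Subgroup G) : Set G))) = (Cfsg.FusionSystem.normalizerIn (S : Subgroup G) (P.map (MulAut.conj g).toMonoidHom)).subgroupOf (Subgroup.normalizer ((P.map (MulAut.conj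 g).toMonoidHom : Subgroup G) : Set G)))) ∧ ∀ Q : Subgroup G, Q ≤ S → (∃ R : Sylow p ↥(Subgroup.normalizer (Q : Set G)), (R : Subgroup ↥(Subgroup.normalizer (Q : Set G))) = (Cfsg.FusionSystem.normalizerIn (S : Subgroup G) Q).subgroupOf (Subgroup.normalizer (Q : Set G))) → (∃ R : Sylow p ↥(Subgroup.centralizer (Q : Set G)), (R : Subgroup ↥(Subgroup.centralizer (Q : Set G))) = (Cfsg.FusionSystem.centralizerIn (S : Subgroup G) Q).subgroupOf (Subgroup.centralizer (Q : Set G))) ∧ (∃ R : Sylow p ↥(Cfsg.autInducedBy ⊤ Q), (R : Subgroup ↥(Cfsg.autInducedBy ⊤ Q)) = (Cfsg.autInducedBy (S : Subgroup G) Q).subgroupOf (Cfsg.autInducedBy ⊤ Q)) := by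
  have hsyl : ∀ Q : Subgroup G, Q ≤ (S : Subgroup G) →
      ((∃ R : Sylow p ↥(Subgroup.normalizer (Q : Set G)),
        (R : Subgroup ↥(Subgroup.normalizer (Q : Set G))) =
          (FusionSystem.normalizerIn (S : Subgroup G) Q).subgroupOf (Subgroup.normalizer (Q : Set G))) ↔
        (groupFusionSystem (S : Subgroup G)).IsFullyNormalized Q) := fun Q hQ =>
    (sylow_subgroupOf_iff (T := FusionSystem.normalizerIn (S : Subgroup G) Q) inf_le_right
      (isPGroup_of_le_sylow S inf_le_left)).trans (fullyNormalized_group_iff S hQ).symm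
  refine ⟨fun P hP => ?_, fun Q hQ hR => ?_⟩
  · obtain ⟨Q, hPQ, hQ⟩ := exists_fullyNormalized (F := groupFusionSystem (S : Subgroup G)) hP
    obtain ⟨-, hQS, g, hg⟩ := isConj_group_iff.mp hPQ
    exact ⟨g, hg ▸ hQS, (hsyl _ (hg ▸ hQS)).mpr (hg.symm ▸ hQ)⟩
  · have hfn := (hsyl Q hQ).mp hR
    refine ⟨(sylow_subgroupOf_iff inf_le_right (isPGroup_of_le_sylow S inf_le_left)).mpr
      ((fullyCentralized_group_iff S hQ).mp (fullyCentralized_of_fullyNormalized_group S hfn)), ?_⟩
    have h := (fullyAutomized_group S hfn).2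
    rwa [autGroup_group hQ] at h

end Cfsg.Agent.S5122
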