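import Cfsg.Statements.S5123
import Cfsg.Agent.Fusion.GroupSystem

set_option autoImplicit false
open Cfsg
open Cfsg.Lib.Fusion

namespace Cfsg.Agent.S5123

/-- Let G be a finite group with Sylow p-subgroup S, P, Q ≤ S and g ∈ G with gPg⁻¹ = Q, and suppose N_S(Q) is a Sylow p-subgroup of N_G(Q). Let N be the set of x ∈ N_S(P) with gxg⁻¹ ∈ N_S(Q)C_G(Q). Then some h ∈ C_G(Q) satisfies (hg)N(hg)⁻¹ ≤ S. -/
theorem result {G : Type*} [Group G] [Finite G] (p : ℕ) [Fact p.Prime] (S : Sylow p G) (P Q : Subgroup G) (hP : P ≤ S) (hQ : Q ≤ S) (g : G) (hg : P.map (MulAut.conj g).toMonoidHom = Q) (hN : (∃ R : Sylow p ↥(Subgroup.normalizer (Q : Set G)), (R : Subgroup ↥(Subgroup.normalizer (Q : Set G))) = (Cfsg.FusionSystem.normalizerIn (S : Subgroup G) Q).subgroupOf (Subgroup.normalizer (Q : Set G)))) : ∃ h ∈ Subgroup.centralizer (Q : Set G), ((Cfsg.FusionSystem.normalizerIn (S : Subgroup G) P) ⊓ (Cfsg.FusionSystem.normalizerIn (S : Subgroup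 G) Q ⊔ Subgroup.centralizer (Q : Set G)).comap (MulAut.conj g).toMonoidHom).map (MulAut.conj (h * g)).toMonoidHom ≤ S := by
  have hfn : (groupFusionSystem (S : Subgroup G)).IsFullyNormalized Q :=
    (fullyNormalized_group_iff S hQ).mpr
      ((sylow_subgroupOf_iff inf_le_right (isPGroup_of_le_sylow S inf_le_left)).mp hN)
  have hrec := receptive_group S (fullyCentralized_of_fullyNormalized_group S hfn)
  let f : G → G := fun x => g * x * g⁻¹
  have hf : IsMap (groupFusionSystem (S : Subgroup G)) P f :=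
    isMap_group_iff.mpr ⟨hP, fun x hx => hQ (hg ▸ ⟨x, hx, rfl⟩), g, fun _ _ => rfl⟩
  have hi : img P f = Q := (img_conj P g).trans hg
  have hK : FusionSystem.normalizerIn (S : Subgroup G) Q ⊔ Subgroup.centralizer (Q : Set G) ≤
      ((autInducedBy (S : Subgroup G) Q).comap Q.normalizerMonoidHom).map
        (Subgroup.normalizer (Q : Set G)).subtype := by
    refine sup_le (fun s hs => ⟨⟨s, hs.2⟩, conjAut_mem_autInducedBy hs.2 hs.1, rfl⟩) fun c hc => ?_
    refine ⟨⟨c, Subgroup.centralizer_le_normalizer _ hc⟩, ?_, rfl⟩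
    refine mem_autInducedBy.mpr ⟨1, Subgroup.one_mem _, fun x => ?_⟩
    show c * (x : G) * c⁻¹ = 1 * x * 1⁻¹
    rw [← Subgroup.mem_centralizer_iff.mp hc x x.2]
    group
  obtain ⟨f', hf', hag⟩ := receptive_extend hrec hf hi
  obtain ⟨-, hS, g', hg'⟩ := isMap_group_iff.mp hf'
  have hPe : P ≤ extSub (S : Subgroup G) P f := le_extSub hf
  refine ⟨g' * g⁻¹, Subgroup.mem_centralizer_iff.mpr fun y hy => ?_, map_conj_le fun t ht => ?_⟩
  · obtain ⟨x, hx, rfl⟩ := hf.mem_img.mp (hi.symm ▸ hy)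
    have h := hag x hx
    rw [hg' x (hPe hx)] at h
    show g * x * g⁻¹ * (g' * g⁻¹) = g' * g⁻¹ * (g * x * g⁻¹)
    rw [show g * x * g⁻¹ * (g' * g⁻¹) = f x * (g' * g⁻¹) from rfl, ← h]
    group
  · obtain ⟨⟨htS, htN⟩, htM⟩ := ht
    obtain ⟨z, hz, hzt⟩ := hK (Subgroup.mem_comap.mp htM)
    obtain ⟨s, hs, es⟩ := mem_autInducedBy.mp hz
    have htE : t ∈ extSub (S : Subgroup G) P f := by
      refine ⟨htS, htN, s, hs, fun x hx => ?_⟩
      have h1 := es ⟨f x, hi ▸ IsMap.apply_mem_img hx⟩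
      rw [← h1]
      show g * (t * x * t⁻¹) * g⁻¹ = (z : G) * (g * x * g⁻¹) * (z : G)⁻¹
      rw [show (z : G) = g * t * g⁻¹ from hzt]
      group
    rw [inv_mul_cancel_right, ← hg' t htE]
    exact hS t htE

end Cfsg.Agent.S5123
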