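import Cfsg.Statements.S5125
import Cfsg.Agent.Fusion.ChainStab

set_option autoImplicit false
open Cfsg

namespace Cfsg.Agent.S5125

/-- Let F be a saturated fusion system over a finite p-group S and Q a subgroup strongly closed in F. If Q has a subgroup Q₁ that is normal in F, with Q/Q₁ abelian and Aut_F(Q₁) a p-group, then Q is normal in F. -/
theorem result {Ω : Type*} [Group Ω] {S : Subgroup Ω} [Finite S] (p : ℕ) [Fact p.Prime] (hS : IsPGroup p S) (F : Cfsg.FusionSystem S) (hF : F.IsSaturated p) (Q Q₁ : Subgroup Ω) (hQ : F.StronglyClosed Q) (hQ₁Q : Q₁ ≤ Q) (hQ₁ : F.IsNormal Q₁) (hab : ⁅Q, Q⁆ ≤ Q₁) (hAut : IsPGroup p ↥(F.autGroup Q₁)) : F.IsNormal Q := by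
  open Cfsg.Lib.Fusion in
  have hQ1c := stronglyClosed_of_isNormal hQ₁
  have hSc : F.StronglyClosed S := stronglyClosed_of_apply le_rfl fun P f hf x hx _ => hf.mem_S hx
  haveI := finite_of_le hQ₁.1
  refine isNormal_of_sections hS hF hQ ![Q, S] ![Q₁, Q] ?_ ?_ ?_ ?_
  · intro j; fin_cases j
    · exact hQ
    · exact hSc
  · intro j; fin_cases j
    · exact hQ1c
    · exact hQ
  · intro j; fin_cases j
    · exact conj_diff_mem hab
    · intro x hx g hg
      show x⁻¹ * (g * x * g⁻¹) ∈ Q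
      have := Q.mul_mem (conj_mem_of_mem_normalizer (normalizes_of_stronglyClosed hQ (S.inv_mem hx)) hg)
        (Q.inv_mem hg)
      simpa [mul_assoc] using this
  intro P hPn hPc hPr α hα hcop h
  have hP := hPn.1
  haveI := finite_of_le hP
  have hle : Q₁ ≤ P := le_radical_of_isNormal hS hQ₁ hPc hPr
  have hfix1 : ∀ y : P, (y : Ω) ∈ Q₁ → α y = y := by
    have hm := ((isMap_autFun hP).mpr hα).mono hle
    obtain ⟨β, hβ, hβe⟩ := hm.exists_aut (img_eq_of_apply hm le_rfl fun y hy =>
      stronglyClosed_apply hQ1c hm hy hy)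
    obtain ⟨i, hi⟩ := hAut ⟨β, hβ⟩
    have hi' : β ^ p ^ i = 1 := by simpa using congrArg Subtype.val hi
    have hagree : ∀ m : ℕ, ∀ y ∈ Q₁, autFun (α ^ m) y = autFun (β ^ m) y := by
      intro m
      induction m with
      | zero =>
        intro y hy
        rw [autFun_apply_mem _ (hle hy), autFun_apply_mem _ hy]; simp
      | succ m ih =>
        intro y hy
        rw [pow_succ', pow_succ', autFun_mul _ _ (hle hy), autFun_mul _ _ hy, ih y hy,
          hβe _ (autFun_mem _ hy)]
    intro y hy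
    obtain ⟨k, hk⟩ := exists_pow_eq_self_of_coprime (hcop.pow_right i).symm
    apply Subtype.ext
    rw [← autFun_apply α y, ← hk, ← pow_mul, hagree _ y hy, pow_mul, hi', one_pow, autFun_apply_mem _ hy]
    rfl
  have hfixQ : ∀ y : P, (y : Ω) ∈ Q → α y = y := fun y hy => fix_of_fix_mem hS hP hcop (h 0 y hy) hfix1
  exact MulEquiv.ext fun x => fix_of_fix_mem hS hP hcop (h 1 x (hP x.2)) hfixQ

end Cfsg.Agent.S5125
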