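import Cfsg.Statements.S5126
import Cfsg.Agent.Fusion.Realized

set_option autoImplicit false
open Cfsg

namespace Cfsg.Agent.S5126

/-- In a saturated fusion system over a finite p-group S, the normalizer system of a fully normalized, centric, radical subgroup R is constrained, and in every model of that normalizer system the largest normal p-subgroup is the image of R. -/
theorem result {Ω : Type*} [Group Ω] {S : Subgroup Ω} [Finite S] (p : ℕ) [Fact p.Prime] (hS : IsPGroup p S) (F : Cfsg.FusionSystem S) (hF : F.IsSaturated p) (R : Subgroup Ω) (hRn : F.IsFullyNormalized R) (hRc : F.IsCentric R) (hRr : F.IsRadical p R) (E : Cfsg.FusionSystem (Cfsg.FusionSystem.normalizerIn S R)) (hE : F.IsNormalizerSystem R E) {G : Type*} [Group G] (ι : ↥(Cfsg.FusionSystem.normalizerIn S R) →* G) : E.IsConstrained p ∧ (E.IsModel p G ι → (Cfsg.pCore p G : Subgroup G) = (R.subgroupOf (Cfsg.FusionSystem.normalizerIn S R)).map ι) := by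
  open Cfsg.Lib.Fusion in
  haveI : Finite (Cfsg.FusionSystem.normalizerIn S R) := finite_of_le inf_le_left
  have hTp : IsPGroup p (Cfsg.FusionSystem.normalizerIn S R) := hS.to_le inf_le_left
  have hEeq : E = normalizerSystem F hRc.1 := fusionSystem_ext fun P => hE P
  obtain ⟨L, _, ι₀, hM₀, -, -⟩ := exists_normalizer_model hS hF hRc hRn
  refine ⟨hEeq ▸ constrained_of_model hTp hM₀, fun hM => ?_⟩
  obtain ⟨hG, h, hU, hcen⟩ := hM
  haveI := hG
  haveI := finite_of_le hRc.1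
  have hRT : R ≤ (Cfsg.FusionSystem.normalizerIn S R) := le_normalizerIn hRc.1
  obtain ⟨-, Qc, hQn, -⟩ := constrained_of_model hTp ⟨hG, h, hU, hcen⟩
  set Q := ((Cfsg.pCore p G).comap ι).map (Cfsg.FusionSystem.normalizerIn S R).subtype
  have hQT : Q ≤ (Cfsg.FusionSystem.normalizerIn S R) := Subgroup.map_subtype_le _
  have hmem : ∀ t : (Cfsg.FusionSystem.normalizerIn S R), (t : Ω) ∈ Q ↔ ι t ∈ Cfsg.pCore p G := fun t =>
    ⟨fun ⟨w, hw, e⟩ => Subtype.ext e ▸ hw, fun ht => ⟨t, ht, rfl⟩⟩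
  have hRn' : E.IsNormal R := by
    refine isNormal_of_extendsWith hRT fun P f hf => ?_
    obtain ⟨hP, hv, -, k, hk, hkf, hki⟩ := (isMap_of_isNormalizerSystem hE).mp hf
    have hPR : P ⊔ R ≤ (Cfsg.FusionSystem.normalizerIn S R) := sup_le hP hRT
    refine ⟨k, (isMap_of_isNormalizerSystem hE).mpr ⟨hPR, ?_, hk, k,
      hk.mono (sup_le le_rfl le_sup_right), fun _ _ => rfl, hki⟩, hkf, hki⟩
    refine IsMap.img_le_iff.mp ?_
    rw [hk.img_sup, hki]
    exact sup_le (IsMap.img_le_iff.mpr fun x hx => (hkf x hx).symm ▸ hv x hx) hRT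
  have hQn' : E.IsNormal Q := by
    refine isNormal_of_extendsWith hQT fun P f hf => ?_
    obtain ⟨g, hg⟩ := exists_elt_of_isMap h hf
    have hsup : ((P ⊔ Q).subgroupOf (Cfsg.FusionSystem.normalizerIn S R)).map ι ≤ ι.range.comap (MulAut.conj g).toMonoidHom := by
      rw [Subgroup.subgroupOf_sup hf.le hQT, Subgroup.map_sup]
      refine sup_le ?_ ?_
      · rintro _ ⟨t, ht, rfl⟩
        exact ⟨⟨f t, hf.mem_S ht⟩, hg t ht _ rfl⟩
      · rintro _ ⟨t, ht, rfl⟩
        exact pCore_le_range hU ((Cfsg.Lib.Components.pCore_normal' p).conj_mem _ ((hmem t).mp ht) g)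
    obtain ⟨k, hk, -, hke⟩ := exists_isMap_of_elt h (sup_le hf.le hQT) g fun t ht => hsup ⟨t, ht, rfl⟩
    refine ⟨k, hk, fun x hx => ?_, img_eq_of_apply hk le_sup_right fun x hx => ?_⟩
    · exact ((hke ⟨x, hf.le hx⟩ (Subgroup.mem_sup_left hx) ⟨f x, hf.mem_S hx⟩).mpr
        (hg ⟨x, hf.le hx⟩ hx _ rfl)).symm
    · refine (hmem ⟨k x, hk.mem_S (Subgroup.mem_sup_right hx)⟩).mpr ?_
      rw [(hke ⟨x, hQT hx⟩ (Subgroup.mem_sup_right hx) ⟨k x, _⟩).mp rfl]
      exact (Cfsg.Lib.Components.pCore_normal' p).conj_mem _ ((hmem ⟨x, hQT hx⟩).mp hx) g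
  have hRc' : E.IsCentric R := ⟨hRT, fun U hU => by
    obtain ⟨f, hf, hi⟩ := isConj_iff.mp hU
    have hfF := ((isMap_of_isNormalizerSystem hE).mp hf).2.2.1
    exact (inf_le_inf_right _ inf_le_left).trans (hRc.2 U (isConj_iff.mpr ⟨f, hfF, hi⟩))⟩
  have haut : E.autGroup R = F.autGroup R := by
    ext α
    rw [← isMap_autFun hRT, ← isMap_autFun hRc.1]
    exact ⟨fun hm => ((isMap_of_isNormalizerSystem hE).mp hm).2.2.1, fun hm =>
      (isMap_of_isNormalizerSystem hE).mpr ⟨hRT, fun x hx => hRT (autFun_mem α hx), hm, autFun α,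
        (sup_idem R).symm ▸ hm, fun _ _ => rfl, img_autFun α⟩⟩
  have hRr' : E.IsRadical p R := ⟨hRT, by rw [haut]; exact hRr.2⟩
  have hQR : Q ≤ R := le_radical_of_isNormal hTp hQn' hRc' hRr'
  refine le_antisymm ?_ ?_
  · intro y hy
    obtain ⟨t, rfl⟩ := pCore_le_range hU hy
    exact ⟨t, hQR ((hmem t).mpr hy), rfl⟩
  have hnor : ((R.subgroupOf (Cfsg.FusionSystem.normalizerIn S R)).map ι).Normal := by
    refine ⟨fun y hy g => ?_⟩
    obtain ⟨f, hf, -, hfe⟩ := exists_isMap_of_elt h hQT g fun t ht =>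
      pCore_le_range hU ((Cfsg.Lib.Components.pCore_normal' p).conj_mem _ ((hmem t).mp ht) g)
    obtain ⟨k, hk, hkf, hki⟩ := extend_of_isNormal hRn' hf
    obtain ⟨g', hg'⟩ := exists_elt_of_isMap h hk
    have hc : g⁻¹ * g' ∈ Cfsg.pCore p G := by
      refine hcen (Subgroup.mem_centralizer_iff.mpr fun q hq => ?_)
      obtain ⟨t, rfl⟩ := pCore_le_range hU hq
      have ht := (hmem t).mpr hq
      have e1 := (hfe t ht ⟨f t, hf.mem_S ht⟩).mp rfl
      have e2 := hg' t (Subgroup.mem_sup_left ht) ⟨f t, hf.mem_S ht⟩ (hkf t ht).symm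
      rw [e1, eq_mul_inv_iff_mul_eq] at e2
      calc ι t * (g⁻¹ * g') = g⁻¹ * (g * ι t * g⁻¹ * g') := by group
        _ = g⁻¹ * (g' * ι t) := by rw [e2]
        _ = g⁻¹ * g' * ι t := by group
    obtain ⟨c, hcc⟩ := pCore_le_range hU hc
    obtain ⟨r, hr, rfl⟩ := hy
    have hr' : ((c⁻¹ * r * c : (Cfsg.FusionSystem.normalizerIn S R)) : Ω) ∈ R := by
      have := conj_mem_of_mem_normalizer (c⁻¹).2.2 (Subgroup.mem_subgroupOf.mp hr)
      simpa using this
    have hkr : k ((c⁻¹ * r * c : (Cfsg.FusionSystem.normalizerIn S R)) : Ω) ∈ R := hki.le (IsMap.apply_mem_img hr')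
    refine ⟨⟨_, hRT hkr⟩, hkr, ?_⟩
    rw [hg' _ (Subgroup.mem_sup_right hr') ⟨_, hRT hkr⟩ rfl, map_mul, map_mul, map_inv, hcc]
    group
  exact Cfsg.Lib.Components.le_pCore (p := p) (hn := hnor) ((hTp.to_subgroup _).map _)

end Cfsg.Agent.S5126
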