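import Cfsg.Statements.S5133
import Mathlib
import Cfsg.Agent.Fusion.Factor

set_option autoImplicit false
open Cfsg Cfsg.FusionSystem Cfsg.Lib.Fusion

namespace Cfsg.Agent.S5133

/-- Let F be a saturated fusion system over a finite p-group S, F' a fusion system over S', and α : S → S' a surjective morphism of fusion systems from F to F' (α maps S onto S' and every map of F' with source P' ≤ S' is induced along α by a map of F on the full preimage of P'). Then F' is saturated. -/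
theorem result {Ω : Type*} [Group Ω] {S : Subgroup Ω} [Finite S] (p : ℕ) [Fact p.Prime] (hS : IsPGroup p S) (F : Cfsg.FusionSystem S) (hF : F.IsSaturated p) {Ω' : Type*} [Group Ω'] {S' : Subgroup Ω'} (F' : Cfsg.FusionSystem S') (α : S →* Ω') (hα : F.IsSurjectiveMorphism F' α) : F'.IsSaturated p := by
  obtain ⟨⟨hmem, hmor⟩, hrange, hsurj⟩ := hα
  have hclosed : KerClosed F α := by
    intro P f hf x hx h
    obtain ⟨φ, hφ, e⟩ := hf
    obtain ⟨φ', -, hP, hv, hP', hind⟩ := hmor P φ hφ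
    rw [qmap_apply (hP hx)] at h
    rw [qmap_apply (show f x ∈ S from e ⟨x, hx⟩ ▸ hv ⟨x, hx⟩),
      show (⟨f x, _⟩ : S) = ⟨φ ⟨x, hx⟩, hv _⟩ from Subtype.ext (e ⟨x, hx⟩).symm, ← hind ⟨x, hx⟩,
      show (⟨α ⟨x, hP hx⟩, hP' ⟨x, hx⟩⟩ : imageAlong α P) = 1 from Subtype.ext h, map_one]
  refine IsQuot.saturated (θ := α) ⟨hrange, hclosed, fun P' f' => ⟨?_, ?_⟩⟩ hS hF
  · rintro ⟨φ', hφ', e'⟩
    have hP' := (F'.le_of_mem hφ').1
    obtain ⟨φ, hφ, hind⟩ := hsurj P' hP' φ' hφ'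
    exact ⟨hP', toFun' φ, isMap_of_mem hφ,
      isMap_of_induced hind (fun x => (toFun'_apply φ x).symm) e'⟩
  · rintro ⟨hP', f, ⟨φ, hφ, e⟩, h⟩
    obtain ⟨φ', hφ', hind⟩ := hmor _ φ hφ
    have heq : imageAlong α (preimageAlong α P') = P' := by
      rw [imageAlong, preimageAlong, Subgroup.subgroupOf, Subgroup.comap_map_eq_self_of_injective
        S.subtype_injective, Subgroup.map_comap_eq, hrange, inf_eq_right.mpr hP']
    revert φ'
    rw [heq]
    intro φ' hφ' ⟨hP, hv, hmem', hind⟩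
    refine ⟨φ', hφ', fun y => ?_⟩
    obtain ⟨x, hx, hxy⟩ := exists_preimage (hrange.symm ▸ hP') y.2
    rw [← hxy, h x hx, qmap_apply ((IsMap.mem_S ⟨φ, hφ, e⟩) hx)]
    have h1 := hind ⟨x, hx⟩
    rw [show (y : P') = ⟨α ⟨x, hP hx⟩, hmem' ⟨x, hx⟩⟩ from
      Subtype.ext (by rw [← hxy, qmap_apply (hP hx)]), h1]
    congr 1
    exact Subtype.ext (e ⟨x, hx⟩)

end Cfsg.Agent.S5133
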