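import Cfsg.Statements.S5135
import Cfsg.Agent.Fusion.GroupSystem
import Cfsg.Prelude.Def_FusionComponents

set_option autoImplicit false
open Cfsg
open Cfsg.Lib.Fusion

namespace Cfsg.Agent.S5135

/-- Let G be a finite group, S a Sylow p-subgroup and H a normal subgroup of G. Then the fusion system of G/H on the image SH/H of S is the factor system of the fusion system of G on S modulo S ∩ H, read through the quotient map restricted to S: for each subgroup P' of SH/H, the conjugation maps by elements of G/H defined on P' with values in SH/H are exactly the homomorphisms induced by the conjugation maps by elements of G defined on the full preimage of P' in S with values in S. -/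
theorem result {G : Type*} [Group G] [Finite G] (p : ℕ) [Fact p.Prime] (S : Sylow p G) (H : Subgroup G) [H.Normal] : (Cfsg.groupFusionSystem (S : Subgroup G)).IsFactorSystem ((S : Subgroup G) ⊓ H) ((QuotientGroup.mk' H).comp (S : Subgroup G).subtype) (Cfsg.groupFusionSystem ((S : Subgroup G).map (QuotientGroup.mk' H))) := by
  set θ := (QuotientGroup.mk' H).comp (S : Subgroup G).subtype with hθ
  have hθa : ∀ s : (S : Subgroup G), θ s = QuotientGroup.mk' H s := fun _ => rfl
  refine ⟨inf_le_left, fun s => ?_, ?_, fun P' φ' => ?_⟩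
  · rw [hθa]
    exact (QuotientGroup.eq_one_iff (s : G)).trans ⟨fun h => ⟨s.2, h⟩, fun h => h.2⟩
  · rw [hθ, MonoidHom.range_comp, Subgroup.range_subtype]
  constructor
  · rintro ⟨hP', hv, gb, hgb⟩
    refine ⟨hP', ?_⟩
    obtain ⟨g, rfl⟩ := QuotientGroup.mk'_surjective H gb
    set P := FusionSystem.preimageAlong θ P' with hPdef
    have hPS : P ≤ (S : Subgroup G) := Subgroup.map_subtype_le _
    have hPP : ∀ x ∈ P, QuotientGroup.mk' H x ∈ P' := by
      rintro _ ⟨s, hs, rfl⟩
      exact hs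
    have hmax : IsMaxPIn p (S : Subgroup G) ((S : Subgroup G) ⊔ H) :=
      ⟨le_sup_left, S.isPGroup', fun U _ hUp hle => S.is_maximal' hUp hle⟩
    have hle : P.map (MulAut.conj g).toMonoidHom ≤ (S : Subgroup G) ⊔ H := by
      refine map_conj_le fun x hx => ?_
      obtain ⟨s, hs, hse⟩ := hv ⟨_, hPP x hx⟩
      rw [hgb ⟨_, hPP x hx⟩] at hse
      have h1 : s⁻¹ * (g * x * g⁻¹) ∈ H := QuotientGroup.eq.mp (by simpa using hse)
      have h2 := Subgroup.mul_mem _ (Subgroup.mem_sup_left hs : s ∈ (S : Subgroup G) ⊔ H)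
        (Subgroup.mem_sup_right h1)
      rwa [mul_inv_cancel_left] at h2
    obtain ⟨m, hm, hmS⟩ := hmax.exists_conj_le hle ((isPGroup_of_le_sylow S hPS).map _)
    rw [← SetLike.mem_coe, Subgroup.mul_normal] at hm
    obtain ⟨s, hs, h, hh, rfl⟩ := hm
    have hval : ∀ x ∈ P, h * g * x * (h * g)⁻¹ ∈ (S : Subgroup G) := by
      intro x hx
      have h1 := hmS _ ⟨x, hx, rfl⟩
      have h2 := Subgroup.mul_mem _ (Subgroup.mul_mem _ (Subgroup.inv_mem _ hs) h1) hs
      simpa [mul_assoc, MulAut.conj_apply] using h2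
    refine ⟨conjHom P (h * g), ⟨hPS, fun x => hval x x.2, h * g, fun _ => rfl⟩, hPS,
      fun x => hval x x.2, fun x => hPP x x.2, fun x => ?_⟩
    rw [hgb]
    show _ = QuotientGroup.mk' H (h * g * (x : G) * (h * g)⁻¹)
    rw [map_mul, map_mul, map_mul, map_inv, map_mul,
      show QuotientGroup.mk' H h = 1 from (QuotientGroup.eq_one_iff h).mpr hh, one_mul]
    rfl
  · rintro ⟨hP', φ, ⟨-, hv, g, hg⟩, hP, hφ, hφP, e⟩
    have hall : ∀ y : P', ∃ x : FusionSystem.preimageAlong θ P', y = ⟨θ ⟨x, hP x.2⟩, hφP x⟩ := by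
      intro y
      obtain ⟨s, hs, hse⟩ := hP' y.2
      have hx : s ∈ FusionSystem.preimageAlong θ P' :=
        ⟨⟨s, hs⟩, show θ ⟨s, hs⟩ ∈ P' from (hθa ⟨s, hs⟩).symm ▸ hse.symm ▸ y.2, rfl⟩
      exact ⟨⟨s, hx⟩, Subtype.ext hse.symm⟩
    refine ⟨hP', fun y => ?_, QuotientGroup.mk' H g, fun y => ?_⟩
    · obtain ⟨x, rfl⟩ := hall y
      rw [e, hθa]
      exact ⟨φ x, hφ x, rfl⟩
    · obtain ⟨x, rfl⟩ := hall y
      rw [e]
      show QuotientGroup.mk' H (φ x) = _
      rw [hg, map_mul, map_mul, map_inv]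
      rfl

end Cfsg.Agent.S5135
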