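import Cfsg.Statements.S5153
import Cfsg.Agent.Fusion.InvarianceEquiv

set_option autoImplicit false
open Cfsg

namespace Cfsg.Agent.S5153

/-- Let F be a saturated fusion system over a finite p-group S and E a subnormal subsystem of F over T. Then every subgroup of T that is fully normalized in F is fully normalized in E. -/
theorem result {Ω : Type*} [Group Ω] {S : Subgroup Ω} [Finite S] (p : ℕ) [Fact p.Prime] (hS : IsPGroup p S) (F : Cfsg.FusionSystem S) (hF : F.IsSaturated p) {T : Subgroup Ω} (E : Cfsg.FusionSystem T) (hE : E.IsSubnormalIn F p) (P : Subgroup Ω) (hPT : P ≤ T) (hP : F.IsFullyNormalized P) : E.IsFullyNormalized P := by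
  open Cfsg.Lib.Fusion Cfsg.FusionSystem in
  have hle : ∀ {T S : Subgroup Ω} {E : Cfsg.FusionSystem T} {F : Cfsg.FusionSystem S} {q : ℕ},
      E.IsSubnormalIn F q → T ≤ S := by
    intro T S E F q h
    induction h with
    | refl => exact le_rfl
    | step _ hD ih => exact ih.trans hD.1.2.2.2.1.1
  suffices main : ∀ {T S : Subgroup Ω} {E : Cfsg.FusionSystem T} {F : Cfsg.FusionSystem S} {q : ℕ},
      E.IsSubnormalIn F q → q.Prime → Finite S → IsPGroup q S → F.IsSaturated q → P ≤ T →
        F.IsFullyNormalized P → E.IsFullyNormalized P from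
    main hE Fact.out inferInstance hS hF hPT hP
  intro T S E F q h
  induction h with
  | refl => exact fun _ _ _ _ _ hP => hP
  | @step M U E₁ D F₁ q hED hDF ih =>
    intro hq hfin hS hF hPT hP
    haveI := hfin
    haveI : Fact q.Prime := ⟨hq⟩
    have hU : _ ≤ _ := hDF.1.2.2.2.1.1
    refine ih hq (finite_of_le hU) (hS.of_injective _ (Subgroup.inclusion_injective hU)) hDF.1.1 hPT
      ⟨hPT.trans (hle hED), fun Q hQ => ?_⟩
    obtain ⟨f, hf, hi⟩ := isConj_iff.mp (isConj_symm hQ)
    have hfF := isMap_of_sub hDF.1.2.2.1 hf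
    obtain ⟨-, hfa, hrec⟩ := fullyNormalized_props hS hF hP
    obtain ⟨-, -, g, hg, -, -, hgN⟩ := exists_map_normalizer hS hfa hrec hfF hi
    refine card_le_of_isMap hg (inf_le_inf_right _ hU) (inf_le_left.trans hU) fun a ha => ?_
    exact ⟨stronglyClosed_apply hDF.1.2.2.2.1 hg (inf_le_inf_right _ hU ha) ha.1,
      (hgN a (inf_le_inf_right _ hU ha)).2⟩

end Cfsg.Agent.S5153
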