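import Cfsg.Statements.S5154
import Cfsg.Agent.Fusion.ComponentImage

set_option autoImplicit false
open Cfsg

namespace Cfsg.Agent.S5154

/-- Let F be a saturated fusion system over a finite p-group S, C a component of F over T, and γ a map of F with source T. Then the image of C under γ — the fusion system over γ(T) whose maps are the homomorphisms induced along γ by the maps of C — is again a component of F. -/
theorem result {Ω : Type*} [Group Ω] {S : Subgroup Ω} [Finite S] (p : ℕ) [Fact p.Prime] (hS : IsPGroup p S) (F : Cfsg.FusionSystem S) (hF : F.IsSaturated p) {T : Subgroup Ω} (C : Cfsg.FusionSystem T) (hC : C.IsComponentIn F p) (γ : T →* Ω) (hγ : γ ∈ F.Hom T) (E : Cfsg.FusionSystem γ.range) (hE : C.IsFactorSystem ⊥ γ E) : E.IsComponentIn F p := by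
  obtain ⟨hsub, hqs⟩ := hC
  have hbot : C.StronglyClosed ⊥ := ⟨bot_le, fun R hR φ hφ x => by
    have hx : x = 1 := Subtype.ext (Subgroup.mem_bot.mp (hR x.2))
    rw [hx, map_one]
    exact one_mem _⟩
  have hTS := Cfsg.Lib.Fusion.subnormal_le hsub
  have := Cfsg.Lib.Fusion.finite_of_le hTS
  exact ⟨Cfsg.Lib.Fusion.subnormal_map hsub Fact.out inferInstance hS hF γ hγ
      (Cfsg.Lib.Fusion.isQuot_of_isFactorSystem hbot hE),
    Cfsg.Lib.Fusion.quasisimple_transport (hS.of_injective _ (Subgroup.inclusion_injective hTS))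
      (F.injective_of_mem hγ) hE hqs⟩

end Cfsg.Agent.S5154
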