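import Cfsg.Statements.S5157
import Cfsg.Agent.Fusion.SolvableChain

set_option autoImplicit false
open Cfsg
open Cfsg.Lib.Fusion

namespace Cfsg.Agent.S5157

/-- A saturated fusion system F over a finite p-group S is solvable (for every subgroup R other than S that is strongly closed in F, the factor system of F modulo R has a nontrivial subgroup normal in it) if and only if there is a chain 1 = S₀ ≤ S₁ ≤ ⋯ ≤ Sₘ = S of subgroups strongly closed in F with every quotient Sᵢ₊₁/Sᵢ abelian. -/
theorem result {Ω : Type*} [Group Ω] {S : Subgroup Ω} [Finite S] (p : ℕ) [Fact p.Prime] (hS : IsPGroup p S) (F : Cfsg.FusionSystem S) (hF : F.IsSaturated p) : F.IsSolvableSystem ↔ ∃ (n : ℕ) (T : Fin (n + 1) → Subgroup Ω), T 0 = ⊥ ∧ T (Fin.last n) = S ∧ Monotone T ∧ (∀ i, F.StronglyClosed (T i)) ∧ ∀ i : Fin n, ⁅T i.succ, T i.succ⁆ ≤ T (Fin.castSucc i) := by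
  constructor
  · intro hsol
    have hbot := stronglyClosed_of_isNormal (isNormal_bot' : F.IsNormal ⊥)
    obtain ⟨n, T, h0, hn, hT⟩ := abTower_of_solvable hS hF hsol hbot
    refine ⟨n, fun i => T i, h0, by simpa using hn, ?_, fun i => ?_, fun i => ?_⟩
    · exact Fin.monotone_iff_le_succ.mpr fun i => by simpa using (hT i i.2).1
    · obtain ⟨i, hi⟩ := i
      cases i with
      | zero => show F.StronglyClosed (T 0); rw [h0]; exact hbot
      | succ j => exact (hT j (by omega)).2.1
    · simpa using (hT i i.2).2.2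
  · rintro ⟨n, T, h0, hn, hmono, hsc, hcomm⟩
    refine solvable_of_abTower hS hF ⟨n, fun i => T ⟨min i n, by omega⟩, ?_, ?_, fun i hi => ?_⟩
    · simpa using h0
    · simpa [Fin.last] using hn
    · refine ⟨hmono (Fin.mk_le_mk.mpr (by omega)), hsc _, ?_⟩
      have h := hcomm ⟨i, hi⟩
      simpa [Nat.min_eq_left (show i + 1 ≤ n by omega), Nat.min_eq_left hi.le] using h

end Cfsg.Agent.S5157
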