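import Cfsg.Statements.S5159
import Cfsg.Agent.Fusion.SolvableExtension

set_option autoImplicit false
open Cfsg

namespace Cfsg.Agent.S5159

/-- Let F be a saturated fusion system over a finite p-group S, E a normal subsystem over T, and D the factor system of F modulo T (read through any homomorphism on S with kernel T). Then F is solvable if and only if E and D are solvable (solvable, for a system over a subgroup S: for every subgroup R other than S that is strongly closed in F, the factor system of F modulo R has a nontrivial subgroup normal in it). -/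
theorem result {Ω : Type*} [Group Ω] {S : Subgroup Ω} [Finite S] (p : ℕ) [Fact p.Prime] (hS : IsPGroup p S) (F : Cfsg.FusionSystem S) (hF : F.IsSaturated p) {T : Subgroup Ω} (E : Cfsg.FusionSystem T) (hE : E.IsNormalIn F p) {Ω' : Type*} [Group Ω'] {S' : Subgroup Ω'} (θ : S →* Ω') (D : Cfsg.FusionSystem S') (hD : F.IsFactorSystem T θ D) : F.IsSolvableSystem ↔ (E.IsSolvableSystem ∧ D.IsSolvableSystem) := by
  obtain ⟨⟨hEs, -, hinv⟩, -⟩ := hE
  have hT := hinv.2.1
  have := Cfsg.Lib.Fusion.finite_of_le hT.1
  have hTp : IsPGroup p T := hS.of_injective _ (Subgroup.inclusion_injective hT.1)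
  have hq := Cfsg.Lib.Fusion.isQuot_of_isFactorSystem hT hD
  have : Finite S' := Cfsg.Lib.Fusion.finite_of_range hD.2.2.1
  have hS'p : IsPGroup p S' := by
    rw [← hq.range]
    exact hS.of_surjective θ.rangeRestrict θ.rangeRestrict_surjective
  have hbot : ∀ {Θ : Type _} [Group Θ] {U : Subgroup Θ} (A : Cfsg.FusionSystem U),
      A.StronglyClosed ⊥ := fun A =>
    Cfsg.Lib.Fusion.stronglyClosed_of_isNormal Cfsg.Lib.Fusion.isNormal_bot'
  constructor
  · intro h
    exact ⟨Cfsg.Lib.Fusion.solvable_of_abTower hTp hEs (Cfsg.Lib.Fusion.abTower_restrict hinv.1 hT.1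
        (Cfsg.Lib.Fusion.abTower_of_solvable hS hF h (hbot F))),
      Cfsg.Lib.Fusion.solvable_of_abTower hS'p (hq.saturated hS hF)
        (Cfsg.Lib.Fusion.abTower_down hT hD (Cfsg.Lib.Fusion.abTower_of_solvable hS hF h hT))⟩
  · rintro ⟨hE', hD'⟩
    exact Cfsg.Lib.Fusion.solvable_of_abTower hS hF (Cfsg.Lib.Fusion.abTower_glue hinv
      (Cfsg.Lib.Fusion.abTower_of_solvable hTp hEs hE' (hbot E))
      (Cfsg.Lib.Fusion.abTower_up hS hF hT hD
        (Cfsg.Lib.Fusion.abTower_of_solvable hS'p (hq.saturated hS hF) hD'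
          (Cfsg.Lib.Fusion.stronglyClosed_of_isNormal Cfsg.Lib.Fusion.isNormal_bot'))))

end Cfsg.Agent.S5159
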