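-- Proof of statement S5160.
import Cfsg.Statements.S5160
import Cfsg.Agent.Fusion.Invariant
import Cfsg.Agent.Fusion.GroupSystem

set_option autoImplicit false
open Cfsg Cfsg.FusionSystem Cfsg.Lib.Fusion

namespace Cfsg.Agent.S5160

/-- Let G be a finite group with nontrivial Sylow p-subgroup S and F its fusion system on S. Suppose (a) no nontrivial proper subgroup of S is strongly closed in F, and (b) the automorphisms of S induced by G are generated by those induced, for R running over the fully normalized radical centric subgroups of F, by the subgroup of N_G(R) generated by its elements of p-power order. Then F is simple. -/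
theorem result {G : Type*} [Group G] [Finite G] (p : ℕ) [Fact p.Prime] (S : Sylow p G) (hS1 : (S : Subgroup G) ≠ ⊥) (ha : ∀ T : Subgroup G, (Cfsg.groupFusionSystem (S : Subgroup G)).StronglyClosed T → T = ⊥ ∨ T = (S : Subgroup G)) (hb : Cfsg.autInducedBy ⊤ (S : Subgroup G) = ⨆ (R : Subgroup G) (_ : (Cfsg.groupFusionSystem (S : Subgroup G)).IsFullyNormalized R ∧ (Cfsg.groupFusionSystem (S : Subgroup G)).IsRadical p R ∧ (Cfsg.groupFusionSystem (S : Subgroup G)).IsCentric R), Cfsg.autInducedBy (Subgroup.closure {g : G | g ∈ Subgroup.normalizer (R : Set G) ∧ ∃ k : ℕ, orderOf g = p ^ k}) (S : Subgroup G)) : (Cfsg.groupFusionSystem (S : Subgroup G)).IsSimple p := by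
  have hF := saturated_group S
  set F := groupFusionSystem (S : Subgroup G)
  refine ⟨hF, hS1, fun T E hE => ?_⟩
  rcases ha T hE.1.2.2.2.1 with hT | hT
  · exact Or.inl hT
  subst hT
  refine Or.inr ⟨rfl, ?_⟩
  obtain ⟨⟨hEs, -, hinv⟩, -⟩ := hE
  have hsub := hinv.1
  -- all automorphisms of `S` lie in `E`
  have hautS : F.autGroup (S : Subgroup G) ≤ E.autGroup (S : Subgroup G) := by
    rw [show F.autGroup (S : Subgroup G) = autInducedBy ⊤ (S : Subgroup G) from autGroup_group le_rfl, hb]
    refine iSup_le fun R => iSup_le fun hR => ?_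
    obtain ⟨hRn, -, hRc⟩ := hR
    intro α hα
    obtain ⟨g, hg, hge⟩ := mem_autInducedBy.mp hα
    have hfa : F.IsFullyAutomized p R := (fullyNormalized_props S.2 hF hRn).2.1
    haveI := finite_of_le hRn.1
    have hgen : g ∈ Subgroup.normalizer (R : Set G) ∧ IsMap E R (fun x => g * x * g⁻¹) := by
      clear hge
      induction hg using Subgroup.closure_induction with
      | mem x hx =>
        obtain ⟨hxn, k, hk⟩ := hx
        refine ⟨hxn, ?_⟩
        have h1 : conjAut R x hxn ∈ F.autGroup R := by
          rw [show F.autGroup R = autInducedBy ⊤ R from autGroup_group hRn.1]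
          exact conjAut_mem_autInducedBy hxn trivial
        have h2 : ∀ i : ℕ, ∀ y : R, (((conjAut R x hxn) ^ i) y : G) = x ^ i * y * (x ^ i)⁻¹ := by
          intro i
          induction i with
          | zero => intro y; simp
          | succ i ih =>
            intro y
            rw [pow_succ, MulAut.mul_apply, ih, conjAut_apply, pow_succ]
            group
        have h3 : (conjAut R x hxn) ^ p ^ k = 1 := by
          refine MulEquiv.ext fun y => Subtype.ext ?_
          rw [h2, ← hk, pow_orderOf_eq_one]
          simp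
        refine ((isMap_autFun hRn.1).mpr (mem_autGroup_of_isPGroup hinv hfa h1 ⟨k, h3⟩)).congr
          fun y hy => ?_
        rw [autFun_apply_mem _ hy, conjAut_apply]
      | one => exact ⟨Subgroup.one_mem _, (isMap_id hRn.1).congr fun y _ => by simp⟩
      | mul x y _ _ hx hy =>
        refine ⟨Subgroup.mul_mem _ hx.1 hy.1,
          (hy.2.comp hx.2 fun z hz => conj_mem_of_mem_normalizer hy.1 hz).congr fun z _ => ?_⟩
        show _ = x * (y * z * y⁻¹) * x⁻¹
        group
      | inv x _ hx =>
        refine ⟨Subgroup.inv_mem _ hx.1, ?_⟩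
        obtain ⟨d, hd, -, hdl, -⟩ := hx.2.exists_inv
        have hi : R ≤ img R (fun z => x * z * x⁻¹) := fun z hz =>
          hx.2.mem_img.mpr ⟨x⁻¹ * z * x, by
            simpa using conj_mem_of_mem_normalizer (Subgroup.inv_mem _ hx.1) hz, by group⟩
        refine (hd.mono hi).congr fun z hz => ?_
        have h4 := hdl (x⁻¹ * z * x) (by
          simpa using conj_mem_of_mem_normalizer (Subgroup.inv_mem _ hx.1) hz)
        rw [show x * (x⁻¹ * z * x) * x⁻¹ = z by group] at h4
        rw [h4]
        group
    have hm : IsMap F (S : Subgroup G) (fun x => g * x * g⁻¹) :=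
      isMap_group_iff.mpr ⟨le_rfl, fun x hx => by
        rw [← hge ⟨x, hx⟩]; exact SetLike.coe_mem _, g, fun _ _ => rfl⟩
    have h2 := isMap_of_restrict_centric S.2 hF hEs hsub hm hRc hgen.2
    exact (isMap_autFun le_rfl).mp (h2.congr fun x hx => by
      rw [autFun_apply_mem _ hx]; exact hge ⟨x, hx⟩)
  intro P
  refine hom_eq_iff_isMap.mpr fun f => ⟨fun h => isMap_of_le hsub h, fun h => ?_⟩
  obtain ⟨α, hα, f₀, hf₀, e⟩ := invariant_frattini hinv h
  exact (hf₀.comp ((isMap_autFun le_rfl).mpr (hautS hα)) fun x hx => hf₀.mem_S hx).congr e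

end Cfsg.Agent.S5160
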