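import Cfsg.Statements.S5164
import Cfsg.Agent.SymSylow.Basic
import Mathlib

set_option autoImplicit false
open Cfsg

namespace Cfsg.Agent.S5164

open Equiv Cfsg.Lib.SymSylow

/-- If a `p`-group with a non-commuting pair maps injectively into `G`, Sylow subgroups of `G` are not abelian. -/
lemma not_comm_of_embed {G W : Type*} [Group G] [Finite G] [Group W] {p : ℕ} [Fact p.Prime]
    (hW : IsPGroup p W) (f : W →* G) (hf : Function.Injective f) (hnc : ∃ a b : W, a * b ≠ b * a)
    (S : Sylow p G) : ¬ IsMulCommutative S := by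
  intro hS
  obtain ⟨a, b, hab⟩ := hnc
  obtain ⟨Q, hQ⟩ := (hW.of_surjective f.rangeRestrict f.rangeRestrict_surjective).exists_le_sylow
  let e := Q.equiv S
  apply hab
  apply hf
  have h : (⟨f a, hQ ⟨a, rfl⟩⟩ : Q) * ⟨f b, hQ ⟨b, rfl⟩⟩ = ⟨f b, hQ ⟨b, rfl⟩⟩ * ⟨f a, hQ ⟨a, rfl⟩⟩ := by
    apply e.injective
    rw [map_mul, map_mul]
    exact mul_comm' _ _
  simpa using congrArg Subtype.val h

lemma odd_sign {α : Type} [Fintype α] [DecidableEq α] {p : ℕ} (hp : Odd p) {W : Subgroup (Perm α)}
    (hW : IsPGroup p W) (w : Perm α) (hw : w ∈ W) : Perm.sign w = 1 := by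
  obtain ⟨k, hk⟩ := hW ⟨w, hw⟩
  have h1 : w ^ p ^ k = 1 := by simpa using congrArg Subtype.val hk
  have h2 : Perm.sign w ^ p ^ k = 1 := by rw [← map_pow, h1, map_one]
  rcases Int.units_eq_one_or (Perm.sign w) with h | h
  · exact h
  · rw [h, (hp.pow).neg_one_pow] at h2
    exact absurd h2 (by decide)

/-- Sign as a permutation of two letters. -/
def chi : ℤˣ →* Perm (Fin 2) where
  toFun u := if u = 1 then 1 else Equiv.swap 0 1
  map_one' := if_pos rfl
  map_mul' := by
    intro a b
    rcases Int.units_eq_one_or a with rfl | rfl <;> rcases Int.units_eq_one_or b with rfl | rfl <;>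
      decide

/-- Embedding into the alternating group of a group all of whose members are even. -/
lemma exists_alt_hom {α : Type} [Fintype α] [DecidableEq α] (W : Subgroup (Perm α))
    (hW : ∀ w ∈ W, Perm.sign w = 1) (n : ℕ) (hn : Fintype.card α ≤ n) :
    ∃ f : W →* alternatingGroup (Fin n), Function.Injective f := by
  classical
  obtain ⟨ι⟩ : Nonempty (α ↪ Fin n) :=
    Function.Embedding.nonempty_of_card_le (by simpa using hn)
  refine ⟨(((Perm.viaEmbeddingHom ι).comp W.subtype)).codRestrict (alternatingGroup (Fin n))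
    fun w => ?_, ?_⟩
  · rw [Perm.mem_alternatingGroup]
    show Perm.sign ((w : Perm α).viaEmbedding ι) = 1
    rw [Perm.viaEmbedding, Perm.sign_extendDomain]
    exact hW _ w.2
  · intro a b h
    exact Subtype.ext (Perm.viaEmbeddingHom_injective ι (congrArg Subtype.val h))

lemma exists_alt_hom_two {α : Type} [Fintype α] [DecidableEq α] (W : Subgroup (Perm α)) (n : ℕ)
    (hn : Fintype.card α + 2 ≤ n) :
    ∃ f : W →* alternatingGroup (Fin n), Function.Injective f := by
  let g : Perm α →* Perm (α ⊕ Fin 2) :=
    (Perm.sumCongrHom α (Fin 2)).comp ((MonoidHom.id _).prod (chi.comp Perm.sign))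
  have hg : Function.Injective g :=
    Perm.sumCongrHom_injective.comp fun a b h => congrArg Prod.fst h
  have hs : ∀ w, Perm.sign (g w) = 1 := by
    intro w
    show Perm.sign (Equiv.sumCongr w (chi (Perm.sign w))) = 1
    rw [Perm.sign_sumCongr]
    have h2 : ∀ u : ℤˣ, u * Perm.sign (chi u) = 1 := by
      intro u
      rcases Int.units_eq_one_or u with rfl | rfl <;> decide
    exact h2 _
  obtain ⟨f, hf⟩ := exists_alt_hom (W.map g) (by rintro _ ⟨w, -, rfl⟩; exact hs w) n
    (by simpa using hn)
  exact ⟨f.comp (W.equivMapOfInjective g hg).toMonoidHom, hf.comp (MulEquiv.injective _)⟩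

/-- For n ≥ 6 and a prime p, a nontrivial Sylow p-subgroup of the alternating group of degree n is abelian if and only if n < p². -/
theorem result (n p : ℕ) (hn : 6 ≤ n) [Fact p.Prime] (S : Sylow p (alternatingGroup (Fin n))) (hS : (S : Subgroup (alternatingGroup (Fin n))) ≠ ⊥) : IsMulCommutative S ↔ n < p ^ 2 := by
  classical
  have hp : p.Prime := Fact.out
  haveI : NeZero p := ⟨hp.ne_zero⟩
  constructor
  · intro hc
    by_contra hle
    push Not at hle
    set σ : Perm (Fin p) := finRotate p with hσdef
    have hσp : σ ^ p = 1 := by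
      obtain ⟨q, rfl⟩ : ∃ q, p = q + 2 := ⟨p - 2, by have := hp.two_le; omega⟩
      have h := pow_orderOf_eq_one σ
      rwa [hσdef, isCycle_finRotate.orderOf, support_finRotate, Finset.card_univ,
        Fintype.card_fin] at h
    have hσ1 : ∀ i : Fin p, σ i ≠ i := by
      obtain ⟨q, rfl⟩ : ∃ q, p = q + 2 := ⟨p - 2, by have := hp.two_le; omega⟩
      intro i
      rw [← Perm.mem_support, hσdef, support_finRotate]
      exact Finset.mem_univ i
    set W := wreathSub (p := p) (Subgroup.zpowers σ) with hWdef
    have hW : IsPGroup p W := by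
      obtain ⟨j, -, hj⟩ := (Nat.dvd_prime_pow hp).1
        (show orderOf σ ∣ p ^ 1 by rw [pow_one]; exact orderOf_dvd_of_pow_eq_one hσp)
      exact IsPGroup.of_card (n := p + j)
        (by rw [hWdef, card_wreathSub, Nat.card_zpowers, hj, pow_add])
    have hnc : ∃ a b : W, a * b ≠ b * a := by
      let c : Fin p → ZMod p := Pi.single 0 1
      refine ⟨⟨baseHom (Multiplicative.ofAdd c), c, 1, one_mem _, by simp⟩,
        ⟨liftHom σ, 0, σ, Subgroup.mem_zpowers σ, by simp⟩, fun h => ?_⟩
      have h1 := congrArg (fun x : W => (x : Perm (Fin p × ZMod p)) (0, 0)) h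
      simp [baseHom_apply, liftHom_apply, c, hσ1 0] at h1
    rcases eq_or_ne p 2 with h2 | h2
    · obtain ⟨f, hf⟩ := exists_alt_hom_two W n
        (by rw [Fintype.card_prod, Fintype.card_fin, ZMod.card]; subst h2; omega)
      exact not_comm_of_embed hW f hf hnc S hc
    · obtain ⟨f, hf⟩ := exists_alt_hom W (fun w => odd_sign (hp.odd_of_ne_two h2) hW w) n
        (by rw [Fintype.card_prod, Fintype.card_fin, ZMod.card]; linarith [sq p])
      exact not_comm_of_embed hW f hf hnc S hc
  · intro hlt
    have h2 : p ≠ 2 := by rintro rfl; omega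
    have hodd : Odd p := hp.odd_of_ne_two h2
    set k := n / p with hk
    let B : Subgroup (Perm (Fin k × ZMod p)) := (baseHom (p := p) (m := k)).range
    have hbi : Function.Injective (baseHom (p := p) (m := k)) := by
      intro a b h
      refine Multiplicative.toAdd.injective (funext fun i => ?_)
      simpa [baseHom_apply] using congrArg (fun x : Perm (Fin k × ZMod p) => x (i, 0)) h
    have hB : Nat.card B = p ^ k := by
      rw [← Nat.card_congr (MonoidHom.ofInjective hbi).toEquiv,
        Nat.card_congr Multiplicative.toAdd, Nat.card_fun, Nat.card_fin, Nat.card_zmod]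
    haveI : IsMulCommutative B :=
      ⟨⟨fun ⟨_, a, rfl⟩ ⟨_, b, rfl⟩ => Subtype.ext (show baseHom a * baseHom b = baseHom b * baseHom a by
        rw [← map_mul, ← map_mul, mul_comm])⟩⟩
    obtain ⟨f, hf⟩ := exists_alt_hom B
      (fun w => odd_sign hodd (IsPGroup.of_card hB) w) n
      (by rw [Fintype.card_prod, Fintype.card_fin, ZMod.card]; exact Nat.div_mul_le_self n p)
    have hcard : Nat.card f.range =
        p ^ (Nat.card (alternatingGroup (Fin n))).factorization p := by
      rw [← Nat.card_congr (MonoidHom.ofInjective hf).toEquiv, hB]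
      congr 1
      haveI : Nontrivial (Fin n) := Fin.nontrivial_iff_two_le.2 (by omega)
      have h := congrArg (fun x : ℕ => x.factorization p)
        (two_mul_nat_card_alternatingGroup (α := Fin n))
      simp only [Nat.card_perm, Nat.card_fin] at h
      rw [Nat.factorization_mul (by norm_num) Nat.card_pos.ne', Finsupp.add_apply,
        Nat.factorization_eq_zero_of_not_dvd (fun hd => h2 ((Nat.prime_dvd_prime_iff_eq hp
          Nat.prime_two).1 hd)), zero_add,
        Nat.factorization_factorial hp (Nat.log_lt_of_lt_pow (by omega) hlt)] at h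
      rw [h, hk]
      simp
    let e := (Sylow.ofCard f.range hcard).equiv S
    have hK : ∀ x y : f.range, x * y = y * x := by
      rintro ⟨_, a, rfl⟩ ⟨_, b, rfl⟩
      exact Subtype.ext (show f a * f b = f b * f a by rw [← map_mul, ← map_mul, mul_comm'])
    refine ⟨⟨fun x y => ?_⟩⟩
    apply e.symm.injective
    rw [map_mul, map_mul]
    exact hK _ _

end Cfsg.Agent.S5164
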