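import Cfsg.Statements.S5177
import Cfsg.Agent.Fusion.ExIdxP.End
import Cfsg.Agent.Fusion.ExIdxP.ModelSL
import Cfsg.Agent.Fusion.ExIdxP.ModelSU
import Cfsg.Agent.Fusion.ExIdxP.ModelG2Card

set_option autoImplicit false
universe u
open Cfsg Cfsg.Lib.Fusion

namespace Cfsg.Agent.S5177

/-- Let p be an odd prime, S a finite p-group of order at least p⁶ containing an extraspecial subgroup Q of index p, and F a saturated fusion system over S whose largest subgroup normal in F is trivial. Then S is isomorphic to a Sylow p-subgroup of SL(4,p), to a Sylow p-subgroup of SU(4,p), to a Sylow p-subgroup of G₂(p) with p ≥ 5, or p ≥ 11 and S has order p^(p−1), exponent p and maximal nilpotency class. -/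
theorem result {Ω : Type u} [Group Ω] {S : Subgroup Ω} [Finite S] (p : ℕ) [Fact p.Prime] (hp : Odd p) (hS : IsPGroup p S)
    (Q : Subgroup Ω) (hQS : Q ≤ S) (hQ : Cfsg.IsExtraspecial p ↥Q) (hQi : (Q.subgroupOf S).index = p)
    (h6 : p ^ 6 ≤ Nat.card S)
    (F : Cfsg.FusionSystem S) (hF : F.IsSaturated p) (hO : F.core = ⊥) [Group.IsNilpotent ↥S] :
    (∃ P : Sylow p (Matrix.SpecialLinearGroup (Fin 4) (ZMod p)),
        Nonempty (↥S ≃* ↥(P : Subgroup (Matrix.SpecialLinearGroup (Fin 4) (ZMod p))))) ∨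
      (∃ (K : Type) (_ : Field K) (_ : Fintype K), Fintype.card K = p ^ 2 ∧
        ∃ P : Sylow p ↥(Cfsg.SU 4 K p), Nonempty (↥S ≃* ↥(P : Subgroup ↥(Cfsg.SU 4 K p)))) ∨
      (5 ≤ p ∧ ∃ P : Sylow p ↥(Cfsg.Lie.G2 (ZMod p)), Nonempty (↥S ≃* ↥(P : Subgroup ↥(Cfsg.Lie.G2 (ZMod p))))) ∨
      (11 ≤ p ∧ Nat.card S = p ^ (p - 1) ∧ (∀ x : ↥S, x ^ p = 1) ∧ Group.nilpotencyClass ↥S = p - 2) := by
  classical
  have hp2 : p ≠ 2 := fun h => by subst h; exact absurd hp (by decide)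
  have hE : ExtraspecialIndex.ExtIdx F p Q := ExtraspecialIndex.extIdx_of_index hS hF hQS hQ hQi
  obtain ⟨z, hz, hz1, -⟩ := hE.exists_gen
  have hbig : p ^ 5 ≤ Nat.card Q := by
    have h1 := hE.idx
    rw [h1, show p ^ 6 = p * p ^ 5 by ring] at h6
    exact Nat.le_of_mul_le_mul_left h6 (Fact.out : p.Prime).pos
  have h : ExIdxP.Setup F p Q z := ⟨hE, hz, hz1, hE.cen_eq hp2 hO, hp2, hbig⟩
  have h2 : (2 : ZMod p) ≠ 0 := h.two_ne_zero'
  rcases h.shapes hO with ⟨g, hg, hR, hgen, hc, hcen⟩ | hT | ⟨h5, g, hg, hR, hgen, hc, hcen⟩ | ⟨h11, hc, hexp, hcl⟩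
  · left
    obtain ⟨g', hR', hne⟩ := ExIdxP.NormalForm.model_SL p h2
    exact ExIdxP.NormalForm.subgroup_sylow_iso (ExIdxP.NormalForm.forward_TwoT _ _) hg hR hgen hc hcen hR' hne
      (ExIdxP.NormalForm.factorization_SL p)
  · right; left
    obtain ⟨K, iF, iT, hK, hfac, d, hd, g', hR', hne⟩ := ExIdxP.NormalForm.model_SU p hp2
    obtain ⟨g, hg, hR, hgen, hc, hcen⟩ := hT d hd
    exact ⟨K, iF, iT, hK, ExIdxP.NormalForm.subgroup_sylow_iso (ExIdxP.NormalForm.forward_TwoT _ _) hg hR hgen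
      hc hcen hR' hne hfac⟩
  · right; right; left
    obtain ⟨hfac, g', hR', hne⟩ := ExIdxP.NormalForm.model_G2 p h5
    exact ⟨h5, ExIdxP.NormalForm.subgroup_sylow_iso ExIdxP.NormalForm.forward_G2T hg hR hgen hc hcen hR' hne hfac⟩
  · right; right; right
    refine ⟨h11, hc, fun s => Subtype.ext ?_, hcl⟩
    rw [Subgroup.coe_pow]
    exact hexp s s.2

end Cfsg.Agent.S5177
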