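import Cfsg.Statements.S5182
import Cfsg.Agent.Fusion.RankThreePair.Bridge
import Cfsg.Agent.Fusion.RankThreePair.RankTwo
import Cfsg.Agent.Fusion.RankThreePair.PearlLemma

set_option autoImplicit false
universe u
open Cfsg

namespace Cfsg.Agent.S5182

/-- Let p ≥ 5 be a prime, S a finite p-group of sectional p-rank exactly 3, and F a saturated fusion system over S whose largest subgroup normal in F is trivial. Then F has an essential subgroup that is either elementary abelian of order p² or extraspecial of order p³ and exponent p. -/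
theorem result {Ω : Type u} [Group Ω] {S : Subgroup Ω} [Finite S] (p : ℕ) [Fact p.Prime] (hp : 5 ≤ p) (hS : IsPGroup p S) (hsr : Cfsg.SectionalPRankLE p 3 ↥S ∧ ¬ Cfsg.SectionalPRankLE p 2 ↥S)
    (F : Cfsg.FusionSystem S) (hF : F.IsSaturated p) (hO : F.core = ⊥) :
    ∃ E : Subgroup Ω, (F.IsEssential p E ∧ ((Cfsg.IsElementaryAbelian p E ∧ Nat.card E = p ^ 2) ∨
        (Cfsg.IsExtraspecial p ↥E ∧ Nat.card E = p ^ 3 ∧ ∀ x ∈ E, x ^ p = 1))) := by
  classical
  have hp2 : p ≠ 2 := by omega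
  have hrS := Cfsg.Lib.Fusion.RankThree.rankThreeLE_of_injective hsr.1 (MonoidHom.id _) Function.injective_id
  by_cases hnn : ∃ E, F.IsEssential p E ∧ ¬ S ≤ Subgroup.normalizer (E : Set Ω)
  · obtain ⟨E, hE, hEn⟩ := hnn
    exact ⟨E, hE, Cfsg.Lib.Fusion.RankThreePair.pearl_of_not_normal hp hS hrS hF hE hEn⟩
  push Not at hnn
  obtain ⟨hS1, hbig⟩ := Cfsg.Lib.Fusion.RankThreePair.nontrivial_and_commute (p := p) hsr.2
  obtain ⟨-, Q, hQ, hc, hexp, x, hx, y, hy, hxy⟩ :=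
    Cfsg.Lib.Fusion.RankThreePair.shape_of_all_normal hp2 hS hrS hbig hS1 hF hO hnn
  have hQS := hQ.1.1
  haveI : Finite Q := Cfsg.Lib.Fusion.finite_of_le hQS
  have hQc : Nat.card Q = p ^ 3 :=
    (Nat.card_congr (Subgroup.subgroupOfEquivOfLe hQS).toEquiv).symm.trans hc
  refine ⟨Q, hQ, Or.inr ⟨?_, hQc, fun z hz => congrArg Subtype.val (hexp ⟨z, hQS hz⟩ hz)⟩⟩
  exact Cfsg.Lib.Fusion.isExtraspecial_of_cube hQc (a := ⟨(x : Ω), hx⟩) (b := ⟨(y : Ω), hy⟩)
    fun h => hxy (Subtype.ext (congrArg Subtype.val h :))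

end Cfsg.Agent.S5182
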