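import Cfsg.Statements.S5185
import Cfsg.Agent.Fusion.EssentialSylow
import Cfsg.Agent.Quadratic.SLTwoDickson


set_option autoImplicit false
universe u
open Cfsg

namespace Cfsg.Agent.S5185

/-- Let F be a saturated fusion system over a finite p-group S and H an essential subgroup of order p². Then H is elementary abelian (isomorphic to C_p × C_p) and its F-automorphism group contains a subgroup isomorphic to SL(2,p). -/
theorem result {Ω : Type u} [Group Ω] {S : Subgroup Ω} [Finite S] (p : ℕ) [Fact p.Prime] (hS : IsPGroup p S)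
    (F : Cfsg.FusionSystem S) (hF : F.IsSaturated p) (H : Subgroup Ω) (hH : F.IsEssential p H) (hcard : Nat.card H = p ^ 2) :
    Cfsg.IsElementaryAbelian p H ∧
      ∃ K : Subgroup ↥(F.autGroup H), Nonempty (↥K ≃* Matrix.SpecialLinearGroup (Fin 2) (ZMod p)) := by
  classical
  have hfin : Finite ↥H := Cfsg.Lib.Fusion.finite_of_le hH.1.1
  haveI : Finite (MulAut ↥H) :=
    Finite.of_injective (fun f : MulAut ↥H => (f : ↥H → ↥H)) DFunLike.coe_injective
  set A := F.autGroup H
  obtain ⟨R₁, R₂, hR⟩ : ∃ R₁ R₂ : Sylow p ↥A, R₁ ≠ R₂ :=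
    Cfsg.Lib.Fusion.exists_two_sylow_of_essential hS hH
  have hp := (Fact.out : p.Prime)
  have hab : IsMulCommutative ↥H := ⟨IsPGroup.isMulCommutative_of_card_eq_prime_sq hcard |>.is_comm⟩
  letI : CommGroup ↥H := { (inferInstance : Group ↥H) with
    mul_comm := fun a b => hab.is_comm.comm a b }
  -- not cyclic
  have hexp : ∀ x : ↥H, x ^ p = 1 := by
    by_contra hne
    push Not at hne
    obtain ⟨x, hx⟩ := hne
    have hcyc : IsCyclic ↥H := by
      refine isCyclic_of_orderOf_eq_card x ?_
      rw [hcard]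
      obtain ⟨j, hj, e⟩ := (Nat.dvd_prime_pow hp).1 (hcard ▸ orderOf_dvd_natCard x)
      interval_cases j
      · exact absurd (show x ^ p = 1 by rw [show x = 1 from orderOf_eq_one_iff.1 (by rw [e, pow_zero]), one_pow]) hx
      · exact absurd (show x ^ p = 1 by rw [← pow_one p, ← e, pow_orderOf_eq_one]) hx
      · exact e
    haveI : IsMulCommutative (MulAut ↥H) := ⟨⟨fun a b => by
      obtain ⟨g, hg⟩ := IsCyclic.exists_generator (α := ↥H)
      obtain ⟨i, hi : g ^ i = a g⟩ := hg (a g)
      obtain ⟨j, hj : g ^ j = b g⟩ := hg (b g)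
      refine MulEquiv.ext fun y => ?_
      obtain ⟨k, rfl⟩ := hg y
      simp only [MulAut.mul_apply, map_zpow, ← hi, ← hj, ← zpow_mul]
      ring_nf⟩⟩
    haveI : IsMulCommutative ↥A := inferInstance
    exact hR (@Subsingleton.elim _ (Sylow.unique_of_normal R₁ inferInstance).instSubsingleton R₁ R₂)
  refine ⟨⟨hab, fun a ha => congrArg Subtype.val (hexp ⟨a, ha⟩)⟩, ?_⟩
  -- each Sylow subgroup of the automizer fixes a nontrivial element
  have hfix : ∀ R : Sylow p ↥A, ∃ v : ↥H, v ≠ 1 ∧ ∀ r ∈ (R : Subgroup ↥A), (r : MulAut ↥H) v = v := by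
    intro R
    obtain ⟨v, hv, hv1⟩ := R.2.exists_fixed_point_of_prime_dvd_card_of_fixed_point ↥H
      (hcard ▸ dvd_pow_self p two_ne_zero) (a := 1)
      (fun r => map_one ((r : ↥A) : MulAut ↥H))
    exact ⟨v, Ne.symm hv1, fun r hr => hv ⟨r, hr⟩⟩
  -- a point outside a line completes a basis
  have hbasis : ∀ v w : ↥H, v ≠ 1 → w ∉ Subgroup.zpowers v →
      ∃ e : (Fin 2 → ZMod p) ≃+ Additive ↥H,
        e ![1, 0] = Additive.ofMul v ∧ e ![0, 1] = Additive.ofMul w := by
    intro v w hv hw
    have hpv : ∀ (u : ↥H) (a b : ZMod p), u ^ (a + b).val = u ^ a.val * u ^ b.val := fun u a b => by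
      rw [← pow_add, ZMod.val_add, ← pow_eq_pow_mod _ (hexp u)]
    let t : (Fin 2 → ZMod p) →+ Additive ↥H := AddMonoidHom.mk'
      (fun u => Additive.ofMul (v ^ (u 0).val * w ^ (u 1).val)) (fun a b => by
        rw [← ofMul_mul, Pi.add_apply, Pi.add_apply, hpv, hpv]
        exact congrArg _ (mul_mul_mul_comm _ _ _ _))
    have hinj : Function.Injective t := by
      rw [injective_iff_map_eq_zero]
      intro u hu
      have hu' : v ^ (u 0).val * w ^ (u 1).val = 1 := hu
      have h1 : u 1 = 0 := by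
        by_contra h
        refine hw ?_
        have hm : w ^ (u 1).val ∈ Subgroup.zpowers v := by
          rw [eq_inv_of_mul_eq_one_right hu']
          exact Subgroup.inv_mem _ (Subgroup.pow_mem _ (Subgroup.mem_zpowers v) _)
        have h2 := Subgroup.pow_mem _ hm ((u 1)⁻¹).val
        rwa [← pow_mul, pow_eq_pow_mod _ (hexp w), ← ZMod.val_mul, mul_inv_cancel₀ h, ZMod.val_one,
          pow_one] at h2
      rw [h1, ZMod.val_zero, pow_zero, mul_one] at hu'
      have h0 : u 0 = 0 := by
        rw [← ZMod.val_eq_zero]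
        exact Nat.eq_zero_of_dvd_of_lt (orderOf_dvd_of_pow_eq_one hu' |> fun h => by
          rwa [orderOf_eq_prime (hexp v) hv] at h) (ZMod.val_lt _)
      ext i
      fin_cases i <;> simp [h0, h1]
    refine ⟨AddEquiv.ofBijective t ⟨hinj, (hinj.bijective_of_nat_card_le ?_).2⟩, ?_, ?_⟩
    · rw [Nat.card_congr Additive.toMul, hcard, Nat.card_fun, Nat.card_zmod]
      simp
    · show Additive.ofMul (v ^ (1 : ZMod p).val * w ^ (0 : ZMod p).val) = _
      simp [ZMod.val_one]
    · show Additive.ofMul (v ^ (0 : ZMod p).val * w ^ (1 : ZMod p).val) = _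
      simp [ZMod.val_one]
  -- a p-element fixing `v` is a transvection
  have htrans : ∀ (v w : ↥H) (e : (Fin 2 → ZMod p) ≃+ Additive ↥H),
      e ![1, 0] = Additive.ofMul v → e ![0, 1] = Additive.ofMul w →
      ∀ (α : MulAut ↥H), (∃ k : ℕ, α ^ p ^ k = 1) → α v = v →
      ∃ a : ZMod p, ∀ u : Fin 2 → ZMod p,
        e.symm (Additive.ofMul (α (Additive.toMul (e u)))) = ![u 0 + a * u 1, u 1] := by
    intro v w e he0 he1 α hk hα
    let L : (Fin 2 → ZMod p) →ₗ[ZMod p] (Fin 2 → ZMod p) :=
      (e.symm.toAddMonoidHom.comp ((MonoidHom.toAdditive α.toMonoidHom).comp e.toAddMonoidHom)).toZModLinearMap p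
    have hL : ∀ u, L u = e.symm (Additive.ofMul (α (Additive.toMul (e u)))) := fun u => rfl
    have hL0 : L ![1, 0] = ![1, 0] := by
      rw [hL, he0, toMul_ofMul, hα, ← he0, e.symm_apply_apply]
    set c := L ![0, 1] with hc
    have hLu : ∀ u, L u = ![u 0 + c 0 * u 1, c 1 * u 1] := by
      intro u
      have : u = u 0 • ![1, 0] + u 1 • ![0, 1] := by ext i; fin_cases i <;> simp
      conv_lhs => rw [this]
      rw [map_add, map_smul, map_smul, hL0, ← hc]
      ext i; fin_cases i <;> simp [mul_comm]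
    have hiter : ∀ n : ℕ, ∀ u, (e.symm (Additive.ofMul ((α ^ n) (Additive.toMul (e u))))) 1 =
        c 1 ^ n * u 1 := by
      intro n
      induction n with
      | zero => intro u; simp
      | succ n ih =>
        intro u
        rw [pow_succ, MulAut.mul_apply,
          show α (Additive.toMul (e u)) = Additive.toMul (e (L u)) by rw [hL, e.apply_symm_apply]; rfl,
          ih, hLu]
        simp [pow_succ, mul_assoc]
    obtain ⟨k, hk⟩ := hk
    have hc1 : c 1 = 1 := by
      have := hiter (p ^ k) ![0, 1]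
      rw [hk, MulAut.one_apply, ofMul_toMul, e.symm_apply_apply, ZMod.pow_card_pow] at this
      simpa using this.symm
    exact ⟨c 0, fun u => by rw [← hL, hLu, hc1, one_mul]⟩
  obtain ⟨v, hv, hvR⟩ := hfix R₁
  obtain ⟨w, hw, hwR⟩ := hfix R₂
  have hpow : ∀ (R : Sylow p ↥A), ∀ r ∈ (R : Subgroup ↥A), ∃ k : ℕ, (r : MulAut ↥H) ^ p ^ k = 1 := by
    intro R r hr
    obtain ⟨k, hk⟩ := R.2 ⟨r, hr⟩
    exact ⟨k, congrArg (fun x : ↥(R : Subgroup ↥A) => ((x : ↥A) : MulAut ↥H)) hk⟩
  -- the fixed lines are distinct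
  have hwv : w ∉ Subgroup.zpowers v := by
    intro hmem
    have hcard' : Nat.card ↥(Subgroup.zpowers v) = p := by
      rw [Nat.card_zpowers, orderOf_eq_prime (hexp v) hv]
    obtain ⟨w', hw'⟩ : ∃ w', w' ∉ Subgroup.zpowers v := by
      by_contra h
      push Not at h
      have : Subgroup.zpowers v = ⊤ := (Subgroup.eq_top_iff' _).2 h
      rw [this, Subgroup.card_top, hcard] at hcard'
      exact absurd hcard' (by
        intro h; nlinarith [hp.two_le])
    obtain ⟨e, he0, he1⟩ := hbasis v w' hv hw'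
    obtain ⟨j, rfl⟩ := hmem
    have hvR2 : ∀ r ∈ (R₂ : Subgroup ↥A), (r : MulAut ↥H) v = v := by
      intro r hr
      have hj : ¬ ((p : ℤ) ∣ j) := fun hd => hw (orderOf_dvd_iff_zpow_eq_one.1 (by
        rwa [orderOf_eq_prime (hexp v) hv]))
      obtain ⟨i, i', hi⟩ : IsCoprime j (p : ℤ) :=
        ((Nat.prime_iff_prime_int.1 hp).coprime_iff_not_dvd.2 hj).symm
      have hvz : v = (v ^ j) ^ i := by
        rw [← zpow_mul, mul_comm, show i * j = 1 - i' * (p : ℤ) by linarith, zpow_sub, zpow_one,
          mul_comm i', zpow_mul, zpow_natCast, hexp, one_zpow, inv_one, mul_one]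
      conv_lhs => rw [hvz]
      rw [map_zpow, hwR r hr, ← hvz]
    let U : Subgroup ↥A :=
      { carrier := {r | ∃ a : ZMod p, ∀ u : Fin 2 → ZMod p,
          e.symm (Additive.ofMul ((r : MulAut ↥H) (Additive.toMul (e u)))) = ![u 0 + a * u 1, u 1]}
        one_mem' := ⟨0, fun u => by
          simp only [OneMemClass.coe_one, MulAut.one_apply, ofMul_toMul, e.symm_apply_apply, zero_mul,
            add_zero]
          ext i; fin_cases i <;> rfl⟩
        mul_mem' := by
          rintro r s ⟨a, ha⟩ ⟨b, hb⟩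
          refine ⟨b + a, fun u => ?_⟩
          have h1 : (s : MulAut ↥H) (Additive.toMul (e u)) =
              Additive.toMul (e ![u 0 + b * u 1, u 1]) := by
            rw [← hb, e.apply_symm_apply]; rfl
          rw [Subgroup.coe_mul, MulAut.mul_apply, h1, ha]
          ext i; fin_cases i <;> simp [add_mul, add_assoc]
        inv_mem' := by
          rintro r ⟨a, ha⟩
          refine ⟨-a, fun u => ?_⟩
          have h1 : (r : MulAut ↥H) (Additive.toMul (e ![u 0 + -a * u 1, u 1])) =
              Additive.toMul (e u) := by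
            have h := ha ![u 0 + -a * u 1, u 1]
            have h' : (![(![u 0 + -a * u 1, u 1] : Fin 2 → ZMod p) 0 +
                a * (![u 0 + -a * u 1, u 1] : Fin 2 → ZMod p) 1,
                (![u 0 + -a * u 1, u 1] : Fin 2 → ZMod p) 1] : Fin 2 → ZMod p) = u := by
              ext i; fin_cases i <;> simp
            rw [h'] at h
            conv_rhs => rw [← h, e.apply_symm_apply]
            rfl
          rw [← h1, Subgroup.coe_inv, MulAut.inv_apply_self, ofMul_toMul, e.symm_apply_apply] }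
    have hUp : IsPGroup p ↥U := by
      intro r
      refine ⟨1, ?_⟩
      obtain ⟨a, ha⟩ := r.2
      have hit : ∀ n : ℕ, ∀ u, e.symm (Additive.ofMul ((((r : ↥A) : MulAut ↥H) ^ n)
          (Additive.toMul (e u)))) = ![u 0 + (n : ZMod p) * (a * u 1), u 1] := by
        intro n
        induction n with
        | zero => intro u; simp; ext i; fin_cases i <;> rfl
        | succ n ih =>
          intro u
          rw [pow_succ, MulAut.mul_apply,
            show ((r : ↥A) : MulAut ↥H) (Additive.toMul (e u)) =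
              Additive.toMul (e ![u 0 + a * u 1, u 1]) by rw [← ha, e.apply_symm_apply]; rfl, ih]
          ext i; fin_cases i <;> simp
          ring
      apply Subtype.ext
      apply Subtype.ext
      refine MulEquiv.ext fun y => ?_
      have h := hit (p ^ 1) (e.symm (Additive.ofMul y))
      rw [e.apply_symm_apply, toMul_ofMul, pow_one] at h
      rw [pow_one]
      apply Additive.ofMul.injective
      apply e.symm.injective
      show e.symm (Additive.ofMul ((((r : ↥A) : MulAut ↥H) ^ p) y)) = _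
      rw [h, CharP.cast_eq_zero, zero_mul, add_zero]
      ext i; fin_cases i <;> rfl
    have hR1 : (R₁ : Subgroup ↥A) ≤ U := fun r hr =>
      htrans v w' e he0 he1 _ (hpow R₁ r hr) (hvR r hr)
    have hR2 : (R₂ : Subgroup ↥A) ≤ U := fun r hr =>
      htrans v w' e he0 he1 _ (hpow R₂ r hr) (hvR2 r hr)
    exact hR (Sylow.ext ((R₁.3 hUp hR1).symm.trans (R₂.3 hUp hR2)))
  obtain ⟨e, he0, he1⟩ := hbasis v w hv hwv
  let em : Multiplicative (Fin 2 → ZMod p) ≃* ↥H := AddEquiv.toMultiplicativeLeft e
  let act : Matrix.SpecialLinearGroup (Fin 2) (ZMod p) →* MulAut ↥H :=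
    (MulAut.congr em).toMonoidHom.comp
      { toFun := fun M => AddEquiv.toMultiplicative
          (Matrix.SpecialLinearGroup.toLin' M).toAddEquiv
        map_one' := by
          refine MulEquiv.ext fun u => ?_
          simp [AddEquiv.toMultiplicative]
        map_mul' := fun M N => by
          refine MulEquiv.ext fun u => ?_
          simp [AddEquiv.toMultiplicative, map_mul] }
  have hact : ∀ M u, e.symm (Additive.ofMul (act M (Additive.toMul (e u)))) =
      (M : Matrix (Fin 2) (Fin 2) (ZMod p)).mulVec u := by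
    intro M u
    simp [act, em, MulAut.congr, AddEquiv.toMultiplicative, AddEquiv.toMultiplicativeLeft]
    rw [Matrix.SpecialLinearGroup.toLin'_apply]
    ext i; fin_cases i <;> simp [Matrix.mulVec, dotProduct, Fin.sum_univ_two]
  have hinj : Function.Injective act := by
    intro M N h
    apply Subtype.ext
    apply Matrix.toLin'.injective
    refine LinearMap.ext fun u => ?_
    rw [Matrix.toLin'_apply, Matrix.toLin'_apply, ← hact M u, ← hact N u, h]
  have hext : ∀ α β : MulAut ↥H, (∀ u, e.symm (Additive.ofMul (α (Additive.toMul (e u)))) =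
      e.symm (Additive.ofMul (β (Additive.toMul (e u))))) → α = β := by
    intro α β h
    refine MulEquiv.ext fun y => ?_
    have := h (e.symm (Additive.ofMul y))
    rw [e.apply_symm_apply, toMul_ofMul] at this
    exact Additive.ofMul.injective (e.symm.injective this)
  obtain ⟨⟨r, hr⟩, hr1'⟩ := (Subgroup.ne_bot_iff_exists_ne_one).1
    (Cfsg.Lib.Fusion.sylow_ne_bot_of_ne hR)
  have hr1 : r ≠ 1 := fun h => hr1' (Subtype.ext h)
  obtain ⟨⟨s, hs⟩, hs1'⟩ := (Subgroup.ne_bot_iff_exists_ne_one).1
    (Cfsg.Lib.Fusion.sylow_ne_bot_of_ne hR.symm)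
  have hs1 : s ≠ 1 := fun h => hs1' (Subtype.ext h)
  obtain ⟨a, ha⟩ := htrans v w e he0 he1 _ (hpow R₁ r hr) (hvR r hr)
  let sw : (Fin 2 → ZMod p) ≃+ (Fin 2 → ZMod p) :=
    { toFun := fun u => ![u 1, u 0]
      invFun := fun u => ![u 1, u 0]
      left_inv := fun u => by ext i; fin_cases i <;> rfl
      right_inv := fun u => by ext i; fin_cases i <;> rfl
      map_add' := fun a b => by ext i; fin_cases i <;> rfl }
  obtain ⟨b, hb⟩ := htrans w v (sw.trans e)
    (by rw [AddEquiv.trans_apply, ← he1]; congr 1)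
    (by rw [AddEquiv.trans_apply, ← he0]; congr 1) _ (hpow R₂ s hs) (hwR s hs)
  have hb' : ∀ u, e.symm (Additive.ofMul ((s : MulAut ↥H) (Additive.toMul (e u)))) =
      ![u 0, b * u 0 + u 1] := by
    intro u
    have h := hb (sw.symm u)
    rw [AddEquiv.trans_apply, sw.apply_symm_apply] at h
    have h' := congrArg sw h
    rw [AddEquiv.symm_trans_apply, sw.apply_symm_apply] at h'
    rw [h']
    ext i; fin_cases i <;> simp [sw, add_comm]
  let Ua : ZMod p → Matrix.SpecialLinearGroup (Fin 2) (ZMod p) := fun t =>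
    ⟨!![1, t; 0, 1], by simp [Matrix.det_fin_two]⟩
  let La : ZMod p → Matrix.SpecialLinearGroup (Fin 2) (ZMod p) := fun t =>
    ⟨!![1, 0; t, 1], by simp [Matrix.det_fin_two]⟩
  have hUa : act (Ua a) = (r : MulAut ↥H) := by
    refine hext _ _ fun u => ?_
    rw [hact, ha]
    ext i; fin_cases i <;> simp [Ua, Matrix.mulVec, dotProduct, Fin.sum_univ_two]
  have hLb : act (La b) = (s : MulAut ↥H) := by
    refine hext _ _ fun u => ?_
    rw [hact, hb']
    ext i; fin_cases i <;> simp [La, Matrix.mulVec, dotProduct, Fin.sum_univ_two]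
  have ha0 : a ≠ 0 := fun h => hr1 (Subtype.ext (by
    rw [← hUa, h]
    show act (Ua 0) = 1
    rw [show Ua 0 = 1 from Subtype.ext (by simp [Ua, Matrix.one_fin_two]), map_one]))
  have hb0 : b ≠ 0 := fun h => hs1 (Subtype.ext (by
    rw [← hLb, h]
    show act (La 0) = 1
    rw [show La 0 = 1 from Subtype.ext (by simp [La, Matrix.one_fin_two]), map_one]))
  have hpowU : ∀ n : ℕ, Ua a ^ n = Ua (n * a) := by
    intro n
    induction n with
    | zero =>
      rw [pow_zero, Nat.cast_zero, zero_mul]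
      exact Subtype.ext (by simp [Ua, Matrix.one_fin_two])
    | succ n ih =>
      rw [pow_succ, ih]
      exact Subtype.ext (show (!![1, (n : ZMod p) * a; 0, 1] : Matrix (Fin 2) (Fin 2) (ZMod p)) *
        !![1, a; 0, 1] = !![1, ((n + 1 : ℕ) : ZMod p) * a; 0, 1] by
          simp [Matrix.mul_fin_two, add_mul, add_comm])
  have hpowL : ∀ n : ℕ, La b ^ n = La (n * b) := by
    intro n
    induction n with
    | zero =>
      rw [pow_zero, Nat.cast_zero, zero_mul]
      exact Subtype.ext (by simp [La, Matrix.one_fin_two])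
    | succ n ih =>
      rw [pow_succ, ih]
      exact Subtype.ext (show (!![1, 0; (n : ZMod p) * b, 1] : Matrix (Fin 2) (Fin 2) (ZMod p)) *
        !![1, 0; b, 1] = !![1, 0; ((n + 1 : ℕ) : ZMod p) * b, 1] by
          simp [Matrix.mul_fin_two, add_mul])
  have htop : A.comap act = ⊤ := by
    refine Cfsg.Lib.SLTwoSub.closure_transvections _ (fun g hg => ?_) (fun g hg => ?_)
    · obtain ⟨n, hn⟩ := ZMod.natCast_zmod_surjective a⁻¹
      have : g = Ua a ^ n := by
        rw [hpowU, hn, inv_mul_cancel₀ ha0]; exact Subtype.ext hg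
      rw [this]
      refine Subgroup.pow_mem _ ?_ n
      show act (Ua a) ∈ A
      rw [hUa]; exact r.2
    · obtain ⟨n, hn⟩ := ZMod.natCast_zmod_surjective b⁻¹
      have : g = La b ^ n := by
        rw [hpowL, hn, inv_mul_cancel₀ hb0]; exact Subtype.ext hg
      rw [this]
      refine Subgroup.pow_mem _ ?_ n
      show act (La b) ∈ A
      rw [hLb]; exact s.2
  have hle : act.range ≤ A := by
    rintro _ ⟨g, rfl⟩
    exact (htop ▸ Subgroup.mem_top g : g ∈ A.comap act)
  exact ⟨act.range.subgroupOf A,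
    ⟨(Subgroup.subgroupOfEquivOfLe hle).trans (MonoidHom.ofInjective hinj).symm⟩⟩

end Cfsg.Agent.S5185
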