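import Cfsg.Statements.S5186
import Cfsg.Agent.Fusion.EssentialShape
import Cfsg.Agent.Fusion.ExceptionShape
import Cfsg.Agent.TwoFusion.DihedralSubgroups
import Cfsg.Agent.Fusion.ReplacementExtra
import Cfsg.Agent.PGroups.MetacyclicTwo


set_option autoImplicit false
universe u
open Cfsg
open scoped commutatorElement

namespace Cfsg.Agent.S5186

/-- Let F be a saturated fusion system over a finite p-group S and H an essential subgroup of order p³. Then H is elementary abelian, or p is odd and H is extraspecial of exponent p, or p = 2 and H is the quaternion group of order 8. -/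
theorem result {Ω : Type u} [Group Ω] {S : Subgroup Ω} [Finite S] (p : ℕ) [Fact p.Prime] (hS : IsPGroup p S)
    (F : Cfsg.FusionSystem S) (hF : F.IsSaturated p) (H : Subgroup Ω) (hH : F.IsEssential p H) (hcard : Nat.card H = p ^ 3) :
    Cfsg.IsElementaryAbelian p H ∨ (Odd p ∧ Cfsg.IsExtraspecial p ↥H ∧ ∀ x ∈ H, x ^ p = 1) ∨
      (p = 2 ∧ Nonempty (↥H ≃* QuaternionGroup 2)) := by
  classical
  have hfin : Finite ↥H := Cfsg.Lib.Fusion.finite_of_le hH.1.1
  haveI : Finite (MulAut ↥H) :=
    Finite.of_injective (fun f : MulAut ↥H => (f : ↥H → ↥H)) DFunLike.coe_injective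
  obtain ⟨R₁, R₂, hR⟩ := Cfsg.Lib.Fusion.exists_two_sylow_of_essential hS hH
  have hp : p.Prime := Fact.out
  have hHp : IsPGroup p ↥H := IsPGroup.of_card hcard
  have hnocyc : ¬ IsCyclic ↥H := fun h => by
    haveI := h
    exact hR (@Subsingleton.elim _ (Cfsg.Lib.Fusion.subsingleton_sylow_aut_of_cyclic (p := p) _) R₁ R₂)
  have hexp2 : ∀ x : ↥H, x ^ p ^ 2 = 1 := by
    intro x
    obtain ⟨j, hj, e⟩ := (Nat.dvd_prime_pow hp).1 (hcard ▸ orderOf_dvd_natCard x)
    refine orderOf_dvd_iff_pow_eq_one.1 (e ▸ pow_dvd_pow p ?_)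
    by_contra hne
    exact hnocyc (isCyclic_of_orderOf_eq_card x (by rw [e, hcard]; congr 1; omega))
  -- the automizer cannot fix a subgroup of index `p`
  have hno : ∀ M : Subgroup ↥H, M.index = p → (∀ a : MulAut ↥H, ∀ q ∈ M, a q ∈ M) →
      (frattini ↥H).index ∣ p ^ 2 → False := fun M hM hinv hr =>
    hR (@Subsingleton.elim _
      (Cfsg.Lib.Fusion.subsingleton_sylow_aut_of_char hHp hr M hM _ fun a _ => hinv a) R₁ R₂)
  -- a power map with nontrivial image yields such a subgroup
  have hpower : ∀ f : ↥H →* ↥H, (∀ x, f x = x ^ p) → (∃ x, f x ≠ 1) → False := by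
    intro f hf ⟨x₀, hx₀⟩
    have hrk : f.range ≤ f.ker := by
      rintro _ ⟨x, rfl⟩
      rw [MonoidHom.mem_ker, hf, hf, ← pow_mul, ← pow_two, hexp2]
    have hcm : Nat.card f.range * Nat.card f.ker = p ^ 3 := by
      rw [← Subgroup.index_ker, ← hcard, mul_comm, Subgroup.card_mul_index]
    obtain ⟨j, -, hj⟩ := (Nat.dvd_prime_pow hp).1 (hcard ▸ Subgroup.card_subgroup_dvd_card f.range)
    obtain ⟨l, -, hl⟩ := (Nat.dvd_prime_pow hp).1 (hcard ▸ Subgroup.card_subgroup_dvd_card f.ker)
    have hjl : j ≤ l := (Nat.pow_le_pow_iff_right hp.one_lt).1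
      (hj ▸ hl ▸ Subgroup.card_le_of_le hrk)
    rw [hj, hl, ← pow_add] at hcm
    have h3 := Nat.pow_right_injective hp.two_le hcm
    have hj1 : j ≠ 0 := by
      intro h0
      rw [h0, pow_zero, Subgroup.card_eq_one] at hj
      exact hx₀ (Subgroup.mem_bot.1 (hj ▸ ⟨x₀, rfl⟩))
    refine hno f.ker (by rw [Subgroup.index_ker, hj, show j = 1 by omega, pow_one])
      (fun a q hq => by rw [MonoidHom.mem_ker, hf] at hq ⊢; rw [← map_pow, hq, map_one]) ?_
    have hne : frattini ↥H ≠ ⊥ := by
      intro e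
      refine hx₀ (by rw [hf, ← Subgroup.mem_bot, ← e]; exact Cfsg.Lib.PGroups.pow_mem_frattini hHp x₀)
    obtain ⟨i, -, hi⟩ := (Nat.dvd_prime_pow hp).1 (hcard ▸ (frattini ↥H).index_dvd_card)
    rw [hi]
    refine pow_dvd_pow p ?_
    by_contra h
    have h' := (frattini ↥H).card_mul_index
    rw [hi, hcard] at h'
    have hle : 1 ≤ Nat.card (frattini ↥H) := Nat.card_pos
    have hge : p ^ 3 ≤ p ^ i := Nat.pow_le_pow_right hp.pos (by omega)
    exact hne (Subgroup.card_eq_one.1 (by nlinarith [pow_pos hp.pos i]))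
  by_cases hab : ∀ a b : ↥H, a * b = b * a
  · left
    refine ⟨⟨⟨hab⟩⟩, fun a ha => ?_⟩
    by_contra hne
    refine hpower { toFun := fun x => x ^ p
                    map_one' := one_pow p
                    map_mul' := fun x y => (show Commute x y from hab x y).mul_pow p }
      (fun x => rfl) ⟨⟨a, ha⟩, fun e => hne (congrArg Subtype.val e)⟩
  push Not at hab
  obtain ⟨a, b, hab⟩ := hab
  have hex := Cfsg.Lib.Fusion.isExtraspecial_of_cube hcard hab
  right
  rcases eq_or_ne p 2 with rfl | hp2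
  · right
    refine ⟨rfl, ?_⟩
    haveI : Group.IsNilpotent ↥H := hHp.isNilpotent
    have hcl : 2 ≤ Group.nilpotencyClass ↥H := by
      by_contra hne
      have h' := (Subgroup.lowerCentralSeries_eq_bot_iff_nilpotencyClass_le (G := ↥H) (n := 1)).2
        (by omega)
      rw [Subgroup.top_lowerCentralSeries_one] at h'
      have h2 : ⁅a, b⁆ ∈ _root_.commutator ↥H :=
        Subgroup.commutator_mem_commutator (Subgroup.mem_top a) (Subgroup.mem_top b)
      rw [h', Subgroup.mem_bot] at h2
      exact hab (commutatorElement_eq_one_iff_mul_comm.1 h2)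
    have hcl' : Group.nilpotencyClass ↥H = 2 :=
      le_antisymm (Cfsg.Lib.MaxClass.class_le 3 ↥H hcard (by omega)) hcl
    rcases Cfsg.Lib.MetaTwo.shape_of_maxClass hcard le_rfl hcl' with ⟨m, hm, ⟨e⟩⟩ | hq | ⟨m, hm, ⟨e⟩⟩
    · exfalso
      have hm4 : m = 4 := by
        have h := Nat.card_congr e.toEquiv
        rw [hcard, DihedralGroup.nat_card] at h
        norm_num at h
        omega
      subst hm4
      have h2g : IsPGroup 2 (MulAut ↥H) := by
        rcases Cfsg.Lib.TwoFusion.isPGroup_mulAut_or_isKleinFour_dihedral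
          (⊤ : Subgroup (DihedralGroup 4)) ((hHp.of_equiv e).to_subgroup ⊤) with h | h
        · exact Cfsg.Lib.MetaTwo.isPGroup_mulAut_congr (Subgroup.topEquiv.trans e.symm) h
        · have := h.card_four
          rw [Subgroup.card_top, DihedralGroup.nat_card] at this
          omega
      exact hR (@Subsingleton.elim _ (Cfsg.Lib.Fusion.subsingleton_sylow_of_le ⊤
        ((h2g.to_subgroup _).to_subgroup ⊤) fun x _ => Subgroup.mem_top x) R₁ R₂)
    · exfalso
      obtain ⟨n, hn, hc, -⟩ := hq
      rw [hcard] at hc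
      have := Nat.pow_right_injective le_rfl hc
      omega
    · have hm2 : m = 2 := by
        haveI : NeZero m := ⟨by omega⟩
        have h := Nat.card_congr e.toEquiv
        rw [hcard, Nat.card_eq_fintype_card, QuaternionGroup.card] at h
        omega
      subst hm2
      exact ⟨e⟩
  · left
    have hodd : Odd p := hp.odd_of_ne_two hp2
    refine ⟨hodd, hex, fun x hx => ?_⟩
    by_contra hne
    have hcen : ∀ u v : ↥H, Commute ⁅u, v⁆ u ∧ Commute ⁅u, v⁆ v ∧ ⁅u, v⁆ ^ p = 1 := by
      intro u v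
      have hm : ⁅u, v⁆ ∈ Subgroup.center ↥H :=
        hex.1.2.2 ▸ Subgroup.commutator_mem_commutator (Subgroup.mem_top u) (Subgroup.mem_top v)
      refine ⟨(Subgroup.mem_center_iff.1 hm u).symm, (Subgroup.mem_center_iff.1 hm v).symm, ?_⟩
      have h := pow_card_eq_one' (x := (⟨_, hm⟩ : Subgroup.center ↥H))
      rw [hex.2] at h
      exact congrArg Subtype.val h
    refine hpower { toFun := fun x => x ^ p
                    map_one' := one_pow p
                    map_mul' := fun v u => ?_ }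
      (fun x => rfl) ⟨⟨x, hx⟩, fun e => hne (congrArg Subtype.val e)⟩
    obtain ⟨h1, h2, h3⟩ := hcen u v
    show (v * u) ^ p = v ^ p * u ^ p
    rw [Cfsg.Lib.Fusion.pow_mul_of_central_comm (x := u) (y := v) (c := ⁅u, v⁆)
      (by simp [commutatorElement_def, mul_assoc]) h1 h2]
    obtain ⟨t, ht⟩ := hodd
    have hch : p.choose 2 = p * t := by
      rw [Nat.choose_two_right, ht, show 2 * t + 1 - 1 = 2 * t by omega,
        show (2 * t + 1) * (2 * t) = 2 * ((2 * t + 1) * t) by ring,
        Nat.mul_div_cancel_left _ (by norm_num)]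
    rw [hch, pow_mul, h3, one_pow, one_mul]

end Cfsg.Agent.S5186
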