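import Cfsg.Statements.S5188
import Cfsg.Agent.Fusion.Quartic.RankTwoCase
import Cfsg.Agent.S5187

set_option autoImplicit false
universe u
open Cfsg

namespace Cfsg.Agent.S5188

/-- Let F be a saturated fusion system over a finite p-group S and H an essential subgroup of order p⁴. Then H is isomorphic to one of: C_p⁴ or C_{p²} × C_p × C_p (any p); C_{p²} × C_{p²} with p ∈ {2, 3}; p^{1+2}_+ × C_p with p odd (the direct product of an extraspecial group of order p³ and exponent p with a group of order p); Q₈ × C₂ (p = 2); or the non-abelian group of order p⁴ of exponent p² whose centre is cyclic of order p² (the central product of an extraspecial group of order p³ with a cyclic group of order p²; for p = 2 this is D₈ ∘ C₄). -/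
theorem result {Ω : Type u} [Group Ω] {S : Subgroup Ω} [Finite S] (p : ℕ) [Fact p.Prime] (hS : IsPGroup p S)
    (F : Cfsg.FusionSystem S) (hF : F.IsSaturated p) (H : Subgroup Ω) (hH : F.IsEssential p H) (hcard : Nat.card H = p ^ 4) :
    Cfsg.IsElementaryAbelian p H ∨
      Nonempty (↥H ≃* Multiplicative (ZMod (p ^ 2) × ZMod p × ZMod p)) ∨
      ((p = 2 ∨ p = 3) ∧ Nonempty (↥H ≃* Multiplicative (ZMod (p ^ 2) × ZMod (p ^ 2)))) ∨
      (Odd p ∧ ∃ (E : Type) (_ : Group E) (_ : Finite E), Cfsg.IsExtraspecial p E ∧ Nat.card E = p ^ 3 ∧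
        (∀ x : E, x ^ p = 1) ∧ Nonempty (↥H ≃* E × Multiplicative (ZMod p))) ∨
      (p = 2 ∧ Nonempty (↥H ≃* QuaternionGroup 2 × Multiplicative (ZMod 2))) ∨
      (¬ IsMulCommutative ↥H ∧ (∀ x ∈ H, x ^ (p ^ 2) = 1) ∧ IsCyclic ↥(Subgroup.center ↥H) ∧
        Nat.card (Subgroup.center ↥H) = p ^ 2) := by
  classical
  haveI : Finite ↥H := Cfsg.Lib.Fusion.finite_of_le hH.1.1
  haveI : Finite (MulAut ↥H) :=
    Finite.of_injective (fun f : MulAut ↥H => (f : ↥H → ↥H)) DFunLike.coe_injective
  have hpp : p.Prime := Fact.out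
  obtain ⟨R₁, R₂, hR⟩ := Cfsg.Lib.Fusion.exists_two_sylow_of_essential hS hH
  have hP : IsPGroup p ↥H := IsPGroup.of_card hcard
  obtain ⟨r, hr4, hr⟩ := (Nat.dvd_prime_pow hpp).mp (hcard ▸ (frattini ↥H).index_dvd_card)
  rcases (show r ≤ 1 ∨ r = 2 ∨ r = 3 ∨ r = 4 by omega) with h | h | h | h
  · exfalso
    haveI : IsCyclic (↥H ⧸ frattini ↥H) := by
      rcases (show r = 0 ∨ r = 1 by omega) with h | h
      · haveI : Subsingleton (↥H ⧸ frattini ↥H) := (Nat.card_eq_one_iff_unique.1 (by
          rw [← Subgroup.index_eq_card, hr, h, pow_zero])).1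
        exact isCyclic_of_subsingleton
      · exact isCyclic_of_prime_card (p := p) (by rw [← Subgroup.index_eq_card, hr, h, pow_one])
    haveI := Cfsg.Lib.PGroups.isCyclic_of_isCyclic_quotient_frattini (P := ↥H)
    exact hR (@Subsingleton.elim _ (Cfsg.Lib.Fusion.subsingleton_sylow_aut_of_cyclic (p := p) _) R₁ R₂)
  · subst h
    by_cases hab : IsMulCommutative ↥H
    · rcases Cfsg.Agent.S5187.result p hS F hF H hH hab hr.le with ⟨-, h2⟩ | ⟨h3, k, ⟨e⟩⟩
      · rw [hcard] at h2
        exact absurd (Nat.pow_right_injective hpp.two_le h2) (by norm_num)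
      · refine Or.inr (Or.inr (Or.inl ⟨?_, ?_⟩))
        · rcases (show p = 2 ∨ p = 3 by have := hpp.two_le; omega) with h | h <;> simp [h]
        · have hk : k = 2 := by
            have h := Nat.card_congr e.toEquiv
            rw [hcard, Nat.card_congr Multiplicative.toAdd, Nat.card_prod, Nat.card_zmod, ← pow_add] at h
            have := Nat.pow_right_injective hpp.two_le h
            omega
          subst hk
          exact ⟨e⟩
    · exfalso
      have hnab : ∃ a b : ↥H, a * b ≠ b * a := by
        by_contra hno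
        push Not at hno
        exact hab ⟨⟨hno⟩⟩
      obtain ⟨M, hM, hinv⟩ := Cfsg.Lib.Fusion.Quartic.exists_char_index hcard hr hnab
      exact hR (@Subsingleton.elim _ (Cfsg.Lib.Fusion.subsingleton_sylow_aut_of_char hP
        (hr ▸ dvd_rfl) M hM _ fun a _ => hinv a) R₁ R₂)
  · subst h
    by_cases hab : ∀ a b : ↥H, a * b = b * a
    · exact Or.inr (Or.inl (Cfsg.Lib.Fusion.Quartic.shape_abelian hcard hr hab))
    · push Not at hab
      rcases Cfsg.Lib.Fusion.Quartic.shape_nonabelian hcard hr hab _ hR with h | h | ⟨h1, h2, h3⟩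
      · exact Or.inr (Or.inr (Or.inr (Or.inl h)))
      · exact Or.inr (Or.inr (Or.inr (Or.inr (Or.inl h))))
      · refine Or.inr (Or.inr (Or.inr (Or.inr (Or.inr ⟨?_, fun x hx => ?_, h2, h3⟩))))
        · intro hc
          obtain ⟨a, b, hab⟩ := hab
          exact hab (hc.is_comm.comm a b)
        · exact congrArg Subtype.val (h1 ⟨x, hx⟩)
  · subst h
    have hbot : frattini ↥H = ⊥ := by
      refine Subgroup.card_eq_one.mp ?_
      have h := (frattini ↥H).card_mul_index
      rw [hr, hcard] at h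
      exact Nat.eq_of_mul_eq_mul_right (pow_pos hpp.pos 4) (h.trans (one_mul _).symm)
    refine Or.inl ⟨⟨⟨fun a b => ?_⟩⟩, fun a ha => ?_⟩
    · have h := Cfsg.Lib.PGroups.commutator_le_frattini hP
        (Subgroup.commutator_mem_commutator (Subgroup.mem_top a) (Subgroup.mem_top b))
      rw [hbot, Subgroup.mem_bot] at h
      exact commutatorElement_eq_one_iff_mul_comm.mp h
    · have h := Cfsg.Lib.PGroups.pow_mem_frattini hP ⟨a, ha⟩
      rw [hbot, Subgroup.mem_bot] at h
      exact congrArg Subtype.val h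

end Cfsg.Agent.S5188
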