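import Cfsg.Statements.S5191


set_option autoImplicit false
open Cfsg

namespace Cfsg.Agent.S5191

/-- Fusion in a finite group G and in its quotient by O_{p'}(G) agree. Let S be a Sylow p-subgroup of G, N = O_{p'}(G) and P ≤ S. If an element of G/N conjugates the image of P into the image of S, then some element g of G conjugates P into S and induces the same map on P modulo N. (Together with the injectivity of S → G/N this says that g ↦ gN induces an isomorphism of the fusion system of G on S with that of G/N on SN/N.) -/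
theorem result {G : Type*} [Group G] [Finite G] {p : ℕ} [Fact p.Prime]
    [hN : (Cfsg.pPrimeCore p G).Normal] (S : Sylow p G) (P : Subgroup G) (hP : P ≤ (S : Subgroup G))
    (γ : G ⧸ Cfsg.pPrimeCore p G)
    (hγ : ∀ x ∈ P, γ * QuotientGroup.mk x * γ⁻¹ ∈ ((S : Subgroup G).map (QuotientGroup.mk' (Cfsg.pPrimeCore p G)))) :
    ∃ g : G, ∀ x ∈ P, g * x * g⁻¹ ∈ S ∧
      (QuotientGroup.mk (g * x * g⁻¹) : G ⧸ Cfsg.pPrimeCore p G) = γ * QuotientGroup.mk x * γ⁻¹ := by
  obtain ⟨g0, rfl⟩ := QuotientGroup.mk_surjective γ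
  set N := Cfsg.pPrimeCore p G with hNdef
  set H : Subgroup G := (S : Subgroup G) ⊔ N with hH
  have hSH : (S : Subgroup G) ≤ H := le_sup_left
  set P' : Subgroup G := P.map (MulAut.conj g0).toMonoidHom with hP'
  have hP'H : P' ≤ H := by
    rintro y ⟨x, hx, rfl⟩
    obtain ⟨s, hs, he⟩ := hγ x hx
    rw [QuotientGroup.mk'_apply, ← QuotientGroup.mk_mul, ← QuotientGroup.mk_inv, ← QuotientGroup.mk_mul,
      QuotientGroup.eq] at he
    have := mul_mem (hSH hs) ((le_sup_right : N ≤ H) he)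
    simpa [MulAut.conj_apply] using this
  have hP'p : IsPGroup p P' := (S.isPGroup'.to_le hP).map _
  obtain ⟨T, hT⟩ := (hP'p.comap_of_injective H.subtype H.subtype_injective).exists_le_sylow
  obtain ⟨h, hh⟩ := MulAction.exists_smul_eq H (S.subtype hSH) T
  obtain ⟨n, hn, s, hs, hns⟩ := (Subgroup.mem_sup_of_normal_left (s := N) (t := (S : Subgroup G))).1
    (show (h : G) ∈ N ⊔ (S : Subgroup G) by rw [sup_comm]; exact h.2)
  refine ⟨n⁻¹ * g0, fun x hx => ?_⟩
  have hy : g0 * x * g0⁻¹ ∈ P' := ⟨x, hx, rfl⟩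
  have hyT : (⟨_, hP'H hy⟩ : H) ∈ T := hT hy
  rw [← hh] at hyT
  constructor
  · obtain ⟨z, hz, hze⟩ := hyT
    have hz' : (z : G) ∈ (S : Subgroup G) := hz
    have hze' : (h : G) * z * (h : G)⁻¹ = g0 * x * g0⁻¹ := congrArg Subtype.val hze
    rw [← hns] at hze'
    have : (n⁻¹ * g0) * x * (n⁻¹ * g0)⁻¹ = s * z * s⁻¹ := by
      have e : n⁻¹ * (g0 * x * g0⁻¹) * n = s * (z : G) * s⁻¹ := by
        rw [← hze']
        group
      rw [← e]
      group
    rw [this]
    exact mul_mem (mul_mem hs hz') (inv_mem hs)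
  · have hn1 : (QuotientGroup.mk n : G ⧸ Cfsg.pPrimeCore p G) = 1 := (QuotientGroup.eq_one_iff n).2 hn
    simp [QuotientGroup.mk_mul, QuotientGroup.mk_inv, hn1, mul_assoc]

end Cfsg.Agent.S5191
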