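import Cfsg.Statements.S5196
import Cfsg.Agent.Fusion.CenterControl

set_option autoImplicit false
universe u
open Cfsg

namespace Cfsg.Agent.S5196

/-- Let p be an odd prime and W a positive characteristic p-functor: W assigns to every finite p-group Q (in a fixed universe) a subgroup W(Q), nontrivial when Q is, carried to W(R) by every isomorphism Q ≅ R; assume also Z(Q) ≤ W(Q) for every finite p-group Q. Suppose W satisfies the local condition: for every finite group G with Sylow p-subgroup P, O_p(G) ∩ Z(G) = O_p(G) ∩ Z(N_G(W(P))). Then W controls weak closure of elements in every saturated fusion system F over a finite p-group S: the centre of the normalizer fusion system of W(S) in F equals the centre of F. (For p = 2 no functor satisfies the local condition, so p is taken odd.) -/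
theorem result {p : ℕ} [Fact p.Prime] (hp : p ≠ 2) (W : ∀ (Q : Type u) [Group Q], Subgroup Q) (hW1 : ∀ (Q : Type u) [Group Q] [Finite Q], IsPGroup p Q → Nontrivial Q → W Q ≠ ⊥) (hW2 : ∀ (Q R : Type u) [Group Q] [Group R] [Finite Q], IsPGroup p Q → ∀ φ : Q ≃* R, (W Q).map φ.toMonoidHom = W R) (hWZ : ∀ (Q : Type u) [Group Q] [Finite Q], IsPGroup p Q → Subgroup.center Q ≤ W Q) (hC : ∀ (G : Type u) [Group G] [Finite G] (P : Sylow p G), Cfsg.pCore p G ⊓ Subgroup.center G = Cfsg.pCore p G ⊓ (Subgroup.center ↥(Subgroup.normalizer (((W ↥(P : Subgroup G)).map (P : Subgroup G).subtype : Subgroup G) : Set G))).map (Subgroup.normalizer (((W ↥(P : Subgroup G)).map (P : Subgroup G).subtype : Subgroup G) : Set G)).subtype) {Ω : Type u} [Group Ω] {S : Subgroup Ω} [Finite S] (hS : IsPGroup p S) (F : Cfsg.FusionSystem S) (hF : F.IsSaturated p) (N : Cfsg.FusionSystem (Cfsg.FusionSystem.normalizerIn S ((W ↥S).map S.subtype))) (hN : F.IsNormalizerSystem ((W ↥S).map S.subtype) N) : N.center = F.center := by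
  haveI : Finite (FusionSystem.normalizerIn S ((W ↥S).map S.subtype)) :=
    Cfsg.Lib.Fusion.finite_of_le inf_le_left
  have hloc : Cfsg.Lib.Fusion.LocalControl p W 1 := by
    intro L _ _ U y hyU hyc hcen hW _
    have hUn : (U : Subgroup L) ≤ Subgroup.normalizer
        (((W ↥(U : Subgroup L)).map (U : Subgroup L).subtype : Subgroup L) : Set L) := by
      intro u hu
      refine Cfsg.Lib.Fusion.fnImage_normalized (W := W) (S := (U : Subgroup L)) hW2 U.2 le_rfl hu
        (Subgroup.le_normalizer hu)
    have hyQ : y ∈ Cfsg.pCore p L := hcen (Subgroup.mem_centralizer_iff.mpr fun q hq => hyc q (by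
      obtain ⟨R, hR⟩ := (Cfsg.Lib.Components.isPGroup_pCore (G := L) p).exists_le_sylow
      obtain ⟨a, rfl⟩ := MulAction.exists_smul_eq L R U
      rw [Sylow.coe_subgroup_smul, Subgroup.mem_smul_pointwise_iff_exists]
      exact ⟨a⁻¹ * q * a,
        hR (by simpa using (Cfsg.Lib.Components.pCore_normal' (G := L) p).conj_mem q hq a⁻¹), by
        show a * (a⁻¹ * q * a) * a⁻¹ = q
        group⟩))
    have h := (hC L U).ge ⟨hyQ, ⟨⟨y, hUn hyU⟩, Subgroup.mem_center_iff.mpr fun l =>
      Subtype.ext (by
        have := hW l l.2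
        rw [pow_one, mul_inv_eq_iff_eq_mul] at this
        exact this), rfl⟩⟩
    intro l
    rw [pow_one, Subgroup.mem_center_iff.mp h.2 l, mul_inv_cancel_right]
  refine le_antisymm (fun z hz => ?_) (Cfsg.Lib.Fusion.center_le_center_normalizer hW2 hWZ hS hN)
  have hzS : z ∈ S := (Cfsg.Lib.Fusion.mem_S_of_center hz).1
  have hzc : ∀ s ∈ S, s * z = z * s := fun s hs => Cfsg.Lib.Fusion.comm_of_center hz s
    ⟨hs, Cfsg.Lib.Fusion.fnImage_normalized hW2 hS le_rfl hs (Subgroup.le_normalizer hs)⟩
  have := Cfsg.Lib.Fusion.mem_center_of_control hW2 hWZ hloc hS hF hN hzS hzc (by rwa [pow_one])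
  rwa [pow_one] at this

end Cfsg.Agent.S5196
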