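import Cfsg.Statements.S5200
import Cfsg.Agent.Fusion.SmallCent.Main

set_option autoImplicit false
open Cfsg
open scoped commutatorElement

namespace Cfsg.Agent.S5200

/-- Let F be a saturated fusion system over a finite p-group S and E a normal subsystem of F over T whose centralizer in S lies in T: every subgroup Y of C_S(T) such that E is contained in the centralizer fusion system of Y in F satisfies Y ≤ T. Then T·C_S(T)/T is abelian (the commutator subgroup of T·C_S(T) lies in T), and if p is odd then C_S(T) ≤ T. -/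
theorem result {Ω : Type*} [Group Ω] {S : Subgroup Ω} [Finite S] (p : ℕ) [Fact p.Prime] (hS : IsPGroup p S) (F : Cfsg.FusionSystem S) (hF : F.IsSaturated p) {T : Subgroup Ω} (E : Cfsg.FusionSystem T) (hE : E.IsNormalIn F p) (hCE : ∀ Y : Subgroup Ω, Y ≤ Cfsg.FusionSystem.centralizerIn S T → (∀ C : Cfsg.FusionSystem (Cfsg.FusionSystem.centralizerIn S Y), F.IsCentralizerSystem Y C → E.IsSubsystemOf C) → Y ≤ T) : ⁅T ⊔ Cfsg.FusionSystem.centralizerIn S T, T ⊔ Cfsg.FusionSystem.centralizerIn S T⁆ ≤ T ∧ (p ≠ 2 → Cfsg.FusionSystem.centralizerIn S T ≤ T) := by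
  have hTS : T ≤ S := hE.1.2.2.2.1.1
  have hsc := hE.1.2.2.2.1
  have hY : ∀ Y : Subgroup Ω, Cfsg.Lib.Fusion.NormCent.Adm F E Y → Y ≤ T := fun Y hY => by
    obtain ⟨hYC, hYh⟩ := (Cfsg.Lib.Fusion.NormCent.adm_iff hE.1.2.2.1).mp hY
    exact hCE Y hYC fun C hC P => (hC P).symm ▸ hYh P
  refine ⟨?_, fun hp y hy => ?_⟩
  · have hnT : ∀ s ∈ S, ∀ t ∈ T, s * t * s⁻¹ ∈ T := fun s hs t ht =>
      Cfsg.Lib.Fusion.conj_mem_of_mem_normalizer
        (Cfsg.Lib.Fusion.normalizes_of_stronglyClosed hsc hs) ht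
    have hnT' : ∀ s ∈ S, ∀ t ∈ T, s⁻¹ * t * s ∈ T := fun s hs t ht => by
      simpa using hnT s⁻¹ (S.inv_mem hs) t ht
    rw [Subgroup.commutator_le]
    intro g hg h hh
    obtain ⟨a, ha, c, hc, rfl⟩ := Cfsg.Lib.Fusion.NormCent.mem_sup_centralizerIn.mp hg
    obtain ⟨b, hb, d, hd, rfl⟩ := Cfsg.Lib.Fusion.NormCent.mem_sup_centralizerIn.mp hh
    have hcd : c * d * c⁻¹ * d⁻¹ ∈ T := by
      have hm : Cfsg.Lib.Fusion.IsMap F
          (Cfsg.FusionSystem.centralizerIn S T ⊔ T) (fun x => c * x * c⁻¹) :=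
        Cfsg.Lib.Fusion.isMap_conj (sup_le inf_le_left hTS) hc.1
      have h1 := Cfsg.Lib.Fusion.NormCent.adm_commutator hS hE le_rfl
        (f := fun x => c * x * c⁻¹)
        (fun x hx => Subgroup.mul_mem _ (Subgroup.mul_mem _ hc hx) (Subgroup.inv_mem _ hc))
        ⟨_, hm, fun _ _ => rfl, fun t ht => by
          rw [Cfsg.Lib.Fusion.NormCent.centralizerIn_comm hc ht, mul_inv_cancel_right]⟩ hd
      have h2 := hnT d hd.1 _ (hY _ h1 (Subgroup.mem_zpowers _))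
      rwa [show d * (d⁻¹ * (c * d * c⁻¹)) * d⁻¹ = c * d * c⁻¹ * d⁻¹ by group] at h2
    have hac : c * b * c⁻¹ = b := (Cfsg.Lib.Fusion.mem_centralizerIn.mp hc).2 b hb
    have hbd : d * a⁻¹ * d⁻¹ = a⁻¹ :=
      (Cfsg.Lib.Fusion.mem_centralizerIn.mp hd).2 _ (T.inv_mem ha)
    have he : a * c * (b * d) * (a * c)⁻¹ * (b * d)⁻¹ =
        a * b * (c * d * c⁻¹ * d⁻¹) * a⁻¹ * b⁻¹ := by
      calc a * c * (b * d) * (a * c)⁻¹ * (b * d)⁻¹
          = a * (c * b * c⁻¹) * (c * d * c⁻¹ * d⁻¹) * (d * a⁻¹ * d⁻¹) * b⁻¹ := by group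
        _ = _ := by rw [hac, hbd]
    rw [commutatorElement_def, he]
    exact T.mul_mem (T.mul_mem (T.mul_mem (T.mul_mem ha hb) hcd) (T.inv_mem ha)) (T.inv_mem hb)
  · obtain ⟨z, hz, hadm⟩ := Cfsg.Lib.Fusion.SmallCent.exists_adm hp hS hE hy
    have h1 := hY _ hadm (Subgroup.mem_zpowers (y * z))
    simpa using T.mul_mem h1 (T.inv_mem hz)

end Cfsg.Agent.S5200
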