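import Cfsg.Statements.S5201
import Cfsg.Agent.Fusion.Residual.Hyperfocal
import Cfsg.Agent.S5200

set_option autoImplicit false
open Cfsg

namespace Cfsg.Agent.S5201

/-- A reduction to normal subsystems. Let F be a saturated fusion system over a finite p-group S and E a normal subsystem of F over T whose centralizer in S lies in T (every subgroup Y of C_S(T) with E contained in the centralizer fusion system of Y in F satisfies Y ≤ T), and suppose Aut_F(T)/Aut_E(T) is p-solvable. Then F and E have the same residual limit: if F∞ is the residual limit of F (reached by alternately passing to the p-residual and the p'-residual subsystem until nothing changes) and E∞ that of E, then F∞ and E∞ have the same maps. -/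
theorem result {Ω : Type*} [Group Ω] {S : Subgroup Ω} [Finite S] (p : ℕ) [Fact p.Prime] (hS : IsPGroup p S) (F : Cfsg.FusionSystem S) (hF : F.IsSaturated p) {T : Subgroup Ω} (E : Cfsg.FusionSystem T) (hE : E.IsNormalIn F p) (hCE : ∀ Y : Subgroup Ω, Y ≤ Cfsg.FusionSystem.centralizerIn S T → (∀ C : Cfsg.FusionSystem (Cfsg.FusionSystem.centralizerIn S Y), F.IsCentralizerSystem Y C → E.IsSubsystemOf C) → Y ≤ T) [hn : ((E.autGroup T).subgroupOf (F.autGroup T)).Normal] (hsolv : Cfsg.IsPSolvable p (↥(F.autGroup T) ⧸ (E.autGroup T).subgroupOf (F.autGroup T))) {U V : Subgroup Ω} (Finf : Cfsg.FusionSystem U) (hFinf : Finf.IsResidualLimitOf F p) (Einf : Cfsg.FusionSystem V) (hEinf : Einf.IsResidualLimitOf E p) : ∀ P : Subgroup Ω, Finf.Hom P = Einf.Hom P := by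
  obtain ⟨G, h⟩ := Cfsg.Lib.Fusion.ResLim.exists_link_base (hn := hn) hS hE.1 hsolv
  have hab := (Cfsg.Agent.S5200.result p hS F hF E hE hCE).1
  have hY : ∀ Y : Subgroup Ω, Cfsg.Lib.Fusion.NormCent.Adm F E Y → Y ≤ T := fun Y hY => by
    obtain ⟨hYC, hYh⟩ := (Cfsg.Lib.Fusion.NormCent.adm_iff hE.1.2.2.1).mp hY
    exact hCE Y hYC fun C hC P => (hC P).symm ▸ hYh P
  obtain ⟨hXw, hXst, -⟩ := Cfsg.Lib.Fusion.ResLim.limit_props hS hFinf rfl
    (Cfsg.Lib.Fusion.isWeaklyNormalIn_self hF)
  have hXG := h.lim Finf hXw hXst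
  have hUT : U ≤ T := calc
    U = Finf.hyperfocalSubgroup p := hXst.1.symm
    _ ≤ G.hyperfocalSubgroup p := Cfsg.Lib.Fusion.PPower.hyperfocal_le_of_sub hXG
        (Cfsg.Lib.Fusion.ResLim.le_of_sub hXG)
    _ ≤ T := Cfsg.Lib.Fusion.ResLim.hyperfocal_le hS hE h hab hY
  have hXE := Cfsg.Lib.Fusion.ResLim.le_normal hS hXw hXst hE hUT
  exact fun P => (Cfsg.Lib.Fusion.ResLim.limit_eq hS hFinf hF hE.1 hXE hEinf P).symm

end Cfsg.Agent.S5201
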