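import Cfsg.Statements.S5212
import Cfsg.Agent.Fusion.MetacyclicTwoInner

set_option autoImplicit false
open Cfsg

namespace Cfsg.Agent.S5212

/-- Let S be a finite metacyclic 2-group that is not homocyclic abelian (a direct product of cyclic groups of one common order), not dihedral, not semidihedral and not generalized quaternion. Then every saturated fusion system over S is the inner fusion system of S. -/
theorem result {Ω : Type*} [Group Ω] {S : Subgroup Ω} [Finite S] (hS : IsPGroup 2 S) (F : Cfsg.FusionSystem S) (hF : F.IsSaturated 2) (hm : Cfsg.IsMetacyclic ↥S) (hh : ¬ ∃ n k : ℕ, Nonempty (↥S ≃* Multiplicative (Fin k → ZMod (2 ^ n)))) (hd : ¬ ∃ m : ℕ, Nonempty (↥S ≃* DihedralGroup m)) (hq : ¬ ∃ m : ℕ, Nonempty (↥S ≃* QuaternionGroup m)) (hsd : ¬ Cfsg.IsQuasiDihedral ↥S) : ∀ P : Subgroup Ω, F.Hom P = (Cfsg.innerFusionSystem S).Hom P := by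
  haveI : Fact (Nat.Prime 2) := ⟨Nat.prime_two⟩
  have hns : ¬ ((∃ m : ℕ, 2 ≤ m ∧ Nonempty (↥S ≃* DihedralGroup m)) ∨ Cfsg.IsQuasiDihedral ↥S ∨
      (∃ m : ℕ, 2 ≤ m ∧ Nonempty (↥S ≃* QuaternionGroup m))) := by
    rintro (⟨m, -, h⟩ | h | ⟨m, -, h⟩)
    · exact hd ⟨m, h⟩
    · exact hsd h
    · exact hq ⟨m, h⟩
  have hcl : F.StronglyClosed S :=
    Cfsg.Lib.Fusion.stronglyClosed_of_apply le_rfl fun P f hf x hx _ => hf.mem_S hx
  have hn := (Cfsg.Lib.Fusion.isNormal_or_shape_of_metacyclic hS hF hcl hm).resolve_right hns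
  have ha := Cfsg.Lib.Fusion.isPGroup_mulAut_metacyclic hS hm (fun ⟨k, h⟩ => hh ⟨k, 2, h⟩) hns
  exact Cfsg.Lib.Fusion.isInner_iff.mp
    (Cfsg.Lib.Fusion.isInner_of_isNormal_of_pGroup hS hF hn (ha.to_subgroup _))

end Cfsg.Agent.S5212
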