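import Cfsg.Statements.S5214
import Cfsg.Agent.Fusion.NormalCriteria
import Cfsg.Agent.SuzukiTwo.Setup
import Cfsg.Agent.SuzukiTwo.ClassTwo

set_option autoImplicit false
open Cfsg
open scoped commutatorElement

namespace Cfsg.Agent.S5214

/-- Let S be a Suzuki 2-group (a finite nonabelian 2-group with more than one involution admitting a cyclic group of automorphisms permuting its involutions regularly). Then S is normal in every saturated fusion system over S (such a group is resistant). -/
theorem result {Ω : Type*} [Group Ω] {S : Subgroup Ω} [Finite S] (hS : IsPGroup 2 S) (F : Cfsg.FusionSystem S) (hF : F.IsSaturated 2) (hsz : Cfsg.IsSuzukiTwoGroup ↥S) : F.IsNormal S := by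
  open Cfsg.Lib.Fusion Cfsg.Lib.SuzukiTwo in
  haveI : Fact (Nat.Prime 2) := ⟨Nat.prime_two⟩
  obtain ⟨-, h2, hnab, htwo, K, iK, ρ, h⟩ := exists_involTrans hsz
  have hsq := sq_mem_center h2 h hnab htwo
  have hz := involution_iff hsz
  set Z : Subgroup Ω := (Subgroup.center S).map S.subtype
  have hmem : ∀ x : S, (x : Ω) ∈ Z ↔ x * x = 1 := fun x => by
    rw [hz x]
    exact Subgroup.mem_map_iff_mem S.subtype_injective
  have hZc : F.StronglyClosed Z := stronglyClosed_of_apply (Subgroup.map_subtype_le _) fun P f hf x hx hxZ => by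
    have hxS : x ∈ S := Subgroup.map_subtype_le _ hxZ
    refine (hmem ⟨f x, hf.mem_S hx⟩).mpr (Subtype.ext ?_)
    show f x * f x = 1
    rw [← hf.map_mul hx hx, show x * x = 1 from congrArg Subtype.val ((hmem ⟨x, hxS⟩).mp hxZ), hf.map_one]
  have hSc : F.StronglyClosed S := ⟨le_rfl, fun _ _ φ hφ x => (F.le_of_mem hφ).2 x⟩
  refine isNormal_of_chain hS hF hSc 2 (fun i => if i = 0 then ⊥ else if i = 1 then Z else S) rfl le_rfl
    (fun i hi => ?_) (fun i hi => ?_)
  · interval_cases i
    · exact hZc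
    · exact hSc
  · rw [Subgroup.commutator_le]
    interval_cases i
    · intro z hz' g hg
      obtain ⟨z, hzc, rfl⟩ := hz'
      show ⁅(z : Ω), g⁆ ∈ (⊥ : Subgroup Ω)
      rw [Subgroup.mem_bot]
      exact congrArg Subtype.val (comm_central (b := (⟨g, hg⟩ : S)) hzc)
    · intro a ha g hg
      refine ⟨⁅(⟨a, ha⟩ : S), (⟨g, hg⟩ : S)⁆, ?_, rfl⟩
      rw [comm_eq_squares]
      exact mul_mem (mul_mem (hsq _) (hsq _)) (hsq _)

end Cfsg.Agent.S5214
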