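import Cfsg.Statements.S5220
import Cfsg.Agent.Fusion.ThompsonControl
set_option autoImplicit false
open Cfsg

namespace Cfsg.Agent.S5220

/-- Let F be a saturated fusion system over a nontrivial finite p-group S, let J(S) be the subgroup generated by the abelian subgroups of S of largest order, and let V be the subgroup generated by the p-th powers of the elements of Z(S). Then F is generated by the centralizer fusion system of V and the normalizer fusion system of J(S): every fusion system over S containing the maps of both contains every map of F. -/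
theorem result {Ω : Type*} [Group Ω] {S : Subgroup Ω} [Finite S] (p : ℕ) [Fact p.Prime] (hS : IsPGroup p S) (F : Cfsg.FusionSystem S) (hF : F.IsSaturated p) (hS1 : S ≠ ⊥) (C : Cfsg.FusionSystem (Cfsg.FusionSystem.centralizerIn S (Cfsg.powerClosure p 1 (S ⊓ Subgroup.centralizer (S : Set Ω))))) (hC : F.IsCentralizerSystem (Cfsg.powerClosure p 1 (S ⊓ Subgroup.centralizer (S : Set Ω))) C) (N : Cfsg.FusionSystem (Cfsg.FusionSystem.normalizerIn S (Cfsg.thompsonSubgroupAOf S))) (hN : F.IsNormalizerSystem (Cfsg.thompsonSubgroupAOf S) N) (E : Cfsg.FusionSystem S) (hCE : C.IsSubsystemOf E) (hNE : N.IsSubsystemOf E) : F.IsSubsystemOf E := by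
  have hV : ∀ x ∈ S, ∀ v ∈ Cfsg.powerClosure p 1 (S ⊓ Subgroup.centralizer (S : Set Ω)),
      x * v * x⁻¹ = v := fun x hx v hv => by
    rw [Subgroup.mem_centralizer_iff.mp (Cfsg.Lib.Fusion.centerPow_le_center p S hv).2 x hx,
      mul_inv_cancel_right]
  have h := Cfsg.Lib.Fusion.thompson_main (Nat.card S) S rfl hS _ F rfl hF _
    (Cfsg.Lib.Fusion.isMapClass_isMap F E)
    (fun P f hf hVP hfix => ?_) (fun P f hf hJP hi => ?_)
  · exact fun P φ hφ => (h P _ (Cfsg.Lib.Fusion.isMap_of_mem hφ)).mem_toFun'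
  · obtain ⟨φ, hφ, e⟩ := hf
    have hPS : P ≤ S := (F.le_of_mem hφ).1
    obtain ⟨ψ, hψ, e'⟩ := (sup_eq_left.mpr hVP).symm ▸ (⟨φ, hφ, e⟩ : Cfsg.Lib.Fusion.IsMap F P f)
    refine ⟨φ, hCE P ?_, e⟩
    rw [hC P]
    refine ⟨hφ, fun x hx => Cfsg.Lib.Fusion.mem_centralizerIn.mpr ⟨hPS hx, hV x (hPS hx)⟩,
      fun x => Cfsg.Lib.Fusion.mem_centralizerIn.mpr
        ⟨(F.le_of_mem hφ).2 x, hV _ ((F.le_of_mem hφ).2 x)⟩,
      ψ, hψ, fun x => (e' _).trans (e x).symm, fun x => (e' _).trans (hfix x x.2)⟩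
  · obtain ⟨φ, hφ, e⟩ := (Cfsg.Lib.Fusion.isMap_of_isNormalizerSystem hN (P := P) (f := f)).mpr
      ⟨fun x hx => ⟨hf.le hx, Cfsg.Lib.Fusion.thompsonAOf_normalized le_rfl (hf.le hx)
          (Subgroup.le_normalizer (hf.le hx))⟩,
        fun x hx => ⟨hf.mem_S hx, Cfsg.Lib.Fusion.thompsonAOf_normalized le_rfl (hf.mem_S hx)
          (Subgroup.le_normalizer (hf.mem_S hx))⟩,
        hf, f, (sup_eq_left.mpr hJP).symm ▸ hf, fun _ _ => rfl, hi⟩
    exact ⟨φ, hNE P hφ, e⟩

end Cfsg.Agent.S5220
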