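import Cfsg.Statements.S5222
import Cfsg.Agent.Fusion.InnerCriteria

set_option autoImplicit false
open Cfsg
open scoped commutatorElement

namespace Cfsg.Agent.S5222

/-- Let F be a saturated fusion system over a finite p-group S whose normalizer fusion system of S is the inner fusion system of S (Aut_F(S) is a p-group). Then for every subgroup Q of S with [S, S] ≤ Q ≤ Φ(S), the normalizer fusion system of Q in F is the inner fusion system of N_S(Q) = S. -/
theorem result {Ω : Type*} [Group Ω] {S : Subgroup Ω} [Finite S] (p : ℕ) [Fact p.Prime] (hS : IsPGroup p S) (F : Cfsg.FusionSystem S) (hF : F.IsSaturated p) (hN : ∀ N : Cfsg.FusionSystem (Cfsg.FusionSystem.normalizerIn S S), F.IsNormalizerSystem S N → ∀ P : Subgroup Ω, N.Hom P = (Cfsg.innerFusionSystem (Cfsg.FusionSystem.normalizerIn S S)).Hom P) (Q : Subgroup Ω) (h1 : (commutator ↥S).map S.subtype ≤ Q) (h2 : Q ≤ (frattini ↥S).map S.subtype) : ∀ N : Cfsg.FusionSystem (Cfsg.FusionSystem.normalizerIn S Q), F.IsNormalizerSystem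 Q N → ∀ P : Subgroup Ω, N.Hom P = (Cfsg.innerFusionSystem (Cfsg.FusionSystem.normalizerIn S Q)).Hom P := by
  intro N hNQ
  have hQS : Q ≤ S := h2.trans (Subgroup.map_subtype_le _)
  rw [Subgroup.map_subtype_commutator] at h1
  have hn : Cfsg.FusionSystem.normalizerIn S Q = S := le_antisymm inf_le_left fun g hg =>
    ⟨hg, Subgroup.mem_normalizer_iff.mpr fun x => by
      have key : ∀ g ∈ S, ∀ x ∈ Q, g * x * g⁻¹ ∈ Q := fun g hg x hx => by
        have h := Q.mul_mem (h1 (Subgroup.commutator_mem_commutator hg (hQS hx))) hx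
        rw [commutatorElement_def] at h
        simpa using h
      refine ⟨key g hg x, fun hx => ?_⟩
      have h := key g⁻¹ (S.inv_mem hg) _ hx
      simpa [mul_assoc] using h⟩
  haveI : Finite (Cfsg.FusionSystem.normalizerIn S Q) := Cfsg.Lib.Fusion.finite_of_le inf_le_left
  have hp : IsPGroup p (Cfsg.FusionSystem.normalizerIn S Q) :=
    hS.of_injective _ (Subgroup.inclusion_injective inf_le_left)
  have hQn : F.IsFullyNormalized Q := ⟨hQS, fun R _ => by
    rw [hn]
    exact Nat.card_le_card_of_injective _ (Subgroup.inclusion_injective inf_le_left)⟩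
  have hiff := fun P f => (Cfsg.Lib.Fusion.isMap_of_isNormalizerSystem hNQ (P := P) (f := f))
  have hNsat : N.IsSaturated p := by
    have e : N = Cfsg.Lib.Fusion.normalizerSystem F hQS := by
      exact Cfsg.Lib.Fusion.fusionSystem_ext hNQ
    exact e ▸ Cfsg.Lib.Fusion.saturated_normalizerSystem hS hF hQn
  refine Cfsg.Lib.Fusion.isInner_iff.mp
    (Cfsg.Lib.Fusion.isInner_of_stronglyClosed hp hNsat ?_ (T := Q) ?_ ?_ fun f hf => ?_)
  · refine Cfsg.Lib.Fusion.stronglyClosed_of_apply (hQS.trans hn.ge) fun P f hf x hx hxQ => ?_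
    obtain ⟨-, -, -, k, -, hkf, hki⟩ := (hiff P f).mp hf
    rw [← hkf x hx]
    exact hki.le (Cfsg.Lib.Fusion.IsMap.apply_mem_img hxQ)
  · rw [hn]; exact h1
  · rw [hn]; exact h2
  · obtain ⟨-, -, hfF, -⟩ := (hiff _ f).mp hf
    rw [hn] at hfF
    obtain ⟨s, hs, e⟩ := Cfsg.Lib.Fusion.inner_top_of_normalizer hN hfF
    exact ⟨s, hn.ge hs, fun x hx => e x (hn.le hx)⟩

end Cfsg.Agent.S5222
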