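import Cfsg.Statements.S5223
import Cfsg.Agent.Fusion.CharAut

set_option autoImplicit false
open Cfsg

namespace Cfsg.Agent.S5223

/-- Let F be a saturated fusion system over a finite p-group S. Suppose there are subgroups Q₀ = S, Q₁, …, Qₙ = 1 (not required to be nested) such that for each i < n the focal subgroup of Qᵢ (generated by the elements x⁻¹φ(x), x ∈ Qᵢ, φ a map of F defined on the cyclic group generated by x) lies in Qᵢ₊₁. Then F is the inner fusion system of S. -/
theorem result {Ω : Type*} [Group Ω] {S : Subgroup Ω} [Finite S] (p : ℕ) [Fact p.Prime] (hS : IsPGroup p S) (F : Cfsg.FusionSystem S) (hF : F.IsSaturated p) (n : ℕ) (Q : Fin (n + 1) → Subgroup Ω) (hQ0 : Q 0 = S) (hQn : Q (Fin.last n) = ⊥) (hstep : ∀ i : Fin n, Subgroup.closure {y : Ω | ∃ x ∈ Q i.castSucc, ∃ φ ∈ F.Hom (Subgroup.zpowers x), y = x⁻¹ * φ ⟨x, Subgroup.mem_zpowers x⟩} ≤ Q i.succ) : ∀ P : Subgroup Ω, F.Hom P = (Cfsg.innerFusionSystem S).Hom P := by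
  open Cfsg.Lib.Fusion in
  refine isInner_iff.mp ?_
  rw [Cfsg.Agent.S5083.result p hS F hF fun P hP => ?_]
  · exact isInner_iff.mpr fun P => rfl
  intro α
  haveI := finite_of_le hP
  obtain ⟨bp, bq, hbp, hbq, he, ⟨i, hi⟩, hcop⟩ := Cfsg.Lib.Transfer.exists_pPart p (α : MulAut P)
  suffices hb1 : bq = 1 by
    refine ⟨i, Subtype.ext ?_⟩
    rw [Subgroup.coe_pow, ← he, hb1, mul_one, Subgroup.coe_one, ← hi]
    exact pow_orderOf_eq_one bp
  have hbqF : bq ∈ F.autGroup P := (Subgroup.zpowers_le.mpr α.2) hbq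
  have hkey : ∀ j : Fin (n + 1), ∀ x : P, (x : Ω) ∈ Q j → bq x = x := by
    intro j
    induction j using Fin.reverseInduction with
    | last =>
      intro x hx
      rw [hQn, Subgroup.mem_bot] at hx
      rw [show x = 1 from Subtype.ext hx, map_one]
    | cast j ih =>
      intro x hx
      have hv : ((x⁻¹ * bq x : P) : Ω) ∈ Q j.succ := by
        refine hstep j (Subgroup.subset_closure ⟨x, hx, ?_⟩)
        obtain ⟨φ, hφ, e⟩ := ((isMap_autFun hP).mpr hbqF).mono (Subgroup.zpowers_le.mpr x.2)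
        refine ⟨φ, hφ, ?_⟩
        rw [e, autFun_apply]
        rfl
      have hfix := ih _ hv
      have hiter : ∀ m : ℕ, (bq ^ m) x = x * (x⁻¹ * bq x) ^ m := by
        intro m
        induction m with
        | zero => simp
        | succ m ihm =>
          rw [pow_succ', MulAut.mul_apply, ihm, map_mul, map_pow, hfix, pow_succ' (x⁻¹ * bq x),
            ← mul_assoc x, mul_inv_cancel_left]
      have h2 := hiter (orderOf bq)
      rw [pow_orderOf_eq_one, MulAut.one_apply] at h2
      obtain ⟨k, hk⟩ := (hS.of_injective _ (Subgroup.inclusion_injective hP)) (x⁻¹ * bq x)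
      have h4 : x⁻¹ * bq x = 1 := orderOf_eq_one_iff.mp (Nat.eq_one_of_dvd_coprimes (hcop.pow_right k)
        (orderOf_dvd_of_pow_eq_one (left_eq_mul.mp h2)) (orderOf_dvd_of_pow_eq_one hk))
      exact (inv_mul_eq_one.mp h4).symm
  exact MulEquiv.ext fun x => hkey 0 x (by rw [hQ0]; exact hP x.2)

end Cfsg.Agent.S5223
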