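import Cfsg.Statements.S5225
import Cfsg.Agent.Fusion.Yoshida.Main

set_option autoImplicit false
open Cfsg Cfsg.FusionSystem Cfsg.Lib.Fusion

namespace Cfsg.Agent.S5225

/-- Yoshida's Theorem for fusion systems. Let F be a saturated fusion system over a finite p-group S and N the normalizer fusion system of S in F. If the focal subgroups of F and N differ (N does not control transfer in F), then S has a quotient isomorphic to the wreath product C_p ≀ C_p (realised as a Sylow p-subgroup of the symmetric group of degree p²). -/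
theorem result {Ω : Type*} [Group Ω] {S : Subgroup Ω} [Finite S] (p : ℕ) [Fact p.Prime] (hS : IsPGroup p S) (F : Cfsg.FusionSystem S) (hF : F.IsSaturated p) (N : Cfsg.FusionSystem (Cfsg.FusionSystem.normalizerIn S S)) (hN : F.IsNormalizerSystem S N) (hne : N.focalSubgroup ≠ F.focalSubgroup) : ∃ (W : Sylow p (Equiv.Perm (Fin (p ^ 2)))) (f : ↥S →* ↥(W : Subgroup (Equiv.Perm (Fin (p ^ 2))))), Function.Surjective f := by
  have hT : normalizerIn S S = S := le_antisymm inf_le_left (le_normalizerIn le_rfl)
  have hfn : F.IsFullyNormalized S :=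
    ⟨le_rfl, fun Q _ => by rw [hT]; exact Subgroup.card_le_of_le inf_le_left⟩
  have hNeq : N = normalizerSystem F hfn.1 := by
    cases N
    congr 1
    exact funext hN
  have hsat : N.IsSaturated p := hNeq ▸ saturated_normalizerSystem hS hF hfn
  have hsub : N.IsSubsystemOf F := fun P φ hφ => by rw [hN P] at hφ; exact hφ.1
  have htop : ∀ g, IsMap F S g → img S g = S → IsMap N S g := fun g hg hi =>
    (isMap_of_isNormalizerSystem hN).2 ⟨hT.ge, fun x hx => hT.ge (hg.mem_S hx), hg,
      g, by rwa [sup_idem], fun _ _ => rfl, hi⟩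
  obtain ⟨f, hf⟩ := Yoshida.main hS hF hT N hsat hsub htop hne
  obtain ⟨W⟩ : Nonempty (Sylow p (Equiv.Perm (Fin (p ^ 2)))) := inferInstance
  obtain ⟨e⟩ := Yoshida.exists_iso_sylow (p := p) W
  exact ⟨W, e.toMonoidHom.comp f, e.surjective.comp hf⟩

end Cfsg.Agent.S5225
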