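import Cfsg.Statements.S5226
import Cfsg.Agent.Fusion.NormalCriteria
open Cfsg.FusionSystem Cfsg.Lib.Fusion

set_option autoImplicit false
open Cfsg

open scoped commutatorElement
namespace Cfsg.Agent.S5226

/-- Let F be a saturated fusion system over a finite p-group S and Q a subgroup of S. Then Q is normal in F (F equals the normalizer system of Q) if and only if Q is strongly closed in F and admits a central series 1 = Q₀ ≤ Q₁ ≤ ⋯ ≤ Qₙ = Q ([Qᵢ₊₁, Q] ≤ Qᵢ) all of whose proper terms are weakly closed in F. -/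
theorem result {Ω : Type*} [Group Ω] {S : Subgroup Ω} [Finite S] (p : ℕ) [Fact p.Prime] (hS : IsPGroup p S) (F : Cfsg.FusionSystem S) (hF : F.IsSaturated p) (Q : Subgroup Ω) : F.IsNormal Q ↔ F.StronglyClosed Q ∧ ∃ (n : ℕ) (C : Fin (n + 1) → Subgroup Ω), C 0 = ⊥ ∧ C (Fin.last n) = Q ∧ Monotone C ∧ (∀ i : Fin n, ⁅C i.succ, Q⁆ ≤ C i.castSucc) ∧ ∀ i : Fin n, F.WeaklyClosed (C i.castSucc) := by
  constructor
  · intro hQ
    obtain ⟨n, C, h0, hn, hmono, hnor, hc⟩ := exists_chain_of_isNormal hS hQ
    refine ⟨stronglyClosed_of_isNormal hQ, n, fun i => C i, h0, by simpa using hn,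
      fun i j hij => hmono hij, fun i => by simpa using hc i, fun i => ⟨(hnor _).1, fun φ hφ => ?_⟩⟩
    rw [(isMap_of_mem hφ).range_eq fun x => (toFun'_apply φ x).symm]
    exact img_eq_of_apply (isMap_of_mem hφ) le_rfl fun x hx =>
      stronglyClosed_apply (stronglyClosed_of_isNormal (hnor _)) (isMap_of_mem hφ) hx hx
  · rintro ⟨hsc, n, Cs, h0, hn, hmono, hc, hw⟩
    let C : ℕ → Subgroup Ω := fun i => if hi : i < n + 1 then Cs ⟨i, hi⟩ else Q
    have hCv : ∀ i (hi : i < n + 1), C i = Cs ⟨i, hi⟩ := fun i hi => dif_pos hi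
    have hC0 : C 0 = ⊥ := by rw [hCv 0 (by omega)]; exact h0
    have hCn : C n = Q := by rw [hCv n (by omega)]; exact hn
    have hCQ : ∀ i ≤ n, C i ≤ Q := fun i hi => by
      rw [hCv i (by omega), ← hn]
      exact hmono (Fin.le_last _)
    have hCmono : ∀ i j, i ≤ j → j ≤ n → C i ≤ C j := fun i j hij hj => by
      rw [hCv i (by omega), hCv j (by omega)]
      exact hmono hij
    have hCc : ∀ i < n, ⁅C (i + 1), Q⁆ ≤ C i := fun i hi => by
      rw [hCv (i + 1) (by omega), hCv i (by omega)]
      exact hc ⟨i, hi⟩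
    have hCw : ∀ i < n, F.WeaklyClosed (C i) := fun i hi => by
      rw [hCv i (by omega)]
      exact hw ⟨i, hi⟩
    suffices h : ∀ k ≤ n, ∀ i ≤ k, F.StronglyClosed (C i) from
      isNormal_of_chain hS hF hsc n C hC0 hCn.ge (fun i hi => h n le_rfl (i + 1) hi) hCc
    intro k
    induction k with
    | zero =>
      intro _ i hi
      obtain rfl : i = 0 := Nat.le_zero.mp hi
      rw [hC0]
      exact stronglyClosed_of_isNormal isNormal_bot'
    | succ k ih =>
      intro hk i hi
      rcases Nat.lt_or_ge i (k + 1) with hlt | hge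
      · exact ih (by omega) i (by omega)
      obtain rfl : i = k + 1 := le_antisymm hi hge
      rcases Nat.lt_or_ge (k + 1) n with hkn | hkn
      swap
      · rw [show k + 1 = n by omega, hCn]
        exact hsc
      have hVn : F.IsNormal (C k) := isNormal_of_chain hS hF (ih (by omega) k le_rfl) k C hC0 le_rfl
        (fun j hj => ih (by omega) (j + 1) hj)
        (fun j hj => (Subgroup.commutator_mono le_rfl (hCQ k (by omega))).trans (hCc j (by omega)))
      set V := C k
      set A := C (k + 1)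
      have hAQ : A ≤ Q := hCQ _ (by omega)
      have hAS : A ≤ S := hAQ.trans hsc.1
      haveI := finite_of_le hAS
      have hwA := hCw (k + 1) hkn
      have hwk : ∀ (P : Subgroup Ω) (g : Ω → Ω), IsMap F P g → A ≤ P → ∀ a ∈ A, g a ∈ A := by
        intro P g hg hAP a ha
        obtain ⟨φ, hφ, e⟩ := hg.mono hAP
        rw [← e ⟨a, ha⟩]
        refine (hwA.2 φ hφ).le ?_
        exact ⟨⟨a, ha⟩, rfl⟩
      have hwk' : ∀ (P : Subgroup Ω) (g : Ω → Ω), IsMap F P g → A ≤ P → img A g = A :=
        fun P g hg hAP => img_eq_of_apply hg hAP (hwk P g hg hAP)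
      refine stronglyClosed_of_apply hAS fun P f hf x hx hxA => ?_
      obtain ⟨g, hg, hgf, hgV⟩ := extend_of_isNormal hVn (hf.mono (Subgroup.zpowers_le.mpr hx))
      set X := Subgroup.zpowers x ⊔ V with hX
      have hVA : V ≤ A := hCmono k (k + 1) (by omega) (by omega)
      have hXA : X ≤ A := sup_le (Subgroup.zpowers_le.mpr hxA) hVA
      set Y := img X g with hY
      have hxX : x ∈ X := Subgroup.mem_sup_left (Subgroup.mem_zpowers x)
      have hgx : g x = f x := hgf x (Subgroup.mem_zpowers x)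
      have hyY : f x ∈ Y := hgx ▸ IsMap.apply_mem_img hxX
      have hyQ : f x ∈ Q := stronglyClosed_apply hsc hf hx (hAQ hxA)
      have hYQ : Y ≤ Q := IsMap.img_le_iff.mpr fun w hw => stronglyClosed_apply hsc hg hw (hAQ (hXA hw))
      have hVY : V ≤ Y := hgV.ge.trans (img_mono le_sup_right g)
      -- `A` normalizes `Y` and `Q` normalizes `X`
      have hQX : Q ≤ normalizerIn S X := fun q hq => by
        haveI := finite_of_le (hXA.trans hAS)
        refine ⟨hsc.1 hq, mem_normalizer_of_maps_finite fun w hw => ?_⟩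
        have h1 := hCc k (by omega) (Subgroup.commutator_mem_commutator (hXA hw) hq)
        have h2 := X.mul_mem (Subgroup.mem_sup_right (V.inv_mem h1)) hw
        rw [commutatorElement_inv, commutatorElement_def] at h2
        simpa [mul_assoc] using h2
      have hAY : A ≤ normalizerIn S Y := fun a ha => by
        haveI := finite_of_le hg.img_le
        refine ⟨hAS ha, mem_normalizer_of_maps_finite fun w hw => ?_⟩
        have h1 := hCc k (by omega) (Subgroup.commutator_mem_commutator ha (hYQ hw))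
        have h2 := Y.mul_mem (hVY h1) hw
        rw [commutatorElement_def, inv_mul_cancel_right] at h2
        exact h2
      obtain ⟨Z, hYZ, hZ⟩ := exists_fullyNormalized (F := F) hg.img_le
      obtain ⟨-, hZfa, hZrec⟩ := fullyNormalized_props hS hF hZ
      obtain ⟨c₀, hc₀, hc₀i⟩ := isConj_iff.mp hYZ
      obtain ⟨-, -, c, hcm, hci, -, -⟩ := exists_map_normalizer hS hZfa hZrec hc₀ hc₀i
      have hcg : IsMap F X (c₀ ∘ g) := hg.comp hc₀ fun w hw => IsMap.apply_mem_img hw
      have hcgi : img X (c₀ ∘ g) = Z := by rw [img_comp hg hc₀, hc₀i]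
      obtain ⟨-, -, d, hdm, hdi, -, -⟩ := exists_map_normalizer hS hZfa hZrec hcg hcgi
      have hAX : A ≤ normalizerIn S X := hAQ.trans hQX
      have hZA : Z ≤ A := by
        rw [← hdi, ← hwk' _ d hdm hAX]
        exact img_mono hXA d
      have hyN : f x ∈ normalizerIn S Y := le_normalizerIn hg.img_le hyY
      obtain ⟨a, ha, e⟩ := (hcm.mono hAY).mem_img.mp ((hwk' _ c hcm hAY).ge
        (hZA (hci ▸ IsMap.apply_mem_img hyY)))
      exact hcm.injOn (hAY ha) hyN e ▸ ha

end Cfsg.Agent.S5226
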