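import Cfsg.Statements.S5238
import Cfsg.Agent.Fusion.Pearl
-- import your own Cfsg.Agent.* helpers here

set_option autoImplicit false
open Cfsg

namespace Cfsg.Agent.S5238

/-- Let p be an odd prime and F a saturated fusion system over a finite p-group S having a pearl: an F-essential subgroup E that is elementary abelian of order p² or nonabelian of order p³. Then S has maximal nilpotency class (if S has order pⁿ with n ≥ 3, the term of index n − 2 of its lower central series, counting S itself as the term of index 0, is nontrivial), and every subgroup of S can be generated by at most p elements (the sectional rank of S is at most p). -/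
theorem result {Ω : Type*} [Group Ω] {S : Subgroup Ω} [Finite S] (p : ℕ) [Fact p.Prime] (hS : IsPGroup p S) (F : Cfsg.FusionSystem S) (hF : F.IsSaturated p) (hp : p ≠ 2) (E : Subgroup Ω) (hE : F.IsEssential p E) (hpearl : (Nat.card E = p ^ 2 ∧ ∀ x ∈ E, x ^ p = 1 ∧ IsMulCommutative ↥E) ∨ (Nat.card E = p ^ 3 ∧ ¬ IsMulCommutative ↥E)) : (∀ n : ℕ, Nat.card S = p ^ n → 3 ≤ n → Subgroup.lowerCentralSeries S (n - 2) ≠ ⊥) ∧ ∀ H : Subgroup Ω, H ≤ S → ∃ T : Finset Ω, T.card ≤ p ∧ Subgroup.closure (T : Set Ω) = H := by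
  classical
  haveI : Group.IsNilpotent ↥S := hS.isNilpotent
  refine ⟨fun n hn h3 hb => ?_, fun H hH => ?_⟩
  · obtain ⟨x, D⟩ := Cfsg.Lib.Fusion.Pearl.exists_data hS hF hp hE hpearl hn
    refine D.L_ne_bot (show n - 2 < n - 1 by omega) ?_
    have h1 := Subgroup.map_lowerCentralSeries (⊤ : Subgroup ↥S) S.subtype (n - 2)
    rw [← MonoidHom.range_eq_map, Subgroup.range_subtype, hb,
      Subgroup.map_eq_bot_iff_of_injective _ S.subtype_injective] at h1
    exact h1
  · obtain ⟨n, hn⟩ := IsPGroup.iff_card.mp hS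
    obtain ⟨x, D⟩ := Cfsg.Lib.Fusion.Pearl.exists_data hS hF hp hE hpearl hn
    obtain ⟨T, hT, hTe⟩ := D.exists_generators (H.subgroupOf S)
    refine ⟨T.image S.subtype, Finset.card_image_le.trans hT, ?_⟩
    rw [Finset.coe_image, ← MonoidHom.map_closure, hTe, Subgroup.map_subgroupOf_eq_of_le hH]

end Cfsg.Agent.S5238
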