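import Cfsg.Statements.S5239
import Cfsg.Agent.Fusion.PearlThree

set_option autoImplicit false
open Cfsg

namespace Cfsg.Agent.S5239

/-- Let F be a saturated fusion system over a finite 3-group S having a pearl: an F-essential subgroup E that is elementary abelian of order 9 or nonabelian of order 27. Then either S is extraspecial of order 27 and exponent 3, or S has order at least 81 and every subgroup of S can be generated by at most two elements, or S is isomorphic to the wreath product C₃ ≀ C₃ (a Sylow 3-subgroup of the symmetric group of degree 9). -/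
theorem result {Ω : Type*} [Group Ω] {S : Subgroup Ω} [Finite S] (hS : IsPGroup 3 S) (F : Cfsg.FusionSystem S) (hF : F.IsSaturated 3) [Fact (Nat.Prime 3)] (E : Subgroup Ω) (hE : F.IsEssential 3 E) (hpearl : (Nat.card E = 9 ∧ ∀ x ∈ E, x ^ 3 = 1 ∧ IsMulCommutative ↥E) ∨ (Nat.card E = 27 ∧ ¬ IsMulCommutative ↥E)) : (Cfsg.IsExtraspecial 3 ↥S ∧ Nat.card S = 27 ∧ Monoid.exponent ↥S = 3) ∨ (81 ≤ Nat.card S ∧ ∀ H : Subgroup Ω, H ≤ S → ∃ T : Finset Ω, T.card ≤ 2 ∧ Subgroup.closure (T : Set Ω) = H) ∨ (∃ W : Sylow 3 (Equiv.Perm (Fin 9)), Nonempty (↥S ≃* ↥(W : Subgroup (Equiv.Perm (Fin 9))))) := by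
  classical
  haveI : Group.IsNilpotent ↥S := hS.isNilpotent
  have hpearl' : (Nat.card E = 3 ^ 2 ∧ ∀ x ∈ E, x ^ 3 = 1 ∧ IsMulCommutative ↥E) ∨
      (Nat.card E = 3 ^ 3 ∧ ¬ IsMulCommutative ↥E) := by norm_num; exact hpearl
  obtain ⟨n, hn⟩ := IsPGroup.iff_card.mp hS
  obtain ⟨x, D⟩ := Cfsg.Lib.Fusion.Pearl.exists_data hS hF (by decide) hE hpearl' hn
  rcases eq_or_lt_of_le D.three with h3 | h4
  · subst h3
    rcases hpearl' with ⟨hc, hel⟩ | ⟨hc, -⟩
    · obtain ⟨h1, h2⟩ := Cfsg.Lib.Fusion.PearlThree.order27 hS hF hE hc (fun y hy => (hel y hy).1)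
        (hel 1 E.one_mem).2 D
      exact Or.inl ⟨h1, by rw [hn]; norm_num, h2⟩
    · exfalso
      have hlt := Cfsg.Lib.Fusion.EssentialGen.lt_of_essential hS hF hE
      exact hlt.ne (Subgroup.eq_of_le_of_card_ge hlt.le (le_of_eq (hn.trans hc.symm)))
  by_cases hA : n = 4 ∧ ∃ A : Subgroup ↥S, Nat.card A = 27 ∧ (∀ a ∈ A, ∀ b ∈ A, Commute a b) ∧
      ∀ a ∈ A, a ^ 3 = 1
  · obtain ⟨hn4, A, hAc, hAcom, hAexp⟩ := hA
    exact Or.inr (Or.inr (Cfsg.Lib.PGroups.MaxClassThree.exists_sylow_equiv D hn4 hAc hAcom hAexp))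
  refine Or.inr (Or.inl ⟨?_, fun H hH => ?_⟩)
  · rw [hn]
    exact (show 81 = 3 ^ 4 by norm_num).le.trans (Nat.pow_le_pow_right (by norm_num) h4)
  · obtain ⟨T, hT, hTe⟩ :=
      (Cfsg.Lib.PGroups.MaxClassThree.two_gen D h4 (H.subgroupOf S)).resolve_right hA
    refine ⟨T.image S.subtype, Finset.card_image_le.trans hT, ?_⟩
    rw [Finset.coe_image, ← MonoidHom.map_closure, hTe, Subgroup.map_subgroupOf_eq_of_le hH]

end Cfsg.Agent.S5239
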