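import Cfsg.Statements.S5243
import Cfsg.Agent.Fusion.CharacterSub

set_option autoImplicit false
set_option maxHeartbeats 1000000
open Cfsg

namespace Cfsg.Agent.S5243

/-- Let F be a saturated fusion system over a finite p-group S, E a normal subsystem of F over T ≤ S, and χ a surjective homomorphism from Aut_F(T) onto a nontrivial finite group Δ of order prime to p whose kernel contains Aut_E(T). Then there is a proper normal subsystem F₀ of F over S containing E such that Aut_{F₀}(S) consists of those α ∈ Aut_F(S) whose restriction to T is an element of Aut_F(T) in the kernel of χ; moreover every p'-residual subsystem O^{p'}(F) of F is contained in F₀. -/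
theorem result {Ω : Type*} [Group Ω] {S : Subgroup Ω} [Finite S] (p : ℕ) [Fact p.Prime] (hS : IsPGroup p S) (F : Cfsg.FusionSystem S) (hF : F.IsSaturated p) {T : Subgroup Ω} (hTS : T ≤ S) (E : Cfsg.FusionSystem T) (hE : E.IsNormalIn F p) {Δ : Type*} [Group Δ] [Finite Δ] [Nontrivial Δ] (hΔ : (Nat.card Δ).Coprime p) (χ : ↥(F.autGroup T) →* Δ) (hχ : Function.Surjective χ) (hker : (E.autGroup T).subgroupOf (F.autGroup T) ≤ χ.ker) : ∃ F₀ : Cfsg.FusionSystem S, F₀.IsNormalIn F p ∧ ¬ (∀ P : Subgroup Ω, F₀.Hom P = F.Hom P) ∧ E.IsSubsystemOf F₀ ∧ (∀ α : MulAut ↥S, α ∈ F₀.autGroup S ↔ α ∈ F.autGroup S ∧ ∃ β : ↥(F.autGroup T), χ β = 1 ∧ ∀ t : ↥T, (((β : MulAut ↥T) t : ↥T) : Ω) = ((α ⟨(t : Ω), hTS t.2⟩ : ↥S) : Ω)) ∧ ∀ R : Cfsg.FusionSystem S, F.IsPPrimeResidual p R → R.IsSubsystemOf F₀ := by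
  classical
  have hW := hE.1
  set K : Subgroup (MulAut T) := χ.ker.map (F.autGroup T).subtype with hKdef
  have hmem : ∀ α : MulAut T, α ∈ K ↔ ∃ h : α ∈ F.autGroup T, χ ⟨α, h⟩ = 1 := fun α => by
    constructor
    · rintro ⟨⟨a, ha⟩, h1, rfl⟩
      exact ⟨ha, h1⟩
    · rintro ⟨h, h1⟩
      exact ⟨⟨α, h⟩, h1, rfl⟩
  have hK : Cfsg.Lib.Fusion.CharSub.IsKernel F E p K :=
    { le := Subgroup.map_subtype_le _
      normal := fun α hα β hβ => by
        obtain ⟨b, hb, rfl⟩ := hβ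
        exact ⟨⟨α, hα⟩ * b * ⟨α, hα⟩⁻¹, (MonoidHom.normal_ker χ).conj_mem b hb _, rfl⟩
      base := fun α hα => (hmem α).mpr
        ⟨Cfsg.Lib.Fusion.CharSub.isMap_of_sub hW.2.2.1
          ((Cfsg.Lib.Fusion.isMap_autFun le_rfl).mpr hα) |> (Cfsg.Lib.Fusion.isMap_autFun hTS).mp,
          MonoidHom.mem_ker.mp (hker (Subgroup.mem_subgroupOf.mpr hα))⟩
      root := fun α hα k hk => by
        obtain ⟨h, h1⟩ := (hmem _).mp hk
        refine (hmem α).mpr ⟨hα, ?_⟩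
        have h2 : χ ⟨α, hα⟩ ^ p ^ k = 1 := by
          rw [← map_pow]
          exact h1
        have hc : (p ^ k).Coprime (Nat.card Δ) := (Nat.Coprime.pow_right k hΔ).symm
        exact orderOf_eq_one_iff.mp (Nat.eq_one_of_dvd_coprimes hc
          (orderOf_dvd_of_pow_eq_one h2) (orderOf_dvd_natCard _)) }
  have hne : ¬ F.autGroup T ≤ K := fun hle => by
    obtain ⟨d, hd⟩ := exists_ne (1 : Δ)
    obtain ⟨a, rfl⟩ := hχ d
    obtain ⟨h, h1⟩ := (hmem _).mp (hle a.2)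
    exact hd h1
  refine ⟨Cfsg.Lib.Fusion.CharSub.charSystem hS hW K,
    Cfsg.Lib.Fusion.PrimeIndex.sub_normal _ _ hS hF
      (Cfsg.Lib.Fusion.CharSub.forced_topGroup hS hW hK)
      (fun α hα δ hδ => Cfsg.Lib.Fusion.CharSub.topGroup_normal hW.2.2.2.1 hK hα hδ),
    Cfsg.Lib.Fusion.CharSub.charSystem_proper hS hW hK hne,
    Cfsg.Lib.Fusion.CharSub.le_charSystem hS hW hK, fun α => ?_, fun R hR => ?_⟩
  · rw [Cfsg.Lib.Fusion.CharSub.autGroup_charSystem hS hW hK]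
    constructor
    · rintro ⟨hα, β, hβ, e⟩
      obtain ⟨h, h1⟩ := (hmem β).mp hβ
      refine ⟨hα, ⟨β, h⟩, h1, fun t => ?_⟩
      rw [← Cfsg.Lib.Fusion.autFun_apply, ← Cfsg.Lib.Fusion.autFun_apply]
      exact e t t.2
    · rintro ⟨hα, β, h1, e⟩
      refine ⟨hα, β, (hmem _).mpr ⟨β.2, h1⟩, fun t ht => ?_⟩
      rw [Cfsg.Lib.Fusion.autFun_apply_mem _ ht, Cfsg.Lib.Fusion.autFun_apply_mem _ (hTS ht)]
      exact e ⟨t, ht⟩
  · exact hR.2.2 _ (Cfsg.Lib.Fusion.PrimeIndex.sub_saturated _ _ hS hF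
      (Cfsg.Lib.Fusion.CharSub.forced_topGroup hS hW hK))
      (Cfsg.Lib.Fusion.PrimeIndex.sub_main _ _ hS hF).1

end Cfsg.Agent.S5243
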