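import Cfsg.Statements.S5244
import Cfsg.Agent.Fusion.AbelianIndexPEnd


set_option autoImplicit false
open Cfsg

namespace Cfsg.Agent.S5244

/-- Let p be an odd prime, S a finite nonabelian p-group with a unique abelian subgroup A of index p, and F a saturated fusion system over S with no nontrivial normal subgroup (O_p(F) = 1) in which A is not F-essential. Then some subgroup Z(S)⟨x⟩ with x ∈ S outside A is F-essential, the centre Z(S) is contained in the commutator subgroup of S, and S has maximal nilpotency class (if S has order pⁿ with n ≥ 3, the term of index n − 2 of its lower central series, counting S itself as the term of index 0, is nontrivial). -/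
theorem result {Ω : Type*} [Group Ω] {S : Subgroup Ω} [Finite S] (p : ℕ) [Fact p.Prime] (hS : IsPGroup p S) (F : Cfsg.FusionSystem S) (hF : F.IsSaturated p) (hp : p ≠ 2) (hna : ¬ IsMulCommutative ↥S) (A : Subgroup Ω) (hA : A ≤ S ∧ IsMulCommutative ↥A ∧ (A.subgroupOf S).index = p) (huniq : ∀ B : Subgroup Ω, B ≤ S → IsMulCommutative ↥B → (B.subgroupOf S).index = p → B = A) (hcore : F.core = ⊥) (hAe : ¬ F.IsEssential p A) : (∃ x ∈ S, x ∉ A ∧ F.IsEssential p ((S ⊓ Subgroup.centralizer (S : Set Ω)) ⊔ Subgroup.zpowers x)) ∧ (S ⊓ Subgroup.centralizer (S : Set Ω)) ≤ (commutator ↥S).map S.subtype ∧ ∀ n : ℕ, Nat.card S = p ^ n → 3 ≤ n → Subgroup.lowerCentralSeries S (n - 2) ≠ ⊥ := by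
  open Cfsg.Lib.Fusion in
  obtain ⟨hAS, hAc, hAi⟩ := hA
  haveI := finite_of_le hAS
  have hcomm : ∀ (B : Subgroup Ω), IsMulCommutative ↥B → ∀ a ∈ B, ∀ b ∈ B, a * b = b * a :=
    fun B hB a ha b hb => congrArg Subtype.val (hB.is_comm.comm (⟨a, ha⟩ : B) ⟨b, hb⟩)
  have hnab : ∃ a b : S, a * b ≠ b * a := by
    by_contra hno
    push_neg at hno
    exact hna ⟨⟨hno⟩⟩
  have h : AbIndexP F p A :=
    { isP := hS
      sat := hF
      le := hAS
      comm := hcomm A hAc
      idx := by
        rw [← hAi, ← Subgroup.index_mul_card (A.subgroupOf S),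
          Nat.card_congr (Subgroup.subgroupOfEquivOfLe hAS).toEquiv]
      nonab := hnab
      uniq := fun B hB hBc hBi => huniq B hB
        ⟨⟨fun a b => Subtype.ext (hBc a a.2 b b.2)⟩⟩ (by
          haveI := finite_of_le hB
          have h1 := Subgroup.index_mul_card (B.subgroupOf S)
          rw [Nat.card_congr (Subgroup.subgroupOfEquivOfLe hB).toEquiv, hBi] at h1
          exact Nat.eq_of_mul_eq_mul_right Nat.card_pos h1) }
  have hS1 : S ≠ ⊥ := by
    intro e
    obtain ⟨a, b, hab⟩ := hnab
    have : ∀ s : S, s = 1 := fun s => Subtype.ext (Subgroup.mem_bot.mp (e.le s.2))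
    exact hab (by rw [this a, this b])
  obtain ⟨h1, h2, h3⟩ := h.zcen_eq_derived hp hS1 hcore hAe
  have hz : S ⊓ Subgroup.centralizer (S : Set Ω) = zcen S := by
    ext z
    rw [mem_zcen, Subgroup.mem_inf, Subgroup.mem_centralizer_iff]
    rfl
  rw [hz]
  exact ⟨h1, h2, fun n hn hn3 => h.lcs_ne_bot h3 hn hn3⟩


end Cfsg.Agent.S5244
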