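import Cfsg.Statements.S5253
import Cfsg.Agent.Fusion.CenterControl
import Cfsg.Agent.Fusion.QuadraticPower

set_option autoImplicit false
universe u
open Cfsg

namespace Cfsg.Agent.S5253

/-- Let p be a prime and W a positive characteristic p-functor with Z(Q) ≤ W(Q): W assigns to every finite p-group Q (in a fixed universe) a subgroup W(Q), nontrivial when Q is, carried to W(R) by every isomorphism Q ≅ R, and containing the centre of Q. Suppose that for every finite group G with Sylow p-subgroup P in which W(P) is not normal there is g ∈ P outside O_p(G) with [Z(O_p(G)), g, g] = 1. Then for every saturated fusion system F over a finite p-group S and every normalizer fusion system N of W(S) in F, every p-th power of an element of Z(S) that lies in the centre of N lies in the centre of F. -/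
theorem result {p : ℕ} [Fact p.Prime] (W : ∀ (Q : Type u) [Group Q], Subgroup Q) (hW1 : ∀ (Q : Type u) [Group Q] [Finite Q], IsPGroup p Q → Nontrivial Q → W Q ≠ ⊥) (hW2 : ∀ (Q R : Type u) [Group Q] [Group R] [Finite Q], IsPGroup p Q → ∀ φ : Q ≃* R, (W Q).map φ.toMonoidHom = W R) (hWZ : ∀ (Q : Type u) [Group Q] [Finite Q], IsPGroup p Q → Subgroup.center Q ≤ W Q) (hq : ∀ (G : Type u) [Group G] [Finite G] (P : Sylow p G), ¬ (((W ↥(P : Subgroup G)).map (P : Subgroup G).subtype : Subgroup G)).Normal → ∃ g : G, g ∈ (P : Subgroup G) ∧ g ∉ Cfsg.pCore p G ∧ ⁅⁅Subgroup.center ↥(Cfsg.pCore p G) |>.map (Cfsg.pCore p G).subtype, Subgroup.zpowers g⁆, Subgroup.zpowers g⁆ = ⊥) {Ω : Type u} [Group Ω] {S : Subgroup Ω} [Finite S] (hS : IsPGroup p S) (F : Cfsg.FusionSystem S) (hF : F.IsSaturated p) (N : Cfsg.FusionSystem (Cfsg.FusionSystem.normalizerIn S ((W ↥S).map S.subtype))) (hN : F.IsNormalizerSystem ((W ↥S).map S.subtype) N) : Subgroup.closure ((fun z => z ^ p) '' ((S ⊓ Subgroup.centralizer (S : Set Ω) :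 Subgroup Ω) : Set Ω)) ⊓ N.center ≤ F.center := by
  have hloc : Cfsg.Lib.Fusion.LocalControl p W p := by
    intro L _ _ U y hyU hyc hcen hW hD
    by_cases hn : (((W ↥(U : Subgroup L)).map (U : Subgroup L).subtype : Subgroup L)).Normal
    · intro l
      refine hW l ?_
      rw [Subgroup.normalizer_eq_top_iff.mpr hn]
      exact Subgroup.mem_top l
    · obtain ⟨g, hgU, hgn, hg⟩ := hq L U hn
      exact Cfsg.Lib.Fusion.centralizes_power U hyU hyc hcen hgU hgn hg hD
  intro z hz
  have hzp : ∃ y ∈ (S ⊓ Subgroup.centralizer (S : Set Ω) : Subgroup Ω), y ^ p = z := by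
    let X : Subgroup Ω :=
      { carrier := (fun z => z ^ p) '' ((S ⊓ Subgroup.centralizer (S : Set Ω) : Subgroup Ω) : Set Ω)
        one_mem' := ⟨1, Subgroup.one_mem _, one_pow p⟩
        mul_mem' := by
          rintro _ _ ⟨a, ha, rfl⟩ ⟨b, hb, rfl⟩
          exact ⟨a * b, Subgroup.mul_mem _ ha hb,
            (show Commute a b from Subgroup.mem_centralizer_iff.mp hb.2 a ha.1).mul_pow p⟩
        inv_mem' := by
          rintro _ ⟨a, ha, rfl⟩
          exact ⟨a⁻¹, Subgroup.inv_mem _ ha, inv_pow a p⟩ }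
    exact ((Subgroup.closure_le X).mpr Set.Subset.rfl hz.1)
  obtain ⟨y, hy, rfl⟩ := hzp
  exact Cfsg.Lib.Fusion.mem_center_of_control hW2 hWZ hloc hS hF hN hy.1
    (Subgroup.mem_centralizer_iff.mp hy.2) hz.2

end Cfsg.Agent.S5253
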