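import Cfsg.Statements.S5254
import Cfsg.Agent.Fusion.AbelianIndexPShape
-- import your own Cfsg.Agent.* helpers here

set_option autoImplicit false
open Cfsg

namespace Cfsg.Agent.S5254

/-- Let p be an odd prime, S a finite nonabelian p-group with a unique abelian subgroup A of index p, and F a saturated fusion system over S. Then every F-essential subgroup P is A, or Z(S)⟨x⟩ for some x ∈ S outside A, or (when the second centre Z₂(S) lies in A) Z₂(S)⟨x⟩ for some x ∈ S outside A; and P has index p in its normalizer in S. -/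
theorem result {Ω : Type*} [Group Ω] {S : Subgroup Ω} [Finite S] (p : ℕ) [Fact p.Prime] (hS : IsPGroup p S) (F : Cfsg.FusionSystem S) (hF : F.IsSaturated p) (hp : p ≠ 2) (hna : ¬ IsMulCommutative ↥S) (A : Subgroup Ω) (hA : A ≤ S ∧ IsMulCommutative ↥A ∧ (A.subgroupOf S).index = p) (huniq : ∀ B : Subgroup Ω, B ≤ S → IsMulCommutative ↥B → (B.subgroupOf S).index = p → B = A) (P : Subgroup Ω) (hP : F.IsEssential p P) : (P = A ∨ (∃ x ∈ S, x ∉ A ∧ P = (S ⊓ Subgroup.centralizer (S : Set Ω)) ⊔ Subgroup.zpowers x) ∨ (((upperCentralSeries ↥S 2).map S.subtype) ≤ A ∧ ∃ x ∈ S, x ∉ A ∧ P = ((upperCentralSeries ↥S 2).map S.subtype) ⊔ Subgroup.zpowers x)) ∧ (P.subgroupOf (S ⊓ Subgroup.normalizer (P : Set Ω))).index = p := by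
  open Cfsg.Lib.Fusion in
  obtain ⟨hAS, hAc, hAi⟩ := hA
  haveI := finite_of_le hAS
  have hcomm : ∀ (B : Subgroup Ω), IsMulCommutative ↥B → ∀ a ∈ B, ∀ b ∈ B, a * b = b * a :=
    fun B hB a ha b hb => congrArg Subtype.val (hB.is_comm.comm (⟨a, ha⟩ : B) ⟨b, hb⟩)
  have hnab : ∃ a b : S, a * b ≠ b * a := by
    by_contra hno
    push Not at hno
    exact hna ⟨⟨hno⟩⟩
  have h : AbIndexP F p A :=
    { isP := hS
      sat := hF
      le := hAS
      comm := hcomm A hAc
      idx := by
        rw [← hAi, ← Subgroup.index_mul_card (A.subgroupOf S),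
          Nat.card_congr (Subgroup.subgroupOfEquivOfLe hAS).toEquiv]
      nonab := hnab
      uniq := fun B hB hBc hBi => huniq B hB
        ⟨⟨fun a b => Subtype.ext (hBc a a.2 b b.2)⟩⟩ (by
          haveI := finite_of_le hB
          have h1 := Subgroup.index_mul_card (B.subgroupOf S)
          rw [Nat.card_congr (Subgroup.subgroupOfEquivOfLe hB).toEquiv, hBi] at h1
          exact Nat.eq_of_mul_eq_mul_right Nat.card_pos h1) }
  have hz : S ⊓ Subgroup.centralizer (S : Set Ω) = zcen S := by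
    ext z
    rw [mem_zcen, Subgroup.mem_inf, Subgroup.mem_centralizer_iff]
    rfl
  rw [hz]
  have hPS := EssentialGen.lt_of_essential hS hF hP
  haveI := finite_of_le hPS.le
  have hidx : ∀ {X Y : Subgroup Ω} [Finite Y], X ≤ Y → Nat.card Y = p * Nat.card X → (X.subgroupOf Y).index = p := by
    intro X Y _ hXY e
    have h1 := (X.subgroupOf Y).card_mul_index
    rw [Nat.card_congr (Subgroup.subgroupOfEquivOfLe hXY).toEquiv, e, mul_comm p] at h1
    haveI : Finite X := Finite.of_injective (Subgroup.inclusion hXY) (Subgroup.inclusion_injective hXY)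
    exact Nat.eq_of_mul_eq_mul_left Nat.card_pos h1
  haveI : Finite ↥(S ⊓ Subgroup.normalizer (P : Set Ω)) := finite_of_le inf_le_left
  by_cases hne : P = A
  · subst hne
    refine ⟨Or.inl rfl, hidx (le_inf hAS Subgroup.le_normalizer) ?_⟩
    rw [inf_eq_left.mpr fun g hg => h.normalizes hg]
    exact h.idx
  obtain ⟨hZP, x, hxP, hxA⟩ := h.site_facts hPS hP hne
  have hx := hPS.le hxP
  obtain ⟨-, hc, hsh, hT⟩ := h.site_shape hPS hP hx hxP hxA hZP
  refine ⟨Or.inr ?_, hidx (le_inf hPS.le Subgroup.le_normalizer) hT⟩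
  rcases hsh with e | e
  · exact Or.inl ⟨x, hx, hxA, e⟩
  · refine Or.inr ⟨?_, x, hx, hxA, ?_⟩
    · rw [h.z2_eq hx hxA hc]
      exact Subgroup.map_subtype_le _
    · rw [h.z2_eq hx hxA hc]
      exact e

end Cfsg.Agent.S5254
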