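import Cfsg.Statements.S5257
import Cfsg.Agent.Fusion.AbelianIndexPShape
-- import your own Cfsg.Agent.* helpers here

set_option autoImplicit false
open Cfsg

namespace Cfsg.Agent.S5257

/-- Let p be an odd prime, S a finite nonabelian p-group with a unique abelian subgroup A of index p, and F a saturated fusion system over S having an F-essential subgroup other than A. Then the second centre Z₂(S) lies in A; Z(S) ∩ [S, S] has order p; Z(S)[S, S] has index p in A; Z(S) has index p in Z₂(S); and S/Z(S) has maximal nilpotency class (if S/Z(S) has order pᵐ with m ≥ 3 then the term of index m − 2 of the lower central series of S, counting S as index 0, is not contained in Z(S)). -/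
theorem result {Ω : Type*} [Group Ω] {S : Subgroup Ω} [Finite S] (p : ℕ) [Fact p.Prime] (hS : IsPGroup p S) (F : Cfsg.FusionSystem S) (hF : F.IsSaturated p) (hp : p ≠ 2) (hna : ¬ IsMulCommutative ↥S) (A : Subgroup Ω) (hA : A ≤ S ∧ IsMulCommutative ↥A ∧ (A.subgroupOf S).index = p) (huniq : ∀ B : Subgroup Ω, B ≤ S → IsMulCommutative ↥B → (B.subgroupOf S).index = p → B = A) (P : Subgroup Ω) (hP : F.IsEssential p P) (hPA : P ≠ A) : ((upperCentralSeries ↥S 2).map S.subtype) ≤ A ∧ Nat.card ↥((S ⊓ Subgroup.centralizer (S : Set Ω)) ⊓ ((commutator ↥S).map S.subtype)) = p ∧ (((S ⊓ Subgroup.centralizer (S : Set Ω)) ⊔ ((commutator ↥S).map S.subtype)).subgroupOf A).index = p ∧ (((S ⊓ Subgroup.centralizer (S : Set Ω))).subgroupOf ((upperCentralSeries ↥S 2).map S.subtype)).index = p ∧ ∀ m : ℕ, ((S ⊓ Subgroup.centralizer (S : Set Ω)).subgroupOf S).index = p ^ m → 3 ≤ m → ¬ Subgroup.lowerCentralSeries S (m - 2) ≤ (S ⊓ Subgroup.centralizer (S : Set Ω)) := by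
  open Cfsg.Lib.Fusion in
  obtain ⟨hAS, hAc, hAi⟩ := hA
  haveI := finite_of_le hAS
  have hcomm : ∀ (B : Subgroup Ω), IsMulCommutative ↥B → ∀ a ∈ B, ∀ b ∈ B, a * b = b * a :=
    fun B hB a ha b hb => congrArg Subtype.val (hB.is_comm.comm (⟨a, ha⟩ : B) ⟨b, hb⟩)
  have hnab : ∃ a b : S, a * b ≠ b * a := by
    by_contra hno
    push Not at hno
    exact hna ⟨⟨hno⟩⟩
  have h : AbIndexP F p A :=
    { isP := hS
      sat := hF
      le := hAS
      comm := hcomm A hAc
      idx := by
        rw [← hAi, ← Subgroup.index_mul_card (A.subgroupOf S),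
          Nat.card_congr (Subgroup.subgroupOfEquivOfLe hAS).toEquiv]
      nonab := hnab
      uniq := fun B hB hBc hBi => huniq B hB
        ⟨⟨fun a b => Subtype.ext (hBc a a.2 b b.2)⟩⟩ (by
          haveI := finite_of_le hB
          have h1 := Subgroup.index_mul_card (B.subgroupOf S)
          rw [Nat.card_congr (Subgroup.subgroupOfEquivOfLe hB).toEquiv, hBi] at h1
          exact Nat.eq_of_mul_eq_mul_right Nat.card_pos h1) }
  have hz : S ⊓ Subgroup.centralizer (S : Set Ω) = zcen S := by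
    ext z
    rw [mem_zcen, Subgroup.mem_inf, Subgroup.mem_centralizer_iff]
    rfl
  rw [hz]
  have hPS := EssentialGen.lt_of_essential hS hF hP
  haveI := finite_of_le hPS.le
  have hidx : ∀ {X Y : Subgroup Ω} [Finite Y], X ≤ Y → Nat.card Y = p * Nat.card X → (X.subgroupOf Y).index = p := by
    intro X Y _ hXY e
    have h1 := (X.subgroupOf Y).card_mul_index
    rw [Nat.card_congr (Subgroup.subgroupOfEquivOfLe hXY).toEquiv, e, mul_comm p] at h1
    haveI : Finite X := Finite.of_injective (Subgroup.inclusion hXY) (Subgroup.inclusion_injective hXY)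
    exact Nat.eq_of_mul_eq_mul_left Nat.card_pos h1
  obtain ⟨hZP, x, hxP, hxA⟩ := h.site_facts hPS hP hPA
  have hx := hPS.le hxP
  obtain ⟨hD, hc, -, -⟩ := h.site_shape hPS hP hx hxP hxA hZP
  haveI : Finite (zcen S) := finite_of_le zcen_le
  haveI : Finite (h.ctwo hx) := finite_of_le ((Subgroup.map_subtype_le _).trans h.le)
  rw [h.z2_eq hx hxA hc, show (commutator ↥S).map S.subtype = dcom S from rfl]
  refine ⟨Subgroup.map_subtype_le _, ?_, ?_, hidx ?_ ?_, fun m hm hm3 => ?_⟩
  · rw [inf_comm]; exact hD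
  · have hZA := h.zcen_le_A
    have hdA : dcom S ≤ A := fun d hd => by
      obtain ⟨a, ha, rfl⟩ := h.exists_diff hx hxA hd
      exact A.mul_mem (A.inv_mem ha) (h.conj_memA hx ha)
    rw [Subgroup.subgroupOf_sup hZA hdA]
    set Zs := (zcen S).subgroupOf A
    have hDs : (dcom S).subgroupOf A = (h.dmap hx).range := by
      ext y
      refine ⟨fun hy => ?_, fun ⟨a, ha⟩ => ?_⟩
      · obtain ⟨a, ha, e⟩ := h.exists_diff hx hxA (d := (y : Ω)) hy
        exact ⟨⟨a, ha⟩, Subtype.ext e⟩
      · rw [Subgroup.mem_subgroupOf, ← ha, h.dmap_coe]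
        exact mem_dcom (h.le a.2) hx
    rw [hDs]
    set D := (h.dmap hx).range
    haveI : Zs.Normal := ⟨fun z hz g => by
      rwa [show g * z * g⁻¹ = z from Subtype.ext (by
        show (g : Ω) * z * (g : Ω)⁻¹ = z
        rw [h.comm g g.2 z z.2, mul_inv_cancel_right])]⟩
    have h1 : Zs.relIndex (D ⊔ Zs) = Zs.relIndex D := Subgroup.relIndex_sup_right D Zs
    rw [sup_comm]
    have h2 := (Zs.subgroupOf D).card_mul_index
    have h3 : Nat.card (Zs.subgroupOf D) = p := by
      rw [← hD, ← h.card_range_inf hx hxA]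
      exact Nat.card_congr
        { toFun := fun y => ⟨y.1.1, y.1.2, y.2⟩
          invFun := fun y => ⟨⟨y.1, y.2.1⟩, y.2.2⟩
          left_inv := fun _ => rfl
          right_inv := fun _ => rfl }
    have h4 := Subgroup.relIndex_mul_index (le_sup_right : Zs ≤ D ⊔ Zs)
    have h5 := Zs.card_mul_index
    rw [h.card_zA, ← h4, h1, h.card_A hx hxA, ← h2, h3] at h5
    change Nat.card (zcen S) * (Zs.relIndex D * (D ⊔ Zs).index) = Nat.card (zcen S) * (p * Zs.relIndex D) at h5
    have h6 := Nat.eq_of_mul_eq_mul_left Nat.card_pos h5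
    rw [mul_comm p] at h6
    exact Nat.eq_of_mul_eq_mul_left (Nat.pos_of_ne_zero Subgroup.index_ne_zero_of_finite) h6
  · intro z hz
    refine (h.mem_ctwo hx).mpr ⟨h.zcen_le_A hz, ?_⟩
    rw [(mem_zcen.mp hz).2 x hx, mul_inv_cancel_right, inv_mul_cancel]
    exact Subgroup.one_mem _
  · rw [h.card_ctwo hx hxA, hD, mul_comm]
  · refine h.lcs_not_le_zcen hx hxA hD ?_ (by omega)
    have h1 := ((zcen S).subgroupOf S).card_mul_index
    rw [Nat.card_congr (Subgroup.subgroupOfEquivOfLe zcen_le).toEquiv, hm] at h1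
    rw [← h1, mul_comm]

end Cfsg.Agent.S5257
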