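import Cfsg.Statements.S5259
import Cfsg.Agent.Fusion.ThreeUni.Main
import Cfsg.Agent.Known.SLThreeBase
import Cfsg.Agent.Known.AutPSLn.Sylow
-- import your own Cfsg.Agent.* helpers here

set_option autoImplicit false
open Cfsg

namespace Cfsg.Agent.S5259

/-- Let p be a prime, K a finite field of characteristic p, and S a finite p-group isomorphic to a Sylow p-subgroup of SL₃(K). Then every exotic fusion system F over S (saturated but not the fusion system of a finite group on a Sylow p-subgroup) has no nontrivial normal subgroup: O_p(F) = 1. -/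
theorem result {Ω : Type*} [Group Ω] {S : Subgroup Ω} [Finite S] (p : ℕ) [Fact p.Prime] (hS : IsPGroup p S) (F : Cfsg.FusionSystem S) (hF : F.IsSaturated p) {K : Type*} [Field K] [Fintype K] [CharP K p] (T : Sylow p (Matrix.SpecialLinearGroup (Fin 3) K)) (e : ↥S ≃* ↥(T : Subgroup (Matrix.SpecialLinearGroup (Fin 3) K))) (hex : F.IsExotic p) : F.core = ⊥ := by
  classical
  by_contra hcore
  obtain ⟨Q, hQ⟩ := Cfsg.Lib.Known.AutPSLn.exists_sylow_upperUni (F := K) (n := 3) p
  have hut : ∀ c : K × K × K, Cfsg.Lib.Known.SLThree.ut c.1 c.2.2 c.2.1 ∈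
      (Q : Subgroup (Matrix.SpecialLinearGroup (Fin 3) K)) := fun c => by
    rw [hQ]
    intro i j hji
    fin_cases i <;> fin_cases j <;> simp_all [Cfsg.Lib.Known.SLThree.coe_ut]
  let e' := e.trans (Sylow.equiv T Q)
  let f₀ : K × K × K → ↥(Q : Subgroup (Matrix.SpecialLinearGroup (Fin 3) K)) := fun c => ⟨_, hut c⟩
  have hinj : Function.Injective f₀ := by
    rintro ⟨a, b, c⟩ ⟨a', b', c'⟩ h
    have h' : ((f₀ (a, b, c)).1 : Matrix (Fin 3) (Fin 3) K) = (f₀ (a', b', c')).1 := by rw [h]
    simp only [f₀, Cfsg.Lib.Known.SLThree.coe_ut] at h'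
    have h1 := congrFun (congrFun h' 0) 1
    have h2 := congrFun (congrFun h' 1) 2
    have h3 := congrFun (congrFun h' 0) 2
    simp at h1 h2 h3
    simp [h1, h2, h3]
  have hcard : Nat.card (K × K × K) = Nat.card ↥(Q : Subgroup (Matrix.SpecialLinearGroup (Fin 3) K)) := by
    rw [hQ, Cfsg.Lib.Known.AutPSLn.card_upperUni, Nat.card_prod, Nat.card_prod, Nat.card_eq_fintype_card]
    ring
  have hf₀ : Function.Bijective f₀ := Function.Injective.bijective_of_nat_card_le hinj hcard.ge
  refine hex.2 (Cfsg.Lib.Fusion.ThreeUni.realizable_of_core hS hF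
    (Cfsg.Lib.Fusion.ThreeUni.shape_of_param (fun c => e'.symm (f₀ c))
      (e'.symm.bijective.comp hf₀) fun a b => ?_) hcore)
  rw [← map_mul]
  refine congrArg e'.symm (Subtype.ext ?_)
  show Cfsg.Lib.Known.SLThree.ut _ _ _ * Cfsg.Lib.Known.SLThree.ut _ _ _ = _
  rw [Cfsg.Lib.Known.SLThree.ut_mul]

end Cfsg.Agent.S5259
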