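import Cfsg.Statements.S5264
import Cfsg.Agent.Fusion.OrderPFive.ThreeTri
import Cfsg.Agent.Fusion.AbelianIndexP
import Cfsg.Agent.Fusion.ComponentExistence

set_option autoImplicit false
open Cfsg
open Cfsg.Lib.Fusion Cfsg.Lib.Fusion.OrderPFive

namespace Cfsg.Agent.S5264

/-- Let p be an odd prime other than 7, S a finite p-group of order p^5, and F a saturated fusion system over S with no nontrivial normal subgroup and with hyperfocal subgroup equal to S (so F is its own p-residual subsystem). Then S has an abelian subgroup of index p. -/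
theorem result {Ω : Type*} [Group Ω] {S : Subgroup Ω} [Finite S] (p : ℕ) [Fact p.Prime] (hS : IsPGroup p ↥S) (F : Cfsg.FusionSystem S) (hF : F.IsSaturated p) (hp : p ≠ 2) (hp7 : p ≠ 7) (hcard : Nat.card S = p ^ 5) (hcore : F.core = ⊥) (hhyp : F.hyperfocalSubgroup p = S) : ∃ A : Subgroup Ω, A ≤ S ∧ IsMulCommutative ↥A ∧ (A.subgroupOf S).index = p := by
  by_contra hNA
  have T : Five p S := five_of hcard hNA
  haveI : Group.IsNilpotent S := hS.isNilpotent
  by_cases hex : ∃ E : Subgroup Ω, F.IsEssential p E ∧ ∀ a ∈ E, ∀ b ∈ E, a * b = b * a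
  · obtain ⟨E, hE, hab⟩ := hex
    by_cases h27 : ∃ E : Subgroup Ω, F.IsEssential p E ∧ (∀ a ∈ E, ∀ b ∈ E, a * b = b * a) ∧ Nat.card E = p ^ 3
    · obtain ⟨E, hE, hab, hc⟩ := h27
      obtain ⟨A, M, e, x, R⟩ := exists_tri hS hF T hE hab hc
      exact false_of_abelian_three hS hF (three_of_abelian hS hF T hp hE hab hc R).1 hhyp T hE hab hc
    have hlt := EssentialGen.lt_of_essential hS hF hE
    obtain ⟨k, hk⟩ := exists_pow hS (E.subgroupOf S)
    have hcE : Nat.card E = p ^ k := (card_subgroupOf_eq hE.1.1).symm.trans hk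
    have hne : E.subgroupOf S ≠ ⊤ := fun e' => hlt.not_ge fun v hv =>
      (e'.ge (Subgroup.mem_top (⟨v, hv⟩ : S)) : (⟨v, hv⟩ : S) ∈ E.subgroupOf S)
    have hk2 : k = 2 := by
      have h5 := Subgroup.card_le_card_group (E.subgroupOf S)
      rw [hk, hcard, Nat.pow_le_pow_iff_right (Fact.out : p.Prime).one_lt] at h5
      rcases (show k ≤ 1 ∨ k = 2 ∨ k = 3 ∨ k = 4 ∨ k = 5 by omega) with h | h | h | h | h
      · exfalso
        have hZQ : Subgroup.center S = E.subgroupOf S :=
          Subgroup.eq_of_le_of_card_ge (center_le_of_centric hE.1) (by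
            rw [hk]
            refine (Nat.pow_le_pow_right (Fact.out : p.Prime).pos h).trans ?_
            rcases T.card_center with hz | hz <;> rw [hz]
            · rw [pow_one]
            · exact Nat.pow_le_pow_right (Fact.out : p.Prime).pos (by norm_num))
        exact hne (eq_top_iff.2 fun v _ => self_of_centric hE.1 fun b hb =>
          Subgroup.mem_center_iff.1 (hZQ.ge hb) v)
      · exact h
      · exact absurd ⟨E, hE, hab, h ▸ hcE⟩ h27
      · exfalso
        obtain ⟨a, ha, b, hb, hne'⟩ := T.not_comm (h ▸ hk)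
        exact hne' (Subtype.ext (hab _ ha _ hb))
      · exact absurd (Subgroup.eq_top_of_card_eq _ (by rw [hk, h, hcard])) hne
    subst hk2
    exact false_of_pearl_three hS hF (three_of_pearl hS hF T hp hp7 hE hcE) hhyp T (fun Q hQ hc => by
      by_contra h
      push Not at h
      exact h27 ⟨Q, hQ, h, hc⟩) hE hcE
  -- the centre is normal in `F`
  push Not at hex
  set U : Subgroup Ω := (Subgroup.center S).map S.subtype
  have hUS : U ≤ S := Subgroup.map_subtype_le _
  haveI : Finite U := finite_of_le hUS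
  have hUn : F.IsNormal U := isNormal_of_essential hS hF hUS (fun g hg => by
      refine mem_normalizer_of_maps_finite ?_
      rintro _ ⟨w, hw, rfl⟩
      exact ⟨_, (inferInstance : (Subgroup.center S).Normal).conj_mem w hw ⟨g, hg⟩, rfl⟩)
    (fun φ _ v hv => by
      obtain ⟨w, hw, ew⟩ := hv
      rw [show v = w from Subtype.ext ew.symm]
      exact ⟨φ w, Subgroup.mem_center_iff.2 fun g => by
        have h := congrArg φ (Subgroup.mem_center_iff.1 hw (φ.symm g))
        simpa using h, rfl⟩)
    (fun P hPS hP => by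
      obtain ⟨a, ha, b, hb, hne⟩ := hex P hP
      haveI := finite_of_le hP.1.1
      obtain ⟨k, hk⟩ := exists_pow hS (P.subgroupOf S)
      have hcP : Nat.card P = p ^ k := (card_subgroupOf_eq hP.1.1).symm.trans hk
      have h4 : k ≤ 4 := by
        have h := Subgroup.card_le_card_group (P.subgroupOf S)
        rw [hk, hcard, Nat.pow_le_pow_iff_right (Fact.out : p.Prime).one_lt] at h
        by_contra h'
        refine hPS.not_ge fun v hv => ?_
        exact ((Subgroup.eq_top_of_card_eq (P.subgroupOf S) (by rw [hk, hcard, show k = 5 by omega])).ge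
          (Subgroup.mem_top (⟨v, hv⟩ : S)) : (⟨v, hv⟩ : S) ∈ P.subgroupOf S)
      have h3 : 3 ≤ k := by
        by_contra h'
        refine hne ?_
        rcases (show k = 0 ∨ k = 1 ∨ k = 2 by omega) with rfl | rfl | rfl
        · haveI : Subsingleton P := (Nat.card_eq_one_iff_unique.1 (by rw [hcP, pow_zero])).1
          exact congrArg Subtype.val (Subsingleton.elim ((⟨a, ha⟩ : P) * ⟨b, hb⟩) (⟨b, hb⟩ * ⟨a, ha⟩))
        · haveI : IsCyclic P := isCyclic_of_prime_card (p := p) (by rw [hcP, pow_one])
          letI := IsCyclic.commGroup (α := P)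
          exact congrArg Subtype.val (mul_comm (⟨a, ha⟩ : P) ⟨b, hb⟩)
        · haveI : IsMulCommutative P := IsPGroup.isMulCommutative_of_card_eq_prime_sq (p := p) hcP
          exact congrArg Subtype.val (IsMulCommutative.is_comm.comm (⟨a, ha⟩ : P) ⟨b, hb⟩)
      refine ⟨fun z hz => ?_, fun α _ v hv => ?_⟩
      · obtain ⟨w, hw, rfl⟩ := hz
        exact center_le_of_centric hP.1 hw
      · obtain ⟨w, hw, ew⟩ := hv
        refine ⟨actHom hP.1.1 α ⟨w, (show (w : Ω) ∈ P by rw [show (w : Ω) = v from ew]; exact v.2)⟩,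
          center_keep T hP.1 ⟨a, ha, b, hb, hne⟩
            (by rcases (show k = 3 ∨ k = 4 by omega) with rfl | rfl <;> simp [hcP]) α _ hw, ?_⟩
        rw [← autFun_apply α v]
        exact (coe_actHom hP.1.1 α _).trans (congrArg (autFun α) ew))
  have hle : U ≤ ⊥ := hcore ▸ CompEx.le_core hUn
  have hZ1 : Subgroup.center S = ⊥ := eq_bot_iff.2 fun w hw => Subgroup.mem_bot.2 (Subtype.ext
    (Subgroup.mem_bot.1 (hle ⟨w, hw, rfl⟩)))
  have h2 := (Fact.out : p.Prime).two_le
  rcases T.card_center with hz | hz <;> rw [hZ1, Subgroup.card_bot] at hz <;> nlinarith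

end Cfsg.Agent.S5264
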