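import Cfsg.Statements.S5269
import Cfsg.Agent.Fusion.MaxClassNormal.IndexP
import Cfsg.Agent.Fusion.MaxClassNormal.Reduce

set_option autoImplicit false
open Cfsg
set_option linter.style.haveILetI false
open scoped commutatorElement

namespace Cfsg.Agent.S5269

/-- Let p ≥ 5 be a prime, S a finite p-group of maximal class of order p^n with n ≥ 4, F a saturated fusion system over S, and E an F-essential subgroup that is normal in S. Then E has index p in S; moreover E is the two-step centralizer Γ₁ = C_S([S,S]/γ₄(S)) or E = C_S(Z₂(S)), unless S has order p^4 and E is extraspecial of order p³ and exponent p. -/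
theorem result {Ω : Type*} [Group Ω] {S : Subgroup Ω} [Finite S] (p : ℕ) [Fact p.Prime] (hS : IsPGroup p ↥S) (n : ℕ) (hn : Nat.card S = p ^ n) (h4 : 4 ≤ n) (hmax : Subgroup.lowerCentralSeries S (n - 2) ≠ ⊥) (F : Cfsg.FusionSystem S) (hF : F.IsSaturated p) (hp : 5 ≤ p) (Γ₁ : Subgroup Ω) (hΓ₁ : ∀ x : Ω, x ∈ Γ₁ ↔ x ∈ S ∧ ∀ y ∈ Subgroup.lowerCentralSeries S 1, x * y * x⁻¹ * y⁻¹ ∈ Subgroup.lowerCentralSeries S 3) (E : Subgroup Ω) (hE : F.IsEssential p E) (hEn : (E.subgroupOf S).Normal) : (E.subgroupOf S).index = p ∧ (E = Γ₁ ∨ E = (S ⊓ Subgroup.centralizer (((Subgroup.upperCentralSeries ↥S 2).map S.subtype) : Set Ω)) ∨ (n = 4 ∧ Nat.card ↥E = p ^ 3 ∧ Cfsg.IsExtraspecial p ↥E ∧ Monoid.exponent ↥E = p)) := by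
  open Cfsg.Lib.PGroups MaxClassRank MaxClassThree MaxClassAgemo MaxClassDegree MaxClassOutside in
  open Cfsg.FusionSystem Cfsg.Lib.Fusion MaxClassNormal in
  haveI : Group.IsNilpotent S := hS.isNilpotent
  have hc := MaxClassBasic.class_eq hn (by omega) hmax
  obtain ⟨x, D⟩ := exists_data (show 3 ≤ p by omega) n S hn h4 hc
  have B := D.toBase
  haveI := hEn
  have hES : E ≤ S := hE.1.1
  haveI := finite_of_le hES
  have hL : ∀ i, Subgroup.lowerCentralSeries S i = (L S i).map S.subtype := fun i => by
    rw [L, Subgroup.map_lowerCentralSeries, ← MonoidHom.range_eq_map, Subgroup.range_subtype]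
  obtain ⟨r, hr⟩ := B.isP.index (E.subgroupOf S)
  have hr1 : r = 1 := by
    rcases Nat.lt_or_ge r 2 with h | h
    · by_contra hne
      obtain rfl : r = 0 := by omega
      refine (EssentialGen.lt_of_essential hS hF hE).ne (le_antisymm hES fun g hg => ?_)
      have : (⟨g, hg⟩ : S) ∈ E.subgroupOf S := by
        rw [Subgroup.index_eq_one.1 (show (E.subgroupOf S).index = 1 by rw [hr, pow_zero])]
        exact Subgroup.mem_top _
      exact this
    exfalso
    have heq : E.subgroupOf S = L S (r - 1) :=
      Cfsg.Lib.MaxClass.normal_eq_lcs n S B.card (by omega) B.cls (E.subgroupOf S) r h hr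
    have hrn : r ≤ n := by
      have h3 := (E.subgroupOf S).index_dvd_card
      rw [hr, B.card] at h3
      exact (Nat.pow_dvd_pow_iff_le_right (Fact.out : p.Prime).one_lt).1 h3
    set k := r - 1 with hk
    -- centricity excludes the last three terms
    have hcen : Subgroup.centralizer (L S k : Set S) ≤ L S k := by
      rw [← heq]
      exact MaxClassSmall.centralizer_subgroupOf_le hES (hE.1.2 E (isConj_refl hES))
    have hkn : k + 4 ≤ n := by
      by_contra hlt
      have hle : stepCent S (n - 3) ≤ L S k := fun g hg => hcen (Subgroup.mem_centralizer_iff.2 fun a ha => by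
        have h1 := mem_stepCent.1 hg a (L_le (by omega) ha)
        rw [B.L_eq_bot (by omega), Subgroup.mem_bot, commutatorElement_eq_one_iff_mul_comm] at h1
        exact h1)
      have h2 := Subgroup.index_dvd_of_le hle
      rw [index_stepCent B (by omega) (by omega), B.L_index (by omega) (by omega)] at h2
      have := (Nat.pow_dvd_pow_iff_le_right (Fact.out : p.Prime).one_lt).1 (h2.trans (pow_one p).symm.dvd)
      omega
    -- the Frattini subgroup
    set Φ := (frattini E).map (Subgroup.inclusion hES) with hΦ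
    have hΦn : Φ.Normal := by
      refine ⟨fun a ha g => ?_⟩
      obtain ⟨a, ha, rfl⟩ := ha
      have hg : (g : Ω) ∈ normalizerIn S E := ⟨g.2, mem_normalizer_of_maps_finite fun e he =>
        hEn.conj_mem ⟨e, hES he⟩ he g⟩
      refine ⟨normalizerInHom S E ⟨g, hg⟩ a, ?_, Subtype.ext rfl⟩
      have h1 : a ∈ (frattini E).comap (normalizerInHom S E ⟨g, hg⟩).toMonoidHom := by
        rw [Subgroup.characteristic_iff_comap_eq.1 inferInstance]; exact ha
      exact h1
    haveI := hΦn
    have hΦle : Φ ≤ L S k := by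
      rw [← heq, ← Subgroup.inclusion_range hES]
      rw [hΦ]
      exact (Subgroup.map_mono le_top).trans (MonoidHom.range_eq_map _).ge
    obtain ⟨s, hs⟩ := B.isP.index Φ
    have hks : k + 1 ≤ s := by
      have h2 := Subgroup.index_dvd_of_le hΦle
      rw [B.L_index (by omega) (by omega), hs] at h2
      exact (Nat.pow_dvd_pow_iff_le_right (Fact.out : p.Prime).one_lt).1 h2
    have hsn : s ≤ n := by
      have h3 := Φ.index_dvd_card
      rw [hs, B.card] at h3
      exact (Nat.pow_dvd_pow_iff_le_right (Fact.out : p.Prime).one_lt).1 h3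
    have hΦeq : Φ = L S (s - 1) := Cfsg.Lib.MaxClass.normal_eq_lcs n S B.card (by omega) B.cls Φ s (by omega) hs
    have hne : s - 1 ≠ k := fun e => by
      have h4' : E.subgroupOf S ≤ Φ := by
        rw [heq, hΦeq, e]
      have htop : frattini E = ⊤ := eq_top_iff.2 fun a _ => by
        have := h4' (show Subgroup.inclusion hES a ∈ E.subgroupOf S from a.2)
        rwa [hΦ, Subgroup.mem_map_iff_mem (Subgroup.inclusion_injective hES)] at this
      have hb : (⊥ : Subgroup E) = ⊤ := frattini_nongenerating (by rw [bot_sup_eq, htop])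
      haveI : Subsingleton E := ⟨fun a b => by
        have ha : a ∈ (⊥ : Subgroup E) := hb ▸ Subgroup.mem_top a
        have hb : b ∈ (⊥ : Subgroup E) := hb ▸ Subgroup.mem_top b
        rw [Subgroup.mem_bot] at ha hb
        rw [ha, hb]⟩
      have h5 : Nat.card (L S k) = 1 := by
        rw [← heq, MaxClassSmall.card_subgroupOf hES, Nat.card_unique]
      rw [B.L_card (by omega) (by omega), Nat.pow_eq_one] at h5
      have := (Fact.out : p.Prime).one_lt
      omega
    exact Site.false_of (k := k) (d := s - 1 - k)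
      { isP := hS
        sat := hF
        data := D
        ess := hE
        eq_L := heq
        k1 := by omega
        hkn := hkn
        hd := by omega
        hdn := by omega
        frat := by rw [show k + (s - 1 - k) = s - 1 by omega]; exact hΦeq } hp
  subst hr1
  rw [pow_one] at hr
  refine ⟨hr, ?_⟩
  by_cases hM : E.subgroupOf S = stepCent S 1
  · refine Or.inl (Subgroup.ext fun g => ?_)
    rw [hΓ₁]
    constructor
    · intro hg
      refine ⟨hES hg, fun y hy => ?_⟩
      rw [hL] at hy ⊢
      obtain ⟨a, ha, rfl⟩ := hy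
      have h1 := mem_stepCent.1 (hM.le (show (⟨g, hES hg⟩ : S) ∈ E.subgroupOf S from hg)) a ha
      refine ⟨(⁅a, (⟨g, hES hg⟩ : S)⁆)⁻¹, inv_mem h1, ?_⟩
      rw [commutatorElement_inv, map_commutatorElement, commutatorElement_def]
      rfl
    · rintro ⟨hg, hy⟩
      refine (hM.ge (x := ⟨g, hg⟩) (mem_stepCent.2 fun a ha => ?_) :)
      have h1 := hy a (by rw [hL]; exact ⟨a, ha, rfl⟩)
      rw [hL] at h1
      obtain ⟨b, hb, hbe⟩ := h1
      rw [← commutatorElement_inv]
      refine inv_mem ?_
      rwa [show ⁅(⟨g, hg⟩ : S), a⁆ = b from Subtype.ext (by rw [← commutatorElement_def] at hbe; exact hbe.symm)]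
  by_cases hC : E.subgroupOf S = stepCent S (n - 3)
  · refine Or.inr (Or.inl (Subgroup.ext fun g => ?_))
    rw [upper_two_eq B h4, Subgroup.mem_inf, Subgroup.mem_centralizer_iff]
    constructor
    · intro hg
      refine ⟨hES hg, ?_⟩
      rintro _ ⟨a, ha, rfl⟩
      have h1 := mem_stepCent.1 (hC.le (show (⟨g, hES hg⟩ : S) ∈ E.subgroupOf S from hg)) a ha
      rw [B.L_eq_bot (by omega), Subgroup.mem_bot, commutatorElement_eq_one_iff_mul_comm] at h1
      exact congrArg Subtype.val h1
    · rintro ⟨hg, hy⟩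
      refine (hC.ge (x := ⟨g, hg⟩) (mem_stepCent.2 fun a ha => ?_) :)
      rw [commutatorElement_eq_one_iff_mul_comm.2 (Subtype.ext (hy a ⟨a, ha, rfl⟩))]
      exact one_mem _
  exact Or.inr (Or.inr (shape_index_p hS hF (by omega) B h4 hE hr hM hC))

end Cfsg.Agent.S5269
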