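import Cfsg.Statements.S5270
import Cfsg.Agent.Fusion.MaxClassBasic
import Cfsg.Agent.Fusion.EssentialGen

set_option autoImplicit false
set_option linter.style.haveILetI false
open Cfsg Cfsg.FusionSystem Cfsg.Lib.Fusion

namespace Cfsg.Agent.S5270

/-- Let p ≥ 5 be a prime, S a finite p-group of maximal class of order p^n with n ≥ 4, and F a saturated fusion system over S. If some map of F defined on the second centre Z₂(S) with image Z₂(S) does not carry Z(S) into itself, then the centralizer C_S(Z₂(S)) is an F-essential subgroup. -/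
theorem result {Ω : Type*} [Group Ω] {S : Subgroup Ω} [Finite S] (p : ℕ) [Fact p.Prime] (hS : IsPGroup p ↥S) (n : ℕ) (hn : Nat.card S = p ^ n) (h4 : 4 ≤ n) (hmax : Subgroup.lowerCentralSeries S (n - 2) ≠ ⊥) (F : Cfsg.FusionSystem S) (hF : F.IsSaturated p) (hp : 5 ≤ p) (φ : ↥((Subgroup.upperCentralSeries ↥S 2).map S.subtype) →* Ω) (hφ : φ ∈ F.Hom ((Subgroup.upperCentralSeries ↥S 2).map S.subtype)) (hφZ : φ.range = ((Subgroup.upperCentralSeries ↥S 2).map S.subtype)) (hmove : ∃ (z : Ω) (hz : z ∈ ((Subgroup.upperCentralSeries ↥S 2).map S.subtype)), z ∈ ((Subgroup.center ↥S).map S.subtype) ∧ φ ⟨z, hz⟩ ∉ ((Subgroup.center ↥S).map S.subtype)) : F.IsEssential p (S ⊓ Subgroup.centralizer (((Subgroup.upperCentralSeries ↥S 2).map S.subtype) : Set Ω)) := by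
  haveI : Group.IsNilpotent ↥S := hS.isNilpotent
  have hc := MaxClassBasic.class_eq hn (by omega) hmax
  revert φ
  generalize hZ2 : (Subgroup.upperCentralSeries ↥S 2).map S.subtype = Z2
  generalize hZdef : (Subgroup.center ↥S).map S.subtype = Z
  intro φ hφ hφZ hmove
  have hZ2S : Z2 ≤ S := hZ2 ▸ Subgroup.map_subtype_le _
  have hZS : ∀ z ∈ Z, ∀ s ∈ S, s * z = z * s := by
    rw [← hZdef]
    rintro _ ⟨z, hz, rfl⟩ s hs
    exact congrArg Subtype.val (Subgroup.mem_center_iff.1 hz ⟨s, hs⟩)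
  obtain ⟨z, hz2, hzZ, hmv⟩ := hmove
  set C := centralizerIn S Z2
  show F.IsEssential p C
  have hZ2C : Z2 ≤ C := by
    intro x hx
    rw [← hZ2] at hx
    obtain ⟨a, ha, rfl⟩ := hx
    refine mem_centralizerIn.mpr ⟨a.2, ?_⟩
    rw [← hZ2]
    rintro _ ⟨b, hb, rfl⟩
    have h := congrArg Subtype.val (MaxClassBasic.two_comm hn h4 hc a ha b hb)
    show (a : Ω) * b * (a : Ω)⁻¹ = b
    rw [Subgroup.coe_mul, Subgroup.coe_mul] at h
    rw [h, mul_inv_cancel_right]
  have hCS : C < S := lt_of_le_of_ne inf_le_left fun e => hmv (by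
    have hw : φ ⟨z, hz2⟩ ∈ Z2 := by
      have h : φ ⟨z, hz2⟩ ∈ φ.range := ⟨_, rfl⟩
      rwa [hφZ] at h
    rw [← hZdef]
    refine ⟨⟨_, hZ2S hw⟩, Subgroup.mem_center_iff.2 fun s => Subtype.ext ?_, rfl⟩
    have h := (mem_centralizerIn.mp (e.symm ▸ s.2 : (s : Ω) ∈ C)).2 _ hw
    exact mul_inv_eq_iff_eq_mul.1 h)
  have hnorm : ∀ Q : Subgroup Ω, Q ≤ S → (∀ g ∈ S, ∀ x ∈ Q, g * x * g⁻¹ ∈ Q) →
      normalizerIn S Q = S := by
    intro Q _ h
    refine le_antisymm inf_le_left fun g hg => ⟨hg, ?_⟩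
    show g ∈ Subgroup.normalizer (Q : Set Ω)
    rw [Subgroup.mem_normalizer_iff]
    refine fun y => ⟨h g hg y, fun hy => ?_⟩
    have := h g⁻¹ (S.inv_mem hg) _ hy
    simpa [mul_assoc] using this
  have hZ2n : ∀ g ∈ S, ∀ x ∈ Z2, g * x * g⁻¹ ∈ Z2 := by
    rw [← hZ2]
    rintro g hg _ ⟨a, ha, rfl⟩
    have h1 := (inferInstance : (Subgroup.upperCentralSeries ↥S 2).Normal).conj_mem a ha (⟨g, hg⟩ : ↥S)
    exact Subgroup.mem_map_of_mem S.subtype h1
  have hCn : ∀ g ∈ S, ∀ x ∈ C, g * x * g⁻¹ ∈ C := by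
    intro g hg x hx
    obtain ⟨hxS, hxc⟩ := mem_centralizerIn.mp hx
    refine mem_centralizerIn.mpr ⟨S.mul_mem (S.mul_mem hg hxS) (S.inv_mem hg), fun y hy => ?_⟩
    have hy' : g⁻¹ * y * g ∈ Z2 := by
      have h0 := hZ2n g⁻¹ (S.inv_mem hg) y hy
      rwa [inv_inv] at h0
    have h := hxc _ hy'
    calc g * x * g⁻¹ * y * (g * x * g⁻¹)⁻¹ = g * (x * (g⁻¹ * y * g) * x⁻¹) * g⁻¹ := by group
      _ = y := by rw [h]; group
  have hfn : ∀ Q : Subgroup Ω, Q ≤ S → (∀ g ∈ S, ∀ x ∈ Q, g * x * g⁻¹ ∈ Q) →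
      F.IsFullyNormalized Q := fun Q hQ h =>
    ⟨hQ, fun R _ => by rw [hnorm Q hQ h]; exact Subgroup.card_le_of_le inf_le_left⟩
  refine (EssentialGen.essential_of_extH_ne hS hF hCS (hfn C hCS.le hCn) fun heq => ?_).1
  -- extending automorphisms fix the centre
  let stab : Subgroup (MulAut C) :=
    { carrier := {α | ∀ c : C, ((c : Ω) ∈ Z ↔ ((α c : C) : Ω) ∈ Z)}
      one_mem' := fun c => Iff.rfl
      mul_mem' := fun {a b} ha hb c => (hb c).trans (ha (b c))
      inv_mem' := fun {a} ha c => by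
        have h := ha (a⁻¹ c)
        rw [MulAut.apply_inv_self] at h
        exact h.symm }
  have hstab : EssentialGen.extH F C ≤ stab := by
    refine (Subgroup.closure_le _).mpr fun α hα c => ?_
    obtain ⟨T, hCT, f, hf, he⟩ := hα
    have hT : T = S := by
      refine le_antisymm hf.le fun s hs => ?_
      haveI := finite_of_le hf.le
      have h1 : (C.subgroupOf S).index ∣ p := by
        refine dvd_trans (Subgroup.index_dvd_of_le ?_) (MaxClassBasic.index_centralizer_two hn h4 hc)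
        intro g hg
        refine mem_centralizerIn.mpr ⟨g.2, ?_⟩
        rw [← hZ2]
        rintro _ ⟨b, hb, rfl⟩
        have h := congrArg Subtype.val (Subgroup.mem_centralizer_iff.1 hg b hb)
        show (g : Ω) * b * (g : Ω)⁻¹ = b
        rw [Subgroup.coe_mul, Subgroup.coe_mul] at h
        rw [← h, mul_inv_cancel_right]
      have hlt : C.subgroupOf S < T.subgroupOf S := by
        refine lt_of_le_of_ne (fun g hg => hCT.le hg) fun e => hCT.not_ge fun t ht => ?_
        exact (e.ge (show (⟨t, hf.le ht⟩ : S) ∈ T.subgroupOf S from ht) : _)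
      rcases (Nat.dvd_prime Fact.out).mp ((Subgroup.index_dvd_of_le hlt.le).trans h1) with h | h
      · exact (Subgroup.index_eq_one.mp h).ge (Subgroup.mem_top (⟨s, hs⟩ : S))
      · exfalso
        have h2 := Nat.le_of_dvd (Fact.out : p.Prime).pos h1
        exact absurd (Subgroup.index_strictAnti hlt) (by omega)
    subst hT
    have hev : f (c : Ω) = ((α c : C) : Ω) := by rw [he _ c.2, autFun_apply]
    constructor
    · intro hcZ
      rw [← hZdef]
      refine ⟨⟨_, hCS.le (α c).2⟩, Subgroup.mem_center_iff.2 fun s => ?_, rfl⟩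
      have hinjS : Function.Injective (fun t : T => (⟨f t, hf.mem_S t.2⟩ : T)) := fun a b h =>
        Subtype.ext (hf.injOn a.2 b.2 (congrArg Subtype.val h))
      obtain ⟨t, ht⟩ := Finite.surjective_of_injective hinjS s
      refine Subtype.ext ?_
      show (s : Ω) * (α c : C) = (α c : C) * (s : Ω)
      rw [← ht, ← hev, ← hf.map_mul t.2 (hCS.le c.2), ← hf.map_mul (hCS.le c.2) t.2, hZS _ hcZ _ t.2]
    · intro hcZ
      rw [← hZdef]
      refine ⟨⟨_, hCS.le c.2⟩, Subgroup.mem_center_iff.2 fun t => Subtype.ext ?_, rfl⟩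
      refine hf.injOn (T.mul_mem t.2 (hCS.le c.2)) (T.mul_mem (hCS.le c.2) t.2) ?_
      show f ((t : Ω) * c) = f ((c : Ω) * t)
      rw [hf.map_mul t.2 (hCS.le c.2), hf.map_mul (hCS.le c.2) t.2, hev]
      exact hZS _ hcZ _ (hf.mem_S t.2)
  -- but an extension of `φ` moves it
  have hfφ : IsMap F Z2 (toFun' φ) := isMap_of_mem hφ
  have hiφ : img Z2 (toFun' φ) = Z2 :=
    (hfφ.range_eq fun x => (toFun'_apply φ x).symm).symm.trans hφZ
  obtain ⟨-, -, hrec⟩ := fullyNormalized_props hS hF (hfn Z2 hZ2S hZ2n)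
  obtain ⟨k, hk, hke⟩ := receptive_extend hrec hfφ hiφ
  have hkC : IsMap F C k := hk.mono (centralizerIn_le_extSub Z2 _)
  have hik : img C k = C := by
    haveI := finite_of_le hCS.le
    refine Subgroup.eq_of_le_of_card_ge (IsMap.img_le_iff.mpr fun c hc' => ?_) hkC.card_img.ge
    have h := hkC.mem_centralizerIn hZ2C hc' hc'
    rwa [show img Z2 k = Z2 from (img_congr hke).trans hiφ] at h
  obtain ⟨β, hβ, hβe⟩ := hkC.exists_aut hik
  refine hmv ?_
  have h := (hstab (heq ▸ hβ) ⟨z, hZ2C hz2⟩).mp hzZ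
  rwa [← autFun_apply β, hβe _ (hZ2C hz2), hke _ hz2, toFun'_apply φ ⟨z, hz2⟩] at h

end Cfsg.Agent.S5270
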