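import Cfsg.Statements.S5271
import Cfsg.Agent.Fusion.WeaklyEmbedded
-- import your own Cfsg.Agent.* helpers here

set_option autoImplicit false
open Cfsg

namespace Cfsg.Agent.S5271

/-- A nilpotency criterion for fusion systems. Let F be a saturated fusion system over a finite p-group S of order at least p². Call a subgroup Q of S weakly embedded in F when there is a subgroup P of S strongly closed in F such that both the product QP and the intersection Q ∩ P are strongly closed in F. Then F is the inner fusion system of S if and only if there is a subgroup D of S with 1 < D < S such that every subgroup of S of the same order as D is weakly embedded in F and, for every fully normalized subgroup H of S of that order, the normalizer fusion system of H in F is the inner fusion system of N_S(H). -/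
theorem result {Ω : Type*} [Group Ω] {S : Subgroup Ω} [Finite S] (p : ℕ) [Fact p.Prime] (hS : IsPGroup p ↥S) (F : Cfsg.FusionSystem S) (hF : F.IsSaturated p) (hcard : p ^ 2 ≤ Nat.card S) : (∀ P : Subgroup Ω, F.Hom P = (Cfsg.innerFusionSystem S).Hom P) ↔ ∃ D : Subgroup Ω, ⊥ < D ∧ D < S ∧ (∀ Q : Subgroup Ω, Q ≤ S → Nat.card ↥Q = Nat.card ↥D → ∃ P : Subgroup Ω, F.StronglyClosed P ∧ F.StronglyClosed (Q ⊔ P) ∧ F.StronglyClosed (Q ⊓ P)) ∧ (∀ H : Subgroup Ω, F.IsFullyNormalized H → Nat.card ↥H = Nat.card ↥D → ∀ N : Cfsg.FusionSystem (Cfsg.FusionSystem.normalizerIn S H), F.IsNormalizerSystem H N → ∀ P : Subgroup Ω, N.Hom P = (Cfsg.innerFusionSystem (Cfsg.FusionSystem.normalizerIn S H)).Hom P) := by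
  classical
  have hp : p.Prime := Fact.out
  obtain ⟨n, hn⟩ := IsPGroup.iff_card.mp hS
  have hn2 : 2 ≤ n := (Nat.pow_le_pow_iff_right hp.one_lt).mp (hn ▸ hcard)
  constructor
  · intro hinn
    have hI : Cfsg.Lib.Fusion.IsInner F := Cfsg.Lib.Fusion.isInner_iff.mpr hinn
    obtain ⟨D, -, hDS, hDc⟩ := Cfsg.Lib.Fusion.WeakEmb.exists_between hS (bot_le : (⊥ : Subgroup Ω) ≤ S)
      le_rfl (d := n - 1) (by rw [Subgroup.card_bot]; exact Nat.one_le_pow _ _ hp.pos)
      (hn ▸ Nat.pow_le_pow_right hp.pos (Nat.sub_le n 1))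
    have hnorm : ∀ Q : Subgroup Ω, Q ≤ S → Nat.card Q = p ^ (n - 1) →
        S ≤ Subgroup.normalizer (Q : Set Ω) := by
      intro Q hQ hQc
      haveI := Cfsg.Lib.Fusion.finite_of_le hQ
      haveI : Group.IsNilpotent S := hS.isNilpotent
      have hi : (Q.subgroupOf S).index = p := by
        have h1 := (Q.subgroupOf S).card_mul_index
        rw [Nat.card_congr (Subgroup.subgroupOfEquivOfLe hQ).toEquiv, hQc, hn,
          show p ^ n = p ^ (n - 1) * p by rw [← pow_succ, Nat.sub_add_cancel (by omega)]] at h1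
        exact Nat.eq_of_mul_eq_mul_left (pow_pos hp.pos _) h1
      haveI : (Q.subgroupOf S).Normal := Subgroup.normalizer_eq_top_iff.mp <| by
        have hlt := Group.normalizerCondition_of_isNilpotent (Q.subgroupOf S)
          (lt_top_iff_ne_top.mpr fun e => by rw [e, Subgroup.index_top] at hi; exact hp.ne_one hi.symm)
        rcases (Nat.dvd_prime hp).mp (hi ▸ Subgroup.index_dvd_of_le hlt.le) with h | h
        · exact Subgroup.index_eq_one.mp h
        · exact absurd (hi.trans h.symm) (ne_of_gt (Subgroup.index_strictAnti hlt))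
      exact (Subgroup.normal_subgroupOf_iff_le_normalizer hQ).mp inferInstance
    have hclosed : ∀ Q : Subgroup Ω, Q ≤ S → Nat.card Q = p ^ (n - 1) → F.StronglyClosed Q :=
      fun Q hQ hQc => Cfsg.Lib.Fusion.stronglyClosed_of_apply hQ fun P f hf x hx hxQ => by
        obtain ⟨s, hs, e⟩ := hI P f hf
        rw [e x hx]
        exact (Subgroup.mem_normalizer_iff.mp (hnorm Q hQ hQc hs) x).mp hxQ
    refine ⟨D, bot_lt_iff_ne_bot.mpr fun e => ?_, lt_of_le_of_ne hDS fun e => ?_, fun Q hQ hQc => ?_,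
      fun H hH hHc N hN => Cfsg.Lib.Fusion.isInner_iff.mp fun P f hf => ?_⟩
    · rw [e, Subgroup.card_bot] at hDc
      have := Nat.one_lt_pow (show n - 1 ≠ 0 by omega) hp.one_lt
      omega
    · rw [e, hn] at hDc
      have := Nat.pow_right_injective hp.two_le hDc
      omega
    · refine ⟨⊥, Cfsg.Lib.Fusion.WeakEmb.closed_bot, ?_, ?_⟩
      · rw [sup_bot_eq]
        exact hclosed Q hQ (hQc.trans hDc)
      · rw [inf_bot_eq]
        exact Cfsg.Lib.Fusion.WeakEmb.closed_bot
    · obtain ⟨-, -, hfF, -⟩ := (Cfsg.Lib.Fusion.isMap_of_isNormalizerSystem hN).mp hf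
      obtain ⟨s, hs, e⟩ := hI P f hfF
      exact ⟨s, ⟨hs, hnorm H hH.1 (hHc.trans hDc) hs⟩, e⟩
  · rintro ⟨D, hD0, hDS, hw, hN⟩
    haveI := Cfsg.Lib.Fusion.finite_of_le hDS.le
    haveI : Nontrivial D := (Subgroup.nontrivial_iff_ne_bot D).mpr hD0.ne'
    obtain ⟨d, hd, hdc⟩ := (hS.to_le hDS.le).nontrivial_iff_card.mp inferInstance
    have hdn : p ^ d < Nat.card S := hdc ▸ lt_of_le_of_ne (Subgroup.card_le_of_le hDS.le)
      fun e => hDS.ne (Subgroup.eq_of_le_of_card_ge hDS.le e.ge)
    refine Cfsg.Lib.Fusion.isInner_iff.mp (Cfsg.Lib.Fusion.WeakEmb.inner_aux _ S rfl hS F hF d hd hdn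
      (fun Q hQ hQc => hw Q hQ (hQc.trans hdc.symm)) fun H hH hHc P f hf hHP => ?_)
    have hnH : Cfsg.FusionSystem.normalizerIn S H = S :=
      inf_eq_left.mpr (Cfsg.Lib.Fusion.normalizes_of_stronglyClosed hH)
    have hHn : F.IsFullyNormalized H := ⟨hH.1, fun R _ => by
      rw [hnH]
      exact Nat.card_le_card_of_injective _ (Subgroup.inclusion_injective inf_le_left)⟩
    have hsys := Cfsg.Lib.Fusion.isNormalizerSystem_normalizerSystem (F := F) hH.1
    have hle : P ≤ Cfsg.FusionSystem.normalizerIn S H := hnH.symm ▸ hf.le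
    have hm : Cfsg.Lib.Fusion.IsMap (Cfsg.Lib.Fusion.normalizerSystem F hH.1) P f :=
      (Cfsg.Lib.Fusion.isMap_of_isNormalizerSystem hsys).mpr ⟨hle,
        fun x hx => hnH.symm ▸ hf.mem_S hx, hf, f, (sup_eq_left.mpr hHP).symm ▸ hf, fun _ _ => rfl,
        Cfsg.Lib.Fusion.img_eq_of_apply hf hHP fun x hx =>
          Cfsg.Lib.Fusion.stronglyClosed_apply hH hf (hHP hx) hx⟩
    obtain ⟨s, hs, e⟩ := Cfsg.Lib.Fusion.isInner_iff.mpr (hN H hHn (hHc.trans hdc.symm) _ hsys) P f hm
    exact ⟨s, hs.1, e⟩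

end Cfsg.Agent.S5271
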