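import Cfsg.Statements.S5276
import Cfsg.Agent.Fusion.InnerCriteria

set_option autoImplicit false
open Cfsg

namespace Cfsg.Agent.S5276

/-- Let p be a prime and F a saturated fusion system over a finite p-group S. Then F is the inner fusion system of S if and only if the normalizer fusion system of S itself in F is the inner fusion system (equivalently, Aut_F(S) is induced by S) and the Frattini subgroup Φ(S) is strongly closed in F. -/
theorem result {Ω : Type*} [Group Ω] {S : Subgroup Ω} [Finite S] (p : ℕ) [Fact p.Prime] (hS : IsPGroup p ↥S) (F : Cfsg.FusionSystem S) (hF : F.IsSaturated p) : (∀ P : Subgroup Ω, F.Hom P = (Cfsg.innerFusionSystem S).Hom P) ↔ (∀ N : Cfsg.FusionSystem (Cfsg.FusionSystem.normalizerIn S S), F.IsNormalizerSystem S N → ∀ P : Subgroup Ω, N.Hom P = (Cfsg.innerFusionSystem (Cfsg.FusionSystem.normalizerIn S S)).Hom P) ∧ F.StronglyClosed ((frattini ↥S).map S.subtype) := by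
  have hΦ := Cfsg.Lib.Fusion.commutator_le_frattini hS
  rw [← Cfsg.Lib.Fusion.isInner_iff]
  constructor
  · intro h
    refine ⟨fun N hN => Cfsg.Lib.Fusion.isInner_iff.mp fun P f hf => ?_,
      Cfsg.Lib.Fusion.stronglyClosed_frattini_of_inner h⟩
    obtain ⟨-, -, hfF, -⟩ := (Cfsg.Lib.Fusion.isMap_of_isNormalizerSystem hN).mp hf
    obtain ⟨s, hs, e⟩ := h P f hfF
    exact ⟨s, Cfsg.Lib.Fusion.le_normalizerIn le_rfl hs, e⟩
  · rintro ⟨hN, hT⟩
    exact Cfsg.Lib.Fusion.isInner_of_stronglyClosed hS hF hT hΦ le_rfl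
      fun f hf => Cfsg.Lib.Fusion.inner_top_of_normalizer hN hf

end Cfsg.Agent.S5276
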