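import Cfsg.Statements.S5279
import Cfsg.Agent.Fusion.StableHeredity
import Cfsg.Agent.Fusion.GroupSystem
import Cfsg.Agent.Fusion.NormalCriteria
import Cfsg.Agent.Fusion.CenterPower
import Cfsg.Agent.Components.ZJ.Glauberman

set_option autoImplicit false
open Cfsg

namespace Cfsg.Agent.S5279

/-- Let p be an odd prime, G a finite group with a nontrivial Sylow p-subgroup P, and F the fusion system of G on P. Suppose F is p-stable: for every fully normalized subgroup Q and every χ in Aut_F(Q) acting quadratically on Q (χ(a⁻¹)·a·χ(a⁻¹)·χ(χ(a)) = 1 for all a in Q), χ lies in O_p(Aut_F(Q)). Then some nontrivial subgroup of P is normal in F. -/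
theorem result {Ω : Type*} [Group Ω] [Finite Ω] (p : ℕ) [Fact p.Prime] (hp : p ≠ 2) (P : Sylow p Ω) (hP : (P : Subgroup Ω) ≠ ⊥) (hst : (∀ Q : Subgroup Ω, (Cfsg.groupFusionSystem (P : Subgroup Ω)).IsFullyNormalized Q → ∀ χ : MulAut ↥Q, χ ∈ (Cfsg.groupFusionSystem (P : Subgroup Ω)).autGroup Q → (∀ a : ↥Q, (χ a⁻¹) * a * (χ a⁻¹) * (χ (χ a)) = 1) → χ ∈ ((Cfsg.pCore p ↥((Cfsg.groupFusionSystem (P : Subgroup Ω)).autGroup Q)).map ((Cfsg.groupFusionSystem (P : Subgroup Ω)).autGroup Q).subtype : Subgroup (MulAut ↥Q)))) : (Cfsg.groupFusionSystem (P : Subgroup Ω)).core ≠ ⊥ := by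
  open Cfsg.Lib.Fusion Cfsg.Lib.CentralStable in
  classical
  set S : Subgroup Ω := (P : Subgroup Ω) with hS
  set F := Cfsg.groupFusionSystem S with hFdef
  -- stability in the normalizer form
  have hG : Cfsg.IsNormalizerPStable p Ω := by
    intro P0 hP0 g hg hq
    obtain ⟨y, hy⟩ := exists_conj_le_sylow (S := P) hP0
    set P1 := P0.map (MulAut.conj y).toMonoidHom
    have hy' : P1 ≤ S := by
      rintro _ ⟨t, ht, rfl⟩
      exact hy t ht
    obtain ⟨Q, hconj, hQn⟩ := exists_fullyNormalized (F := F) hy'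
    obtain ⟨-, -, z, hz⟩ := isConj_group_iff.mp hconj
    set x := z * y with hx
    have hQx : P0.map (MulAut.conj x).toMonoidHom = Q := by
      rw [← hz, Subgroup.map_map, hx, map_mul]
      rfl
    have hn : ∀ n : ↥(Subgroup.normalizer (P0 : Set Ω)), x * n * x⁻¹ ∈ Subgroup.normalizer (Q : Set Ω) :=
      fun n => hQx ▸ conj_mem_normalizer_map n.2
    let Θ : ↥(Subgroup.normalizer (P0 : Set Ω)) →* MulAut ↥Q :=
      { toFun := fun n => conjAut Q _ (hn n)
        map_one' := MulEquiv.ext fun q => Subtype.ext (by rw [conjAut_apply]; simp)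
        map_mul' := fun a b => MulEquiv.ext fun q => Subtype.ext (by
          rw [MulAut.mul_apply, conjAut_apply, conjAut_apply, conjAut_apply, Subgroup.coe_mul]
          group) }
    have hrange : Θ.range = F.autGroup Q := by
      rw [hFdef, autGroup_group hQn.1]
      refine le_antisymm ?_ fun α hα => ?_
      · rintro _ ⟨n, rfl⟩
        exact conjAut_mem_autInducedBy (hn n) trivial
      · obtain ⟨a, -, e⟩ := mem_autInducedBy.mp hα
        have haN : a ∈ Subgroup.normalizer (Q : Set Ω) := mem_normalizer_of_mem_autInducedBy e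
        have hb : x⁻¹ * a * x ∈ Subgroup.normalizer (P0 : Set Ω) := by
          have hP : Q.map (MulAut.conj x⁻¹).toMonoidHom = P0 := by
            rw [← hQx, Subgroup.map_map]
            convert Subgroup.map_id P0
            ext w
            simp [mul_assoc]
          have := conj_mem_normalizer_map (g := x⁻¹) haN
          rwa [hP, inv_inv] at this
        refine ⟨⟨_, hb⟩, MulEquiv.ext fun q => Subtype.ext ?_⟩
        show ((conjAut Q _ _ q : Q) : Ω) = _
        rw [conjAut_apply, e]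
        group
    set χ := Θ ⟨g, hg⟩
    have hχ : χ ∈ F.autGroup Q := hrange ▸ ⟨_, rfl⟩
    have hquad : ∀ q : ↥Q, (χ q⁻¹) * q * (χ q⁻¹) * (χ (χ q)) = 1 := by
      intro q
      obtain ⟨w, hw, e⟩ := (hQx ▸ q.2 : (q : Ω) ∈ P0.map (MulAut.conj x).toMonoidHom)
      have e' : (q : Ω) = x * w * x⁻¹ := e.symm
      have h1 := fixes_of_quadratic hg hq hw
      refine Subtype.ext ?_
      simp only [χ, Θ, MonoidHom.coe_mk, OneHom.coe_mk, Subgroup.coe_mul, Subgroup.coe_inv,
        conjAut_apply, e', Subgroup.coe_one]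
      calc x * g * x⁻¹ * (x * w * x⁻¹)⁻¹ * (x * g * x⁻¹)⁻¹ * (x * w * x⁻¹) *
            (x * g * x⁻¹ * (x * w * x⁻¹)⁻¹ * (x * g * x⁻¹)⁻¹) *
            (x * g * x⁻¹ * (x * g * x⁻¹ * (x * w * x⁻¹) * (x * g * x⁻¹)⁻¹) * (x * g * x⁻¹)⁻¹)
          = x * ((w⁻¹ * (g * w * g⁻¹))⁻¹ * (g * (w⁻¹ * (g * w * g⁻¹)) * g⁻¹)) * x⁻¹ := by group
        _ = 1 := by rw [h1, inv_mul_cancel, mul_one, mul_inv_cancel]
    obtain ⟨a, ha, hae⟩ := hst Q hQn χ hχ hquad
    set M : Subgroup ↥(Subgroup.normalizer (P0 : Set Ω)) :=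
      (Cfsg.pCore p ↥(F.autGroup Q)).comap ((MonoidHom.codRestrict Θ (F.autGroup Q))
        fun n => hrange ▸ ⟨n, rfl⟩) with hM
    haveI : M.Normal := inferInstance
    set C := (Subgroup.centralizer (P0 : Set Ω)).subgroupOf (Subgroup.normalizer (P0 : Set Ω))
    have hMp : IsPGroup p ↥(M.map (QuotientGroup.mk' C)) := by
      rintro ⟨_, n, hn', rfl⟩
      obtain ⟨k, hk⟩ := Cfsg.Lib.Components.isPGroup_pCore p ⟨_, hn'⟩
      refine ⟨k, Subtype.ext ?_⟩
      show QuotientGroup.mk' C n ^ p ^ k = 1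
      rw [← map_pow]
      refine (QuotientGroup.eq_one_iff _).mpr (Subgroup.mem_centralizer_iff.mpr fun w hw => ?_)
      have hk' : Θ (n ^ p ^ k) = 1 := by
        rw [map_pow]
        exact congrArg (fun t : ↥(Cfsg.pCore p ↥(F.autGroup Q)) => ((t : ↥(F.autGroup Q)) : MulAut ↥Q)) hk
      have hwQ : x * w * x⁻¹ ∈ Q := hQx ▸ ⟨w, hw, rfl⟩
      have h1 := congrArg (fun f : MulAut ↥Q => ((f ⟨_, hwQ⟩ : ↥Q) : Ω)) hk'
      simp only [Θ, MonoidHom.coe_mk, OneHom.coe_mk, conjAut_apply, MulAut.one_apply] at h1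
      set m : Ω := ((n ^ p ^ k : ↥(Subgroup.normalizer (P0 : Set Ω))) : Ω)
      have h2 : m * w * m⁻¹ = w := by
        calc m * w * m⁻¹ = x⁻¹ * (x * m * x⁻¹ * (x * w * x⁻¹) * (x * m * x⁻¹)⁻¹) * x := by group
          _ = w := by rw [h1]; group
      exact (mul_inv_eq_iff_eq_mul.mp h2).symm
    haveI : (M.map (QuotientGroup.mk' C)).Normal :=
      Subgroup.Normal.map inferInstance _ (QuotientGroup.mk'_surjective C)
    refine Cfsg.Lib.Components.le_pCore hMp ⟨⟨g, hg⟩, ?_, rfl⟩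
    show _ ∈ Cfsg.pCore p ↥(F.autGroup Q)
    have e : (MonoidHom.codRestrict Θ (F.autGroup Q) fun n => hrange ▸ ⟨n, rfl⟩) ⟨g, hg⟩ = a :=
      Subtype.ext hae.symm
    exact e.symm ▸ ha
  -- control of fusion
  have hctl := Cfsg.Lib.CtrlD.ctl_main_of (Cfsg.Lib.CtrlD.zjW_charP (p := p))
    (fun L _ => Cfsg.IsNormalizerPStable p L)
    (fun L _ _ H h => Cfsg.Lib.ZJ.normalizerPStable_subgroup h H)
    (fun L _ _ N _ h hL => ?_) (fun L _ _ hL hc T D hD => ?_) (Nat.card Ω) Ω rfl hG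
  · set Z := Cfsg.centerThompsonAOf S with hZ
    have hZS : Z ≤ S := inf_le_left.trans (Subgroup.map_subtype_le _)
    have hn : F.IsNormal Z := by
      refine isNormal_of_extendsWith hZS fun R f hf => ?_
      obtain ⟨hR, hfS, g, hg⟩ := isMap_group_iff.mp hf
      obtain ⟨n, hn, hne⟩ := hctl P S (Cfsg.Lib.ZJ.stronglyClosed_self _) (R : Set Ω) g hR
        (Cfsg.Lib.Control.img_subset_iff.mpr fun r hr => hg r hr ▸ hfS r hr)
      rw [Cfsg.Lib.CtrlD.induced_zjW] at hn
      have hle : R ⊔ Z ≤ S.comap (MulAut.conj n).toMonoidHom := by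
        refine sup_le (fun r hr => ?_) fun r hr => hZS ((Subgroup.mem_normalizer_iff.mp hn r).mp hr)
        show n * r * n⁻¹ ∈ S
        rw [hne r hr, ← hg r hr]
        exact hfS r hr
      have hk : IsMap F (R ⊔ Z) (fun r => n * r * n⁻¹) :=
        isMap_group_iff.mpr ⟨sup_le hR hZS, fun r hr => hle hr, n, fun _ _ => rfl⟩
      exact ⟨_, hk, fun r hr => (hne r hr).trans (hg r hr).symm,
        img_eq_of_apply hk le_sup_right fun r hr => (Subgroup.mem_normalizer_iff.mp hn r).mp hr⟩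
    exact fun h => Cfsg.Lib.ZJ.centerThompsonAOf_ne_bot P.2 hP (le_bot_iff.mp (h ▸ le_sSup hn : Z ≤ ⊥))
  · rcases h with h | ⟨hNp, hact⟩
    · exact normalizerPStable_quotient_coprime h hL
    · exact normalizerPStable_quotient_hyper hp (Nat.card ↥N) N rfl hNp hact hL
  · rw [Cfsg.Lib.CtrlD.induced_zjW]
    exact Cfsg.Lib.ZJ.centerThompsonA_normal (S := T) hp (Cfsg.Lib.ZJ.stable_of_normalizerPStable hL) hc hD


end Cfsg.Agent.S5279
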