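import Cfsg.Statements.S5287
import Cfsg.Agent.Fusion.MetacyclicSuper
import Cfsg.Agent.Fusion.MetacyclicExamples


set_option autoImplicit false
open Cfsg

namespace Cfsg.Agent.S5287

/-- Let S be a finite metacyclic p-group (an extension of a cyclic group by a cyclic group). Every saturated fusion system over S is supersoluble (S has a chain of F-strongly closed subgroups from 1 to S with cyclic steps) if and only if S is not homocyclic of rank two (isomorphic to Z/p^n × Z/p^n with n ≥ 1) and, when p = 2, S is not dihedral of order at least 4, not quasi-dihedral (semidihedral) and not generalized quaternion of order at least 8. -/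
theorem result {Ω : Type*} [Group Ω] {S : Subgroup Ω} [Finite S] (p : ℕ) [Fact p.Prime] (hS : IsPGroup p ↥S) (hm : Cfsg.IsMetacyclic ↥S) : (∀ F : Cfsg.FusionSystem S, F.IsSaturated p → (∃ (m : ℕ) (c : Fin (m + 1) → Subgroup Ω), c 0 = ⊥ ∧ c (Fin.last m) = S ∧ (∀ i : Fin (m + 1), F.StronglyClosed (c i)) ∧ ∀ i : Fin m, c i.castSucc ≤ c i.succ ∧ ∃ x ∈ S, c i.succ = c i.castSucc ⊔ Subgroup.zpowers x)) ↔ ¬ ((∃ n : ℕ, 0 < n ∧ Nonempty (↥S ≃* Multiplicative (ZMod (p ^ n)) × Multiplicative (ZMod (p ^ n)))) ∨ (p = 2 ∧ ((∃ n : ℕ, 2 ≤ n ∧ Nonempty (↥S ≃* DihedralGroup n)) ∨ Cfsg.IsQuasiDihedral ↥S ∨ (∃ n : ℕ, 2 ≤ n ∧ Nonempty (↥S ≃* QuaternionGroup n))))) := by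
  open Cfsg.Lib.Fusion in
  refine ⟨fun h hex => ?_, fun hx F hF => superChain_of_not_exceptional hS hm hx F hF⟩
  suffices ∃ F : Cfsg.FusionSystem S, F.IsSaturated p ∧ ¬ HasSuperChain F by
    obtain ⟨F, hF, hbad⟩ := this
    exact hbad (h F hF)
  rcases hex with ⟨n, hn, ⟨e⟩⟩ | ⟨rfl, ⟨n, hn, ⟨e⟩⟩ | hQ | ⟨n, hn, ⟨e⟩⟩⟩
  · exact exists_bad_of_homocyclic hn hS e
  · haveI : NeZero n := ⟨by omega⟩
    obtain ⟨c, hc⟩ := IsPGroup.iff_card.mp hS
    rw [Nat.card_congr e.toEquiv, DihedralGroup.nat_card] at hc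
    obtain ⟨k, -, rfl⟩ := (Nat.dvd_prime_pow Nat.prime_two).mp (Dvd.intro_left 2 hc : n ∣ 2 ^ c)
    rcases k with _ | k
    · norm_num at hn
    · exact exists_bad_of_dihedral k.succ_pos hS e
  · exact exists_bad_of_quasiDihedral hS hQ
  · haveI : NeZero n := ⟨by omega⟩
    obtain ⟨c, hc⟩ := IsPGroup.iff_card.mp hS
    rw [Nat.card_congr e.toEquiv, Nat.card_eq_fintype_card, QuaternionGroup.card] at hc
    obtain ⟨k, -, rfl⟩ := (Nat.dvd_prime_pow Nat.prime_two).mp (Dvd.intro_left 4 hc : n ∣ 2 ^ c)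
    rcases k with _ | k
    · norm_num at hn
    · exact exists_bad_of_quaternion k.succ_pos hS e


end Cfsg.Agent.S5287
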