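import Cfsg.Statements.S5289
import Cfsg.Agent.Fusion.RankTwo.Essential
import Cfsg.Agent.Fusion.AbelianIndexP
import Cfsg.Agent.PGroups.OmegaQuotient
import Cfsg.Agent.S5234
-- import your own Cfsg.Agent.* helpers here

set_option autoImplicit false
open Cfsg

namespace Cfsg.Agent.S5289

/-- Let p ≥ 5 be a prime and S a finite p-group of p-rank two (it has an elementary abelian subgroup of order p² and none of order p³) which is not the extraspecial group of order p³ and exponent p. Then S is resistant: for every saturated fusion system F over S, S is normal in F, that is, every map of F extends to an F-automorphism of S. -/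
theorem result {Ω : Type*} [Group Ω] {S : Subgroup Ω} [Finite S] (p : ℕ) [Fact p.Prime] (hS : IsPGroup p S)
    (F : Cfsg.FusionSystem S) (hF : F.IsSaturated p)
    (hp : 5 ≤ p)
    (hrank2 : ∃ E : Subgroup Ω, E ≤ S ∧ Cfsg.IsElementaryAbelian p E ∧ Nat.card E = p ^ 2)
    (hrank3 : ∀ E : Subgroup Ω, E ≤ S → Cfsg.IsElementaryAbelian p E → Nat.card E ≤ p ^ 2)
    (hnotE : ¬ (Nat.card S = p ^ 3 ∧ Monoid.exponent ↥S = p)) : F.IsNormal S := by
  classical
  have hrk : ∀ E : Subgroup S, Cfsg.IsElementaryAbelian p E → Nat.card E ≤ p ^ 2 := by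
    intro E hE
    rw [Nat.card_congr (E.equivMapOfInjective S.subtype S.subtype_injective).toEquiv]
    refine hrank3 _ (Subgroup.map_subtype_le E) ⟨⟨⟨?_⟩⟩, ?_⟩
    · rintro ⟨_, a, ha, rfl⟩ ⟨_, b, hb, rfl⟩
      exact Subtype.ext (congrArg (fun x : E => ((x : S) : Ω)) (hE.1.is_comm.comm ⟨a, ha⟩ ⟨b, hb⟩))
    · rintro _ ⟨a, ha, rfl⟩
      rw [← map_pow, hE.2 a ha, map_one]
  set N := Cfsg.omegaOne p (⊤ : Subgroup S)
  have hN : ∀ x ∈ N, x ^ p = 1 :=
    Cfsg.Lib.PGroups.OmegaRankTwo.omega_exponent (by omega) hS hrk (Nat.card S) ⊤ (by rw [Subgroup.card_top])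
  have hNall : ∀ x : S, x ^ p = 1 → x ∈ N := fun x hx =>
    Subgroup.subset_closure ⟨Subgroup.mem_top x, hx⟩
  by_cases hsmall : Nat.card N ≤ p ^ 2
  · have hm := Cfsg.Lib.PGroups.OmegaQuotient.isMetacyclic_of_omega (p := p) (by omega) (Nat.card S) S
      le_rfl hS hsmall
    refine Cfsg.Agent.S5234.result p hS F hF S ⟨le_rfl, fun R _ φ hφ x => ?_⟩ (by omega) hm
    exact (F.le_of_mem hφ).2 x
  obtain ⟨i, hi⟩ := IsPGroup.iff_card.mp (hS.to_subgroup N)
  have hcube : Nat.card N = p ^ 3 := by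
    have h1 := Cfsg.Lib.PGroups.OmegaRankTwo.card_le_cube hS hN hrk
    have hp' : p.Prime := Fact.out
    rw [hi] at h1 hsmall ⊢
    have h2 := (Nat.pow_le_pow_iff_right hp'.one_lt).mp h1
    rw [Nat.pow_le_pow_iff_right hp'.one_lt] at hsmall
    rw [show i = 3 by omega]
  set W := N.map S.subtype
  have D : Cfsg.Lib.Fusion.RankTwo.Setup S W p := by
    refine ⟨by omega, hS, Subgroup.map_subtype_le N, fun x hx => ⟨?_, fun h => ?_⟩, ?_, fun hab => ?_⟩
    · rintro ⟨a, ha, rfl⟩
      rw [← map_pow, hN a ha, map_one]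
    · exact ⟨⟨x, hx⟩, hNall _ (Subtype.ext h), rfl⟩
    · exact (Nat.card_congr (N.equivMapOfInjective S.subtype S.subtype_injective).toEquiv).symm.trans hcube
    · have h := hrk N ⟨⟨⟨fun a b => Subtype.ext (Subtype.ext
        (hab _ ⟨a, a.2, rfl⟩ _ ⟨b, b.2, rfl⟩))⟩⟩, hN⟩
      exact hsmall h
  have hWS : W < S := by
    refine lt_of_le_of_ne D.le fun e => hnotE ⟨by rw [← e]; exact D.card, ?_⟩
    have hp' : p.Prime := Fact.out
    rcases (Nat.dvd_prime hp').mp (Monoid.exponent_dvd_of_forall_pow_eq_one fun x : S =>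
      Subtype.ext (by rw [Subgroup.coe_pow, Subgroup.coe_one]; exact D.pow_eq (e.ge x.2))) with h | h
    · exfalso
      haveI := Monoid.exp_eq_one_iff.mp h
      have h1 : Nat.card S = 1 := Nat.card_unique
      rw [← e, D.card] at h1
      exact (Nat.one_lt_pow (by norm_num) hp'.one_lt).ne' h1
    · exact h
  exact Cfsg.Lib.Fusion.isNormal_of_essential hS hF le_rfl Subgroup.le_normalizer
    (fun φ _ x _ => (φ x).2) fun P hlt hP => (D.false_of_essential hF hWS hP hlt).elim

end Cfsg.Agent.S5289
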