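import Cfsg.Statements.S5290
import Cfsg.Agent.Fusion.InnerSubsystem

set_option autoImplicit false
open Cfsg
open Cfsg.Lib.Fusion
open scoped commutatorElement

namespace Cfsg.Agent.S5290

/-- Let F be a saturated fusion system over a finite p-group S and Q a subgroup of S. Then Q is normal in F (F = N_F(Q)) if and only if the inner fusion system of Q, consisting of the conjugations by elements of Q on subgroups of Q, is a weakly normal subsystem of F (both saturated, Q strongly closed, invariant under F-conjugation, with the Frattini property). -/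
theorem result {Ω : Type*} [Group Ω] {S : Subgroup Ω} [Finite S] (p : ℕ) [Fact p.Prime] (hS : IsPGroup p S)
    (F : Cfsg.FusionSystem S) (hF : F.IsSaturated p)
    (Q : Subgroup Ω) (hQ : Q ≤ S) :
    F.IsNormal Q ↔ (Cfsg.innerFusionSystem Q).IsWeaklyNormalIn F p := by
  haveI := finite_of_le hQ
  have hQp : IsPGroup p Q := hS.of_injective _ (Subgroup.inclusion_injective hQ)
  constructor
  · intro hQn
    refine ⟨saturated_innerFusionSystem Q hQp, hF, ?_, stronglyClosed_of_isNormal hQn, ?_, ?_⟩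
    · intro P φ hφ
      obtain ⟨hP, g, hg, e⟩ := hφ
      exact (isMap_conj (F := F) (hP.trans hQ) (hQ hg)).mem_of_agree e
    · intro P hPT φ hφ α _
      obtain ⟨-, g, hg, eg⟩ := hφ
      set R := (P.subgroupOf Q).map (Q.subtype.comp α.toMonoidHom)
      have hRQ : R ≤ Q := by
        rintro _ ⟨t, -, rfl⟩
        exact (α t).2
      obtain ⟨χ, hχ, e⟩ : IsMap (innerFusionSystem Q) R
          (fun y => ((α ⟨g, hg⟩ : Q) : Ω) * y * ((α ⟨g, hg⟩ : Q) : Ω)⁻¹) := isMap_conj hRQ (α _).2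
      refine ⟨χ, hχ, fun x hφx hαx => ?_⟩
      rw [e]
      rw [show (⟨φ x, hφx⟩ : Q) = ⟨g, hg⟩ * ⟨x, hPT x.2⟩ * ⟨g, hg⟩⁻¹ from Subtype.ext (eg x),
        map_mul, map_mul, map_inv]
      rfl
    · intro P hPT φ hφ
      obtain ⟨k, hk, hkf, hki⟩ := extend_of_isNormal hQn (isMap_of_mem hφ)
      obtain ⟨α, hα, hαe⟩ := (hk.mono le_sup_right).exists_aut hki
      obtain ⟨φ₀, hφ₀, e⟩ : IsMap (innerFusionSystem Q) P id := isMap_id hPT
      refine ⟨α, hα, φ₀, hφ₀, fun x hx => ?_⟩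
      rw [← autFun_apply α ⟨φ₀ x, hx⟩]
      show φ x = autFun α (φ₀ x)
      rw [e]
      show φ x = autFun α (x : Ω)
      rw [hαe _ (hPT x.2), hkf _ x.2, toFun'_apply]
  · rintro ⟨-, -, -, hsc, -, hfrat⟩
    haveI := hQp.isNilpotent
    obtain ⟨n, hn⟩ := Group.IsNilpotent.nilpotent Q
    let C : ℕ → Subgroup Ω := fun i => (Subgroup.upperCentralSeries Q i).map Q.subtype
    have hCQ : ∀ i, C i ≤ Q := fun i => Subgroup.map_subtype_le _
    refine isNormal_of_chain hS hF hsc n C (by simp [C]) ?_ (fun i _ => ?_) fun i _ => ?_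
    · show Q ≤ (Subgroup.upperCentralSeries Q n).map Q.subtype
      rw [hn, ← MonoidHom.range_eq_map, Subgroup.range_subtype]
    · refine stronglyClosed_of_apply ((hCQ _).trans hQ) fun P f hf x hx hxC => ?_
      obtain ⟨φ, hφ, e⟩ := hf.mono (Subgroup.zpowers_le.mpr hx)
      obtain ⟨α, -, φ₀, ⟨hz, g, hg, eg⟩, hφe⟩ :=
        hfrat _ (Subgroup.zpowers_le.mpr (hCQ _ hxC)) φ hφ
      set xz : Subgroup.zpowers x := ⟨x, Subgroup.mem_zpowers x⟩
      have hxQ := hCQ _ hxC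
      have hgx : φ₀ xz ∈ Q := by
        rw [eg]
        exact Q.mul_mem (Q.mul_mem hg hxQ) (Q.inv_mem hg)
      rw [← e xz, hφe xz hgx]
      refine ⟨α ⟨φ₀ xz, hgx⟩, ?_, rfl⟩
      have h1 : (⟨φ₀ xz, hgx⟩ : Q) = ⟨g, hg⟩ * ⟨x, hxQ⟩ * ⟨g, hg⟩⁻¹ := Subtype.ext (eg xz)
      obtain ⟨y, hy, hyx⟩ := hxC
      have h2 : y = ⟨x, hxQ⟩ := Subtype.ext hyx
      subst h2
      rw [h1]
      have h3 := Subgroup.Normal.conj_mem (inferInstance : (Subgroup.upperCentralSeries Q (i + 1)).Normal) _ hy ⟨g, hg⟩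
      exact (Subgroup.characteristic_iff_map_eq.mp inferInstance α).le ⟨_, h3, rfl⟩
    · rw [Subgroup.commutator_le]
      rintro _ ⟨x, hx, rfl⟩ q hq
      exact ⟨⁅x, ⟨q, hq⟩⁆, Subgroup.mem_upperCentralSeries_succ_iff.mp hx ⟨q, hq⟩,
        map_commutatorElement Q.subtype x ⟨q, hq⟩⟩

end Cfsg.Agent.S5290
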