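import Cfsg.Statements.S5295
import Cfsg.Agent.Fusion.CenterComplement
import Cfsg.Agent.Components.KInf.WeakClosure

set_option autoImplicit false
universe u
open Cfsg

namespace Cfsg.Agent.S5295

/-- Let F be a saturated fusion system over a finite p-group S with p odd. Then the centre Z(F) of F is a direct factor of Z(S): there is a subgroup K of Z(S) with Z(F) ∩ K = 1 and Z(F)K = Z(S). (At the prime 2 this can fail.) -/
theorem result {Ω : Type u} [Group Ω] {S : Subgroup Ω} [Finite S] (p : ℕ) [Fact p.Prime] (hp : p ≠ 2) (hS : IsPGroup p S)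
    (F : Cfsg.FusionSystem S) (hF : F.IsSaturated p) :
    ∃ K : Subgroup Ω, K ≤ (S ⊓ Subgroup.centralizer (S : Set Ω)) ∧ F.center ⊓ K = ⊥ ∧ F.center ⊔ K = (S ⊓ Subgroup.centralizer (S : Set Ω)) := by
  classical
  set W : ∀ (Q : Type u) [Group Q], Subgroup Q := fun Q _ => Cfsg.kInfLower Q with hW
  have hW2 : ∀ (Q R : Type u) [Group Q] [Group R] [Finite Q], IsPGroup p Q →
      ∀ φ : Q ≃* R, (W Q).map φ.toMonoidHom = W R :=
    fun Q R _ _ _ _ φ => Cfsg.Lib.KInf.map_kInfLower φ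
  have hWZ : ∀ (Q : Type u) [Group Q] [Finite Q], IsPGroup p Q → Subgroup.center Q ≤ W Q :=
    fun Q _ _ _ => Cfsg.Lib.KInf.center_le_lower
  have hloc : Cfsg.Lib.Fusion.LocalControl p W 1 := by
    intro L _ _ U y hyU hyc hcen hN _ l
    rw [pow_one]
    set Q := Cfsg.pCore p L
    have hQn : Q.Normal := Cfsg.Lib.Components.pCore_normal' p
    have hQU : Q ≤ (U : Subgroup L) :=
      Cfsg.Lib.Thompson.le_sylow_of_normal (hn := hQn) (Cfsg.Lib.Components.isPGroup_pCore p) U
    have hyQ : y ∈ Q := hcen (Subgroup.mem_centralizer_iff.mpr fun q hq => hyc q (hQU hq))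
    refine Cfsg.Lib.Control.element_weaklyClosed _ Cfsg.Lib.KInf.conj_lower
      (fun P _ => Cfsg.Lib.KInf.center_le_induced P)
      (fun H T hTH hT hnd hn => Cfsg.Lib.KInf.exists_small_degree hp H T hTH hT hnd hn)
      ⊤ (U : Subgroup L) le_top U.2 (by rw [Subgroup.relIndex_top_right]; exact U.not_dvd_index) hyU
      ?_ (Subgroup.mem_top l) (hQU (hQn.conj_mem y hyQ l))
    refine Subgroup.mem_centralizer_iff.mpr fun z hz => ?_
    have h := hN z hz.2
    rw [pow_one, mul_inv_eq_iff_eq_mul] at h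
    exact h
  set V := Cfsg.Lib.Fusion.fnImage W S with hV
  have hVS : V ≤ S := Cfsg.Lib.Fusion.fnImage_le S
  set N := Cfsg.Lib.Fusion.normalizerSystem F hVS with hNdef
  have hsys := Cfsg.Lib.Fusion.isNormalizerSystem_normalizerSystem (F := F) hVS
  have hTS : Cfsg.FusionSystem.normalizerIn S V = S := le_antisymm inf_le_left fun g hg =>
    ⟨hg, Cfsg.Lib.Fusion.fnImage_normalized hW2 hS le_rfl hg (Subgroup.le_normalizer hg)⟩
  haveI : Finite (Cfsg.FusionSystem.normalizerIn S V) := Cfsg.Lib.Fusion.finite_of_le inf_le_left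
  have hTp : IsPGroup p (Cfsg.FusionSystem.normalizerIn S V) :=
    hS.of_injective _ (Subgroup.inclusion_injective inf_le_left)
  have hVn : F.IsFullyNormalized V := ⟨hVS, fun R _ => by
    rw [hTS]
    exact Nat.card_le_card_of_injective _ (Subgroup.inclusion_injective inf_le_left)⟩
  have hNn : N.IsNormal V := by
    refine Cfsg.Lib.Fusion.isNormal_of_extendsWith (hVS.trans hTS.ge) fun P f hf => ?_
    obtain ⟨-, -, -, k, hk, hkf, hki⟩ := (Cfsg.Lib.Fusion.isMap_of_isNormalizerSystem hsys).mp hf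
    refine ⟨k, (Cfsg.Lib.Fusion.isMap_of_isNormalizerSystem hsys).mpr
      ⟨hk.le.trans hTS.ge, fun x hx => hTS.ge (hk.mem_S hx), hk, k, ?_, fun _ _ => rfl, hki⟩, hkf, hki⟩
    rw [sup_assoc, sup_idem]; exact hk
  have hZV : Cfsg.FusionSystem.normalizerIn S V ⊓
      Subgroup.centralizer ((Cfsg.FusionSystem.normalizerIn S V : Subgroup Ω) : Set Ω) ≤ V := by
    rw [hTS]
    exact fun z hz => Cfsg.Lib.Fusion.mem_fnImage_of_center hWZ hS hz.1
      fun s hs => Subgroup.mem_centralizer_iff.mp hz.2 s hs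
  obtain ⟨K, hK, hK1, hK2⟩ := Cfsg.Lib.Fusion.center_complement hTp
    (Cfsg.Lib.Fusion.saturated_normalizerSystem hS hF hVn) hNn hZV
  have hc : N.center = F.center := by
    refine le_antisymm (fun z hz => ?_) (Cfsg.Lib.Fusion.center_le_center_normalizer hW2 hWZ hS hsys)
    have hzS : z ∈ S := (Cfsg.Lib.Fusion.mem_S_of_center hz).1
    have hzc : ∀ s ∈ S, s * z = z * s := fun s hs => Cfsg.Lib.Fusion.comm_of_center hz s (hTS.ge hs)
    have := Cfsg.Lib.Fusion.mem_center_of_control hW2 hWZ hloc hS hF hsys hzS hzc (by rwa [pow_one])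
    rwa [pow_one] at this
  rw [hc, hTS] at hK2
  rw [hc] at hK1
  rw [hTS] at hK
  exact ⟨K, hK, hK1, hK2⟩

end Cfsg.Agent.S5295
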