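import Cfsg.Statements.S5297
import Cfsg.Agent.Fusion.Small.TopNormal

set_option autoImplicit false
universe u
open Cfsg

namespace Cfsg.Agent.S5297

/-- Let F be a saturated fusion system over a finite p-group S. If every map of F between cyclic subgroups of the hyperfocal subgroup of F of order p or 4 is a map of the normalizer system of S (it extends to a map of F defined on all of S), then S is normal in F. -/
theorem result {Ω : Type u} [Group Ω] {S : Subgroup Ω} [Finite S] (p : ℕ) [Fact p.Prime] (hS : IsPGroup p S)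
    (F : Cfsg.FusionSystem S) (hF : F.IsSaturated p)
    (h : ∀ A B : Subgroup Ω, A ≤ (F.hyperfocalSubgroup p) → B ≤ (F.hyperfocalSubgroup p) → IsCyclic ↥A → (Nat.card ↥A = p ∨ Nat.card ↥A = 4) → IsCyclic ↥B → (Nat.card ↥B = p ∨ Nat.card ↥B = 4) →
      F.homSet A B ⊆ F.normalizerHom S A) :
    F.IsNormal S := by
  refine Cfsg.Lib.Fusion.Small.isNormal_top_of_small hS hF fun x f hx hs hf => ?_
  have hxS := Cfsg.Lib.Fusion.hyperfocalSubgroup_le F p hx
  by_cases h1 : x = 1
  · subst h1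
    exact ⟨id, Cfsg.Lib.Fusion.isMap_id le_rfl, hf.map_one.symm⟩
  obtain ⟨φ, hφ, e⟩ := id hf
  have hy : f x ∈ F.hyperfocalSubgroup p :=
    Cfsg.Lib.Fusion.stronglyClosed_apply (Cfsg.Lib.Fusion.stronglyClosed_hyperfocal hS hF) hf
      (Subgroup.mem_zpowers x) hx
  have hi := Cfsg.Lib.Fusion.Small.img_zpowers_eq hf
  have hcard : Nat.card (Subgroup.zpowers x) = p ∨ Nat.card (Subgroup.zpowers x) = 4 := by
    rw [Nat.card_zpowers]; exact Cfsg.Lib.Fusion.orderOf_small h1 hs
  have hcard' : Nat.card (Subgroup.zpowers (f x)) = p ∨ Nat.card (Subgroup.zpowers (f x)) = 4 := by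
    rw [← hi, hf.card_img]; exact hcard
  have hmem := h (Subgroup.zpowers x) (Subgroup.zpowers (f x)) (Subgroup.zpowers_le.mpr hx)
    (Subgroup.zpowers_le.mpr hy) inferInstance hcard inferInstance hcard'
    ⟨hφ, fun z => e z ▸ hi.le (Cfsg.Lib.Fusion.IsMap.apply_mem_img z.2)⟩
  obtain ⟨-, -, -, ψ, hψ, hag, -⟩ := hmem
  refine ⟨_, (Cfsg.Lib.Fusion.isMap_of_mem hψ).mono le_sup_right, ?_⟩
  rw [Cfsg.Lib.Fusion.toFun'_apply_mem _ (Subgroup.mem_sup_left (Subgroup.mem_zpowers x))]
  exact (hag ⟨x, Subgroup.mem_zpowers x⟩).trans (e _)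

end Cfsg.Agent.S5297
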