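import Cfsg.Statements.S5298
import Cfsg.Agent.Fusion.SmallCriteria

set_option autoImplicit false
universe u
open Cfsg

namespace Cfsg.Agent.S5298

/-- Let F be a saturated fusion system over a finite p-group S. If every map of F between cyclic subgroups of the hyperfocal subgroup of F of order p or 4 is conjugation by an element of S, then F is the inner fusion system of S. -/
theorem result {Ω : Type u} [Group Ω] {S : Subgroup Ω} [Finite S] (p : ℕ) [Fact p.Prime] (hS : IsPGroup p S)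
    (F : Cfsg.FusionSystem S) (hF : F.IsSaturated p)
    (h : ∀ A B : Subgroup Ω, A ≤ (F.hyperfocalSubgroup p) → B ≤ (F.hyperfocalSubgroup p) → IsCyclic ↥A → (Nat.card ↥A = p ∨ Nat.card ↥A = 4) → IsCyclic ↥B → (Nat.card ↥B = p ∨ Nat.card ↥B = 4) →
      F.homSet A B ⊆ (Cfsg.innerFusionSystem S).Hom A) :
    ∀ P : Subgroup Ω, F.Hom P = (Cfsg.innerFusionSystem S).Hom P := by
  open Cfsg.Lib.Fusion in
  refine isInner_iff.mp ?_
  rw [Cfsg.Agent.S5083.result p hS F hF fun P hP => isPGroup_aut_of_small_conj hS (fun x f hxH hxs hf => ?_) hP]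
  · exact isInner_iff.mpr fun P => rfl
  by_cases hx1 : x = 1
  · subst hx1
    exact ⟨1, S.one_mem, by rw [hf.map_one]; simp⟩
  have hfx : f x ∈ F.hyperfocalSubgroup p := stronglyClosed_apply (stronglyClosed_hyperfocal hS hF) hf
    (Subgroup.mem_zpowers x) hxH
  have hord : orderOf (f x) = orderOf x := by
    obtain ⟨φ, hφ, e⟩ := hf
    rw [← e ⟨x, Subgroup.mem_zpowers x⟩, orderOf_injective φ (F.injective_of_mem hφ)]
    exact (Subgroup.orderOf_coe _).symm
  obtain ⟨φ, hφ, e⟩ := hf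
  have hcard := orderOf_small hx1 hxs
  have hmem : ∀ y : Subgroup.zpowers x, φ y ∈ Subgroup.zpowers (f x) := by
    rintro ⟨y, k, rfl⟩
    rw [show (⟨x ^ k, k, rfl⟩ : Subgroup.zpowers x) = ⟨x, Subgroup.mem_zpowers x⟩ ^ k from
      Subtype.ext (by simp), map_zpow, e]
    exact ⟨k, rfl⟩
  obtain ⟨hle, g, hg, heq⟩ := isMap_inner_iff.mp ⟨φ, h (Subgroup.zpowers x) (Subgroup.zpowers (f x))
    (Subgroup.zpowers_le.mpr hxH) (Subgroup.zpowers_le.mpr hfx) inferInstance
    (by rw [Nat.card_zpowers]; exact hcard) inferInstance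
    (by rw [Nat.card_zpowers, hord]; exact hcard) ⟨hφ, hmem⟩, e⟩
  exact ⟨g, hg, heq x (Subgroup.mem_zpowers x)⟩

end Cfsg.Agent.S5298
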