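import Cfsg.Statements.S5299
import Mathlib
import Cfsg.Agent.Fusion.QdFusion

set_option autoImplicit false
universe u
open Cfsg Cfsg.FusionSystem Cfsg.Lib.Fusion

namespace Cfsg.Agent.S5299

/-- Let F be a saturated fusion system over a finite p-group S, H a finite group and Q a p-subgroup of H. If Q is not involved in S (no section of S is isomorphic to Q), then F is H-free: H is involved in no model of the normalizer system of a fully normalized centric subgroup. -/
theorem result {Ω : Type u} [Group Ω] {S : Subgroup Ω} [Finite S] (p : ℕ) [Fact p.Prime] (hS : IsPGroup p S)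
    (F : Cfsg.FusionSystem S) (hF : F.IsSaturated p) (H : Type*) [Group H] [Finite H] (Q : Subgroup H) (hQ : IsPGroup p Q)
    (hfree : ¬ Cfsg.Involves (↥Q) (↥S)) : F.IsSectionFree p H := by
  intro R _ _ N _ L _ ι hM hinv
  obtain ⟨hfin, ⟨hinj, -⟩, ⟨U, hU⟩, -⟩ := hM
  haveI := hfin
  obtain ⟨K, A, hA, ⟨e⟩⟩ := hinv
  haveI := hA
  let B : Subgroup K := Q.comap (e.toMonoidHom.comp (QuotientGroup.mk' (A.subgroupOf K)))
  obtain ⟨W⟩ : Nonempty (Sylow p B) := inferInstance
  let ψ : B →* Q := ((e.toMonoidHom.comp (QuotientGroup.mk' (A.subgroupOf K))).comp B.subtype).codRestrict Q fun b => b.2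
  have hψ : Function.Surjective ψ := fun q => by
    obtain ⟨k, hk⟩ := (e.surjective.comp (QuotientGroup.mk'_surjective (A.subgroupOf K))) (q : H)
    exact ⟨⟨k, show ((e : _ → H) ∘ QuotientGroup.mk' (A.subgroupOf K)) k ∈ Q from hk.symm ▸ q.2⟩, Subtype.ext hk⟩
  have hWtop : (W : Subgroup B).map ψ = ⊤ :=
    ((W.mapSurjective hψ).3 (hQ.to_subgroup ⊤) le_top).symm
  let W' : Subgroup L := (W : Subgroup B).map (K.subtype.comp B.subtype)
  have hW' : IsPGroup p W' := W.2.map _
  obtain ⟨V, hV⟩ := hW'.exists_le_sylow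
  obtain ⟨g, rfl⟩ := MulAction.exists_smul_eq L V U
  have hmem : ∀ x : (W : Subgroup B), g * ((x : B) : K) * g⁻¹ ∈ ι.range := fun x => by
    rw [← hU, Sylow.coe_subgroup_smul, Subgroup.mem_smul_pointwise_iff_exists]
    exact ⟨_, hV ⟨x, x.2, rfl⟩, rfl⟩
  let j : (W : Subgroup B) →* S := ((Subgroup.inclusion (inf_le_left : normalizerIn S R ≤ S)).comp
    (MonoidHom.ofInjective hinj).symm.toMonoidHom).comp
      ((((MulAut.conj g).toMonoidHom.comp (K.subtype.comp B.subtype)).comp
        (W : Subgroup B).subtype).codRestrict ι.range hmem)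
  have hj : Function.Injective j := by
    intro a b h
    have h1 := congrArg Subtype.val
      ((MonoidHom.ofInjective hinj).symm.injective (Subgroup.inclusion_injective (inf_le_left : normalizerIn S R ≤ S) h))
    exact Subtype.ext (Subtype.ext (Subtype.ext (mul_left_cancel (mul_right_cancel h1))))
  let eW : j.range ≃* (W : Subgroup B) := (MonoidHom.ofInjective hj).symm
  let f : j.range →* Q := (ψ.comp (W : Subgroup B).subtype).comp eW.toMonoidHom
  have hf : Function.Surjective f := fun q => by
    obtain ⟨x, hx, rfl⟩ := hWtop.ge (Subgroup.mem_top q)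
    refine ⟨eW.symm ⟨x, hx⟩, ?_⟩
    show ψ ((eW (eW.symm ⟨x, hx⟩)) : B) = ψ x
    rw [eW.apply_symm_apply]
  have hsub : ((f.ker.map j.range.subtype).subgroupOf j.range) = f.ker :=
    Subgroup.comap_map_eq_self_of_injective j.range.subtype_injective _
  have hnor : ((f.ker.map j.range.subtype).subgroupOf j.range).Normal := by
    rw [hsub]
    infer_instance
  exact hfree ⟨j.range, f.ker.map j.range.subtype, hnor,
    ⟨(QuotientGroup.quotientMulEquivOfEq hsub).trans
      (QuotientGroup.quotientKerEquivOfSurjective f hf)⟩⟩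

end Cfsg.Agent.S5299
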