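import Cfsg.Statements.S5301
import Cfsg.Agent.Fusion.NormalCriteria

set_option autoImplicit false
universe u
open Cfsg Cfsg.FusionSystem

namespace Cfsg.Agent.S5301

/-- Let F be a saturated fusion system over a finite p-group S. If for every subgroup P of S that is fully normalized, centric and radical in F the automorphism group that F induces on P has a normal Sylow p-subgroup, then S is normal in F. -/
theorem result {Ω : Type u} [Group Ω] {S : Subgroup Ω} [Finite S] (p : ℕ) [Fact p.Prime] (hS : IsPGroup p S)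
    (F : Cfsg.FusionSystem S) (hF : F.IsSaturated p)
    (hcl : ∀ P : Subgroup Ω, F.IsFullyNormalized P → F.IsCentric P → F.IsRadical p P →
      ∃ R : Sylow p ↥(F.autGroup P), (R : Subgroup ↥(F.autGroup P)).Normal) :
    F.IsNormal S := by
  open Cfsg.Lib.Fusion in
  refine isNormal_of_le_radical hS hF (stronglyClosed_of_apply le_rfl fun P f hf x hx _ => hf.mem_S hx)
    fun P hn hc hr => ?_
  haveI := finite_of_le hn.1
  obtain ⟨R, hR⟩ := hcl P hn hc hr
  obtain ⟨-, Rs, hRs⟩ := (fullyNormalized_props hS hF hn).2.1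
  have hcore : (R : Subgroup (F.autGroup P)) ≤ Cfsg.pCore p (F.autGroup P) :=
    le_sSup ⟨hR, R.2⟩
  have hRsle : (Rs : Subgroup (F.autGroup P)) ≤ R := by
    haveI := hR
    have h := R.3 (Rs.2.to_sup_of_normal_right R.2) le_sup_right
    exact le_sup_left.trans h.le
  have hle : ∀ α ∈ autInducedBy S P, α ∈ Inn P := by
    intro α hα
    have hαF := autInducedBy_le (F := F) hn.1 hα
    rw [← hr.2]
    exact ⟨⟨α, hαF⟩, hcore (hRsle (hRs.ge hα)), rfl⟩
  by_contra hlt
  obtain ⟨g, hg, hgP⟩ := SetLike.exists_of_lt (lt_normalizerIn hS (lt_of_le_of_ne hn.1 fun e => hlt e.ge))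
  exact hgP (mem_of_inn (hc.2 P (isConj_refl hn.1)) hg.1 hg.2
    (hle _ (conjAut_mem_autInducedBy hg.2 hg.1)) hn.1)

end Cfsg.Agent.S5301
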