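import Cfsg.Statements.S5306
import Cfsg.Agent.Thompson.Subgroup

set_option autoImplicit false
open Cfsg

namespace Cfsg.Agent.S5306

/-- Let P be a Sylow p-subgroup of the finite group X and J = J(P) its Thompson subgroup (generated by the elementary abelian subgroups of P of largest order). If x and y lie in the centre of J and y = g x g⁻¹ for some g in X, then y = n x n⁻¹ for some n in the normalizer N_X(J). -/
theorem result {X : Type*} [Group X] [Finite X] (p : ℕ) [Fact p.Prime] (P : Sylow p X) (J : Subgroup X) (hJ : J = Cfsg.thompsonSubgroupOf p (P : Subgroup X))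
    (x y : X) (hx : x ∈ J ∧ ∀ j ∈ J, Commute j x) (hy : y ∈ J ∧ ∀ j ∈ J, Commute j y) (g : X) (hg : g * x * g⁻¹ = y) :
    ∃ n ∈ Subgroup.normalizer (J : Set X), n * x * n⁻¹ = y := by
  subst hJ
  set J := Cfsg.thompsonSubgroupOf p (P : Subgroup X) with hJ
  have hJP : J ≤ (P : Subgroup X) := Cfsg.Lib.Thompson.thompsonSubgroupOf_le _
  have hJp : IsPGroup p J := P.isPGroup'.to_le hJP
  -- `J` is the Thompson subgroup of every Sylow subgroup containing a conjugate of it
  have key : ∀ (c : X) (R : Sylow p X), J.map (MulAut.conj c).toMonoidHom ≤ R →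
      J.map (MulAut.conj c).toMonoidHom = Cfsg.thompsonSubgroupOf p (R : Subgroup X) := by
    intro c R hle
    obtain ⟨d, hd⟩ := MulAction.exists_smul_eq X P R
    have hR : (R : Subgroup X) = (P : Subgroup X).map (MulAut.conj d).toMonoidHom := by
      rw [← hd, Sylow.coe_subgroup_smul]; rfl
    have hJR : Cfsg.thompsonSubgroupOf p (R : Subgroup X) = J.map (MulAut.conj d).toMonoidHom := by
      rw [hR, ← Cfsg.Lib.Thompson.map_thompsonSubgroupOf (MulAut.conj d).injective.injOn]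
    refine Subgroup.eq_of_le_of_card_ge ?_ (by
      rw [hJR, Subgroup.card_map_of_injective (MulAut.conj d).injective, Subgroup.card_map_of_injective (MulAut.conj c).injective])
    have hmap : J.map (MulAut.conj c).toMonoidHom =
        Cfsg.thompsonSubgroupOf p ((P : Subgroup X).map (MulAut.conj c).toMonoidHom) :=
      Cfsg.Lib.Thompson.map_thompsonSubgroupOf (MulAut.conj c).injective.injOn
    rw [hmap, Cfsg.Lib.Thompson.thompsonSubgroupOf_eq, Cfsg.Lib.Thompson.thompsonSubgroupOf_eq]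
    refine sSup_le fun A hA => le_sSup ⟨?_, hA.2.1, fun B hB hBe => ?_⟩
    · have : A ≤ J.map (MulAut.conj c).toMonoidHom := by
        rw [hmap, Cfsg.Lib.Thompson.thompsonSubgroupOf_eq]; exact le_sSup hA
      exact this.trans hle
    · have h1 := hA.2.2 (B.map (MulAut.conj (c * d⁻¹)).toMonoidHom) (by
        rw [hR] at hB
        refine (Subgroup.map_mono hB).trans (le_of_eq ?_)
        rw [Subgroup.map_map]
        congr 1
        ext z
        show c * d⁻¹ * (d * z * d⁻¹) * (c * d⁻¹)⁻¹ = c * z * c⁻¹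
        group) ((Cfsg.Lib.Thompson.isElementaryAbelian_map_iff (MulAut.conj (c * d⁻¹)).injective.injOn).2 hBe)
      rwa [Subgroup.card_map_of_injective (MulAut.conj (c * d⁻¹)).injective] at h1
  set C := Subgroup.centralizer ({y} : Set X) with hC
  have h1 : J ≤ C := fun j hj => Subgroup.mem_centralizer_singleton_iff.2 (hy.2 j hj).eq
  have h2 : J.map (MulAut.conj g).toMonoidHom ≤ C := by
    rintro _ ⟨j, hj, rfl⟩
    refine Subgroup.mem_centralizer_singleton_iff.2 ?_
    show g * j * g⁻¹ * y = y * (g * j * g⁻¹)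
    rw [← hg]
    calc g * j * g⁻¹ * (g * x * g⁻¹) = g * (j * x) * g⁻¹ := by group
      _ = _ := by rw [(hx.2 j hj).eq]; group
  obtain ⟨Q₁, hQ₁⟩ := (hJp.of_equiv (Subgroup.subgroupOfEquivOfLe h1).symm).exists_le_sylow
  obtain ⟨Q₂, hQ₂⟩ := ((hJp.map _).of_equiv (Subgroup.subgroupOfEquivOfLe h2).symm).exists_le_sylow
  obtain ⟨c, hc⟩ := MulAction.exists_smul_eq C Q₂ Q₁
  obtain ⟨R, hR⟩ := (Q₁.isPGroup'.map C.subtype).exists_le_sylow
  have e1 := key 1 R (by
    intro z hz
    obtain ⟨j, hj, rfl⟩ := hz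
    refine hR ⟨⟨j, h1 hj⟩, hQ₁ hj, ?_⟩
    simp)
  have e2 := key ((c : X) * g) R (by
    intro z hz
    obtain ⟨j, hj, rfl⟩ := hz
    refine hR ⟨c * ⟨g * j * g⁻¹, h2 ⟨j, hj, rfl⟩⟩ * c⁻¹, ?_, ?_⟩
    · show c * _ * c⁻¹ ∈ (Q₁ : Subgroup C)
      rw [← hc, Sylow.coe_subgroup_smul]
      exact ⟨_, hQ₂ (show (⟨g * j * g⁻¹, _⟩ : C) ∈ _ from ⟨j, hj, rfl⟩), rfl⟩
    · show (c : X) * (g * j * g⁻¹) * (c : X)⁻¹ = (c : X) * g * j * ((c : X) * g)⁻¹
      group)
  have e0 : J.map (MulAut.conj (1 : X)).toMonoidHom = J := by ext; simp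
  rw [e0] at e1
  refine ⟨(c : X) * g, ?_, ?_⟩
  · rw [← Cfsg.Lib.Coprime.conjMap_eq_self_iff]
    exact e2.trans e1.symm
  · have hcy := Subgroup.mem_centralizer_singleton_iff.1 c.2
    calc (c : X) * g * x * ((c : X) * g)⁻¹ = (c : X) * (g * x * g⁻¹) * (c : X)⁻¹ := by group
      _ = _ := by rw [hg, hcy, mul_inv_cancel_right]

end Cfsg.Agent.S5306
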