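import Cfsg.Statements.S5317
import Cfsg.Agent.Fusion.Simple
import Cfsg.Agent.Fusion.GroupSystem
import Cfsg.Agent.Classical.PSLTwoDihedral

set_option autoImplicit false
open Cfsg Cfsg.Lib.Fusion

namespace Cfsg.Agent.S5317

/-- Let F be a finite field of odd order q with q² ≡ 1 mod 16 (so that a Sylow 2-subgroup of PSL(2,q), dihedral of order the 2-part of (q²−1)/2, has order at least 8). Then the 2-fusion system of PSL(2,F) on a Sylow 2-subgroup is simple: saturated, over a nontrivial 2-group, with no normal subsystem other than the trivial one and itself. -/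
theorem result {F : Type*} [Field F] [Fintype F] (hodd : Fintype.card F % 2 = 1) (h16 : 16 ∣ Fintype.card F ^ 2 - 1)
    (S : Sylow 2 (Matrix.ProjectiveSpecialLinearGroup (Fin 2) F)) :
    (Cfsg.groupFusionSystem (S : Subgroup (Matrix.ProjectiveSpecialLinearGroup (Fin 2) F))).IsSimple 2 := by
  haveI : Fact (Nat.Prime 2) := ⟨Nat.prime_two⟩
  obtain ⟨c, t, n, h⟩ := Cfsg.Lib.PSLTwoDihedral.exists_isGen hodd h16 S
  have hF := saturated_group (p := 2) S
  have hne : (S : Subgroup (Matrix.ProjectiveSpecialLinearGroup (Fin 2) F)) ≠ ⊥ := fun e => by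
    have h1 := h.card
    rw [e, Subgroup.card_bot] at h1
    exact absurd h1.symm (Nat.one_lt_two_pow (Nat.succ_ne_zero n)).ne'
  refine isSimple_of_inn hF hne (autGroup_le_inn S.2 hF h.isPGroup_mulAut)
    (stronglyClosed_eq_of_conjugate S.2 h.closure_eq fun A B hA hB hcA hcB => ?_)
  obtain ⟨a, rfl⟩ : ∃ a, A = Subgroup.zpowers a := by
    haveI := isCyclic_of_prime_card hcA
    obtain ⟨a, ha⟩ := Subgroup.isCyclic_iff_exists_zpowers_eq_top A |>.mp inferInstance
    exact ⟨a, ha.symm⟩
  obtain ⟨b, rfl⟩ : ∃ b, B = Subgroup.zpowers b := by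
    haveI := isCyclic_of_prime_card hcB
    obtain ⟨b, hb⟩ := Subgroup.isCyclic_iff_exists_zpowers_eq_top B |>.mp inferInstance
    exact ⟨b, hb.symm⟩
  rw [Nat.card_zpowers] at hcA hcB
  obtain ⟨g, hg⟩ := _root_.isConj_iff.mp (Cfsg.Lib.PSLTwoDihedral.involution_conj hodd hcA hcB)
  refine isConj_group_iff.mpr ⟨hA, hB, g, ?_⟩
  rw [MonoidHom.map_zpowers, ← hg]
  rfl

end Cfsg.Agent.S5317
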