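import Cfsg.Statements.S5329
import Cfsg.Agent.Fusion.Transfer.Tau

set_option autoImplicit false
open Cfsg

namespace Cfsg.Agent.S5329

open Cfsg.Lib.Fusion in
/-- For a saturated fusion system F over a finite p-group S, the focal subgroup and the derived subgroup of S meet the centre Z(F) of the system in the same subgroup: foc(F) ∩ Z(F) = S′ ∩ Z(F). -/
theorem result {Ω : Type*} [Group Ω] {S : Subgroup Ω} [Finite S] (p : ℕ) [Fact p.Prime] (hS : IsPGroup p S) (F : Cfsg.FusionSystem S) (hF : F.IsSaturated p) : F.focalSubgroup ⊓ F.center = ⁅(S : Subgroup Ω), (S : Subgroup Ω)⁆ ⊓ F.center := by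
  refine le_antisymm ?_ (inf_le_inf_right _ ?_)
  · intro z hz
    refine ⟨?_, hz.2⟩
    obtain ⟨τ, hτ, N, hN, hτZ⟩ := Transfer.exists_transfer hS hF isCentral_center
      (Abelianization.of : S →* Abelianization S)
    have hfoc : ∀ y ∈ F.focalSubgroup, ∃ h : y ∈ S, τ ⟨y, h⟩ = 1 := by
      have hle : F.focalSubgroup ≤ τ.ker.map S.subtype := by
        refine (Subgroup.closure_le _).mpr ?_
        rintro y ⟨P, φ, x, hφ, rfl⟩
        have hf := isMap_of_mem hφ
        refine ⟨⟨(x : Ω), hf.le x.2⟩⁻¹ * ⟨toFun' φ x, hf.mem_S x.2⟩, ?_, ?_⟩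
        · show τ _ = 1
          rw [map_mul, map_inv, hτ P _ hf x x.2, inv_mul_cancel]
        · show (x : Ω)⁻¹ * toFun' φ x = _
          rw [toFun'_apply]
      intro y hy
      obtain ⟨s, hs, rfl⟩ := hle hy
      exact ⟨s.2, hs⟩
    obtain ⟨hzS, hz1⟩ := hfoc z hz.1
    rw [hτZ ⟨z, hzS⟩ hz.2] at hz1
    have hp : IsPGroup p (Abelianization S) :=
      hS.of_surjective Abelianization.of (QuotientGroup.mk'_surjective _)
    obtain ⟨k, hk⟩ := hp (Abelianization.of ⟨z, hzS⟩)
    have h1 : (Abelianization.of ⟨z, hzS⟩ : Abelianization S) = 1 :=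
      orderOf_eq_one_iff.mp (Nat.eq_one_of_dvd_coprimes
        ((((Fact.out : p.Prime).coprime_iff_not_dvd).mpr hN).pow_left k)
        (orderOf_dvd_of_pow_eq_one hk) (orderOf_dvd_of_pow_eq_one hz1))
    have h2 : (⟨z, hzS⟩ : S) ∈ commutator S := (QuotientGroup.eq_one_iff _).mp h1
    rw [← Subgroup.map_subtype_commutator]
    exact ⟨_, h2, rfl⟩
  · refine Subgroup.commutator_le.mpr fun g hg h hh => Subgroup.subset_closure ?_
    refine ⟨S, conjHom S g⁻¹, ⟨g * h * g⁻¹, S.mul_mem (S.mul_mem hg hh) (S.inv_mem hg)⟩⁻¹,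
      F.conj_mem le_rfl (S.inv_mem hg), ?_⟩
    simp [conjHom, commutatorElement_def]

end Cfsg.Agent.S5329
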