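import Cfsg.Statements.S5330
import Cfsg.Agent.Fusion.CenterControl
import Cfsg.Agent.Fusion.NormalCriteria
import Cfsg.Agent.Fusion.Transfer.Focal

set_option autoImplicit false
open Cfsg

namespace Cfsg.Agent.S5330

/-- Let F be a saturated fusion system over a finite abelian p-group S. Then S is the internal direct product of the centre of the system and the focal subgroup: Z(F) ∩ foc(F) = 1 and Z(F)·foc(F) = S. -/
theorem result {Ω : Type*} [Group Ω] {S : Subgroup Ω} [Finite S] (p : ℕ) [Fact p.Prime] (hS : IsPGroup p S) (F : Cfsg.FusionSystem S) (hF : F.IsSaturated p) (hab : ∀ x ∈ S, ∀ y ∈ S, x * y = y * x) : F.center ⊓ F.focalSubgroup = ⊥ ∧ F.center ⊔ F.focalSubgroup = S := by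
  open Cfsg.Lib.Fusion in
  have hfull : ∀ (P : Subgroup Ω) (f : Ω → Ω), IsMap F P f → ExtendsWith F S P f := fun P f hf => by
    obtain ⟨k, hk, hkf, hki⟩ := extend_of_isNormal
      (isNormal_of_le_radical hS hF (stronglyClosed_of_apply (F := F) le_rfl fun P f hf x hx _ => hf.mem_S hx)
        fun P hn hc _ => fun x hx => hc.2 P (isConj_refl hn.1)
          ⟨hx, Subgroup.mem_centralizer_iff.mpr fun y hy => hab y (hn.1 hy) x hx⟩) hf
    exact ⟨k, hk, hkf, hki⟩
  letI : CommGroup S := { S.toGroup with mul_comm := fun a b => Subtype.ext (hab a a.2 b b.2) }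
  haveI : Finite (MulAut S) := Finite.of_injective (fun f : MulAut S => (f : S → S)) DFunLike.coe_injective
  set A := F.autGroup S
  haveI : Fintype A := Fintype.ofFinite A
  have hm : ¬ p ∣ Fintype.card A := by
    rw [← Nat.card_eq_fintype_card]
    have h := ((isFullyAutomized_iff hS).mp (fullyNormalized_props hS hF
      ⟨le_rfl, fun U _ => (Subgroup.card_le_of_le (inf_le_left : Cfsg.FusionSystem.normalizerIn S U ≤ S)).trans
        (by haveI : Finite (Cfsg.FusionSystem.normalizerIn S S) := finite_of_le inf_le_left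
            exact Subgroup.card_le_of_le (le_normalizerIn le_rfl))⟩).2.1).2
    have hbot : autInducedBy S S = ⊥ := by
      refine (Subgroup.eq_bot_iff_forall _).mpr fun α hα => ?_
      obtain ⟨s, hs, e⟩ := mem_autInducedBy.mp hα
      exact MulEquiv.ext fun x => Subtype.ext (by
        rw [e x, hab s hs x x.2, mul_inv_cancel_right]; rfl)
    rwa [hbot, Subgroup.relIndex_bot_left] at h
  have hfocA : ∀ (α : A) (x : S), ((x⁻¹ * (α : MulAut S) x : S) : Ω) ∈ F.focalSubgroup := by
    intro α x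
    have := mem_focalSubgroup ((isMap_autFun le_rfl).mpr α.2) x.2
    rw [autFun_apply] at this
    exact this
  let ν : S →* S := ∏ α : A, ((α : MulAut S) : S →* S)
  have hν : ∀ x, ν x = ∏ α : A, (α : MulAut S) x := fun x => MonoidHom.finsetProd_apply _ _ _
  have hνfix : ∀ (β : A) (x : S), (β : MulAut S) (ν x) = ν x := by
    intro β x
    rw [hν, map_prod]
    exact Fintype.prod_equiv (Equiv.mulLeft β) _ _ fun α => rfl
  have hνinv : ∀ (β : A) (x : S), ν ((β : MulAut S) x) = ν x := by
    intro β x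
    rw [hν, hν]
    exact Fintype.prod_equiv (Equiv.mulRight β) _ _ fun α => rfl
  have hfoc : ∀ y : S, (y : Ω) ∈ F.focalSubgroup → ν y = 1 := by
    have hle : F.focalSubgroup ≤ ν.ker.map S.subtype := by
      refine focalSubgroup_le_iff.mpr fun P f hf x hx => ?_
      obtain ⟨k, hk, hkf, hki⟩ := hfull P f hf
      obtain ⟨β, hβ, he⟩ := (hk.mono le_sup_right).exists_aut hki
      refine ⟨(⟨x, hf.le hx⟩ : S)⁻¹ * β ⟨x, hf.le hx⟩, ?_, ?_⟩
      · exact MonoidHom.mem_ker.mpr (by rw [map_mul, map_inv, hνinv ⟨β, hβ⟩, inv_mul_cancel])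
      · show x⁻¹ * (β ⟨x, hf.le hx⟩ : Ω) = x⁻¹ * f x
        rw [← autFun_apply_mem β (hf.le hx), he x (hf.le hx), hkf x hx]
    intro y hy
    obtain ⟨w, hw, e⟩ := hle hy
    exact (Subtype.ext e : w = y) ▸ hw
  have hfixcen : ∀ y : S, (∀ β : A, (β : MulAut S) y = y) → (y : Ω) ∈ F.center := by
    intro y hy
    refine mem_center_of_fixesElt y.2 fun P f hf => ?_
    obtain ⟨k, hk, hkf, hki⟩ := hfull P f hf
    obtain ⟨β, hβ, he⟩ := (hk.mono le_sup_right).exists_aut hki
    refine ⟨k, hk.mono (sup_le_sup_left (Subgroup.zpowers_le.mpr y.2) P), hkf, ?_⟩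
    rw [← he _ y.2, autFun_apply, hy ⟨β, hβ⟩]
  have hcenfix : ∀ y : S, (y : Ω) ∈ F.center → ν y = y ^ Fintype.card A := by
    intro y hy
    rw [hν, Finset.prod_eq_pow_card (b := y) fun α _ => Subtype.ext ?_, Finset.card_univ]
    have := apply_of_mem_center hy ((isMap_autFun le_rfl).mpr α.2) y.2
    rwa [autFun_apply] at this
  obtain ⟨i, hi⟩ := IsPGroup.iff_card.mp hS
  have hcop : (Nat.card S).Coprime (Fintype.card A) := by
    rw [hi]
    exact Nat.Coprime.pow_left i ((Fact.out : p.Prime).coprime_iff_not_dvd.mpr hm)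
  refine ⟨(Subgroup.eq_bot_iff_forall _).mpr fun z hz => ?_, le_antisymm
    (sup_le isCentral_center.1 (focalSubgroup_le F)) fun x hx => ?_⟩
  · have hzS := mem_S_of_center hz.1
    have h1 : (powCoprime hcop) ⟨z, hzS⟩ = (powCoprime hcop) 1 := by
      rw [powCoprime_apply, powCoprime_apply, one_pow, ← hcenfix ⟨z, hzS⟩ hz.1, hfoc ⟨z, hzS⟩ hz.2]
    exact congrArg Subtype.val ((powCoprime hcop).injective h1)
  · obtain ⟨w, hw⟩ := (powCoprime hcop).surjective ⟨x, hx⟩
    rw [powCoprime_apply] at hw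
    have h1 : ((w ^ Fintype.card A : S) : Ω) ∈ F.center ⊔ F.focalSubgroup := by
      have h2 : w ^ Fintype.card A = ν w * (∏ α : A, (w⁻¹ * (α : MulAut S) w))⁻¹ := by
        rw [hν, Finset.prod_mul_distrib, Finset.prod_const, Finset.card_univ, inv_pow, mul_inv_rev,
          inv_inv, mul_inv_cancel_left]
      rw [h2, Subgroup.coe_mul, Subgroup.coe_inv]
      refine Subgroup.mul_mem _ (Subgroup.mem_sup_left (hfixcen _ fun β => hνfix β w))
        (Subgroup.inv_mem _ (Subgroup.mem_sup_right ?_))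
      exact (Subgroup.mem_subgroupOf.mp (prod_mem (B := Subgroup S) (S := F.focalSubgroup.subgroupOf S) fun α _ => Subgroup.mem_subgroupOf.mpr (hfocA α w)))
    rw [hw] at h1
    exact h1

end Cfsg.Agent.S5330
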