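-- Proof of statement S5332.
import Cfsg.Statements.S5332
import Cfsg.Agent.Fusion.GTApply

set_option autoImplicit false
open Cfsg Cfsg.FusionSystem Cfsg.Lib.Fusion

namespace Cfsg.Agent.S5332

theorem main {Ω : Type*} [Group Ω] {S : Subgroup Ω} [Finite S] (p : ℕ) [Fact p.Prime]
    (hS : IsPGroup p S) (hp : p ≠ 2) (m : ℕ) : ∀ F : FusionSystem S, mapCount F = m →
      F.IsSaturated p → ¬ IsInner F →
      ∃ E : FusionSystem S, (∀ (P : Subgroup Ω) (f : Ω → Ω), IsMap E P f → IsMap F P f) ∧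
        E.IsConstrained p ∧ ¬ IsInner E := by
  induction m using Nat.strong_induction_on with
  | _ m ih =>
  intro F hm hF hne
  by_contra hcon
  have hnoself : ∀ V : Subgroup Ω, F.IsNormal V → ¬ centralizerIn S V ≤ V := fun V hV hcen =>
    hcon ⟨F, fun _ _ h => h, ⟨hF, V, hV, centric_of_fullyCentralized hS hF
      (fullyNormalized_props hS hF (fullyNormalized_of_isNormal hV)).1 hcen⟩, hne⟩
  have h1 : ∀ (W : Subgroup Ω) (hW : W ≤ S) (hn : S ≤ Subgroup.normalizer (W : Set Ω)),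
      ¬ F.IsNormal W → IsInner (normalizerTop F hW hn) := by
    intro W hW hn hnn
    by_contra hbad
    set E := normalizerTop F hW hn
    have hle : ∀ (P : Subgroup Ω) (f : Ω → Ω), IsMap E P f → IsMap F P f :=
      fun P f h => (isMap_normalizerTop.mp h).1
    obtain ⟨P, f, hf, hf'⟩ : ∃ (P : Subgroup Ω) (f : Ω → Ω), IsMap F P f ∧ ¬ IsMap E P f := by
      by_contra hno
      push Not at hno
      exact hnn (isNormal_of_extendsWith hW fun P f hf => (isMap_normalizerTop.mp (hno P f hf)).2)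
    obtain ⟨E', h2, h3, h4⟩ := ih _ (hm ▸ mapCount_lt hle hf hf') E rfl
      (saturated_normalizerTop hS hF hW hn) hbad
    exact hcon ⟨E', fun P f h => hle P f (h2 P f h), h3, h4⟩
  have hSn : ¬ F.IsNormal S := fun h => hnoself S h inf_le_left
  have htop : ∀ f : Ω → Ω, IsMap F S f → ∃ s ∈ S, ∀ x ∈ S, f x = s * x * s⁻¹ := fun f hf =>
    h1 S le_rfl Subgroup.le_normalizer hSn S f (isMap_normalizerTop.mpr ⟨hf, f,
      (sup_idem S).symm ▸ hf, fun _ _ => rfl, Subgroup.eq_of_le_of_card_ge hf.img_le hf.card_img.ge⟩)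
  have hfam := isGTFamily_maxAb F hp hS
  obtain ⟨hnZ, -⟩ := hfam.inter_props
  set Z : Subgroup Ω := ⨅ A ∈ maxAb S, A
  have hZn : F.IsNormal Z := by
    by_contra hZn
    refine hne (isInner_of_normalizer hp hS hF hfam ?_)
    rw [isInner_normalizerSystem_iff]
    intro P f hf _ _ he
    obtain ⟨s, hs, e⟩ := h1 Z hfam.inter_le hnZ hZn P f (isMap_normalizerTop.mpr ⟨hf, he⟩)
    exact ⟨s, ⟨hs, hnZ hs⟩, e⟩
  obtain ⟨V, hVn, hVmax⟩ := Set.exists_max_image {V : Subgroup Ω | F.IsNormal V}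
    (fun V => Nat.card V) (finite_subgroups_le.subset fun V hV => hV.1) ⟨Z, hZn⟩
  haveI := finite_of_le hVn.1
  have hSV : S ≤ Subgroup.normalizer (V : Set Ω) := fun g hg => by
    have := normalizerIn_of_isNormal hVn ▸ hg
    exact this.2
  have hSbot : S ≠ ⊥ := by
    rintro rfl
    exact hSn isNormal_bot'
  have hVbot : V ≠ ⊥ := by
    rintro rfl
    haveI := finite_of_le hfam.inter_le
    have h := hVmax Z hZn
    rw [Subgroup.card_bot] at h
    exact iInf_maxAb_ne_bot hS le_rfl hSbot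
      (Subgroup.card_eq_one.mp (le_antisymm h (Nat.card_pos (α := Z))))
  have hVS : V ≠ S := fun h => hSn (h ▸ hVn)
  have hW : ∀ (R : Subgroup Ω) (hR : R ≤ S) (hn : S ≤ Subgroup.normalizer (R : Set Ω)), V < R →
      IsInner (normalizerTop F hR hn) := fun R hR hn hlt => h1 R hR hn fun hRn => by
    haveI := finite_of_le hR
    exact hlt.ne (Subgroup.eq_of_le_of_card_ge hlt.le (hVmax R hRn))
  refine hne (isInner_of_noncentric hS hF hVn hSV (hnoself V hVn) htop hW ?_)
  refine exists_conj_mod hp hS hF hVn hSV hVbot hVS hW ?_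
  intro Ω' _ T _ _ hT E hE 𝒜 h𝒜 h
  exact isInner_of_normalizer hp hT hE h𝒜 h

/-- Let p be odd and F a saturated fusion system over a finite p-group S that is not the inner system of S. Then F contains a saturated constrained subsystem over S that is itself not the inner system. -/
theorem result {Ω : Type*} [Group Ω] {S : Subgroup Ω} [Finite S] (p : ℕ) [Fact p.Prime] (hS : IsPGroup p S) (F : Cfsg.FusionSystem S) (hF : F.IsSaturated p) (hp : p ≠ 2) (hne : ∃ P : Subgroup Ω, F.Hom P ≠ (Cfsg.innerFusionSystem S).Hom P) : ∃ E : Cfsg.FusionSystem S, E ≤ F ∧ E.IsConstrained p ∧ ∃ P : Subgroup Ω, E.Hom P ≠ (Cfsg.innerFusionSystem S).Hom P := by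
  obtain ⟨P, hP⟩ := hne
  obtain ⟨E, hE, hc, hb⟩ := main p hS hp _ F rfl hF fun h => hP (isInner_iff.mp h P)
  refine ⟨E, fun Q φ hφ => ?_, hc, ?_⟩
  · obtain ⟨φ', hφ', e⟩ := hE Q _ (isMap_of_mem hφ)
    obtain rfl : φ' = φ := MonoidHom.ext fun x => (e x).trans (toFun'_apply φ x)
    exact hφ'
  · by_contra h
    push Not at h
    exact hb (isInner_iff.mpr h)

end Cfsg.Agent.S5332
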