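import Cfsg.Statements.S5334
import Cfsg.Agent.Fusion.CentricRestrict
import Cfsg.Agent.Fusion.ModelTools

set_option autoImplicit false
open Cfsg

namespace Cfsg.Agent.S5334

/-- Let F′ ≤ F be saturated fusion systems over the same finite p-group S, let Q and R be F-centric subgroups, φ a map of F with source Q and values in R, and ψ a map of F with source R. If two of φ, ψ and the composite ψ ∘ φ are maps of F′ then so is the third. -/
theorem result {Ω : Type*} [Group Ω] {S : Subgroup Ω} [Finite S] (p : ℕ) [Fact p.Prime] (hS : IsPGroup p S) (F : Cfsg.FusionSystem S) (hF : F.IsSaturated p) (F' : Cfsg.FusionSystem S) (hF' : F'.IsSaturated p) (hle : F' ≤ F) (Q R : Subgroup Ω) (hQ : F.IsCentric Q) (hR : F.IsCentric R) (φ : ↥Q →* Ω) (hφ : φ ∈ F.Hom Q) (hφR : ∀ x : Q, φ x ∈ R) (ψ : ↥R →* Ω) (hψ : ψ ∈ F.Hom R) : (φ ∈ F'.Hom Q → ψ ∈ F'.Hom R → ψ.comp (φ.codRestrict R hφR) ∈ F'.Hom Q) ∧ (ψ ∈ F'.Hom R → ψ.comp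 (φ.codRestrict R hφR) ∈ F'.Hom Q → φ ∈ F'.Hom Q) ∧ (φ ∈ F'.Hom Q → ψ.comp (φ.codRestrict R hφR) ∈ F'.Hom Q → ψ ∈ F'.Hom R) := by
  open Cfsg.Lib.Fusion in
  have hfm : IsMap F Q (toFun' φ) := isMap_of_mem hφ
  have hgm : IsMap F R (toFun' ψ) := isMap_of_mem hψ
  have hsub : F'.IsSubsystemOf F := hle
  have hfR : ∀ x ∈ Q, toFun' φ x ∈ R := fun x hx => by rw [toFun'_apply_mem φ hx]; exact hφR _
  have hc : ∀ x : Q, ψ.comp (φ.codRestrict R hφR) x = (toFun' ψ ∘ toFun' φ) x := fun x => by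
    show ψ ⟨φ x, hφR x⟩ = toFun' ψ (toFun' φ x)
    rw [toFun'_apply φ x, toFun'_apply_mem ψ (hφR x)]
  refine ⟨fun h1 h2 => F'.comp_mem h1 h2 hφR, fun h2 h3 => ?_, fun h1 h3 => ?_⟩
  · have hc3 : IsMap F' Q (toFun' ψ ∘ toFun' φ) := ⟨_, h3, hc⟩
    obtain ⟨g, hg, -, hgl, -⟩ := (isMap_of_mem (F := F') h2).exists_inv
    have := (hc3.comp hg fun x hx => IsMap.apply_mem_img (hfR x hx)).congr
      (f' := toFun' φ) fun x hx => (hgl _ (hfR x hx)).symm
    exact this.mem_toFun'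
  · have hf' : IsMap F' Q (toFun' φ) := isMap_of_mem h1
    have hc3 : IsMap F' Q (toFun' ψ ∘ toFun' φ) := ⟨_, h3, hc⟩
    obtain ⟨g, hg, hgi, -, hgr⟩ := hf'.exists_inv
    have hres : IsMap F' (img Q (toFun' φ)) (toFun' ψ) :=
      (hg.comp hc3 fun y hy => hgi.le (IsMap.apply_mem_img hy)).congr fun y hy => by
        show toFun' ψ y = toFun' ψ (toFun' φ (g y))
        rw [hgr y hy]
    exact (isMap_of_restrict_centric_le hS hF hF' hsub hgm (IsMap.img_le_iff.mpr hfR)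
      (centric_of_map hQ hfm) hres).mem_toFun'

end Cfsg.Agent.S5334
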