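import Cfsg.Statements.S5335
import Cfsg.Agent.Fusion.CentricRestrict
import Cfsg.Agent.Fusion.ModelTools

set_option autoImplicit false
open Cfsg

namespace Cfsg.Agent.S5335

/-- Let F′ ≤ F be saturated fusion systems over the same finite p-group S. If the maps of F and of F′ with source Q coincide for every F-centric subgroup Q that is minimal among F-centric subgroups, then F = F′. -/
theorem result {Ω : Type*} [Group Ω] {S : Subgroup Ω} [Finite S] (p : ℕ) [Fact p.Prime] (hS : IsPGroup p S) (F : Cfsg.FusionSystem S) (hF : F.IsSaturated p) (F' : Cfsg.FusionSystem S) (hF' : F'.IsSaturated p) (hle : F' ≤ F) (hmin : ∀ Q : Subgroup Ω, F.IsCentric Q → (∀ R : Subgroup Ω, R < Q → ¬ F.IsCentric R) → F.Hom Q = F'.Hom Q) (P : Subgroup Ω) : F.Hom P = F'.Hom P := by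
  open Cfsg.Lib.Fusion in
  have hsub : F'.IsSubsystemOf F := hle
  have hstep : ∀ (Q : Subgroup Ω) (g : Ω → Ω), F.IsCentric Q → IsMap F Q g → IsMap F' Q g := by
    intro Q g hQ hg
    obtain ⟨R, ⟨hRQ, hR⟩, hRmin⟩ := Set.exists_min_image {R : Subgroup Ω | R ≤ Q ∧ F.IsCentric R}
      (fun R => Nat.card R) (finite_subgroups_le.subset fun R hR => hR.1.trans hQ.1) ⟨Q, le_rfl, hQ⟩
    haveI := finite_of_le hR.1
    refine isMap_of_restrict_centric_le hS hF hF' hsub hg hRQ hR ?_
    obtain ⟨φ, hφ, e⟩ := hg.mono hRQ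
    refine ⟨φ, (hmin R hR fun U hU hUc => ?_) ▸ hφ, e⟩
    exact hU.ne (Subgroup.eq_of_le_of_card_ge hU.le (hRmin U ⟨hU.le.trans hRQ, hUc⟩))
  have hScen : F.IsCentric S := centric_of_fullyCentralized hS hF
    ⟨le_rfl, fun U hU => by
      obtain ⟨f, hf, hi⟩ := isConj_iff.mp hU
      rw [← hi, Subgroup.eq_of_le_of_card_ge hf.img_le hf.card_img.ge]⟩ inf_le_left
  refine hom_eq_iff_isMap.mpr fun f => ⟨fun hf => ?_, fun hf => isMap_of_isSubsystemOf hsub hf⟩
  exact alperin_induction hS hF (isMapClass_isMap F F') (fun g hg => hstep S g hScen hg)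
    (fun Q hQS hQn hQc _ α hα => hstep Q _ hQc ((isMap_autFun hQn.1).mpr hα)) hf

end Cfsg.Agent.S5335
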