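import Cfsg.Statements.S5336
import Cfsg.Agent.Fusion.SimpleRealization

set_option autoImplicit false
open Cfsg

namespace Cfsg.Agent.S5336

/-- Let G be a finite group with Sylow p-subgroup S whose fusion system F_S(G) is simple. If G has no nontrivial normal subgroup of order prime to p and no proper subgroup H containing S induces the same fusion system on S as G does, then G is a simple group. -/
theorem result {G : Type*} [Group G] [Finite G] (p : ℕ) [Fact p.Prime] (S : Sylow p G) (hsimple : (Cfsg.groupFusionSystem (S : Subgroup G)).IsSimple p) (hcore : Cfsg.pPrimeCore p G = ⊥) (hmin : ∀ (H : Subgroup G) (hSH : (S : Subgroup G) ≤ H), H ≠ ⊤ → ∃ P : Subgroup G, (Cfsg.fusionSystemOfSubgroup H (S : Subgroup G) hSH).Hom P ≠ (Cfsg.groupFusionSystem (S : Subgroup G)).Hom P) : IsSimpleGroup G := by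
  refine Cfsg.Lib.Fusion.isSimpleGroup_of_minimal S hsimple.2.1 hsimple.2.2 (fun N hN hc => ?_)
    (fun H hSH hmaps => by_contra fun hne => ?_)
  · exact le_bot_iff.mp (hcore ▸ le_sSup (show N ∈ {N : Subgroup G | N.Normal ∧ (Nat.card N).Coprime p} from ⟨hN, hc⟩))
  · obtain ⟨P, hP⟩ := hmin H hSH hne
    exact hP (hmaps P)

end Cfsg.Agent.S5336
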