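import Cfsg.Statements.S5338
import Cfsg.Agent.Fusion.CentricRestrict
import Cfsg.Agent.Fusion.ModelTools
import Cfsg.Agent.Fusion.Essential

set_option autoImplicit false
open Cfsg

namespace Cfsg.Agent.S5338

/-- Let F be a saturated fusion system over a finite p-group S and F′ ≤ F a saturated subsystem over all of S that is invariant under F in the conjugation sense: for every map φ of F with source Q and every map ψ of F′ between subgroups R ≤ Q (with values in Q), the transported map φψφ⁻¹ defined on φ(R) is again a map of F′. If moreover Aut_{F′}(S) = Aut_F(S), then F′ = F. -/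
theorem result {Ω : Type*} [Group Ω] {S : Subgroup Ω} [Finite S] (p : ℕ) [Fact p.Prime] (hS : IsPGroup p S) (F : Cfsg.FusionSystem S) (hF : F.IsSaturated p) (F' : Cfsg.FusionSystem S) (hF' : F'.IsSaturated p) (hle : F' ≤ F) (hinv : ∀ (Q : Subgroup Ω) (φ : ↥Q →* Ω), φ ∈ F.Hom Q → ∀ (R : Subgroup Ω) (hRQ : R ≤ Q) (ψ : ↥R →* Ω), ψ ∈ F'.Hom R → ∀ (hψQ : ∀ x : R, ψ x ∈ Q), ∃ χ ∈ F'.Hom ((R.subgroupOf Q).map φ), ∀ (x : R) (hx : φ ⟨(x : Ω), hRQ x.2⟩ ∈ (R.subgroupOf Q).map φ), χ ⟨φ ⟨(x : Ω), hRQ x.2⟩, hx⟩ = φ ⟨ψ x, hψQ x⟩) (htop : F'.autGroup S = F.autGroup S) (P : Subgroup Ω) : F'.Hom P = F.Hom P := by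
  open Cfsg.Lib.Fusion in
  have hsub : F'.IsSubsystemOf F := hle
  have hnorm : ∀ (Q : Subgroup Ω), Q ≤ S → ∀ α ∈ F.autGroup Q, ∀ β ∈ F'.autGroup Q,
      α * β * α⁻¹ ∈ F'.autGroup Q := by
    intro Q hQ α hα β hβ
    have hφ := (mem_autGroup hQ).mp hα
    have hψ := (mem_autGroup hQ).mp hβ
    obtain ⟨χ, hχ, e⟩ := hinv Q _ hφ Q le_rfl _ hψ fun x => (β x).2
    have hset : (Q.subgroupOf Q).map (Q.subtype.comp α.toMonoidHom) = Q := by
      ext y
      constructor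
      · rintro ⟨x, -, rfl⟩
        exact (α x).2
      · intro hy
        exact ⟨α.symm ⟨y, hy⟩, (α.symm ⟨y, hy⟩).2, congrArg Subtype.val (α.apply_symm_apply ⟨y, hy⟩)⟩
    have hm : IsMap F' Q (autFun (α * β * α⁻¹)) := by
      refine ((isMap_of_mem hχ).mono hset.ge).congr fun y hy => ?_
      have h1 := e (α⁻¹ ⟨y, hy⟩) ⟨α⁻¹ ⟨y, hy⟩, (α⁻¹ ⟨y, hy⟩).2, rfl⟩
      have h2 : ∀ z : (Q.subgroupOf Q).map (Q.subtype.comp α.toMonoidHom), (z : Ω) = y →
          toFun' χ y = χ z := fun z hz => by rw [← hz, toFun'_apply]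
      rw [autFun_apply_mem _ hy, h2 _ ?_, h1]
      · rfl
      · show ((α (α⁻¹ ⟨y, hy⟩) : Q) : Ω) = y
        rw [show α (α⁻¹ ⟨y, hy⟩) = ⟨y, hy⟩ from α.apply_symm_apply _]
    exact (isMap_autFun hQ).mp hm
  refine hom_eq_iff_isMap.mpr fun f => ⟨fun hf => isMap_of_isSubsystemOf hsub hf, fun hf => ?_⟩
  have hΦ := isMapClass_isMap F F'
  refine alperin_induction hS hF hΦ (fun g hg => ?_) ?_ hf
  · obtain ⟨α, hα, e⟩ := hg.exists_aut (Subgroup.eq_of_le_of_card_ge hg.img_le hg.card_img.ge)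
    exact ((isMap_autFun le_rfl).mpr (htop ▸ hα)).congr fun x hx => (e x hx).symm
  intro Q hQS hQn hQc hIH α hα
  haveI := finite_of_le hQn.1
  obtain ⟨-, -, hrec⟩ := fullyNormalized_props hS hF hQn
  have hQn' : F'.IsFullyNormalized Q := ⟨hQn.1, fun U hU => by
    obtain ⟨g, hg, hi⟩ := isConj_iff.mp hU
    exact hQn.2 U (isConj_iff.mpr ⟨g, isMap_of_isSubsystemOf hsub hg, hi⟩)⟩
  obtain ⟨-, hfa', -⟩ := fullyNormalized_props hS hF' hQn'
  obtain ⟨β, hβ, hβI⟩ := exists_noninner hS hQS (hQc.2 Q (isConj_refl hQn.1))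
  have h1 := hnorm Q hQn.1 α hα β (autInducedBy_le hQn.1 hβ)
  have hp : IsPGroup p (Subgroup.zpowers (α * β * α⁻¹)) := by
    have h2 : Subgroup.zpowers (α * β * α⁻¹) = (Subgroup.zpowers β).map (MulAut.conj α).toMonoidHom := by
      rw [MonoidHom.map_zpowers]; rfl
    rw [h2]
    exact ((isPGroup_autInducedBy hS Q).to_le (Subgroup.zpowers_le.mpr hβ)).map _
  obtain ⟨χ, hχ, hχK⟩ := exists_conj_into_autS hfa' hp (Subgroup.zpowers_le.mpr h1)
  have h3 : (χ * α) * β * (χ * α)⁻¹ ∈ autInducedBy S Q := by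
    have := hχK _ (Subgroup.mem_zpowers (α * β * α⁻¹))
    convert this using 1
    group
  have hχF : χ ∈ F.autGroup Q := (isMap_autFun hQn.1).mp
    (isMap_of_isSubsystemOf hsub ((isMap_autFun hQn.1).mpr hχ))
  have hgood := good_of_conj (p := p) hΦ hQn.1 hrec hIH (Subgroup.mul_mem _ hχF hα) hβ hβI h3
  have h4 := Subgroup.mul_mem _ (Subgroup.inv_mem _ hχ) ((isMap_autFun hQn.1).mp hgood.2)
  rw [inv_mul_cancel_left] at h4
  exact (isMap_autFun hQn.1).mpr h4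

end Cfsg.Agent.S5338
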