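import Cfsg.Statements.S5341
import Cfsg.Agent.Fusion.NormalCriteria
import Cfsg.Agent.Fusion.ModelTools

set_option autoImplicit false
open Cfsg

namespace Cfsg.Agent.S5341

/-- Let F be a saturated fusion system over a finite p-group S, T a subgroup strongly closed in F, and F′ any fusion system over T all of whose maps are maps of F. For a subgroup Q ≤ T: if Q is fully centralized in F then it is fully centralized in F′, and if Q is fully normalized in F then it is fully normalized in F′. -/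
theorem result {Ω : Type*} [Group Ω] {S : Subgroup Ω} [Finite S] (p : ℕ) [Fact p.Prime] (hS : IsPGroup p S) (F : Cfsg.FusionSystem S) (hF : F.IsSaturated p) (T : Subgroup Ω) (hT : F.StronglyClosed T) (F' : Cfsg.FusionSystem T) (hsub : F'.IsSubsystemOf F) (Q : Subgroup Ω) (hQT : Q ≤ T) : (F.IsFullyCentralized Q → F'.IsFullyCentralized Q) ∧ (F.IsFullyNormalized Q → F'.IsFullyNormalized Q) := by
  open Cfsg.Lib.Fusion in
  have hconj : ∀ R, F'.IsConj Q R → ∃ f, IsMap F R f ∧ img R f = Q ∧ R ≤ T := by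
    intro R hR
    obtain ⟨f, hf, hi⟩ := isConj_iff.mp (isConj_symm hR)
    exact ⟨f, isMap_of_isSubsystemOf hsub hf, hi, hf.le⟩
  refine ⟨fun hQ => ⟨hQT, fun R hR => ?_⟩, fun hQ => ⟨hQT, fun R hR => ?_⟩⟩
  · obtain ⟨f, hf, hi, hRT⟩ := hconj R hR
    haveI := Cfsg.Lib.Fusion.finite_of_le hT.1
    obtain ⟨k, hk, hkf⟩ := Cfsg.Lib.Fusion.receptive_extend
      (Cfsg.Lib.Fusion.receptive_of_fullyCentralized hS hF hQ) hf hi
    have hle : R ⊔ Cfsg.FusionSystem.centralizerIn T R ≤ Cfsg.Lib.Fusion.extSub S R f :=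
      sup_le (Cfsg.Lib.Fusion.le_extSub hf) ((inf_le_inf_right _ hT.1).trans (Cfsg.Lib.Fusion.centralizerIn_le_extSub R f))
    refine Cfsg.Lib.Fusion.card_le_of_isMap (hk.mono hle) le_sup_right (inf_le_left.trans hT.1) fun c hc => ?_
    have hc' := hk.mono hle |>.mem_centralizerIn (P := R) le_sup_left (Subgroup.mem_sup_right hc)
      ⟨hT.1 hc.1, hc.2⟩
    rw [(Cfsg.Lib.Fusion.img_congr hkf).trans hi] at hc'
    exact ⟨Cfsg.Lib.Fusion.stronglyClosed_apply hT hk (hle (Subgroup.mem_sup_right hc)) hc.1, hc'.2⟩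
  · obtain ⟨f, hf, hi, hRT⟩ := hconj R hR
    obtain ⟨hfc, hfa, hrec⟩ := Cfsg.Lib.Fusion.fullyNormalized_props hS hF hQ
    obtain ⟨χ, -, k, hk, hki, -, hkN⟩ := Cfsg.Lib.Fusion.exists_map_normalizer hS hfa hrec hf hi
    haveI := Cfsg.Lib.Fusion.finite_of_le hT.1
    refine Cfsg.Lib.Fusion.card_le_of_isMap hk (inf_le_inf_right _ hT.1) (inf_le_left.trans hT.1) fun c hc => ?_
    exact ⟨Cfsg.Lib.Fusion.stronglyClosed_apply hT hk ⟨hT.1 hc.1, hc.2⟩ hc.1,
      (hkN c ⟨hT.1 hc.1, hc.2⟩).2⟩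

end Cfsg.Agent.S5341
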