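import Cfsg.Statements.S5343
import Cfsg.Agent.Fusion.SimpleRealization

set_option autoImplicit false
universe u
open Cfsg

namespace Cfsg.Agent.S5343

/-- Let F be a simple saturated fusion system over a finite p-group S that is realized by some finite group on a Sylow p-subgroup. Then F is realized by a finite simple group on a Sylow p-subgroup. -/
theorem result {Ω : Type u} [Group Ω] {S : Subgroup Ω} [Finite S] (p : ℕ) [Fact p.Prime] (hS : IsPGroup p S) (F : Cfsg.FusionSystem S) (hsimple : F.IsSimple p) (hreal : F.IsRealizable p) : ∃ (G : Type u) (_ : Group G) (_ : Finite G) (_ : IsSimpleGroup G) (ι : ↥S →* G), F.IsRealizedBy ι ∧ ∃ T : Sylow p G, (T : Subgroup G) = ι.range := by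
  classical
  open Cfsg.Lib.Fusion Cfsg.FusionSystem in
  obtain ⟨G₀, hG₀, hfG₀, ι₀, hι₀, hT₀⟩ := hreal
  have hex : ∃ n : ℕ, ∃ (G : Type u) (_ : Group G) (_ : Finite G) (ι : ↥S →* G),
      Nat.card G = n ∧ F.IsRealizedBy ι ∧ ∃ T : Sylow p G, (T : Subgroup G) = ι.range :=
    ⟨_, G₀, hG₀, hfG₀, ι₀, rfl, hι₀, hT₀⟩
  obtain ⟨G, instG, instF, ι, hcard, hι, T, hT⟩ := Nat.find_spec hex
  have hminimal : ∀ (L : Type u) (_ : Group L) (_ : Finite L) (κ : ↥S →* L), F.IsRealizedBy κ →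
      (∃ U : Sylow p L, (U : Subgroup L) = κ.range) → Nat.card G ≤ Nat.card L :=
    fun L _ _ κ h1 h2 => hcard.trans_le (Nat.find_min' hex ⟨L, _, ‹_›, κ, rfl, h1, h2⟩)
  obtain ⟨θ, hθ, hq⟩ := Cfsg.Lib.Fusion.exists_isQuot_of_realized hι hT
  have hS1 : (T : Subgroup G) ≠ ⊥ := fun h => hsimple.2.1 (by
    rw [Subgroup.eq_bot_iff_forall]
    intro x hx
    have h1 : ι ⟨x, hx⟩ = ι 1 := by
      rw [map_one]; exact Subgroup.mem_bot.mp (h ▸ hT.ge ⟨_, rfl⟩)
    exact congrArg Subtype.val (hι.1 h1))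
  refine ⟨G, instG, instF, ?_, ι, hι, T, hT⟩
  refine Cfsg.Lib.Fusion.isSimpleGroup_of_minimal T hS1
    (fun T' E hE => Cfsg.Lib.Fusion.normal_trivial_of_simple hθ hq T.isPGroup' hsimple hE)
    (fun N hN hc => ?_) (fun H hSH hmaps => ?_)
  · haveI := hN
    obtain ⟨h1, h2⟩ := Cfsg.Lib.Fusion.realizedBy_quotient hι ⟨T, hT⟩ N hc
    have hle := hminimal (G ⧸ N) _ inferInstance _ h1 h2
    have hmul := Subgroup.card_eq_card_quotient_mul_card_subgroup N
    refine Subgroup.eq_bot_of_card_le N ?_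
    by_contra hgt
    have hpos : 0 < Nat.card (G ⧸ N) := Nat.card_pos
    nlinarith
  · let κ : ↥S →* H := ι.codRestrict H fun s => hSH (hT.ge ⟨s, rfl⟩)
    have hκ : F.IsRealizedBy κ := by
      refine ⟨fun a b hab => hι.1 (congrArg Subtype.val hab), fun P hP φ hφ => ⟨fun hm => ?_, ?_⟩⟩
      · obtain ⟨g, hg⟩ := (hι.2 P hP φ hφ).mp hm
        set Q : Subgroup G := ((P.subgroupOf S)).map ι
        have hQ : ∀ y ∈ Q, y ∈ (T : Subgroup G) ∧ g * y * g⁻¹ ∈ (T : Subgroup G) := by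
          rintro _ ⟨x, hx, rfl⟩
          refine ⟨hT.ge ⟨_, rfl⟩, ?_⟩
          rw [show (x : ↥S) = ⟨((⟨x, hx⟩ : P) : Ω), hP hx⟩ from rfl, ← hg]
          exact hT.ge ⟨_, rfl⟩
        have hc : Cfsg.conjHom Q g ∈ (Cfsg.groupFusionSystem (T : Subgroup G)).Hom Q :=
          ⟨fun y hy => (hQ y hy).1, fun y => (hQ y y.2).2, g, fun _ => rfl⟩
        rw [← hmaps Q] at hc
        obtain ⟨-, -, h, hh, e⟩ := hc
        refine ⟨⟨h, hh⟩, fun x => Subtype.ext ?_⟩
        show ι _ = h * ι _ * h⁻¹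
        rw [hg x]
        exact e ⟨ι ⟨x, hP x.2⟩, ⟨x, hP x.2⟩, x.2, rfl⟩
      · rintro ⟨g, hg⟩
        exact (hι.2 P hP φ hφ).mpr ⟨g, fun x => congrArg Subtype.val (hg x)⟩
    have hrange : (T : Subgroup G).subgroupOf H = κ.range := by
      ext ⟨y, hy⟩
      rw [Subgroup.mem_subgroupOf, hT]
      exact ⟨fun ⟨s, hs⟩ => ⟨s, Subtype.ext hs⟩, fun ⟨s, hs⟩ => ⟨s, congrArg Subtype.val hs⟩⟩
    have hle := hminimal H _ inferInstance κ hκ
      ⟨T.subtype hSH, (Sylow.coe_subtype T hSH).trans hrange⟩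
    exact Subgroup.eq_top_of_le_card H hle

end Cfsg.Agent.S5343
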