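import Cfsg.Statements.S5346
import Cfsg.Agent.InvolCalc.PPowerProducts
import Cfsg.Agent.Components.Local

set_option autoImplicit false
open Cfsg

namespace Cfsg.Agent.S5346

open Subgroup

theorem orderOf_three {G : Type*} [Group G] {D : Set G} (hD : Cfsg.IsThreeTranspositionSet D) {a b : G}
    (ha : a ∈ D) (hb : b ∈ D) (hnc : ¬ Commute a b) : orderOf (a * b) = 3 := by
  haveI := Fact.mk Nat.prime_three
  have hne : a * b ≠ 1 := fun h => hnc (by
    rw [Commute, SemiconjBy, eq_inv_of_mul_eq_one_right h, mul_inv_cancel, inv_mul_cancel])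
  rcases hD.2 a ha b hb with h | h
  · refine absurd ?_ hnc
    have ha2 : a * a = 1 := by rw [← pow_two, ← hD.1 a ha, pow_orderOf_eq_one]
    have hb2 : b * b = 1 := by rw [← pow_two, ← hD.1 b hb, pow_orderOf_eq_one]
    calc a * b = a * b * ((a * b) ^ 2)⁻¹ := by rw [h, inv_one, mul_one]
      _ = b⁻¹ * a⁻¹ := by group
      _ = b * a := by rw [inv_eq_of_mul_eq_one_right ha2, inv_eq_of_mul_eq_one_right hb2]
  · exact orderOf_eq_prime h hne

theorem width_one_iff {G : Type*} [Group G] [Finite G] {D : Set G} {d : G} (hd : d ∈ D) :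
    Cfsg.commutingWidth D = 1 ↔ ∀ a ∈ D, ∀ b ∈ D, a ≠ b → ¬ Commute a b := by
  have hbdd : BddAbove {n : ℕ | ∃ E : Set G, E ⊆ D ∧ E.Finite ∧ (∀ a ∈ E, ∀ b ∈ E, Commute a b) ∧ E.ncard = n} :=
    ⟨Nat.card G, by rintro n ⟨E, -, -, -, rfl⟩; exact (Set.ncard_le_ncard (Set.subset_univ E)).trans (Set.ncard_univ G).le⟩
  constructor
  · intro h a ha b hb hne hc
    have h2 := le_csSup hbdd (show 2 ∈ _ from ⟨{a, b}, Set.insert_subset ha (Set.singleton_subset_iff.2 hb),
      Set.toFinite _, by
        rintro x (rfl | rfl) y (rfl | rfl)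
        exacts [Commute.refl _, hc, hc.symm, Commute.refl _], Set.ncard_pair hne⟩)
    rw [← Cfsg.commutingWidth, h] at h2
    omega
  · intro h
    have h1 : 1 ∈ {n : ℕ | ∃ E : Set G, E ⊆ D ∧ E.Finite ∧ (∀ a ∈ E, ∀ b ∈ E, Commute a b) ∧ E.ncard = n} :=
      ⟨{d}, Set.singleton_subset_iff.2 hd, Set.toFinite _, by rintro x rfl y rfl; exact Commute.refl _,
        Set.ncard_singleton d⟩
    refine le_antisymm (csSup_le ⟨1, h1⟩ ?_) (le_csSup hbdd h1)
    rintro n ⟨E, hE, hEf, hc, rfl⟩
    refine (Set.ncard_le_one hEf).2 fun a ha b hb => ?_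
    by_contra hne
    exact h a (hE ha) b (hE hb) hne (hc a ha b hb)


/-- Let D be a conjugation-invariant generating set of 3-transpositions of a finite group G and d a member of D. Then D has width 1 (no two different members of D commute) if and only if G is the product of the subgroup generated by d with the largest normal 3-subgroup of G. -/
theorem result {G : Type*} [Group G] [Finite G] {D : Set G} (hD : Cfsg.IsThreeTranspositionGroup D) {d : G} (hd : d ∈ D) : Cfsg.commutingWidth D = 1 ↔ Subgroup.zpowers d ⊔ Cfsg.pCore 3 G = ⊤ := by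
  haveI := Fact.mk Nat.prime_three
  obtain ⟨hS, hinv, hgen⟩ := hD
  have hd2 := hS.1 d hd
  have hdd : d * d = 1 := by rw [← pow_two, ← hd2, pow_orderOf_eq_one]
  haveI : (Cfsg.pCore 3 G).Normal := Cfsg.Lib.Components.pCore_normal' 3
  have h3 : IsPGroup 3 ↥(Cfsg.pCore 3 G) := Cfsg.Lib.Components.isPGroup_pCore (G := G) 3
  rw [width_one_iff hd]
  constructor
  · intro h
    have hconj : ∀ a ∈ D, a ∈ conjugatesOf d := by
      intro a ha
      by_cases hne : a = d
      · rw [hne]; exact mem_conjugatesOf_self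
      have ho := orderOf_three hS ha hd (h a ha d hd hne)
      have e : (a * d) * (a * d) * (a * d) = 1 := by rw [← pow_two, ← pow_succ, show (a * d) ^ (2 + 1) = (a * d) ^ orderOf (a * d) by rw [ho], pow_orderOf_eq_one]
      refine isConj_iff.2 ⟨d * a, ?_⟩
      have haa : a * a = 1 := by rw [← pow_two, ← hS.1 a ha, pow_orderOf_eq_one]
      have h3' : a * d * a = d * a * d := by
        calc a * d * a = (a * d) * (a * d) * (a * d) * d⁻¹ * a⁻¹ * d⁻¹ := by group
          _ = d * a * d := by
            rw [e, one_mul, inv_eq_of_mul_eq_one_right haa, inv_eq_of_mul_eq_one_right hdd]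
      calc d * a * d * (d * a)⁻¹ = d * a * d * (a⁻¹ * d⁻¹) := by rw [mul_inv_rev]
        _ = d * (a * d * a) * d := by
          rw [inv_eq_of_mul_eq_one_right haa, inv_eq_of_mul_eq_one_right hdd]; group
        _ = d * (d * a * d) * d := by rw [h3']
        _ = (d * d) * a * (d * d) := by group
        _ = a := by rw [hdd, one_mul, mul_one]
    have hmem := Cfsg.Lib.PPowerProducts.mul_mem_pCore (p := 3) (by norm_num) d hd2 fun a ha b hb => by
      by_cases hab : a = b
      · refine ⟨0, ?_⟩
        obtain ⟨g, rfl⟩ := isConj_iff.1 ha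
        subst hab
        rw [show g * d * g⁻¹ * (g * d * g⁻¹) = g * (d * d) * g⁻¹ by group, hdd]
        simp
      · have hm : ∀ c ∈ conjugatesOf d, c ∈ D := fun c hc => by
          obtain ⟨g, rfl⟩ := isConj_iff.1 hc
          exact hinv g d hd
        exact ⟨1, by rw [orderOf_three hS (hm a ha) (hm b hb) (h a (hm a ha) b (hm b hb) hab), pow_one]⟩
    rw [eq_top_iff, ← hgen, closure_le]
    intro a ha
    have h1 := hmem a (hconj a ha) d mem_conjugatesOf_self
    have : a = a * d * d := by rw [mul_assoc, hdd, mul_one]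
    rw [this]
    exact mul_mem (mem_sup_right h1) (mem_sup_left (mem_zpowers d))
  · intro hG a ha b hb hne hc
    set π := QuotientGroup.mk' (Cfsg.pCore 3 G) with hπ
    have hcases : ∀ y : G, π y = 1 ∨ π y = π d := by
      intro y
      have hy : y ∈ (zpowers (π d)).comap π := by
        have : (⊤ : Subgroup G) ≤ (zpowers (π d)).comap π := by
          rw [← hG]
          refine sup_le (zpowers_le.2 (mem_zpowers _)) fun z hz => ?_
          have hz1 : π z = 1 := (QuotientGroup.eq_one_iff z).2 hz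
          rw [mem_comap, hz1]
          exact one_mem _
        exact this (mem_top y)
      obtain ⟨k, hk⟩ := mem_zpowers_iff.1 hy
      rw [← hk]
      have h2 : π d ^ (2 : ℤ) = 1 := by rw [zpow_two, ← map_mul, hdd, map_one]
      rcases Int.even_or_odd' k with ⟨m, rfl | rfl⟩
      · left; rw [zpow_mul, h2, one_zpow]
      · right; rw [zpow_add, zpow_mul, h2, one_zpow, one_mul, zpow_one]
    have hout : ∀ c ∈ D, π c ≠ 1 := by
      intro c hc' h1
      obtain ⟨k, hk⟩ := IsPGroup.iff_orderOf.1 h3 ⟨c, (QuotientGroup.eq_one_iff c).1 h1⟩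
      rw [Subgroup.orderOf_mk, hS.1 c hc'] at hk
      cases k with
      | zero => simp at hk
      | succ k => have := (Nat.prime_dvd_prime_iff_eq Nat.prime_three Nat.prime_two).1 (hk ▸ dvd_pow_self 3 (Nat.succ_ne_zero k)); omega
    have hab : a * b ∈ Cfsg.pCore 3 G := by
      refine (QuotientGroup.eq_one_iff _).1 ?_
      change π (a * b) = 1
      rw [map_mul, (hcases a).resolve_left (hout a ha), (hcases b).resolve_left (hout b hb), ← map_mul, hdd, map_one]
    obtain ⟨k, hk⟩ := IsPGroup.iff_orderOf.1 h3 ⟨_, hab⟩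
    rw [Subgroup.orderOf_mk] at hk
    have h2 : (a * b) ^ 2 = 1 := by
      rw [hc.mul_pow, ← hS.1 a ha, pow_orderOf_eq_one, hS.1 a ha, ← hS.1 b hb, pow_orderOf_eq_one, one_mul]
    have h1 : orderOf (a * b) = 1 := Nat.eq_one_of_dvd_coprimes (Nat.Coprime.pow_left k (by norm_num : Nat.Coprime 3 2))
      hk.dvd (orderOf_dvd_of_pow_eq_one h2)
    rw [orderOf_eq_one_iff] at h1
    refine hne ?_
    rw [eq_inv_of_mul_eq_one_left h1]
    exact inv_eq_of_mul_eq_one_right (by rw [← pow_two, ← hS.1 b hb, pow_orderOf_eq_one])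

end Cfsg.Agent.S5346
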