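import Mathlib
import Cfsg.Statements.S5348
-- import your own Cfsg.Agent.* helpers here

set_option autoImplicit false
open Cfsg

namespace Cfsg.Agent.S5348

/-- Let D be a conjugation-invariant generating set of 3-transpositions of a finite group G and d a member of D. Let V be the set of members of D commuting with exactly the same members of D as d, and W the set of members w of D such that the members of D other than w commuting with w are precisely the members of D other than d commuting with d. Then V = {d} or W = {d}. -/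
theorem result {G : Type*} [Group G] [Finite G] {D : Set G} (hD : Cfsg.IsThreeTranspositionGroup D) {d : G} (hd : d ∈ D) : {v : G | v ∈ D ∧ ∀ e ∈ D, Commute v e ↔ Commute d e} = {d} ∨ {w : G | w ∈ D ∧ {y : G | y ∈ D ∧ y ≠ d ∧ Commute d y} = {y : G | y ∈ D ∧ y ≠ w ∧ Commute w y}} = {d} := by
  classical
  obtain ⟨-, -, -⟩ := hD
  by_contra h
  rw [not_or] at h
  obtain ⟨h1, h2⟩ := h
  have e1 : ∃ v, v ∈ D ∧ (∀ e ∈ D, Commute v e ↔ Commute d e) ∧ v ≠ d := by
    by_contra hn
    push Not at hn
    refine h1 (Set.ext fun v => ⟨fun hv => hn v hv.1 hv.2, fun hv => ?_⟩)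
    obtain rfl : v = d := hv
    exact ⟨hd, fun e _ => Iff.rfl⟩
  have e2 : ∃ w, w ∈ D ∧ {y : G | y ∈ D ∧ y ≠ d ∧ Commute d y} = {y : G | y ∈ D ∧ y ≠ w ∧ Commute w y} ∧ w ≠ d := by
    by_contra hn
    push Not at hn
    refine h2 (Set.ext fun v => ⟨fun hv => hn v hv.1 hv.2, fun hv => ?_⟩)
    obtain rfl : v = d := hv
    exact ⟨hd, rfl⟩
  obtain ⟨v, hvD, hv, hvd⟩ := e1
  obtain ⟨w, hwD, hw, hwd⟩ := e2
  have hdv : Commute d v := ((hv d hd).mpr (Commute.refl d)).symm
  have hndw : ¬ Commute d w := fun h => (hw.subset ⟨hwD, hwd, h⟩).2.1 rfl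
  have hwv : Commute w v := (hw.subset ⟨hvD, hvd, hdv⟩).2.2
  exact hndw ((hv w hwD).mp hwv.symm)

end Cfsg.Agent.S5348
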