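import Cfsg.Statements.S5349
import Cfsg.Agent.ThreeTransposition.Radical

set_option autoImplicit false
open Cfsg

namespace Cfsg.Agent.S5349

/-- Let D be a conjugacy class of 3-transpositions generating the finite group G, with at least two members, and d a member of D. Then the set of members of D commuting with exactly the same members of D as d coincides with the set of members of D lying in the coset of d modulo the largest normal 2-subgroup of G, and also with the orbit of d under conjugation by that normal 2-subgroup. -/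
theorem result {G : Type*} [Group G] [Finite G] {D : Set G} (hD : Cfsg.IsThreeTranspositionClass D) (hD2 : ∃ a ∈ D, ∃ b ∈ D, a ≠ b) {d : G} (hd : d ∈ D) : {v : G | v ∈ D ∧ ∀ e ∈ D, Commute v e ↔ Commute d e} = {v : G | v ∈ D ∧ d⁻¹ * v ∈ Cfsg.pCore 2 G} ∧ {v : G | v ∈ D ∧ ∀ e ∈ D, Commute v e ↔ Commute d e} = {v : G | ∃ g ∈ Cfsg.pCore 2 G, v = g * d * g⁻¹} := by
  open Cfsg.Lib.ThreeTr in
  have h1 : ∀ v ∈ D, (∀ e ∈ D, Commute v e ↔ Commute d e) → d⁻¹ * v ∈ Cfsg.pCore 2 G := fun v hv h => by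
    have := inv_mem (vRel_mem_pCore hD hv hd h)
    rwa [mul_inv_rev, inv_eq hD.1 hv] at this
  refine ⟨Set.ext fun v => ⟨fun h => ⟨h.1, h1 v h.1 h.2⟩, fun h => ⟨h.1, vRel_of_mem_pCore hD hd h.1 h.2⟩⟩,
    Set.ext fun v => ⟨fun h => ?_, ?_⟩⟩
  · obtain ⟨g, hg, hgv⟩ := vRel_exists_conj hD hD2 hd h.1 h.2
    exact ⟨g, hg, hgv.symm⟩
  · rintro ⟨g, hg, rfl⟩
    haveI := (Cfsg.Lib.Components.pCore_normal_and_isPGroup (G := G) 2).1
    exact ⟨conj_mem hD g hd, vRel_of_mem_pCore hD hd (conj_mem hD g hd) (moved_diff_mem hg)⟩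

end Cfsg.Agent.S5349
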