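import Cfsg.Statements.S5350
import Cfsg.Agent.ThreeTransposition.Radical

set_option autoImplicit false
open Cfsg

namespace Cfsg.Agent.S5350

/-- Let D be a conjugacy class of 3-transpositions generating the finite group G, with at least two members, and d a member of D. Then the set of members w of D whose commuting partners in D (other than w) are exactly those of d (other than d) coincides with the set of members of D lying in the coset of d modulo the largest normal 3-subgroup of G, and also with the orbit of d under conjugation by that normal 3-subgroup. -/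
theorem result {G : Type*} [Group G] [Finite G] {D : Set G} (hD : Cfsg.IsThreeTranspositionClass D) (hD2 : ∃ a ∈ D, ∃ b ∈ D, a ≠ b) {d : G} (hd : d ∈ D) : {w : G | w ∈ D ∧ {y : G | y ∈ D ∧ y ≠ d ∧ Commute d y} = {y : G | y ∈ D ∧ y ≠ w ∧ Commute w y}} = {w : G | w ∈ D ∧ d⁻¹ * w ∈ Cfsg.pCore 3 G} ∧ {w : G | w ∈ D ∧ {y : G | y ∈ D ∧ y ≠ d ∧ Commute d y} = {y : G | y ∈ D ∧ y ≠ w ∧ Commute w y}} = {w : G | ∃ g ∈ Cfsg.pCore 3 G, w = g * d * g⁻¹} := by
  open Cfsg.Lib.ThreeTr in
  have hiff : ∀ w, ({y : G | y ∈ D ∧ y ≠ d ∧ Commute d y} = {y : G | y ∈ D ∧ y ≠ w ∧ Commute w y}) ↔ WRel D d w := by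
    intro w
    constructor
    · intro h y hy
      have := Set.ext_iff.1 h y
      simpa [hy] using this
    · intro h
      ext y
      exact ⟨fun h' => ⟨h'.1, (h y h'.1).1 h'.2⟩, fun h' => ⟨h'.1, (h y h'.1).2 h'.2⟩⟩
  simp only [hiff]
  refine ⟨Set.ext fun v => ⟨fun h => ⟨h.1, ?_⟩, fun h => ⟨h.1, wRel_of_mem_pCore hD hd h.1 h.2⟩⟩,
    Set.ext fun v => ⟨fun h => ?_, ?_⟩⟩
  · rw [inv_eq hD.1 hd]
    exact wRel_mem_pCore hD hd h.1 h.2
  · obtain ⟨g, hg, hgv⟩ := wRel_exists_conj hD hd h.1 h.2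
    exact ⟨g, hg, hgv.symm⟩
  · rintro ⟨g, hg, rfl⟩
    haveI := (Cfsg.Lib.Components.pCore_normal_and_isPGroup (G := G) 3).1
    exact ⟨conj_mem hD g hd, wRel_of_mem_pCore hD hd (conj_mem hD g hd) (moved_diff_mem hg)⟩

end Cfsg.Agent.S5350
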