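import Cfsg.Statements.S5366
import Mathlib

set_option autoImplicit false
open Cfsg

namespace Cfsg.Agent.S5366


open Cfsg.LineSystem

theorem triple_perm {X : Type*} (a b c : X) : ({a, b, c} : Set X) = {a, c, b} := by
  rw [Set.pair_comm b c]

/-- in a partial linear space with three-point lines a line through two points determines the third -/
theorem third_unique {X : Type*} {L : Set (Set X)} (hp : IsPartialLinear L) {x y z w : X}
    (hxy : x ≠ y) (hwx : w ≠ x) (hwy : w ≠ y) (h1 : ({x, y, z} : Set X) ∈ L)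
    (h2 : ({x, y, w} : Set X) ∈ L) : w = z := by
  have h := hp _ h1 _ h2 x y hxy (by simp) (by simp) (by simp) (by simp)
  have : w ∈ ({x, y, z} : Set X) := h ▸ (by simp)
  simpa [hwx, hwy] using this

theorem lineMap_pos {X : Type*} {L : Set (Set X)} (hp : IsPartialLinear L) {x y z : X}
    (hxy : x ≠ y) (hzx : z ≠ x) (hzy : z ≠ y) (hl : ({x, y, z} : Set X) ∈ L) :
    lineMap L x y = z := by
  classical
  have h : ∃ z : X, z ≠ x ∧ z ≠ y ∧ x ≠ y ∧ ({x, y, z} : Set X) ∈ L := ⟨z, hzx, hzy, hxy, hl⟩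
  rw [lineMap, dif_pos h]
  exact third_unique hp hxy h.choose_spec.1 h.choose_spec.2.1 hl h.choose_spec.2.2.2

theorem lineMap_neg {X : Type*} {L : Set (Set X)} {x y : X}
    (h : ¬ ∃ z : X, z ≠ x ∧ z ≠ y ∧ x ≠ y ∧ ({x, y, z} : Set X) ∈ L) : lineMap L x y = y := by
  classical
  rw [lineMap, dif_neg h]

theorem lineMap_lineMap {X : Type*} {L : Set (Set X)} (hp : IsPartialLinear L) (x y : X) :
    lineMap L x (lineMap L x y) = y := by
  by_cases h : ∃ z : X, z ≠ x ∧ z ≠ y ∧ x ≠ y ∧ ({x, y, z} : Set X) ∈ L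
  · obtain ⟨z, h1, h2, h3, h4⟩ := h
    rw [lineMap_pos hp h3 h1 h2 h4]
    exact lineMap_pos hp h1.symm h3.symm h2.symm (triple_perm x y z ▸ h4)
  · rw [lineMap_neg h, lineMap_neg h]

/-- transfer from a model plane -/
theorem image_line {X Y : Type*} {L : Set (Set X)} (hp : IsPartialLinear L) {S : Set X}
    (hS : IsSubspace L S) {M : Set (Set Y)} (e : S ≃ Y) (he : IsIso (restrict L S) M e)
    (f : Y → Y → Y) (f1 : ∀ a b c, a ≠ b → c ≠ a → c ≠ b → ({a, b, c} : Set Y) ∈ M → f a b = c)
    (f2 : ∀ a b, f a b ≠ b → ∃ z, z ≠ a ∧ z ≠ b ∧ a ≠ b ∧ ({a, b, z} : Set Y) ∈ M)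
    (f3 : ∀ a, ∀ m ∈ M, f a '' m ∈ M)
    {x : X} (hx : x ∈ S) {m : Set X} (hm : m ∈ L) (hmS : m ⊆ S) : lineMap L x '' m ∈ L := by
  -- the two maps agree
  have key : ∀ y : S, (lineMap L x y.1) = (e.symm (f (e ⟨x, hx⟩) (e y)) : S).1 := by
    intro y
    by_cases h : ∃ z : X, z ≠ x ∧ z ≠ y.1 ∧ x ≠ y.1 ∧ ({x, y.1, z} : Set X) ∈ L
    · obtain ⟨z, h1, h2, h3, h4⟩ := h
      rw [lineMap_pos hp h3 h1 h2 h4]
      have hzS : z ∈ S := hS _ h4 x hx y.1 y.2 h3 (by simp) (by simp) (by simp)
      have hl : ({⟨x, hx⟩, y, ⟨z, hzS⟩} : Set S) ∈ restrict L S :=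
        ⟨_, h4, by simp [Set.insert_subset_iff, hx, hzS], by ext w; simp [Subtype.ext_iff]⟩
      have hl' : ({e ⟨x, hx⟩, e y, e ⟨z, hzS⟩} : Set Y) ∈ M := by
        have := (he _).mp hl
        simpa [Set.image_insert_eq] using this
      rw [f1 _ _ _ (e.injective.ne fun h => h3 (congrArg Subtype.val h))
        (e.injective.ne fun h => h1 (congrArg Subtype.val h))
        (e.injective.ne fun h => h2 (congrArg Subtype.val h)) hl', Equiv.symm_apply_apply]
    · rw [lineMap_neg h]
      by_cases hf : f (e ⟨x, hx⟩) (e y) = e y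
      · rw [hf, Equiv.symm_apply_apply]
      · obtain ⟨w, h1, h2, h3, h4⟩ := f2 _ _ hf
        obtain ⟨z, rfl⟩ := e.surjective w
        have hl : ({⟨x, hx⟩, y, z} : Set S) ∈ restrict L S := by
          refine (he _).mpr ?_
          simpa [Set.image_insert_eq] using h4
        obtain ⟨l, hlL, hlS, hle⟩ := hl
        exfalso
        refine h ⟨z.1, fun h => h1 (congrArg e (Subtype.ext h)), fun h => h2 (congrArg e (Subtype.ext h)),
          fun h => h3 (congrArg e (Subtype.ext h)), ?_⟩
        have : l = {x, y.1, z.1} := by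
          ext w
          constructor
          · intro hw
            have : (⟨w, hlS hw⟩ : S) ∈ ({⟨x, hx⟩, y, z} : Set S) := hle.symm ▸ hw
            simpa [Subtype.ext_iff] using this
          · intro hw
            have aux : ∀ u : S, u ∈ ({⟨x, hx⟩, y, z} : Set S) → u.1 ∈ l := fun u hu => by
              rw [hle] at hu; exact hu
            rcases hw with rfl | rfl | rfl
            · exact aux ⟨_, hx⟩ (by simp)
            · exact aux y (by simp)
            · exact aux z (by simp)
        exact this ▸ hlL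
  obtain ⟨l, hlL, hlS, hle⟩ : e.symm '' (f (e ⟨x, hx⟩) '' (e '' {y : S | y.1 ∈ m})) ∈ restrict L S := by
    refine (he _).mpr ?_
    rw [Set.image_image e e.symm]
    simp only [Equiv.apply_symm_apply, Set.image_id']
    exact f3 _ _ ((he _).mp ⟨m, hm, hmS, rfl⟩)
  have : lineMap L x '' m = l := by
    ext w
    constructor
    · rintro ⟨y, hy, rfl⟩
      rw [key ⟨y, hmS hy⟩]
      have : e.symm (f (e ⟨x, hx⟩) (e ⟨y, hmS hy⟩)) ∈
          e.symm '' (f (e ⟨x, hx⟩) '' (e '' {y : S | y.1 ∈ m})) :=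
        ⟨_, ⟨_, ⟨_, hy, rfl⟩, rfl⟩, rfl⟩
      rw [hle] at this
      exact this
    · intro hw
      have : (⟨w, hlS hw⟩ : S) ∈ e.symm '' (f (e ⟨x, hx⟩) '' (e '' {y : S | y.1 ∈ m})) := hle.symm ▸ hw
      obtain ⟨_, ⟨_, ⟨y, hy, rfl⟩, rfl⟩, hw'⟩ := this
      exact ⟨y.1, hy, by rw [key y, hw']⟩
  exact this ▸ hlL

/-- the transposition attached to a point of the dual affine plane -/
noncomputable def sw (a : DualAffinePoint) : Equiv.Perm (Fin 4) :=
  Equiv.swap (a.1.min' (Finset.card_pos.mp (by rw [a.2]; norm_num)))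
    (a.1.max' (Finset.card_pos.mp (by rw [a.2]; norm_num)))

/-- the action of the transposition attached to `a` -/
noncomputable def dualMap (a b : DualAffinePoint) : DualAffinePoint :=
  ⟨b.1.map (sw a).toEmbedding, by rw [Finset.card_map, b.2]⟩

set_option maxRecDepth 100000 in
set_option synthInstance.maxSize 4000 in
set_option synthInstance.maxHeartbeats 200000 in
set_option maxHeartbeats 4000000 in
theorem dual_fact1 : ∀ a b c : DualAffinePoint, ∀ i u v : Fin 4,
    (a ≠ b ∧ c ≠ a ∧ c ≠ b ∧ i ∉ a.1 ∧ i ∉ b.1 ∧ i ∉ c.1 ∧ a.1 = {u, v}) →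
      b.1.image (Equiv.swap u v) = c.1 := by
  decide +kernel

/-- the candidate line through three points -/
def IsDLine (a b c : DualAffinePoint) (i : Fin 4) : Prop :=
  ∀ s : DualAffinePoint, i ∉ s.1 ↔ (s = a ∨ s = b ∨ s = c)

instance (a b c : DualAffinePoint) (i : Fin 4) : Decidable (IsDLine a b c i) :=
  inferInstanceAs (Decidable (∀ s : DualAffinePoint, i ∉ s.1 ↔ (s = a ∨ s = b ∨ s = c)))

set_option maxRecDepth 100000 in
set_option synthInstance.maxSize 4000 in
set_option synthInstance.maxHeartbeats 200000 in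
set_option maxHeartbeats 4000000 in
theorem dual_fact2 : ∀ a b : DualAffinePoint, ∀ u v : Fin 4,
    (a.1 = {u, v} ∧ b.1.image (Equiv.swap u v) ≠ b.1) →
      ∃ c : DualAffinePoint, c ≠ a ∧ c ≠ b ∧ a ≠ b ∧ ∃ i, IsDLine a b c i := by
  decide +kernel

theorem sw_spec (a : DualAffinePoint) : ∃ u v, a.1 = {u, v} ∧ u ≠ v ∧ sw a = Equiv.swap u v := by
  obtain ⟨u, v, huv, h⟩ := Finset.card_eq_two.mp a.2
  have hne : a.1.Nonempty := Finset.card_pos.mp (by rw [a.2]; norm_num)
  have h1 := a.1.min'_mem hne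
  have h2 := a.1.max'_mem hne
  have h3 : a.1.min' hne ≠ a.1.max' hne :=
    (a.1.min'_lt_max'_of_card (by rw [a.2]; norm_num)).ne
  refine ⟨_, _, ?_, h3, rfl⟩
  symm
  refine Finset.eq_of_subset_of_card_le ?_ ?_
  · simp [Finset.insert_subset_iff, h1, h2]
  · rw [Finset.card_pair h3, a.2]

theorem affine_line {a b c : Fin 2 → ZMod 3} (h : ({a, b, c} : Set (Fin 2 → ZMod 3)) ∈ affinePlaneThree) :
    a ≠ b → c ≠ a → c ≠ b → c = -a - b := by
  obtain ⟨v, w, -, hl⟩ := h
  intro hab hca hcb
  have hh : ∀ u ∈ ({a, b, c} : Set (Fin 2 → ZMod 3)), ∃ t : ZMod 3, u = v + t • w := fun u hu => by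
    rw [hl] at hu; exact hu
  obtain ⟨s, rfl⟩ := hh a (by simp)
  obtain ⟨t, rfl⟩ := hh b (by simp)
  obtain ⟨r, rfl⟩ := hh c (by simp)
  have key : ∀ s t r : ZMod 3, s ≠ t → r ≠ s → r ≠ t → r = -s - t := by decide
  have h3 : (3 : ZMod 3) = 0 := rfl
  rw [key s t r (fun h => hab (by rw [h])) (fun h => hca (by rw [h])) (fun h => hcb (by rw [h]))]
  funext i
  simp only [Pi.add_apply, Pi.smul_apply, Pi.sub_apply, Pi.neg_apply, smul_eq_mul]
  linear_combination (v i) * h3

theorem plane_line {X : Type*} {L : Set (Set X)} (hL : IsFischerSpace L) (x : X) {m : Set X}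
    (hm : m ∈ L) : lineMap L x '' m ∈ L := by
  classical
  obtain ⟨hp, h3, hplane⟩ := hL
  by_cases hc : ∃ y ∈ m, lineMap L x y ≠ y
  swap
  · push Not at hc
    rw [Set.image_congr hc, Set.image_id']
    exact hm
  obtain ⟨y, hy, hne⟩ := hc
  obtain ⟨z, h1, h2, h4, hl⟩ : ∃ z : X, z ≠ x ∧ z ≠ y ∧ x ≠ y ∧ ({x, y, z} : Set X) ∈ L :=
    not_not.mp fun h => hne (lineMap_neg h)
  by_cases heq : ({x, y, z} : Set X) = m
  · subst heq
    have hxx : lineMap L x x = x := lineMap_neg fun ⟨_, _, _, h, _⟩ => h rfl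
    rw [Set.image_insert_eq, Set.image_insert_eq, Set.image_singleton, hxx,
      lineMap_pos hp h4 h1 h2 hl,
      lineMap_pos hp h1.symm h4.symm h2.symm (triple_perm x y z ▸ hl)]
    exact triple_perm x y z ▸ hl
  set S := span L ({x, y, z} ∪ m) with hS
  have hsub : ({x, y, z} : Set X) ∪ m ⊆ S := fun u hu => Set.mem_sInter.mpr fun T hT => hT.1 hu
  have hSS : IsSubspace L S := by
    intro l hl u hu v hv huv hul hvl w hw
    refine Set.mem_sInter.mpr fun T hT => ?_
    exact hT.2 l hl u (Set.mem_sInter.mp hu T hT) v (Set.mem_sInter.mp hv T hT) huv hul hvl hw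
  have hxS : x ∈ S := hsub (Or.inl (by simp))
  have hmS : m ⊆ S := fun u hu => hsub (Or.inr hu)
  rcases hplane _ hl m hm heq ⟨y, by simp, hy⟩ with ⟨e, he⟩ | ⟨e, he⟩
  · refine image_line hp hSS e he dualMap ?_ ?_ ?_ hxS hm hmS
    · rintro a b c hab hca hcb ⟨i, hi⟩
      obtain ⟨u, v, h1, h2, h3⟩ := sw_spec a
      have hh : ∀ s ∈ ({a, b, c} : Set DualAffinePoint), i ∉ s.1 := fun s hs => by rw [hi] at hs; exact hs
      refine Subtype.ext ?_
      show b.1.map _ = _
      rw [Finset.map_eq_image, Equiv.coe_toEmbedding, h3]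
      exact dual_fact1 a b c i u v ⟨hab, hca, hcb, hh a (by simp), hh b (by simp), hh c (by simp), h1⟩
    · intro a b hab
      obtain ⟨u, v, h1, h2, h3⟩ := sw_spec a
      obtain ⟨c, c1, c2, c3, i, hi⟩ := dual_fact2 a b u v ⟨h1, fun h => hab (Subtype.ext (by
        show b.1.map _ = _
        rw [Finset.map_eq_image, Equiv.coe_toEmbedding, h3]; exact h))⟩
      exact ⟨c, c1, c2, c3, i, by ext s; simpa using (hi s).symm⟩
    · rintro a _ ⟨i, rfl⟩
      refine ⟨sw a i, ?_⟩
      ext s
      constructor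
      · rintro ⟨t, ht, rfl⟩
        show sw a i ∉ t.1.map (sw a).toEmbedding
        simpa using ht
      · intro hs
        refine ⟨⟨s.1.map (sw a).symm.toEmbedding, by rw [Finset.card_map, s.2]⟩, ?_, Subtype.ext ?_⟩
        · show i ∉ s.1.map (sw a).symm.toEmbedding
          simpa using hs
        · show (s.1.map (sw a).symm.toEmbedding).map (sw a).toEmbedding = s.1
          rw [Finset.map_map]; simp
  · refine image_line hp hSS e he (fun a b => -a - b) ?_ ?_ ?_ hxS hm hmS
    · intro a b c hab hca hcb h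
      exact (affine_line h hab hca hcb).symm
    · intro a b h
      have h3 : (3 : ZMod 3) = 0 := rfl
      have hab : a ≠ b := by
        rintro rfl
        apply h
        funext i
        simp only [Pi.sub_apply, Pi.neg_apply]
        linear_combination (-(a i)) * h3
      refine ⟨-a - b, fun h' => hab ?_, h, hab, a, b - a, sub_ne_zero.mpr hab.symm, ?_⟩
      · funext i
        have := congrFun h' i
        simp only [Pi.sub_apply, Pi.neg_apply] at this
        linear_combination this + (a i) * h3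
      · ext u
        constructor
        · rintro (rfl | rfl | rfl)
          · exact ⟨0, by simp⟩
          · exact ⟨1, by simp⟩
          · refine ⟨2, funext fun i => ?_⟩
            simp only [Pi.add_apply, Pi.smul_apply, Pi.sub_apply, Pi.neg_apply, smul_eq_mul]
            linear_combination (-(b i)) * h3
        · rintro ⟨t, rfl⟩
          have ht : t = 0 ∨ t = 1 ∨ t = 2 := by revert t; decide
          rcases ht with rfl | rfl | rfl
          · exact Or.inl (by simp)
          · exact Or.inr (Or.inl (by simp))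
          · refine Or.inr (Or.inr (funext fun i => ?_))
            simp only [Pi.add_apply, Pi.smul_apply, Pi.sub_apply, Pi.neg_apply, smul_eq_mul]
            linear_combination (b i) * h3
    · rintro a _ ⟨v, w, hw, rfl⟩
      refine ⟨-a - v, -w, neg_ne_zero.mpr hw, ?_⟩
      ext u
      constructor
      · rintro ⟨_, ⟨t, rfl⟩, rfl⟩
        exact ⟨t, by simp [sub_eq_add_neg, add_comm, add_left_comm, add_assoc]⟩
      · rintro ⟨t, rfl⟩
        exact ⟨v + t • w, ⟨t, rfl⟩, by simp [sub_eq_add_neg, add_comm, add_left_comm, add_assoc]⟩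

theorem map_lineMap {X : Type*} {L : Set (Set X)} (hp : IsPartialLinear L) (σ : Equiv.Perm X)
    (hσ : IsIso L L σ) (x w : X) : σ (lineMap L x w) = lineMap L (σ x) (σ w) := by
  by_cases h : ∃ z : X, z ≠ x ∧ z ≠ w ∧ x ≠ w ∧ ({x, w, z} : Set X) ∈ L
  · obtain ⟨z, h1, h2, h3, h4⟩ := h
    rw [lineMap_pos hp h3 h1 h2 h4]
    have := (hσ _).mp h4
    rw [Set.image_insert_eq, Set.image_insert_eq, Set.image_singleton] at this
    exact (lineMap_pos hp (σ.injective.ne h3) (σ.injective.ne h1) (σ.injective.ne h2) this).symm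
  · rw [lineMap_neg h, lineMap_neg]
    rintro ⟨z, h1, h2, h3, h4⟩
    obtain ⟨z, rfl⟩ := σ.surjective z
    refine h ⟨z, fun h => h1 (by rw [h]), fun h => h2 (by rw [h]), fun h => h3 (by rw [h]), ?_⟩
    refine (hσ _).mpr ?_
    rwa [Set.image_insert_eq, Set.image_insert_eq, Set.image_singleton]


/-- Let L be a nondegenerate Fischer space on the point type X (every point on a line). Then for every point x the map t(x) — sending a point collinear with x to the third point of their common line and fixing every other point — is a permutation of X of order 2 and an automorphism of the line system; and the set of all t(x) satisfies the 3-transposition order conditions in the permutation group of X (any two have product of order at most 3). -/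
theorem result {X : Type*} (L : Set (Set X)) (hL : Cfsg.IsFischerSpace L) (hnd : Cfsg.LineSystem.IsNondegenerate L) : (∀ x : X, ∃ σ : Equiv.Perm X, ⇑σ = Cfsg.LineSystem.lineMap L x ∧ orderOf σ = 2 ∧ Cfsg.LineSystem.IsIso L L σ) ∧ Cfsg.IsThreeTranspositionSet {σ : Equiv.Perm X | ∃ x : X, ⇑σ = Cfsg.LineSystem.lineMap L x} := by
  classical
  have hp := hL.1
  let T : X → Equiv.Perm X := fun x =>
    ⟨LineSystem.lineMap L x, LineSystem.lineMap L x, lineMap_lineMap hp x, lineMap_lineMap hp x⟩
  have hTT : ∀ x w, T x (T x w) = w := fun x w => lineMap_lineMap hp x w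
  have hT2 : ∀ x, T x * T x = 1 := fun x => Equiv.ext fun w => hTT x w
  have hiso : ∀ x, LineSystem.IsIso L L (T x) := by
    intro x l
    refine ⟨fun h => plane_line hL x h, fun h => ?_⟩
    have := plane_line hL x h
    rw [Set.image_image] at this
    have h2 : (fun w => LineSystem.lineMap L x ((T x) w)) = id := funext fun w => lineMap_lineMap hp x w
    rwa [h2, Set.image_id] at this
  have horder : ∀ x, orderOf (T x) = 2 := by
    intro x
    refine orderOf_eq_prime (by rw [pow_two, hT2]) fun h => ?_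
    obtain ⟨l, hl, hxl⟩ := hnd x
    obtain ⟨a, b, c, hab, hac, hbc, rfl⟩ := Set.ncard_eq_three.mp (hL.2.1 l hl)
    have aux : ∀ y z, x ≠ y → z ≠ x → z ≠ y → ({x, y, z} : Set X) ∈ L → False := by
      intro y z h1 h2 h3 h4
      have h5 : T x y = z := lineMap_pos hp h1 h2 h3 h4
      rw [h, Equiv.Perm.one_apply] at h5
      exact h3 h5.symm
    rcases hxl with rfl | rfl | rfl
    · exact aux b c hab hac.symm hbc.symm hl
    · exact aux a c hab.symm hbc.symm hac.symm (by rwa [Set.insert_comm])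
    · exact aux a b hac.symm hbc hab.symm (by rwa [Set.insert_comm, Set.pair_comm x b])
  refine ⟨fun x => ⟨T x, rfl, horder x, hiso x⟩, ⟨?_, ?_⟩⟩
  · rintro σ ⟨x, hx⟩
    rw [show σ = T x from Equiv.coe_fn_injective hx]
    exact horder x
  rintro σ ⟨x, hx⟩ τ ⟨y, hy⟩
  rw [show σ = T x from Equiv.coe_fn_injective hx, show τ = T y from Equiv.coe_fn_injective hy]
  have conj : ∀ x y, T x * T y * T x = T (LineSystem.lineMap L x y) := by
    intro x y
    refine Equiv.ext fun w => ?_
    have h := map_lineMap hp (T x) (hiso x) y (T x w)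
    rw [hTT] at h
    exact h
  by_cases hc : ∃ z : X, z ≠ x ∧ z ≠ y ∧ x ≠ y ∧ ({x, y, z} : Set X) ∈ L
  · right
    obtain ⟨z, h1, h2, h3, h4⟩ := hc
    have e1 : LineSystem.lineMap L x y = z := lineMap_pos hp h3 h1 h2 h4
    have e2 : LineSystem.lineMap L y x = z := lineMap_pos hp h3.symm h2 h1 (by rwa [Set.insert_comm])
    calc (T x * T y) ^ 3 = (T x * T y * T x) * (T y * T x * T y) := by simp only [pow_succ, pow_zero, one_mul, mul_assoc]
      _ = 1 := by rw [conj, conj, e1, e2, hT2]
  · left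
    have e1 : LineSystem.lineMap L x y = y := lineMap_neg hc
    calc (T x * T y) ^ 2 = (T x * T y * T x) * T y := by simp only [pow_succ, pow_zero, one_mul, mul_assoc]
      _ = 1 := by rw [conj, e1, hT2]

end Cfsg.Agent.S5366
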