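import Cfsg.Statements.S5367
import Cfsg.Agent.ThreeTransposition.Basic

set_option autoImplicit false
open Cfsg

namespace Cfsg.Agent.S5367


open Cfsg.LineSystem Cfsg.Lib.ThreeTr

variable {G : Type*} [Group G] {D : Set G}

/-- conjugation inside `D` -/
def cj (hD : IsThreeTranspositionGroup D) (y x : D) : D :=
  ⟨(y : G) * x * (y : G)⁻¹, hD.2.1 _ _ x.2⟩

theorem cj_self (hD : IsThreeTranspositionGroup D) (y : D) : cj hD y y = y :=
  Subtype.ext (mul_inv_cancel_right (y : G) y)

theorem cj_cj (hD : IsThreeTranspositionGroup D) (y x : D) : cj hD y (cj hD y x) = x := by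
  refine Subtype.ext ?_
  show (y : G) * ((y : G) * x * (y : G)⁻¹) * (y : G)⁻¹ = x
  rw [inv_eq hD.1 y.2, show (y : G) * ((y : G) * x * y) * y = ((y : G) * y) * x * ((y : G) * y) by
    simp only [mul_assoc], sq_eq_one hD.1 y.2, one_mul, mul_one]

theorem cj_comm (hD : IsThreeTranspositionGroup D) {y x : D} (h : ¬ Commute (x : G) y) :
    cj hD y x = cj hD x y := by
  refine Subtype.ext ?_
  show (y : G) * x * (y : G)⁻¹ = (x : G) * y * (x : G)⁻¹
  rw [inv_eq hD.1 y.2, inv_eq hD.1 x.2, braid hD.1 x.2 y.2 h]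

theorem cj_eq_of_commute (hD : IsThreeTranspositionGroup D) {y x : D} (h : Commute (x : G) y) :
    cj hD y x = x := by
  refine Subtype.ext ?_
  show (y : G) * x * (y : G)⁻¹ = x
  rw [← h.eq, mul_inv_cancel_right]

theorem commute_of_cj_eq (hD : IsThreeTranspositionGroup D) {y x : D} (h : cj hD y x = x) :
    Commute (x : G) y := by
  have h' : (y : G) * x * (y : G)⁻¹ = x := congrArg Subtype.val h
  rw [mul_inv_eq_iff_eq_mul] at h'
  exact h'.symm

theorem cj_conj (hD : IsThreeTranspositionGroup D) (z y x : D) :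
    cj hD z (cj hD y x) = cj hD (cj hD z y) (cj hD z x) := by
  refine Subtype.ext ?_
  simp only [cj]
  group

theorem not_commute_cj (hD : IsThreeTranspositionGroup D) {y x : D} (h : ¬ Commute (x : G) y) :
    ¬ Commute (x : G) (cj hD y x) := by
  intro hc
  apply h
  rw [cj_comm hD h] at hc
  have hx := sq_eq_one hD.1 x.2
  have e : (x : G) * ((x : G) * y * (x : G)⁻¹) = ((x : G) * y * (x : G)⁻¹) * x := hc.eq
  rw [inv_eq hD.1 x.2, ← mul_assoc, ← mul_assoc, hx, one_mul, mul_assoc ((x : G) * y), hx, mul_one] at e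
  exact e.symm

/-- the line of two members -/
def line (hD : IsThreeTranspositionGroup D) (x y : D) : Set D := {x, y, cj hD y x}

theorem mem_lines (hD : IsThreeTranspositionGroup D) {l : Set D} :
    l ∈ threeTranspositionLines D ↔ ∃ x y : D, ¬ Commute (x : G) y ∧ l = line hD x y := by
  constructor
  · rintro ⟨x, y, h, rfl⟩
    exact ⟨x, y, h, by ext z; simp [line, cj, Subtype.ext_iff]⟩
  · rintro ⟨x, y, h, rfl⟩
    exact ⟨x, y, h, by ext z; simp [line, cj, Subtype.ext_iff]⟩

theorem line_eq (hD : IsThreeTranspositionGroup D) {l : Set D} (hl : l ∈ threeTranspositionLines D)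
    {p q : D} (hp : p ∈ l) (hq : q ∈ l) (hne : p ≠ q) : ¬ Commute (p : G) q ∧ l = line hD p q := by
  obtain ⟨x, y, h, rfl⟩ := (mem_lines hD).mp hl
  set z := cj hD y x with hz
  have h' : ¬ Commute (y : G) x := fun h2 => h h2.symm
  have hxz : ¬ Commute (x : G) z := not_commute_cj hD h
  have hyz : ¬ Commute (y : G) z := by rw [hz, cj_comm hD h]; exact not_commute_cj hD h'
  have e3 : cj hD x y = z := (cj_comm hD h).symm
  have e1 : cj hD z x = y := by rw [cj_comm hD hxz, ← e3, cj_cj]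
  have e2 : cj hD z y = x := by rw [cj_comm hD hyz, hz, cj_cj]
  simp only [line, Set.mem_insert_iff, Set.mem_singleton_iff] at hp hq
  rcases hp with rfl | rfl | rfl <;> rcases hq with rfl | rfl | rfl
  · exact absurd rfl hne
  · exact ⟨h, rfl⟩
  · exact ⟨hxz, by rw [line, line, e1, Set.pair_comm]⟩
  · exact ⟨h', by rw [line, line, e3, Set.insert_comm]⟩
  · exact absurd rfl hne
  · exact ⟨hyz, by rw [line, line, e2]; ext w; simp only [Set.mem_insert_iff, Set.mem_singleton_iff]; tauto⟩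
  · refine ⟨fun h2 => hxz h2.symm, ?_⟩
    rw [line, line, cj_comm hD h, cj_cj]
    ext w; simp only [Set.mem_insert_iff, Set.mem_singleton_iff]; tauto
  · refine ⟨fun h2 => hyz h2.symm, ?_⟩
    rw [line, line, cj_cj]
    ext w; simp only [Set.mem_insert_iff, Set.mem_singleton_iff]; tauto
  · exact absurd rfl hne

theorem line_mem (hD : IsThreeTranspositionGroup D) {p q : D} (h : ¬ Commute (p : G) q) :
    line hD p q ∈ threeTranspositionLines D := (mem_lines hD).mpr ⟨p, q, h, rfl⟩

theorem third_mem (hD : IsThreeTranspositionGroup D) {T : Set D}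
    (hT : IsSubspace (threeTranspositionLines D) T) {p q : D} (h : ¬ Commute (p : G) q)
    (hp : p ∈ T) (hq : q ∈ T) : cj hD q p ∈ T :=
  hT _ (line_mem hD h) p hp q hq (fun e => h (e ▸ Commute.refl _)) (Or.inl rfl) (Or.inr (Or.inl rfl))
    (Or.inr (Or.inr rfl))

/-- recognition of the plane spanned by two lines -/
theorem plane (hD : IsThreeTranspositionGroup D) {Y : Type*} {M : Set (Set Y)} (φ : Y → D)
    (hinj : Function.Injective φ) (hlines : ∀ m ∈ M, φ '' m ∈ threeTranspositionLines D)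
    (hcol : ∀ y₁ y₂, y₁ ≠ y₂ → (∃ m ∈ M, y₁ ∈ m ∧ y₂ ∈ m) ∨ Commute (φ y₁ : G) (φ y₂))
    (U : Set D) (hU : U ⊆ Set.range φ)
    (hgen : ∀ T, U ⊆ T → IsSubspace (threeTranspositionLines D) T → Set.range φ ⊆ T) :
    Isomorphic (restrict (threeTranspositionLines D) (span (threeTranspositionLines D) U)) M := by
  have hfind : ∀ l ∈ threeTranspositionLines D, ∀ y₁ y₂, φ y₁ ∈ l → φ y₂ ∈ l → y₁ ≠ y₂ →
      ∃ m ∈ M, l = φ '' m := by
    intro l hl y₁ y₂ h1 h2 hne
    obtain ⟨hnc, hle⟩ := line_eq hD hl h1 h2 (hinj.ne hne)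
    obtain ⟨m, hm, ha, hb⟩ := (hcol _ _ hne).resolve_right hnc
    obtain ⟨-, hle'⟩ := line_eq hD (hlines m hm) ⟨_, ha, rfl⟩ ⟨_, hb, rfl⟩ (hinj.ne hne)
    exact ⟨m, hm, hle.trans hle'.symm⟩
  have hsub : IsSubspace (threeTranspositionLines D) (Set.range φ) := by
    rintro l hl _ ⟨y₁, rfl⟩ _ ⟨y₂, rfl⟩ hne h1 h2
    obtain ⟨m, -, rfl⟩ := hfind l hl y₁ y₂ h1 h2 (fun e => hne (e ▸ rfl))
    exact Set.image_subset_range _ _
  have hspan : span (threeTranspositionLines D) U = Set.range φ :=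
    Set.Subset.antisymm (Set.sInter_subset_of_mem ⟨hU, hsub⟩)
      (Set.subset_sInter fun T hT => hgen T hT.1 hT.2)
  rw [hspan]
  refine ⟨(Equiv.ofInjective φ hinj).symm, fun s => ⟨?_, ?_⟩⟩
  · rintro ⟨l, hl, hlr, rfl⟩
    obtain ⟨p, q, h, rfl⟩ := (mem_lines hD).mp hl
    obtain ⟨y₁, hy₁⟩ := hlr (Or.inl rfl : p ∈ line hD p q)
    obtain ⟨y₂, hy₂⟩ := hlr (Or.inr (Or.inl rfl) : q ∈ line hD p q)
    obtain ⟨m, hm, hme⟩ := hfind _ hl y₁ y₂ (hy₁ ▸ Or.inl rfl) (hy₂ ▸ Or.inr (Or.inl rfl))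
      (fun e => h (by rw [← hy₁, ← hy₂, e]))
    convert hm using 1
    ext y
    constructor
    · rintro ⟨⟨w, hw⟩, hwl, rfl⟩
      obtain ⟨u, hu, hue⟩ : w ∈ φ '' m := hme ▸ hwl
      subst hue
      rw [Equiv.ofInjective_symm_apply]
      exact hu
    · intro hy
      refine ⟨⟨φ y, y, rfl⟩, ?_, Equiv.ofInjective_symm_apply hinj y⟩
      show φ y ∈ line hD p q
      exact hme.symm ▸ ⟨y, hy, rfl⟩
  · intro hs
    refine ⟨_, hlines _ hs, Set.image_subset_range _ _, ?_⟩
    ext ⟨w, y, rfl⟩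
    constructor
    · intro hw
      exact ⟨y, ⟨_, hw, Equiv.ofInjective_symm_apply hinj y⟩, rfl⟩
    · rintro ⟨u, ⟨⟨w', u', rfl⟩, hw', hu⟩, hue⟩
      rw [Equiv.ofInjective_symm_apply] at hu
      subst hu
      have : u' = y := hinj hue
      subst this
      exact hw'

set_option maxHeartbeats 2000000 in
/-- The dual affine case -/
theorem dual_case (hD : IsThreeTranspositionGroup D) {a b c : D} (hab : ¬ Commute (a : G) b)
    (hbc : ¬ Commute (c : G) b) (hac : Commute (a : G) c) (hne : a ≠ c) :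
    Isomorphic (restrict (threeTranspositionLines D)
      (span (threeTranspositionLines D) (line hD a b ∪ line hD c b))) dualAffinePlaneTwo := by
  classical
  set d := cj hD b a with hd
  set e := cj hD b c with he
  set f := cj hD c d with hf
  have hcd : ¬ Commute (d : G) c := by
    intro h
    apply hbc
    have h1 : cj hD c d = d := cj_eq_of_commute hD h
    rw [hd, cj_comm hD hab, cj_conj, cj_eq_of_commute hD hac] at h1
    have h2 : cj hD c b = b := by
      have := congrArg (cj hD a) h1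
      rwa [cj_cj, cj_cj] at this
    exact (commute_of_cj_eq hD h2).symm
  have hae : ¬ Commute (e : G) a := by
    intro h
    apply hab
    have h1 : cj hD a e = e := cj_eq_of_commute hD h
    rw [he, cj_comm hD hbc, cj_conj, cj_eq_of_commute hD hac.symm] at h1
    have h2 : cj hD a b = b := by
      have := congrArg (cj hD c) h1
      rwa [cj_cj, cj_cj] at this
    exact (commute_of_cj_eq hD h2).symm
  have hfa : cj hD a e = f := by
    rw [hf, he, hd, cj_comm hD hab, cj_comm hD hbc, cj_conj hD a c b, cj_eq_of_commute hD hac.symm]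
  have hmapc : ∀ (g x y : D), Commute (x : G) y → Commute (cj hD g x : G) (cj hD g y) := fun g x y h =>
    h.map (MulAut.conj (g : G))
  have hde : Commute (d : G) e := hmapc b a c hac
  have hbf : Commute (b : G) f := by
    have := hmapc a _ _ hde
    rwa [hd, cj_comm hD hab, cj_cj, hfa] at this
  have hne' : ∀ {x y : D}, ¬ Commute (x : G) y → x ≠ y := fun h e => h (e ▸ Commute.refl _)
  have hlA := line_mem hD hab
  have hlB := line_mem hD hbc
  have hlC : line hD c d ∈ threeTranspositionLines D := line_mem hD fun h => hcd h.symm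
  have hlD : line hD e a ∈ threeTranspositionLines D := line_mem hD hae
  have eC : cj hD d c = f := cj_comm hD fun h => hcd h.symm
  let φ : DualAffinePoint → D := fun s =>
    if 0 ∈ s.1 ∧ 1 ∈ s.1 then a else if 1 ∈ s.1 ∧ 2 ∈ s.1 then b else if 2 ∈ s.1 ∧ 3 ∈ s.1 then c
      else if 0 ∈ s.1 ∧ 2 ∈ s.1 then d else if 1 ∈ s.1 ∧ 3 ∈ s.1 then e else f
  have hsix : ∀ s : DualAffinePoint, s = ⟨{0, 1}, rfl⟩ ∨ s = ⟨{1, 2}, rfl⟩ ∨ s = ⟨{2, 3}, rfl⟩ ∨
      s = ⟨{0, 2}, rfl⟩ ∨ s = ⟨{1, 3}, rfl⟩ ∨ s = ⟨{0, 3}, rfl⟩ := by decide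
  have fa : φ ⟨{0, 1}, rfl⟩ = a := rfl
  have fb : φ ⟨{1, 2}, rfl⟩ = b := rfl
  have fc : φ ⟨{2, 3}, rfl⟩ = c := rfl
  have fd : φ ⟨{0, 2}, rfl⟩ = d := rfl
  have fe : φ ⟨{1, 3}, rfl⟩ = e := rfl
  have ff : φ ⟨{0, 3}, rfl⟩ = f := rfl
  have pA := @line_eq G _ D hD _ hlA
  have nbd : ¬ Commute (b : G) d :=
    (line_eq hD hlA (p := b) (q := d) (by simp [line]) (by simp [line, hd]) (by
      intro h; exact hne' hab ((cj_cj hD b a).symm.trans (by rw [← hd, ← h, cj_self])))).1
  have nad : ¬ Commute (a : G) d := not_commute_cj hD hab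
  have nce : ¬ Commute (c : G) e := not_commute_cj hD hbc
  have nbe : ¬ Commute (b : G) e := by
    rw [he, cj_comm hD hbc]; exact not_commute_cj hD fun h => hbc h.symm
  have ncf : ¬ Commute (c : G) f := by rw [← eC]; exact not_commute_cj hD fun h => hcd h.symm
  have ndf : ¬ Commute (d : G) f := by rw [hf]; exact not_commute_cj hD hcd
  have nef : ¬ Commute (e : G) f := by rw [← hfa]; exact not_commute_cj hD hae
  have naf : ¬ Commute (a : G) f := by
    rw [← hfa, ← cj_comm hD fun h => hae h.symm]; exact not_commute_cj hD fun h => hae h.symm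
  have dde : d ≠ e := fun h => hne (by have := congrArg (cj hD b) h; rwa [hd, he, cj_cj, cj_cj] at this)
  have dbf : b ≠ f := fun h => dde (by
    have := congrArg (cj hD a) h
    rw [← hfa, cj_cj, ← cj_comm hD hab] at this
    exact this)
  have hinj : Function.Injective φ := by
    intro s t hst
    rcases hsix s with rfl | rfl | rfl | rfl | rfl | rfl <;>
      rcases hsix t with rfl | rfl | rfl | rfl | rfl | rfl <;>
      simp only [fa, fb, fc, fd, fe, ff] at hst <;>
      first
      | rfl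
      | exact absurd hst (hne' hab) | exact absurd hst.symm (hne' hab)
      | exact absurd hst (hne' hbc) | exact absurd hst.symm (hne' hbc)
      | exact absurd hst hne | exact absurd hst.symm hne
      | exact absurd hst (hne' hcd) | exact absurd hst.symm (hne' hcd)
      | exact absurd hst (hne' hae) | exact absurd hst.symm (hne' hae)
      | exact absurd hst (hne' nad) | exact absurd hst.symm (hne' nad)
      | exact absurd hst (hne' nbd) | exact absurd hst.symm (hne' nbd)
      | exact absurd hst (hne' nce) | exact absurd hst.symm (hne' nce)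
      | exact absurd hst (hne' nbe) | exact absurd hst.symm (hne' nbe)
      | exact absurd hst (hne' ncf) | exact absurd hst.symm (hne' ncf)
      | exact absurd hst (hne' ndf) | exact absurd hst.symm (hne' ndf)
      | exact absurd hst (hne' nef) | exact absurd hst.symm (hne' nef)
      | exact absurd hst (hne' naf) | exact absurd hst.symm (hne' naf)
      | exact absurd hst dde | exact absurd hst.symm dde
      | exact absurd hst dbf | exact absurd hst.symm dbf
  refine plane hD φ hinj ?_ ?_ _ ?_ ?_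
  · rintro _ ⟨i, rfl⟩
    have key : ∀ (l : Set D) (_ : l ∈ threeTranspositionLines D),
        (∀ s : DualAffinePoint, i ∉ s.1 → φ s ∈ l) → (∀ w ∈ l, ∃ s : DualAffinePoint, i ∉ s.1 ∧ φ s = w) →
          φ '' {s | i ∉ s.val} ∈ threeTranspositionLines D := by
      intro l hl h1 h2
      have : φ '' {s | i ∉ s.val} = l := by
        ext w
        exact ⟨by rintro ⟨s, hs, rfl⟩; exact h1 s hs, fun hw => h2 w hw⟩
      exact this ▸ hl
    have hi : ∀ i : Fin 4, i = 0 ∨ i = 1 ∨ i = 2 ∨ i = 3 := by decide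
    rcases hi i with rfl | rfl | rfl | rfl
    · refine key _ hlB (fun s hs => ?_) ?_
      · rcases hsix s with rfl | rfl | rfl | rfl | rfl | rfl <;>
          first
          | exact absurd (by decide) hs
          | (simp only [fa, fb, fc, fd, fe, ff]; first
              | exact Or.inl rfl | exact Or.inr (Or.inl rfl) | exact Or.inr (Or.inr rfl)
              | exact Or.inr (Or.inr eC.symm) | exact Or.inr (Or.inr hfa.symm))
      · rintro w (rfl | rfl | rfl)
        · exact ⟨⟨{2, 3}, rfl⟩, by decide, fc⟩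
        · exact ⟨⟨{1, 2}, rfl⟩, by decide, fb⟩
        · exact ⟨⟨{1, 3}, rfl⟩, by decide, fe⟩
    · refine key _ hlC (fun s hs => ?_) ?_
      · rcases hsix s with rfl | rfl | rfl | rfl | rfl | rfl <;>
          first
          | exact absurd (by decide) hs
          | (simp only [fa, fb, fc, fd, fe, ff]; first
              | exact Or.inl rfl | exact Or.inr (Or.inl rfl) | exact Or.inr (Or.inr rfl)
              | exact Or.inr (Or.inr eC.symm) | exact Or.inr (Or.inr hfa.symm))
      · rintro w (rfl | rfl | rfl)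
        · exact ⟨⟨{2, 3}, rfl⟩, by decide, fc⟩
        · exact ⟨⟨{0, 2}, rfl⟩, by decide, fd⟩
        · exact ⟨⟨{0, 3}, rfl⟩, by decide, ff.trans eC.symm⟩
    · refine key _ hlD (fun s hs => ?_) ?_
      · rcases hsix s with rfl | rfl | rfl | rfl | rfl | rfl <;>
          first
          | exact absurd (by decide) hs
          | (simp only [fa, fb, fc, fd, fe, ff]; first
              | exact Or.inl rfl | exact Or.inr (Or.inl rfl) | exact Or.inr (Or.inr rfl)
              | exact Or.inr (Or.inr eC.symm) | exact Or.inr (Or.inr hfa.symm))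
      · rintro w (rfl | rfl | rfl)
        · exact ⟨⟨{1, 3}, rfl⟩, by decide, fe⟩
        · exact ⟨⟨{0, 1}, rfl⟩, by decide, fa⟩
        · exact ⟨⟨{0, 3}, rfl⟩, by decide, ff.trans hfa.symm⟩
    · refine key _ hlA (fun s hs => ?_) ?_
      · rcases hsix s with rfl | rfl | rfl | rfl | rfl | rfl <;>
          first
          | exact absurd (by decide) hs
          | (simp only [fa, fb, fc, fd, fe, ff]; first
              | exact Or.inl rfl | exact Or.inr (Or.inl rfl) | exact Or.inr (Or.inr rfl)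
              | exact Or.inr (Or.inr eC.symm) | exact Or.inr (Or.inr hfa.symm))
      · rintro w (rfl | rfl | rfl)
        · exact ⟨⟨{0, 1}, rfl⟩, by decide, fa⟩
        · exact ⟨⟨{1, 2}, rfl⟩, by decide, fb⟩
        · exact ⟨⟨{0, 2}, rfl⟩, by decide, fd⟩
  · intro s t hst
    rcases hsix s with rfl | rfl | rfl | rfl | rfl | rfl <;>
      rcases hsix t with rfl | rfl | rfl | rfl | rfl | rfl <;>
      first
      | exact absurd rfl hst
      | (refine Or.inr ?_; simp only [fa, fb, fc, fd, fe, ff]; first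
          | exact hac | exact hac.symm | exact hde | exact hde.symm | exact hbf | exact hbf.symm)
      | exact Or.inl ⟨_, ⟨0, rfl⟩, by decide, by decide⟩
      | exact Or.inl ⟨_, ⟨1, rfl⟩, by decide, by decide⟩
      | exact Or.inl ⟨_, ⟨2, rfl⟩, by decide, by decide⟩
      | exact Or.inl ⟨_, ⟨3, rfl⟩, by decide, by decide⟩
  · rintro w ((rfl | rfl | rfl) | (rfl | rfl | rfl))
    exacts [⟨_, fa⟩, ⟨_, fb⟩, ⟨_, fd⟩, ⟨_, fc⟩, ⟨_, fb⟩, ⟨_, fe⟩]
  · intro T hUT hT
    have ha : a ∈ T := hUT (Or.inl (Or.inl rfl))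
    have hb : b ∈ T := hUT (Or.inl (Or.inr (Or.inl rfl)))
    have hd' : d ∈ T := hUT (Or.inl (Or.inr (Or.inr rfl)))
    have hc : c ∈ T := hUT (Or.inr (Or.inl rfl))
    have he' : e ∈ T := hUT (Or.inr (Or.inr (Or.inr rfl)))
    have hf' : f ∈ T := third_mem hD hT hcd hd' hc
    rintro _ ⟨s, rfl⟩
    rcases hsix s with rfl | rfl | rfl | rfl | rfl | rfl
    exacts [ha, hb, hc, hd', he', hf']

/-- cubes in the affine case -/
theorem v_commute {u v : G} (hu : u * u * u = 1) (h1 : (u * v) * (u * v) * (u * v) = 1)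
    (h2 : (u * v⁻¹) * (u * v⁻¹) * (u * v⁻¹) = 1) :
    Commute v (u * v * u⁻¹) ∧ u * (u * v * u⁻¹ * v⁻¹) * u⁻¹ = u * v * u⁻¹ * v⁻¹ ∨ v * v * v ≠ 1 := by
  rw [or_iff_not_imp_right, not_not]
  intro hv
  have hu2 : u⁻¹ = u * u := inv_eq_of_mul_eq_one_right (by rw [← mul_assoc]; exact hu)
  have red : ∀ x : G, u * (u * (u * x)) = x := fun x => by
    rw [← mul_assoc u u, ← mul_assoc (u * u) u, hu, one_mul]
  set v1 := u * v * u⁻¹ with hv1
  set v2 := u * v1 * u⁻¹ with hv2
  have e1 : v1 * v2 * v = 1 := by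
    rw [← h1, hv2, hv1, hu2]
    simp only [mul_assoc, red]
  have e2 : v1⁻¹ * v2⁻¹ * v⁻¹ = 1 := by
    rw [← h2, hv2, hv1]
    simp only [mul_inv_rev, inv_inv]
    rw [hu2]
    simp only [mul_assoc, red]
  have a1 : v2 = v1⁻¹ * v⁻¹ := by
    calc v2 = v1⁻¹ * (v1 * v2 * v) * v⁻¹ := by group
      _ = v1⁻¹ * v⁻¹ := by rw [e1, mul_one]
  have a2 : v2 = v⁻¹ * v1⁻¹ := by
    calc v2 = v⁻¹ * (v1⁻¹ * v2⁻¹ * v⁻¹)⁻¹ * v1⁻¹ := by group
      _ = v⁻¹ * v1⁻¹ := by rw [e2, inv_one, mul_one]
  have hc : Commute v v1 := Commute.inv_inv_iff.mp (a2.symm.trans a1)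
  refine ⟨hc, ?_⟩
  have hv13 : v1 * v1 * v1 = 1 := by
    rw [hv1, show u * v * u⁻¹ * (u * v * u⁻¹) * (u * v * u⁻¹) = u * (v * v * v) * u⁻¹ by group, hv,
      mul_one, mul_inv_cancel]
  calc u * (v1 * v⁻¹) * u⁻¹ = v2 * v1⁻¹ := by rw [hv2, hv1]; group
    _ = v⁻¹ * (v1⁻¹ * v1⁻¹) := by rw [a2, mul_assoc]
    _ = v⁻¹ * v1 := by
      rw [← mul_inv_rev, inv_eq_of_mul_eq_one_right hv13]
    _ = v1 * v⁻¹ := hc.inv_left.eq

/-- The affine case -/
theorem affine_case (hD : IsThreeTranspositionGroup D) {a b c : D} (hab : ¬ Commute (a : G) b)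
    (hbc : ¬ Commute (c : G) b) (hac : ¬ Commute (a : G) c)
    (hac' : ¬ Commute (cj hD b a : G) c) (hne : c ≠ cj hD b a) :
    Isomorphic (restrict (threeTranspositionLines D)
      (span (threeTranspositionLines D) (line hD a b ∪ line hD c b))) affinePlaneThree := by
  classical
  set u : G := (a : G) * b with hu
  set v : G := (c : G) * b with hv
  have sb := sq_eq_one hD.1 b.2
  have sa := sq_eq_one hD.1 a.2
  have sc := sq_eq_one hD.1 c.2
  have cube : ∀ {x y : D}, ¬ Commute (x : G) y → (x : G) * y * (x * y) * (x * y) = 1 := fun {x y} h => by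
    have := cube_of_not_commute hD.1 x.2 y.2 h
    rwa [pow_succ, pow_two] at this
  have hu3 : u * u * u = 1 := cube hab
  have hv3 : v * v * v = 1 := cube hbc
  have huv : (u * v⁻¹) * (u * v⁻¹) * (u * v⁻¹) = 1 := by
    have : u * v⁻¹ = (a : G) * c := by
      rw [hu, hv, mul_inv_rev, inv_eq hD.1 b.2, inv_eq hD.1 c.2, mul_assoc, ← mul_assoc (b : G), sb, one_mul]
    rw [this]; exact cube hac
  have huv' : (u * v) * (u * v) * (u * v) = 1 := by
    have h1 : ((cj hD b a : G) * c) = (b : G) * (u * v) * (b : G)⁻¹ := by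
      show (b : G) * a * (b : G)⁻¹ * c = _
      rw [hu, hv, inv_eq hD.1 b.2]
      simp only [mul_assoc]
      rw [sb, mul_one]
    have h2 := cube hac'
    rw [h1, show (b : G) * (u * v) * (b : G)⁻¹ * ((b : G) * (u * v) * (b : G)⁻¹) * ((b : G) * (u * v) * (b : G)⁻¹)
      = (b : G) * ((u * v) * (u * v) * (u * v)) * (b : G)⁻¹ by group] at h2
    exact conj_eq_one_iff.mp h2
  obtain ⟨hvc, huz⟩ := (v_commute hu3 huv' huv).resolve_right (not_not.mpr hv3)
  set z : G := u * v * u⁻¹ * v⁻¹ with hz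
  have hbu : (b : G) * u * b = u⁻¹ := by
    rw [hu, mul_inv_rev, inv_eq hD.1 b.2, inv_eq hD.1 a.2]
    simp only [mul_assoc]; rw [sb, mul_one]
  have hbv : (b : G) * v * b = v⁻¹ := by
    rw [hv, mul_inv_rev, inv_eq hD.1 b.2, inv_eq hD.1 c.2]
    simp only [mul_assoc]; rw [sb, mul_one]
  have zu : Commute z u := by
    have := huz
    rw [mul_inv_eq_iff_eq_mul] at this
    exact this.symm
  have zv : Commute z v := (Commute.mul_left hvc.symm (Commute.refl v).inv_left)
  have zb : Commute z b := by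
    have hq : (b : G) * z * b = u⁻¹ * v⁻¹ * u * v := by
      rw [show (b : G) * z * b = (b : G) * z * (b : G)⁻¹ by rw [inv_eq hD.1 b.2], hz,
        show (b : G) * (u * v * u⁻¹ * v⁻¹) * (b : G)⁻¹ = (b * u * (b : G)⁻¹) * (b * v * (b : G)⁻¹)
          * (b * u * (b : G)⁻¹)⁻¹ * (b * v * (b : G)⁻¹)⁻¹ by group,
        inv_eq hD.1 b.2, hbu, hbv, inv_inv, inv_inv]
    have hzz : u⁻¹ * v⁻¹ * u * v = z := by
      calc u⁻¹ * v⁻¹ * u * v = u⁻¹ * (v⁻¹ * z * v) * u := by rw [hz]; group
        _ = u⁻¹ * z * u := by rw [mul_assoc v⁻¹, zv.eq, inv_mul_cancel_left]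
        _ = z := by rw [mul_assoc, zu.eq, inv_mul_cancel_left]
    show z * b = b * z
    calc z * b = (b * z * b) * b := by rw [hq, hzz]
      _ = b * z := by rw [mul_assoc, sb, mul_one]
  let H : Subgroup G := Subgroup.closure {(b : G), u, v}
  let b' : H := ⟨b, Subgroup.subset_closure (by simp)⟩
  let u' : H := ⟨u, Subgroup.subset_closure (by simp)⟩
  let v' : H := ⟨v, Subgroup.subset_closure (by simp)⟩
  have hcen : ∀ x : H, Commute (x : G) b → Commute (x : G) u → Commute (x : G) v →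
      x ∈ Subgroup.center H := by
    intro x h1 h2 h3
    rw [Subgroup.mem_center_iff]
    rintro ⟨g, hg⟩
    refine Subtype.ext ?_
    show g * x = x * g
    induction hg using Subgroup.closure_induction with
    | mem g hg =>
      rcases hg with rfl | rfl | rfl
      exacts [h1.eq.symm, h2.eq.symm, h3.eq.symm]
    | one => simp
    | mul g g' _ _ hg hg' => rw [mul_assoc, hg', ← mul_assoc, hg, mul_assoc]
    | inv g _ hg => exact ((Commute.inv_left (show Commute g (x : G) from hg)).eq)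
  let π := QuotientGroup.mk' (Subgroup.center H)
  have hcomm : Commute (π u') (π v') := by
    show π u' * π v' = π v' * π u'
    rw [← map_mul, ← map_mul, QuotientGroup.mk'_eq_mk']
    refine ⟨(u' * v')⁻¹ * (v' * u'), hcen _ ?_ ?_ ?_, by group⟩
    all_goals
      have e : (((u' * v')⁻¹ * (v' * u') : H) : G) = v⁻¹ * (u⁻¹ * z⁻¹ * u) * v := by
        simp only [Subgroup.coe_mul, Subgroup.coe_inv, u', v', hz]; group
      have e' : v⁻¹ * (u⁻¹ * z⁻¹ * u) * v = z⁻¹ := by
        rw [mul_assoc u⁻¹, zu.inv_left.eq, inv_mul_cancel_left, mul_assoc, zv.inv_left.eq,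
          inv_mul_cancel_left]
      rw [e, e']
    exacts [zb.inv_left, zu.inv_left, zv.inv_left]
  let w : (Fin 2 → ZMod 3) → H := fun s => u' ^ (s 0).val * v' ^ (s 1).val
  have hU : (π u') ^ 3 = 1 := by
    rw [← map_pow, show u' ^ 3 = 1 from Subtype.ext (by simpa [pow_succ] using hu3), map_one]
  have hV : (π v') ^ 3 = 1 := by
    rw [← map_pow, show v' ^ 3 = 1 from Subtype.ext (by simpa [pow_succ] using hv3), map_one]
  have hψ : ∀ s t, π (w (s + t)) = π (w s) * π (w t) := by
    intro s t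
    simp only [w, map_mul, map_pow, Pi.add_apply, ZMod.val_add]
    rw [← pow_eq_pow_mod _ hU, ← pow_eq_pow_mod _ hV, pow_add, pow_add,
      (hcomm.pow_pow (t 0).val (s 1).val).symm.mul_mul_mul_comm]
  have hψ0 : π (w 0) = 1 := by simp [w]
  have hψneg : ∀ s, π (w (-s)) = (π (w s))⁻¹ := fun s => by
    rw [eq_inv_iff_mul_eq_one, ← hψ, neg_add_cancel, hψ0]
  have hB : ∀ s, π b' * π (w s) * π b' = π (w (-s)) := by
    intro s
    have e : ((b' * w s * b' : H) : G) = (u⁻¹) ^ (s 0).val * (v⁻¹) ^ (s 1).val := by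
      have cp : ∀ (g : G) (k : ℕ), ((b : G) * g * b) ^ k = b * g ^ k * b := fun g k => by
        induction k with
        | zero => simp [sb]
        | succ k ih =>
          rw [pow_succ, ih, pow_succ,
            show (b : G) * g ^ k * b * (b * g * b) = b * g ^ k * (b * b) * g * b by simp only [mul_assoc],
            sb, mul_one, mul_assoc (b : G)]
      rw [← hbu, ← hbv, cp, cp]
      simp only [Subgroup.coe_mul, Subgroup.coe_pow, w, b', u', v']
      rw [show (b : G) * u ^ (s 0).val * b * (b * v ^ (s 1).val * b)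
        = b * u ^ (s 0).val * (b * b) * v ^ (s 1).val * b by simp only [mul_assoc], sb, mul_one]
      simp only [mul_assoc]
    have e2 : b' * w s * b' = u'⁻¹ ^ (s 0).val * v'⁻¹ ^ (s 1).val := Subtype.ext e
    rw [← map_mul, ← map_mul, e2, hψneg]
    simp only [map_mul, map_pow, map_inv, inv_pow, w]
    rw [← mul_inv_rev, (hcomm.pow_pow _ _).eq]
  have hB2 : π b' * π b' = 1 := by
    rw [← map_mul, show b' * b' = 1 from Subtype.ext sb, map_one]
  have hker : ∀ s, π (w s) = 1 → s = 0 := by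
    intro s hs
    by_contra h0
    have hk : ∀ t, π (w t) = 1 → Commute (w t : G) b ∧ Commute (w t : G) u := fun t ht => by
      have hm := (QuotientGroup.eq_one_iff _).mp ht
      rw [Subgroup.mem_center_iff] at hm
      exact ⟨(congrArg Subtype.val (hm b')).symm, (congrArg Subtype.val (hm u')).symm⟩
    have hneg : π (w (-s)) = 1 := by rw [hψneg, hs, inv_one]
    obtain ⟨t, ht, hcase⟩ : ∃ t, π (w t) = 1 ∧
        (t = ![1, 0] ∨ t = ![0, 1] ∨ t = ![1, 1] ∨ t = ![1, 2]) := by
      have : ∀ s : Fin 2 → ZMod 3, s ≠ 0 →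
          (s = ![1, 0] ∨ s = ![0, 1] ∨ s = ![1, 1] ∨ s = ![1, 2]) ∨
          (-s = ![1, 0] ∨ -s = ![0, 1] ∨ -s = ![1, 1] ∨ -s = ![1, 2]) := by decide
      rcases this s h0 with h | h
      · exact ⟨s, hs, h⟩
      · exact ⟨-s, hneg, h⟩
    obtain ⟨k1, k2⟩ := hk t ht
    have v1 : (1 : ZMod 3).val = 1 := rfl
    have v2' : (2 : ZMod 3).val = 2 := rfl
    rcases hcase with rfl | rfl | rfl | rfl
    · have k : Commute u (b : G) := by simpa [w, u', v1] using k1
      apply hab
      have : (a : G) = u * b := by rw [hu, mul_assoc, sb, mul_one]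
      rw [this]
      exact k.mul_left (Commute.refl _)
    · have k : Commute v (b : G) := by simpa [w, v', v1] using k1
      apply hbc
      have : (c : G) = v * b := by rw [hv, mul_assoc, sb, mul_one]
      rw [this]
      exact k.mul_left (Commute.refl _)
    · have k : Commute (u * v) (b : G) := by simpa [w, u', v', v1] using k1
      have k' : Commute (u * v) u := by simpa [w, u', v', v1] using k2
      have hc2 : Commute u v := mul_left_cancel (a := u) (k'.symm.eq.trans (mul_assoc _ _ _))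
      have h2 : (u * v) * (u * v) = 1 := by
        have : u * v = u⁻¹ * v⁻¹ := by
          rw [← hbu, ← hbv]
          calc u * v = (u * v) * ((b : G) * b) := by rw [sb, mul_one]
            _ = b * (u * v) * b := by rw [← mul_assoc, k.eq]
            _ = b * u * ((b : G) * b) * v * b := by rw [sb, mul_one, ← mul_assoc (b : G)]
            _ = _ := by simp only [mul_assoc]
        nth_rw 2 [this]
        rw [← mul_inv_rev, hc2.eq.symm, mul_inv_cancel]
      rw [h2, one_mul] at huv'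
      apply hne
      refine Subtype.ext ?_
      show (c : G) = b * a * (b : G)⁻¹
      have h3 : v = u⁻¹ := eq_inv_of_mul_eq_one_right huv'
      rw [hu, hv, mul_inv_rev, inv_eq hD.1 b.2, inv_eq hD.1 a.2] at h3
      rw [inv_eq hD.1 b.2, ← h3, mul_assoc, sb, mul_one]
    · have hv2 : v ^ 2 = v⁻¹ := (inv_eq_of_mul_eq_one_right (by rw [pow_two, ← mul_assoc]; exact hv3)).symm
      have k : Commute (u * v ^ 2) (b : G) := by simpa [w, u', v', v1, v2'] using k1
      have k' : Commute (u * v ^ 2) u := by simpa [w, u', v', v1, v2'] using k2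
      rw [hv2] at k k'
      have hc2 : Commute u v⁻¹ := mul_left_cancel (a := u) (k'.symm.eq.trans (mul_assoc _ _ _))
      have hac2 : u * v⁻¹ = (a : G) * c := by
        rw [hu, hv, mul_inv_rev, inv_eq hD.1 b.2, inv_eq hD.1 c.2, mul_assoc, ← mul_assoc (b : G), sb, one_mul]
      have hbv' : (b : G) * v⁻¹ * b = v := by
        rw [← hbv]
        calc (b : G) * (b * v * b) * b = (b * b) * v * (b * b) := by simp only [mul_assoc]
          _ = v := by rw [sb, one_mul, mul_one]
      have h2 : (u * v⁻¹) * (u * v⁻¹) = 1 := by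
        have : u * v⁻¹ = u⁻¹ * v := by
          calc u * v⁻¹ = (u * v⁻¹) * ((b : G) * b) := by rw [sb, mul_one]
            _ = b * (u * v⁻¹) * b := by rw [← mul_assoc, k.eq]
            _ = b * u * ((b : G) * b) * v⁻¹ * b := by rw [sb, mul_one, ← mul_assoc (b : G)]
            _ = (b * u * b) * (b * v⁻¹ * b) := by simp only [mul_assoc]
            _ = _ := by rw [hbu, hbv']
        nth_rw 2 [this]
        rw [hc2.eq, mul_assoc, mul_inv_cancel_left, inv_mul_cancel]
      rw [h2, one_mul] at huv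
      rw [hac2, mul_eq_one_iff_eq_inv, inv_eq hD.1 c.2] at huv
      exact hac (by rw [huv])
  let ψ : (Fin 2 → ZMod 3) → H := fun s => w (-s)
  have hψψ : ∀ s t, π (ψ (s + t)) = π (ψ s) * π (ψ t) := fun s t => by
    simp only [ψ]; rw [neg_add, hψ]
  have hψinj : ∀ s t, π (ψ s) = π (ψ t) → s = t := fun s t h => by
    have : π (w (-s - -t)) = 1 := by
      rw [sub_eq_add_neg, hψ, hψneg (-t)]
      exact mul_inv_eq_one.mpr h
    exact neg_injective (sub_eq_zero.mp (hker _ this))
  have hBψ : ∀ s, π b' * π (ψ s) * π b' = π (ψ (-s)) := fun s => hB (-s)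
  let P : (Fin 2 → ZMod 3) → D := fun s =>
    ⟨(ψ s : G) * b * (ψ s : G)⁻¹, hD.2.1 _ _ b.2⟩
  have dep : ∀ g h : H, π g = π h → (g : G) * b * (g : G)⁻¹ = (h : G) * b * (h : G)⁻¹ := by
    intro g h hgh
    obtain ⟨k, hk, rfl⟩ := (QuotientGroup.mk'_eq_mk' _).mp hgh
    have hkb : (k : G) * b = b * k := (congrArg Subtype.val (Subgroup.mem_center_iff.mp hk b')).symm
    rw [Subgroup.coe_mul, mul_inv_rev, show (g : G) * k * b * ((k : G)⁻¹ * (g : G)⁻¹)
      = g * ((k : G) * b * (k : G)⁻¹) * (g : G)⁻¹ by group, hkb, mul_inv_cancel_right]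
  have hPline : ∀ s t, cj hD (P s) (P t) = P (s + s - t) := by
    intro s t
    refine Subtype.ext ?_
    show (ψ s : G) * b * (ψ s : G)⁻¹ * ((ψ t : G) * b * (ψ t : G)⁻¹) * ((ψ s : G) * b * (ψ s : G)⁻¹)⁻¹ = _
    have e : π (ψ s * b' * (ψ s)⁻¹ * ψ t) = π (ψ (s + s - t) * b') := by
      simp only [map_mul, map_inv]
      rw [mul_assoc (π (ψ s) * π b')]
      rw [show (π (ψ s))⁻¹ * π (ψ t) = π (ψ (-(s - t))) by
        rw [neg_sub, sub_eq_add_neg, add_comm, hψψ]; congr 1; simp only [ψ, neg_neg]; rw [← hψneg, neg_neg]]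
      have hq := hBψ (-(s - t))
      rw [neg_neg] at hq
      rw [mul_assoc (π (ψ s)), show π b' * π (ψ (-(s - t))) = π (ψ (s - t)) * π b' by
        rw [← hq, mul_assoc _ (π b'), hB2, mul_one], ← mul_assoc, ← hψψ, add_sub_assoc]
    have := dep _ _ e
    simp only [Subgroup.coe_mul, Subgroup.coe_inv] at this
    rw [show (ψ s : G) * b * (ψ s : G)⁻¹ * ((ψ t : G) * b * (ψ t : G)⁻¹) * ((ψ s : G) * b * (ψ s : G)⁻¹)⁻¹
      = ((ψ s : G) * b * (ψ s : G)⁻¹ * ψ t) * b * ((ψ s : G) * b * (ψ s : G)⁻¹ * ψ t)⁻¹ by group]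
    refine this.trans ?_
    show _ = (ψ (s + s - t) : G) * b * (ψ (s + s - t) : G)⁻¹
    simp only [b']
    group
  have h3z : ∀ x : ZMod 3, x + x = -x := by decide
  have hPinj : Function.Injective P := by
    intro s t h
    have h' : ((ψ s : G) * b * (ψ s : G)⁻¹) = (ψ t : G) * b * (ψ t : G)⁻¹ := congrArg Subtype.val h
    have hq : π (ψ s * b' * (ψ s)⁻¹) = π (ψ t * b' * (ψ t)⁻¹) := congrArg π (Subtype.ext h')
    have key : ∀ r, π (ψ r * b' * (ψ r)⁻¹) = π (ψ (r + r)) * π b' := by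
      intro r
      simp only [map_mul, map_inv]
      have hq := hBψ r
      rw [show (π (ψ r))⁻¹ = π (ψ (-r)) by simp only [ψ, neg_neg]; rw [← hψneg, neg_neg], ← hq, hψψ,
        mul_assoc (π (ψ r)) (π b'), ← mul_assoc (π b') _ (π b'), ← mul_assoc (π b'), hB2, one_mul, mul_assoc]
    rw [key, key, mul_left_inj] at hq
    have h4 := hψinj _ _ hq
    funext i
    have := congrFun h4 i
    simp only [Pi.add_apply, h3z] at this
    exact neg_injective this
  have hnc : ∀ s t, s ≠ t → ¬ Commute (P s : G) (P t) := by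
    intro s t hne hc
    have h1 := cj_eq_of_commute hD hc.symm
    rw [hPline] at h1
    have h2 := hPinj h1
    apply hne
    funext i
    have := congrFun h2 i
    simp only [Pi.add_apply, Pi.sub_apply, h3z] at this
    have key : ∀ x y : ZMod 3, -x - y = y → x = y := by decide
    exact key _ _ this
  have hP0 : P 0 = b := by
    refine Subtype.ext ?_
    show (ψ 0 : G) * b * (ψ 0 : G)⁻¹ = b
    simp [ψ, w]
  have eu : u ^ 2 * b * (u ^ 2)⁻¹ = (a : G) := by
    have h1 : (b : G) * u ^ 1 = (u ^ 1)⁻¹ * b := by rw [pow_one, ← hbu, mul_assoc, sb, mul_one]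
    have h2 : (u ^ 2)⁻¹ = u := inv_eq_of_mul_eq_one_right (by rw [pow_two]; exact hu3)
    rw [h2, mul_assoc, show (b : G) * u = u⁻¹ * b by simpa using h1, ← mul_assoc, pow_two, mul_inv_cancel_right,
      hu, mul_assoc, sb, mul_one]
  have ev : v ^ 2 * b * (v ^ 2)⁻¹ = (c : G) := by
    have h1 : (b : G) * v = v⁻¹ * b := by rw [← hbv, mul_assoc, sb, mul_one]
    have h2 : (v ^ 2)⁻¹ = v := inv_eq_of_mul_eq_one_right (by rw [pow_two]; exact hv3)
    rw [h2, mul_assoc, h1, ← mul_assoc, pow_two, mul_inv_cancel_right, hv, mul_assoc, sb, mul_one]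
  have hPa : P ![1, 0] = a := by
    refine Subtype.ext ?_
    show ((w (-![1, 0]) : H) : G) * b * ((w (-![1, 0]) : H) : G)⁻¹ = a
    have e : ((w (-![1, 0]) : H) : G) = u ^ 2 := by
      have e1 : ((-![1, 0] : Fin 2 → ZMod 3) 0).val = 2 := by decide
      have e2 : ((-![1, 0] : Fin 2 → ZMod 3) 1).val = 0 := by decide
      simp [w, e1, e2, u']
    rw [e, eu]
  have hPc : P ![0, 1] = c := by
    refine Subtype.ext ?_
    show ((w (-![0, 1]) : H) : G) * b * ((w (-![0, 1]) : H) : G)⁻¹ = c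
    have e : ((w (-![0, 1]) : H) : G) = v ^ 2 := by
      have e1 : ((-![0, 1] : Fin 2 → ZMod 3) 1).val = 2 := by decide
      have e2 : ((-![0, 1] : Fin 2 → ZMod 3) 0).val = 0 := by decide
      simp [w, e1, e2, v']
    rw [e, ev]
  have hthird : ∀ s t, s ≠ t → line hD (P t) (P s) = P '' {t, s, s + s - t} := fun s t _ => by
    rw [line, hPline, Set.image_insert_eq, Set.image_insert_eq, Set.image_singleton]
  have hls : ∀ s t : Fin 2 → ZMod 3, ({t, s, s + s - t} : Set (Fin 2 → ZMod 3)) =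
      {x | ∃ r : ZMod 3, x = t + r • (s - t)} := by
    intro s t
    have key : ∀ x y : ZMod 3, y + y - x = x + (2 : ZMod 3) * (y - x) := by decide
    ext x
    constructor
    · rintro (rfl | rfl | rfl)
      exacts [⟨0, by simp⟩, ⟨1, by simp⟩, ⟨2, funext fun i => key (t i) (s i)⟩]
    · rintro ⟨r, rfl⟩
      have hr : r = 0 ∨ r = 1 ∨ r = 2 := by revert r; decide
      rcases hr with rfl | rfl | rfl
      exacts [Or.inl (by simp), Or.inr (Or.inl (by simp)), Or.inr (Or.inr (funext fun i => (key (t i) (s i)).symm))]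
  refine plane hD P hPinj ?_ ?_ _ ?_ ?_
  · rintro _ ⟨o, d, hd, rfl⟩
    have e : (fun x => x) = (id : (Fin 2 → ZMod 3) → _) := rfl
    have hne2 : o + d ≠ o := by simpa using hd
    have h1 := line_mem hD (hnc o (o + d) hne2.symm)
    rw [hthird _ _ hne2, hls, add_sub_cancel_left] at h1
    exact h1
  · intro s t hst
    refine Or.inl ⟨_, ⟨s, t - s, sub_ne_zero.mpr hst.symm, rfl⟩, ⟨0, by simp⟩, ⟨1, by simp⟩⟩
  · rintro x ((rfl | rfl | rfl) | (rfl | rfl | rfl))
    exacts [⟨_, hPa⟩, ⟨_, hP0⟩, ⟨0 + 0 - ![1, 0], by rw [← hPline, hP0, hPa]⟩, ⟨_, hPc⟩, ⟨_, hP0⟩,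
      ⟨0 + 0 - ![0, 1], by rw [← hPline, hP0, hPc]⟩]
  · intro T hUT hT
    let S : Set (Fin 2 → ZMod 3) := {s | P s ∈ T}
    have step : ∀ s t, s ≠ t → s ∈ S → t ∈ S → s + s - t ∈ S := fun s t hne hs ht => by
      show P _ ∈ T
      rw [← hPline]
      exact third_mem hD hT (hnc t s hne.symm) ht hs
    have h00 : (0 : Fin 2 → ZMod 3) ∈ S := by show P 0 ∈ T; rw [hP0]; exact hUT (Or.inl (Or.inr (Or.inl rfl)))
    have h10 : (![1, 0] : Fin 2 → ZMod 3) ∈ S := by show P _ ∈ T; rw [hPa]; exact hUT (Or.inl (Or.inl rfl))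
    have h01 : (![0, 1] : Fin 2 → ZMod 3) ∈ S := by show P _ ∈ T; rw [hPc]; exact hUT (Or.inr (Or.inl rfl))
    have h20 := step _ _ (by decide) h00 h10
    have h02 := step _ _ (by decide) h00 h01
    have h22 := step _ _ (by decide) h10 h01
    have h12 := step _ _ (by decide) h20 h01
    have h21 := step _ _ (by decide) h10 h02
    have h11 := step _ _ (by decide) h20 h02
    have all : ∀ s : Fin 2 → ZMod 3, s = 0 ∨ s = ![1, 0] ∨ s = ![0, 1] ∨ s = 0 + 0 - ![1, 0] ∨
        s = 0 + 0 - ![0, 1] ∨ s = ![1, 0] + ![1, 0] - ![0, 1] ∨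
        s = (0 + 0 - ![1, 0]) + (0 + 0 - ![1, 0]) - ![0, 1] ∨
        s = ![1, 0] + ![1, 0] - (0 + 0 - ![0, 1]) ∨
        s = (0 + 0 - ![1, 0]) + (0 + 0 - ![1, 0]) - (0 + 0 - ![0, 1]) := by decide
    rintro _ ⟨s, rfl⟩
    rcases all s with rfl | rfl | rfl | rfl | rfl | rfl | rfl | rfl | rfl
    exacts [h00, h10, h01, h20, h02, h22, h12, h21, h11]


/-- Let D be a conjugation-invariant generating set of 3-transpositions of a finite group G. Then the line system on D whose lines are the triples {x, y, y x y⁻¹} for non-commuting members x, y of D is a Fischer space: two points lie on at most one line, lines have three points, and two different meeting lines generate a subspace isomorphic to the dual affine plane of order two or to the affine plane of order three. -/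
theorem result {G : Type*} [Group G] [Finite G] {D : Set G} (hD : Cfsg.IsThreeTranspositionGroup D) : Cfsg.IsFischerSpace (Cfsg.threeTranspositionLines D) := by
  classical
  refine ⟨?_, ?_, ?_⟩
  · intro l hl m hm x y hne hxl hyl hxm hym
    rw [(line_eq hD hl hxl hyl hne).2, (line_eq hD hm hxm hym hne).2]
  · intro l hl
    obtain ⟨x, y, h, rfl⟩ := (mem_lines hD).mp hl
    refine Set.ncard_eq_three.mpr ⟨x, y, cj hD y x, fun e => h (e ▸ Commute.refl _),
      fun e => h ?_, fun e => h ?_, rfl⟩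
    · exact commute_of_cj_eq hD e.symm
    · have := congrArg (cj hD y) e.symm
      rw [cj_cj, cj_self] at this
      rw [this]
  · intro l hl m hm hne ⟨b, hbl, hbm⟩
    have hl' : ∃ a, a ∈ l ∧ a ≠ b := by
      obtain ⟨x, y, h, rfl⟩ := (mem_lines hD).mp hl
      by_cases hx : x = b
      · exact ⟨y, Or.inr (Or.inl rfl), fun e => h (by rw [hx, e])⟩
      · exact ⟨x, Or.inl rfl, hx⟩
    have hm' : ∃ c, c ∈ m ∧ c ≠ b := by
      obtain ⟨x, y, h, rfl⟩ := (mem_lines hD).mp hm
      by_cases hx : x = b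
      · exact ⟨y, Or.inr (Or.inl rfl), fun e => h (by rw [hx, e])⟩
      · exact ⟨x, Or.inl rfl, hx⟩
    have hdiff : ∀ a c, a ∈ l → c ∈ m → a ≠ b → a ≠ c := by
      rintro a c ha hc hab rfl
      exact hne ((line_eq hD hl ha hbl hab).2.trans (line_eq hD hm hc hbm hab).2.symm)
    by_cases hex : ∃ a c, a ∈ l ∧ c ∈ m ∧ a ≠ b ∧ c ≠ b ∧ Commute (a : G) c
    · obtain ⟨a, c, ha, hc, hab, hcb, hcm⟩ := hex
      left
      rw [(line_eq hD hl ha hbl hab).2, (line_eq hD hm hc hbm hcb).2]
      exact dual_case hD (line_eq hD hl ha hbl hab).1 (line_eq hD hm hc hbm hcb).1 hcm (hdiff a c ha hc hab)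
    · obtain ⟨a, ha, hab⟩ := hl'
      obtain ⟨c, hc, hcb⟩ := hm'
      right
      obtain ⟨h1, h2⟩ := line_eq hD hl ha hbl hab
      have ha' : cj hD b a ∈ l := by rw [h2]; exact Or.inr (Or.inr rfl)
      have ha'b : cj hD b a ≠ b := fun e => hab (by
        have := congrArg (cj hD b) e
        rwa [cj_cj, cj_self] at this)
      push Not at hex
      rw [h2, (line_eq hD hm hc hbm hcb).2]
      exact affine_case hD h1 (line_eq hD hm hc hbm hcb).1 (hex a c ha hc hab hcb)
        (hex _ c ha' hc ha'b hcb) (hdiff _ c ha' hc ha'b).symm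

end Cfsg.Agent.S5367
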