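import Cfsg.Statements.S5372
import Cfsg.Agent.FiTen.Main
import Cfsg.Agent.ThreeTransposition.M24Count.Desc
import Cfsg.Agent.ThreeTransposition.M24Unique.Main

set_option autoImplicit false
open Cfsg

namespace Cfsg.Agent.S5372

/-- Uniqueness of the 3-transposition groups of type M(24). Let G₁ and G₂ be finite groups with trivial centres, each generated by a conjugation-invariant set of 3-transpositions Dᵢ on which it acts primitively, such that for some member d of Dᵢ the subgroup generated by the members of Dᵢ other than d commuting with d has central largest normal 2- and 3-subgroups, and suppose each Gᵢ with Dᵢ is of type M(24). Then there is an isomorphism from G₁ to G₂ carrying D₁ onto D₂. -/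
theorem result {G₁ G₂ : Type*} [Group G₁] [Finite G₁] [Group G₂] [Finite G₂] {D₁ : Set G₁} {D₂ : Set G₂} (hD₁ : Cfsg.IsThreeTranspositionGroup D₁) (hprim₁ : Cfsg.IsPrimitiveUnderConj D₁) (hZ₁ : Subgroup.center G₁ = ⊥) (d₁ : G₁) (hd₁ : d₁ ∈ D₁) (h3₁ : Cfsg.pCore 3 ↥(Subgroup.closure {y : G₁ | y ∈ D₁ ∧ y ≠ d₁ ∧ Commute d₁ y}) ≤ Subgroup.center ↥(Subgroup.closure {y : G₁ | y ∈ D₁ ∧ y ≠ d₁ ∧ Commute d₁ y})) (h2₁ : Cfsg.pCore 2 ↥(Subgroup.closure {y : G₁ | y ∈ D₁ ∧ y ≠ d₁ ∧ Commute d₁ y}) ≤ Subgroup.center ↥(Subgroup.closure {y : G₁ | y ∈ D₁ ∧ y ≠ d₁ ∧ Commute d₁ y})) (hD₂ : Cfsg.IsThreeTranspositionGroup D₂) (hprim₂ : Cfsg.IsPrimitiveUnderConj D₂) (hZ₂ : Subgroup.center G₂ = ⊥) (d₂ : G₂) (hd₂ : d₂ ∈ D₂) (h3₂ : Cfsg.pCore 3 ↥(Subgroup.closure {y : G₂ | y ∈ D₂ ∧ y ≠ d₂ ∧ Commute d₂ y}) ≤ Subgroup.center ↥(Subgroup.closure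 {y : G₂ | y ∈ D₂ ∧ y ≠ d₂ ∧ Commute d₂ y})) (h2₂ : Cfsg.pCore 2 ↥(Subgroup.closure {y : G₂ | y ∈ D₂ ∧ y ≠ d₂ ∧ Commute d₂ y}) ≤ Subgroup.center ↥(Subgroup.closure {y : G₂ | y ∈ D₂ ∧ y ≠ d₂ ∧ Commute d₂ y})) (ht₁ : Cfsg.IsOfTypeM24 G₁ D₁) (ht₂ : Cfsg.IsOfTypeM24 G₂ D₂) : ∃ e : G₁ ≃* G₂, e '' D₁ = D₂ := by
  open Cfsg.Lib Cfsg.Lib.ThreeTr in
  obtain ⟨d, hd, -, -, -, -, hQg₁, hQp₁, h23₁⟩ := m24_desc hD₁ hprim₁ ht₁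
  obtain ⟨d', hd', -, -, -, -, hQg₂, hQp₂, h23₂⟩ := Cfsg.Lib.ThreeTr.m24_desc hD₂ hprim₂ ht₂
  have hQ₁ := Cfsg.Lib.ThreeTr.M23.mk' hQg₁ hQp₁ h23₁
  have hQ₂ := Cfsg.Lib.ThreeTr.M23.mk' hQg₂ hQp₂ h23₂
  obtain ⟨e₁, h₁⟩ := Cfsg.Lib.FiTen.exists_iso hQ₁ h23₁
  obtain ⟨e₂, h₂⟩ := Cfsg.Lib.FiTen.exists_iso hQ₂ h23₂
  exact Cfsg.Lib.ThreeTr.M24U.exists_iso (Cfsg.Lib.ThreeTr.M24.mk' hD₁ hprim₁ ht₁)
    (Cfsg.Lib.ThreeTr.M24.mk' hD₂ hprim₂ ht₂) hd hd' hQ₁ hQ₂ (e₁.symm.trans e₂)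
    (by rw [← h₂, ← h₁, Set.image_image]; simp)

end Cfsg.Agent.S5372
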