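import Cfsg.Statements.S5375
import Cfsg.Agent.ThreeTransposition.M24Count.Parity
import Cfsg.Agent.S5361
-- import your own Cfsg.Agent.* helpers here

set_option autoImplicit false
open Cfsg

namespace Cfsg.Agent.S5375

/-- Let G be a finite group with trivial centre generated by a conjugation-invariant set D of 3-transpositions on which it acts primitively, of type M(24). Then the layer of G (its largest semisimple normal subgroup) has index 2, D has exactly 306936 members, G has order 2^22 · 3^16 · 5^2 · 7^3 · 11 · 13 · 17 · 23 · 29, the width of D is 24, and for every d in D the subgroup generated by the members of D other than d commuting with d is the centralizer of d. -/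
theorem result {G : Type*} [Group G] [Finite G] {D : Set G} (hD : Cfsg.IsThreeTranspositionGroup D) (hprim : Cfsg.IsPrimitiveUnderConj D) (ht : Cfsg.IsOfTypeM24 G D) : (Cfsg.layer G).index = 2 ∧ D.ncard = 306936 ∧ Nat.card G = 2 ^ 22 * 3 ^ 16 * 5 ^ 2 * 7 ^ 3 * 11 * 13 * 17 * 23 * 29 ∧ Cfsg.commutingWidth D = 24 ∧ ∀ d ∈ D, Subgroup.closure {y : G | y ∈ D ∧ y ≠ d ∧ Commute d y} = Subgroup.centralizer ({d} : Set G) := by
  open Cfsg.Lib.ThreeTr in
  have h := M24.mk' hD hprim ht
  have hR := h.solid.full.tower.rich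
  obtain ⟨a, ha, b, hb, hab, hc⟩ := hR.pair
  have hw : ∃ a ∈ D, ∃ b ∈ D, a ≠ b ∧ Commute a b := ⟨a, ha, b, hb, hab, hc⟩
  obtain ⟨h2, h3, hconn⟩ :=
    ((Cfsg.Agent.S5361.result h.cls h.solid.full.tower.center_eq hw).2).1 hprim
  have hS : Semisimple D := ⟨h.cls, ⟨a, ha, b, hb, hab⟩, h2 ▸ bot_le, h3 ▸ bot_le⟩
  have hi := hS.index_le_two_of_linked ((linked_iff_connected h.cls).1 hconn)
  have hG' : commutator G = Cfsg.layer G :=
    commutator_eq_of_index_le_two h.cls Cfsg.Lib.Components.layer_perfect hi
  obtain ⟨χ, hχ⟩ := h.exists_sign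
  refine ⟨?_, h.solid.full.card, ?_, h.width, fun d hd => (h.solid.centralizer_eq hd).symm⟩
  · have h1 : (Cfsg.layer G).index ≠ 1 := by
      rw [Ne, Subgroup.index_eq_one, ← hG']
      intro htop
      have : a ∈ χ.ker := Abelianization.commutator_subset_ker χ (htop ▸ Subgroup.mem_top a)
      rw [MonoidHom.mem_ker, hχ a ha] at this
      exact absurd this (by decide)
    have h0 : (Cfsg.layer G).index ≠ 0 := Subgroup.index_ne_zero_of_finite
    omega
  · rw [h.card_group]
    norm_num

end Cfsg.Agent.S5375
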