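import Cfsg.Statements.S5376
import Cfsg.Agent.ThreeTransposition.M22Count.Bases
import Cfsg.Agent.S5361

set_option autoImplicit false
open Cfsg

namespace Cfsg.Agent.S5376

/-- Let G be a finite group with trivial centre generated by a conjugation-invariant set D of 3-transpositions on which it acts primitively, of type M(22), and suppose some finite primitive 3-transposition group of type M(23) exists. Then G is simple, and for every d in D the subgroup generated by the members of D other than d commuting with d contains d and is quasisimple with centre generated by d. -/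
theorem result {G : Type*} [Group G] [Finite G] {D : Set G} (hD : Cfsg.IsThreeTranspositionGroup D) (hprim : Cfsg.IsPrimitiveUnderConj D) (ht : Cfsg.IsOfTypeM22 G D) (hex : ∃ (X : Type) (_ : Group X) (_ : Finite X) (E : Set X), Cfsg.IsThreeTranspositionClass E ∧ Cfsg.IsPrimitiveUnderConj E ∧ Cfsg.IsOfTypeM23 X E) : IsSimpleGroup G ∧ ∀ d ∈ D, d ∈ Subgroup.closure {y : G | y ∈ D ∧ y ≠ d ∧ Commute d y} ∧ Cfsg.IsQuasisimple ↥(Subgroup.closure {y : G | y ∈ D ∧ y ≠ d ∧ Commute d y}) ∧ Subgroup.center ↥(Subgroup.closure {y : G | y ∈ D ∧ y ≠ d ∧ Commute d y}) = (Subgroup.zpowers d).subgroupOf (Subgroup.closure {y : G | y ∈ D ∧ y ≠ d ∧ Commute d y}) := by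
  open Cfsg.Lib.ThreeTr in
  have h := M22.mk' hD hprim ht
  refine ⟨?_, fun d hd => ⟨h.self_mem hd, ⟨Group.isPerfect_def.2 (h.commutator_closure_perp hd), (h.rich d hd).2.1⟩,
    h.center_closure_perp hd⟩⟩
  have hs := ((Cfsg.Agent.S5361.result h.cls h.center_eq h.exists_pair.pair).1).2 hprim
  rw [h.commutator_eq_top] at hs
  haveI := hs
  haveI := hs.toNontrivial
  haveI : Nontrivial G := Subgroup.topEquiv.symm.toEquiv.nontrivial
  exact IsSimpleGroup.isSimpleGroup_of_surjective (Subgroup.topEquiv (G := G)).toMonoidHom Subgroup.topEquiv.surjective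

end Cfsg.Agent.S5376
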