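import Cfsg.Statements.S5380
import Cfsg.Agent.SuzukiType.ThreeU43.Main

set_option autoImplicit false
open Cfsg

namespace Cfsg.Agent.S5380

/-- Let G be a finite group of Suzuki sporadic type (involution z with generalized Fitting subgroup Q of its centralizer C extraspecial of order 2^7, C/Q the commutator subgroup of the isometry group of the elliptic quadratic form in dimension 6 over the field with two elements, z not weakly closed in Q), and let Y be a subgroup of C of order 3 whose commutator subgroup with Q is non-abelian of order 8 (a quaternion group). Then the centralizer of Y in G is quasisimple, its quotient by Y is isomorphic to the projective special unitary group of dimension 4 over the field with nine elements, and the centralizer of Y has index 2 in the normalizer of Y. -/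
theorem result {G : Type*} [Group G] [Finite G] (z : G) (hz : orderOf z = 2) (Q : Subgroup (Subgroup.centralizer ({z} : Set G))) [Q.Normal] (hF : Cfsg.generalizedFittingSubgroup (Subgroup.centralizer ({z} : Set G)) = Q) (hQ : Cfsg.IsExtraspecial 2 Q) (hcard : Nat.card Q = 2 ^ 7) (e : (Subgroup.centralizer ({z} : Set G)) ⧸ Q ≃* Cfsg.Omega (ZMod 2) (Cfsg.quadFormMinus 2 (ZMod 2) 1 1)) (hnwc : ∃ g : G, (∃ hq : g * z * g⁻¹ ∈ Subgroup.centralizer ({z} : Set G), (⟨g * z * g⁻¹, hq⟩ : Subgroup.centralizer ({z} : Set G)) ∈ Q) ∧ g * z * g⁻¹ ≠ z) (Y : Subgroup (Subgroup.centralizer ({z} : Set G))) (hY : Nat.card Y = 3) (hQY : Nat.card ↥⁅Q, Y⁆ = 8) (hQYna : ¬ IsMulCommutative ↥⁅Q, Y⁆) [((Y.map (Subgroup.subtype (Subgroup.centralizer ({z} : Set G)))).subgroupOf (Subgroup.centralizer ((Y.map (Subgroup.subtype (Subgroup.centralizer ({z} : Set G)))) : Set G))).Normal] (K : Type) [Field K] [Fintype K] (hK : Fintype.card K = 9) : Cfsg.IsQuasisimple ↥(Subgroup.centralizer ((Y.map (Subgroup.subtype (Subgroup.centralizer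 ({z} : Set G)))) : Set G)) ∧ Nonempty (↥(Subgroup.centralizer ((Y.map (Subgroup.subtype (Subgroup.centralizer ({z} : Set G)))) : Set G)) ⧸ (Y.map (Subgroup.subtype (Subgroup.centralizer ({z} : Set G)))).subgroupOf (Subgroup.centralizer ((Y.map (Subgroup.subtype (Subgroup.centralizer ({z} : Set G)))) : Set G)) ≃* Cfsg.PSU 4 K 3) ∧ (Subgroup.centralizer ((Y.map (Subgroup.subtype (Subgroup.centralizer ({z} : Set G)))) : Set G)).relIndex (Subgroup.normalizer ((Y.map (Subgroup.subtype (Subgroup.centralizer ({z} : Set G)))) : Set G)) = 2 := by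
  obtain ⟨c, hcQ⟩ := Cfsg.Lib.SuzukiType.exists_ctx_map hz Q hF hQ hcard e hnwc
  haveI : Fact (Nat.Prime 3) := ⟨Nat.prime_three⟩
  obtain ⟨⟨w, hw⟩, how⟩ := exists_prime_orderOf_dvd_card' 3 (show 3 ∣ Nat.card Y by rw [hY])
  rw [Subgroup.orderOf_mk] at how
  set y : G := (w : G) with hy
  have hy3 : orderOf y = 3 := by rw [hy, Subgroup.orderOf_coe, how]
  have hyz : Commute y z := Subgroup.mem_centralizer_singleton_iff.mp w.2
  have hYw : Y = Subgroup.zpowers w := by
    symm
    refine Subgroup.eq_of_le_of_card_ge (Subgroup.zpowers_le.mpr hw) ?_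
    rw [hY, Nat.card_zpowers, how]
  have hYm : Y.map (Subgroup.subtype (Subgroup.centralizer ({z} : Set G))) = Subgroup.zpowers y := by
    rw [hYw, MonoidHom.map_zpowers]
    rfl
  have hQY' : (⁅Q, Y⁆).map (Subgroup.subtype (Subgroup.centralizer ({z} : Set G))) = ⁅c.Q, Subgroup.zpowers y⁆ := by
    rw [Subgroup.map_commutator, hYm, hcQ]
  obtain ⟨T, hTy, -⟩ := Cfsg.Lib.SuzukiType.ThreeU43.exists_three c hy3 hyz (by
    rw [← hQY', Subgroup.card_map_of_injective (Subgroup.subtype_injective _), hQY]) (by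
    intro hcomm
    refine hQYna ⟨⟨fun a b => Subtype.ext (Subtype.ext ?_)⟩⟩
    exact (hcomm _ (hQY' ▸ ⟨_, a.2, rfl⟩) _ (hQY' ▸ ⟨_, b.2, rfl⟩)).eq)
  have main : ∀ (Z : Subgroup G) [(Z.subgroupOf (Subgroup.centralizer (Z : Set G))).Normal], Z = Subgroup.zpowers T.y →
      Cfsg.IsQuasisimple ↥(Subgroup.centralizer (Z : Set G)) ∧
        Nonempty (↥(Subgroup.centralizer (Z : Set G)) ⧸ Z.subgroupOf (Subgroup.centralizer (Z : Set G)) ≃*
          Cfsg.PSU 4 K 3) ∧
        (Subgroup.centralizer (Z : Set G)).relIndex (Subgroup.normalizer (Z : Set G)) = 2 := by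
    intro Z _ hZ
    subst hZ
    have hM : Subgroup.centralizer (Subgroup.zpowers T.y : Set G) = T.M := by
      rw [Subgroup.zpowers_eq_closure, Subgroup.centralizer_closure]
      rfl
    have gen : ∀ (M' : Subgroup G) [((Subgroup.zpowers T.y).subgroupOf M').Normal], M' = T.M →
        Cfsg.IsQuasisimple ↥M' ∧ Nonempty (↥M' ⧸ (Subgroup.zpowers T.y).subgroupOf M' ≃* Cfsg.PSU 4 K 3) ∧
          M'.relIndex (Subgroup.normalizer (Subgroup.zpowers T.y : Set G)) = 2 := by
      intro M' _ hM'
      subst hM'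
      refine ⟨T.quasisimple, ?_, T.relIndex_two⟩
      obtain ⟨f⟩ := T.iso_K
      obtain ⟨g⟩ := Cfsg.Lib.UFourThreeCover.psu_congr
        (FiniteField.ringEquivOfCardEq (K := Cfsg.Lib.UFourThreeCover.K) (K' := K)
          (Cfsg.Lib.UFourThreeCover.card_K.trans hK.symm)) 4 3
      exact ⟨f.trans g⟩
    exact gen _ hM
  exact main _ (by rw [hYm, hTy])

end Cfsg.Agent.S5380
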