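import Cfsg.Statements.S5381
import Cfsg.Agent.ConwayType.ThreeSuz.Main

set_option autoImplicit false
open Cfsg

namespace Cfsg.Agent.S5381

/-- Let G be a finite group of Conway type (involution z with generalized Fitting subgroup Q of its centralizer C extraspecial of order 2^9, C/Q the commutator subgroup of the isometry group of the hyperbolic quadratic form in dimension 8 over the field with two elements, z not weakly closed in Q), and let X be a subgroup of C of order 3 whose commutator subgroup with Q is non-abelian of order 8, contained in an elementary abelian subgroup Y of C of order 9 whose centralizer in Q is extraspecial of order 32 containing an elementary abelian subgroup of order 8. Then the centralizer of X in G is quasisimple and its quotient by X is isomorphic to the presented sporadic Suzuki group. -/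
theorem result {G : Type*} [Group G] [Finite G] (z : G) (hz : orderOf z = 2) (Q : Subgroup (Subgroup.centralizer ({z} : Set G))) [Q.Normal] (hF : Cfsg.generalizedFittingSubgroup (Subgroup.centralizer ({z} : Set G)) = Q) (hQ : Cfsg.IsExtraspecial 2 Q) (hcard : Nat.card Q = 2 ^ 9) (e : (Subgroup.centralizer ({z} : Set G)) ⧸ Q ≃* Cfsg.Omega (ZMod 2) (Cfsg.quadFormPlus 4 (ZMod 2))) (hnwc : ∃ g : G, (∃ hq : g * z * g⁻¹ ∈ Subgroup.centralizer ({z} : Set G), (⟨g * z * g⁻¹, hq⟩ : Subgroup.centralizer ({z} : Set G)) ∈ Q) ∧ g * z * g⁻¹ ≠ z) (X : Subgroup (Subgroup.centralizer ({z} : Set G))) (hX : Nat.card X = 3) (hQX : Nat.card ↥⁅Q, X⁆ = 8) (hQXna : ¬ IsMulCommutative ↥⁅Q, X⁆) (Y₉ : Subgroup (Subgroup.centralizer ({z} : Set G))) (hXY : X ≤ Y₉) (hY₉ : Nat.card Y₉ = 9) (hY₉e : ∀ y ∈ Y₉, y ^ 3 = 1) (hCQ₉ : Cfsg.IsExtraspecial 2 ↥(Q ⊓ Subgroup.centralizer (Y₉ : Set (Subgroup.centralizer ({z} : Set G))))) (hCQ₉c : Nat.card ↥(Q ⊓ Subgroup.centralizer (Y₉ : Set (Subgroup.centralizer ({z}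 : Set G)))) = 32) (hCQ₉p : ∃ A : Subgroup (Subgroup.centralizer ({z} : Set G)), A ≤ Q ⊓ Subgroup.centralizer (Y₉ : Set (Subgroup.centralizer ({z} : Set G))) ∧ Cfsg.IsElementaryAbelian 2 A ∧ Nat.card A = 8) [((X.map (Subgroup.subtype (Subgroup.centralizer ({z} : Set G)))).subgroupOf (Subgroup.centralizer ((X.map (Subgroup.subtype (Subgroup.centralizer ({z} : Set G)))) : Set G))).Normal] : Cfsg.IsQuasisimple ↥(Subgroup.centralizer ((X.map (Subgroup.subtype (Subgroup.centralizer ({z} : Set G)))) : Set G)) ∧ Cfsg.Spor.IsoSuz (↥(Subgroup.centralizer ((X.map (Subgroup.subtype (Subgroup.centralizer ({z} : Set G)))) : Set G)) ⧸ (X.map (Subgroup.subtype (Subgroup.centralizer ({z} : Set G)))).subgroupOf (Subgroup.centralizer ((X.map (Subgroup.subtype (Subgroup.centralizer ({z} : Set G)))) : Set G))) := by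
  obtain ⟨c, hcQ⟩ := Cfsg.Lib.ConwayType.exists_ctx_map hz Q hF hQ hcard e hnwc
  haveI : Fact (Nat.Prime 3) := ⟨Nat.prime_three⟩
  obtain ⟨⟨w, hw⟩, how⟩ := exists_prime_orderOf_dvd_card' 3 (show 3 ∣ Nat.card X by rw [hX])
  rw [Subgroup.orderOf_mk] at how
  set y : G := (w : G) with hy
  have hy3 : orderOf y = 3 := by rw [hy, Subgroup.orderOf_coe, how]
  have hyz : Commute y z := Subgroup.mem_centralizer_singleton_iff.mp w.2
  have hXw : X = Subgroup.zpowers w := by
    symm
    refine Subgroup.eq_of_le_of_card_ge (Subgroup.zpowers_le.mpr hw) ?_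
    rw [hX, Nat.card_zpowers, how]
  have hXm : X.map (Subgroup.subtype (Subgroup.centralizer ({z} : Set G))) = Subgroup.zpowers y := by
    rw [hXw, MonoidHom.map_zpowers]
    rfl
  have hQX' : (⁅Q, X⁆).map (Subgroup.subtype (Subgroup.centralizer ({z} : Set G))) = ⁅c.Q, Subgroup.zpowers y⁆ := by
    rw [Subgroup.map_commutator, hXm, hcQ]
  obtain ⟨T, hTy, -⟩ := Cfsg.Lib.ConwayType.ThreeSuz.exists_three c hy3 hyz (by
    rw [← hQX', Subgroup.card_map_of_injective (Subgroup.subtype_injective _), hQX]) (by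
    intro hcomm
    refine hQXna ⟨⟨fun a b => Subtype.ext (Subtype.ext ?_)⟩⟩
    exact (hcomm _ (hQX' ▸ ⟨_, a.2, rfl⟩) _ (hQX' ▸ ⟨_, b.2, rfl⟩)).eq)
  have main : ∀ (Z : Subgroup G) [(Z.subgroupOf (Subgroup.centralizer (Z : Set G))).Normal], Z = Subgroup.zpowers T.y →
      Cfsg.IsQuasisimple ↥(Subgroup.centralizer (Z : Set G)) ∧
        Cfsg.Spor.IsoSuz (↥(Subgroup.centralizer (Z : Set G)) ⧸ Z.subgroupOf (Subgroup.centralizer (Z : Set G))) := by
    intro Z _ hZ
    subst hZ
    have hM : Subgroup.centralizer (Subgroup.zpowers T.y : Set G) = T.M := by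
      rw [Subgroup.zpowers_eq_closure, Subgroup.centralizer_closure]
      rfl
    have gen : ∀ (M' : Subgroup G) [((Subgroup.zpowers T.y).subgroupOf M').Normal], M' = T.M →
        Cfsg.IsQuasisimple ↥M' ∧ Cfsg.Spor.IsoSuz (↥M' ⧸ (Subgroup.zpowers T.y).subgroupOf M') := by
      intro M' _ hM'
      subst hM'
      exact ⟨T.quasisimple, T.iso_b⟩
    exact gen _ hM
  exact main _ (by rw [hXm, hTy])

end Cfsg.Agent.S5381
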