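import Cfsg.Statements.S5382
import Cfsg.Agent.LocalThree.HallJankoType.SecondInvol
import Cfsg.Agent.LocalThree.HallJankoType.Glue

set_option autoImplicit false
open Cfsg

namespace Cfsg.Agent.S5382

/-- Let G be a finite group of Hall–Janko type: it has more than one class of involutions and an involution z whose centralizer C has generalized Fitting subgroup Q extraspecial of order 32 with C/Q isomorphic to the commutator subgroup of the isometry group of the elliptic quadratic form in dimension 4 over the field with two elements (the alternating group of degree 5), with z not weakly closed in Q. Then for every involution t not conjugate to z, the centralizer of t is isomorphic to the direct product of an elementary abelian group of order 4 and the alternating group of degree 5, and the normalizer of the largest normal 2-subgroup of that centralizer is isomorphic to the direct product of the alternating groups of degrees 4 and 5. -/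
theorem result {G : Type*} [Group G] [Finite G] (z : G) (hz : orderOf z = 2) (Q : Subgroup (Subgroup.centralizer ({z} : Set G))) [Q.Normal] (hF : Cfsg.generalizedFittingSubgroup (Subgroup.centralizer ({z} : Set G)) = Q) (hQ : Cfsg.IsExtraspecial 2 Q) (hcard : Nat.card Q = 2 ^ 5) (e : (Subgroup.centralizer ({z} : Set G)) ⧸ Q ≃* Cfsg.Omega (ZMod 2) (Cfsg.quadFormMinus 1 (ZMod 2) 1 1)) (hnwc : ∃ g : G, (∃ hq : g * z * g⁻¹ ∈ Subgroup.centralizer ({z} : Set G), (⟨g * z * g⁻¹, hq⟩ : Subgroup.centralizer ({z} : Set G)) ∈ Q) ∧ g * z * g⁻¹ ≠ z) (hcl : ∃ x y : G, orderOf x = 2 ∧ orderOf y = 2 ∧ ¬ IsConj x y) (t : G) (ht : orderOf t = 2) (htz : ¬ IsConj t z) : Nonempty (↥(Subgroup.centralizer ({t} : Set G)) ≃* (Multiplicative (ZMod 2) × Multiplicative (ZMod 2)) × alternatingGroup (Fin 5)) ∧ Nonempty (↥(Subgroup.normalizer (((Cfsg.pCore 2 ↥(Subgroup.centralizer ({t} : Set G))).map (Subgroup.subtype (Subgroup.centralizer ({t} : Set G))) : Subgroup G) : Set G)) ≃* alternatingGroup (Fin 4) × alternatingGroup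 (Fin 5)) := by
  classical
  obtain ⟨a, σ, H⟩ := Cfsg.Lib.HallJankoType.exists_hyp hz Q hF hQ hcard e hnwc hcl
  obtain ⟨t₀, ht₀⟩ := H.exists_outer
  obtain ⟨g, rfl⟩ := isConj_iff.1 ((H.class_cases ht₀ ht).resolve_left fun h => htz h.symm)
  obtain ⟨⟨e₁⟩, ⟨e₂⟩⟩ := H.second_invol ht₀
  have hmap : (Cfsg.Lib.HallJankoType.Cz t₀).map (MulAut.conj g).toMonoidHom =
      Subgroup.centralizer ({g * t₀ * g⁻¹} : Set G) := by
    ext y
    simp only [Subgroup.mem_map_equiv, MulAut.conj_symm_apply, Cfsg.Lib.HallJankoType.mem_Cz,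
      Subgroup.mem_centralizer_singleton_iff]
    constructor
    · intro h
      have h' := (Commute.conj_iff g).2 h
      rw [show g * (g⁻¹ * y * g) * g⁻¹ = y by group] at h'
      exact h'.eq
    · intro h
      refine (Commute.conj_iff g).1 ?_
      rw [show g * (g⁻¹ * y * g) * g⁻¹ = y by group]
      exact h
  let Φ : ↥(Cfsg.Lib.HallJankoType.Cz t₀) ≃* ↥(Subgroup.centralizer ({g * t₀ * g⁻¹} : Set G)) :=
    ((Cfsg.Lib.HallJankoType.Cz t₀).equivMapOfInjective _ (MulAut.conj g).injective).trans (MulEquiv.subgroupCongr hmap)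
  refine ⟨⟨Φ.symm.trans e₁⟩, ?_⟩
  have hcore : (Cfsg.pCore 2 ↥(Cfsg.Lib.HallJankoType.Cz t₀)).map Φ.toMonoidHom =
      Cfsg.pCore 2 ↥(Subgroup.centralizer ({g * t₀ * g⁻¹} : Set G)) := by
    refine le_antisymm ?_ ?_
    · haveI := (Cfsg.Lib.Components.pCore_normal' (G := ↥(Cfsg.Lib.HallJankoType.Cz t₀)) 2).map Φ.toMonoidHom Φ.surjective
      exact Cfsg.Lib.Components.le_pCore ((Cfsg.Lib.Components.isPGroup_pCore 2).map _)
    · rw [← Subgroup.map_comap_eq_self_of_surjective (f := Φ.toMonoidHom) Φ.surjective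
        (Cfsg.pCore 2 ↥(Subgroup.centralizer ({g * t₀ * g⁻¹} : Set G)))]
      refine Subgroup.map_mono ?_
      haveI := (Cfsg.Lib.Components.pCore_normal' (G := ↥(Subgroup.centralizer ({g * t₀ * g⁻¹} : Set G))) 2).comap
        Φ.toMonoidHom
      exact Cfsg.Lib.Components.le_pCore ((Cfsg.Lib.Components.isPGroup_pCore 2).comap_of_injective _ Φ.injective)
  have hN : ((Cfsg.pCore 2 ↥(Subgroup.centralizer ({g * t₀ * g⁻¹} : Set G))).map
        (Subgroup.centralizer ({g * t₀ * g⁻¹} : Set G)).subtype) =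
      ((Cfsg.pCore 2 ↥(Cfsg.Lib.HallJankoType.Cz t₀)).map (Cfsg.Lib.HallJankoType.Cz t₀).subtype).map
        (MulAut.conj g).toMonoidHom := by
    rw [← hcore, Subgroup.map_map, Subgroup.map_map]
    rfl
  rw [hN, ← Subgroup.map_equiv_normalizer_eq]
  exact ⟨((Subgroup.normalizer (((Cfsg.pCore 2 ↥(Cfsg.Lib.HallJankoType.Cz t₀)).map
    (Cfsg.Lib.HallJankoType.Cz t₀).subtype : Subgroup G) : Set G)).equivMapOfInjective _
      (MulAut.conj g).injective).symm.trans e₂⟩

end Cfsg.Agent.S5382
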