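import Cfsg.Statements.S5384
import Cfsg.Agent.SuzukiType.Local.FiveQuot

set_option autoImplicit false
open Cfsg

namespace Cfsg.Agent.S5384

/-- Let G be a finite group of Suzuki sporadic type (involution z with generalized Fitting subgroup Q of its centralizer C extraspecial of order 2^7, C/Q the commutator subgroup of the isometry group of the elliptic quadratic form in dimension 6 over the field with two elements, z not weakly closed in Q). Then G has exactly two conjugacy classes of subgroups of order 5, and the normalizer of a Sylow 5-subgroup P of G has order 600, with P of order 25 and N(P)/P isomorphic to the direct product of a cyclic group of order 4 and the symmetric group of degree 3. -/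
theorem result {G : Type*} [Group G] [Finite G] (z : G) (hz : orderOf z = 2) (Q : Subgroup (Subgroup.centralizer ({z} : Set G))) [Q.Normal] (hF : Cfsg.generalizedFittingSubgroup (Subgroup.centralizer ({z} : Set G)) = Q) (hQ : Cfsg.IsExtraspecial 2 Q) (hcard : Nat.card Q = 2 ^ 7) (e : (Subgroup.centralizer ({z} : Set G)) ⧸ Q ≃* Cfsg.Omega (ZMod 2) (Cfsg.quadFormMinus 2 (ZMod 2) 1 1)) (hnwc : ∃ g : G, (∃ hq : g * z * g⁻¹ ∈ Subgroup.centralizer ({z} : Set G), (⟨g * z * g⁻¹, hq⟩ : Subgroup.centralizer ({z} : Set G)) ∈ Q) ∧ g * z * g⁻¹ ≠ z) (P : Sylow 5 G) : (∃ A B : Subgroup G, Nat.card A = 5 ∧ Nat.card B = 5 ∧ (∀ g : G, A.map (MulAut.conj g).toMonoidHom ≠ B) ∧ ∀ C : Subgroup G, Nat.card C = 5 → ∃ g : G, C.map (MulAut.conj g).toMonoidHom = A ∨ C.map (MulAut.conj g).toMonoidHom = B) ∧ Nat.card (P : Subgroup G) = 25 ∧ Nat.card ↥(Subgroup.normalizer ((P : Subgroup G) : Set G)) = 600 ∧ Nonempty (↥(Subgroup.normalizer ((P : Subgroup G) : Set G)) ⧸ (P : Subgroup G).subgroupOf (Subgroup.normalizer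 ((P : Subgroup G) : Set G)) ≃* Multiplicative (ZMod 4) × Equiv.Perm (Fin 3)) := by
  obtain ⟨c⟩ := Cfsg.Lib.SuzukiType.exists_ctx hz Q hF hQ hcard e hnwc
  obtain ⟨d⟩ := c.exists_four
  haveI : Fact (Nat.Prime 5) := ⟨by norm_num⟩
  obtain ⟨P0, hcl, hN, ⟨eq⟩⟩ := d.five_main
  obtain ⟨g, hg⟩ := MulAction.exists_smul_eq G P0 P
  have hmap : (P : Subgroup G) = (P0 : Subgroup G).map (MulAut.conj g).toMonoidHom := by
    rw [← hg, Sylow.coe_subgroup_smul]
    rfl
  have hnm : Subgroup.normalizer ((P : Subgroup G) : Set G) =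
      (Subgroup.normalizer ((P0 : Subgroup G) : Set G)).map (MulAut.conj g).toMonoidHom := by
    rw [hmap]
    exact (Subgroup.map_equiv_normalizer_eq _ (MulAut.conj g)).symm
  let eN := ((MulAut.conj g).subgroupMap (Subgroup.normalizer ((P0 : Subgroup G) : Set G))).trans
    (MulEquiv.subgroupCongr hnm.symm)
  refine ⟨hcl, d.card_P P, by rw [← Nat.card_congr eN.toEquiv, hN], ⟨MulEquiv.trans ?_ eq⟩⟩
  haveI : ((P0 : Subgroup G).subgroupOf (Subgroup.normalizer ((P0 : Subgroup G) : Set G))).Normal :=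
    (Subgroup.normal_subgroupOf_iff_le_normalizer Subgroup.le_normalizer).mpr le_rfl
  refine (QuotientGroup.congr _ _ eN ?_).symm
  ext x
  rw [Subgroup.mem_subgroupOf]
  constructor
  · rintro ⟨y, hy, rfl⟩
    exact (SetLike.ext_iff.mp hmap _).mpr ⟨(y : G), hy, rfl⟩
  · intro hx
    obtain ⟨y, hy, hyx⟩ := (SetLike.ext_iff.mp hmap _).mp hx
    exact ⟨⟨y, Subgroup.le_normalizer hy⟩, hy, Subtype.ext hyx⟩

end Cfsg.Agent.S5384
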