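import Cfsg.Statements.S5385
import Cfsg.Agent.ConwayType.FiveNormal

set_option autoImplicit false
open Cfsg

namespace Cfsg.Agent.S5385

/-- Let G be a finite group of Conway type (involution z with generalized Fitting subgroup Q of its centralizer C extraspecial of order 2^9, C/Q the commutator subgroup of the isometry group of the hyperbolic quadratic form in dimension 8 over the field with two elements, z not weakly closed in Q), and let B be a subgroup of C of order 5 such that the centralizer of B in Q is extraspecial of order 32 containing no elementary abelian subgroup of order 8 (the quaternion-times-dihedral type). Then the layer L of the centralizer of B in G is isomorphic to the Hall–Janko group and the centralizer of L is isomorphic to the alternating group of degree 5. -/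
theorem result {G : Type*} [Group G] [Finite G] (z : G) (hz : orderOf z = 2) (Q : Subgroup (Subgroup.centralizer ({z} : Set G))) [Q.Normal] (hF : Cfsg.generalizedFittingSubgroup (Subgroup.centralizer ({z} : Set G)) = Q) (hQ : Cfsg.IsExtraspecial 2 Q) (hcard : Nat.card Q = 2 ^ 9) (e : (Subgroup.centralizer ({z} : Set G)) ⧸ Q ≃* Cfsg.Omega (ZMod 2) (Cfsg.quadFormPlus 4 (ZMod 2))) (hnwc : ∃ g : G, (∃ hq : g * z * g⁻¹ ∈ Subgroup.centralizer ({z} : Set G), (⟨g * z * g⁻¹, hq⟩ : Subgroup.centralizer ({z} : Set G)) ∈ Q) ∧ g * z * g⁻¹ ≠ z) (B : Subgroup (Subgroup.centralizer ({z} : Set G))) (hB : Nat.card B = 5) (hCQ : Cfsg.IsExtraspecial 2 ↥(Q ⊓ Subgroup.centralizer (B : Set (Subgroup.centralizer ({z} : Set G))))) (hCQcard : Nat.card ↥(Q ⊓ Subgroup.centralizer (B : Set (Subgroup.centralizer ({z} : Set G)))) = 32) (hminus : ∀ A : Subgroup (Subgroup.centralizer ({z} : Set G)), A ≤ Q ⊓ Subgroup.centralizer (B : Set (Subgroup.centralizer ({z} : Set G))) → Cfsg.IsElementaryAbelian 2 A → Nat.card A ≤ 4) : Cfsg.Spor.IsoJ2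 ↥(Cfsg.layer ↥(Subgroup.centralizer ((B.map (Subgroup.subtype (Subgroup.centralizer ({z} : Set G)))) : Set G))) ∧ Nonempty (↥(Subgroup.centralizer (((Cfsg.layer ↥(Subgroup.centralizer ((B.map (Subgroup.subtype (Subgroup.centralizer ({z} : Set G)))) : Set G))).map (Subgroup.subtype _)) : Set G)) ≃* alternatingGroup (Fin 5)) := by
  obtain ⟨c⟩ := Cfsg.Lib.ConwayType.exists_ctx hz Q hF hQ hcard e hnwc
  obtain ⟨p⟩ := c.exists_pt
  haveI : Fact (Nat.Prime 5) := ⟨by norm_num⟩
  haveI : IsCyclic ↥B := isCyclic_of_prime_card hB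
  obtain ⟨b, hb⟩ := IsCyclic.exists_generator (α := ↥B)
  set b0 : G := ((b : ↥(Subgroup.centralizer ({z} : Set G))) : G) with hb0
  have hBz : B = Subgroup.zpowers (b : ↥(Subgroup.centralizer ({z} : Set G))) := by
    refine le_antisymm (fun x hx => ?_) (Subgroup.zpowers_le.mpr b.2)
    obtain ⟨k, hk⟩ := Subgroup.mem_zpowers_iff.mp (hb ⟨x, hx⟩)
    exact Subgroup.mem_zpowers_iff.mpr ⟨k, by rw [← SubgroupClass.coe_zpow, hk]⟩
  have hmap : B.map (Subgroup.centralizer ({z} : Set G)).subtype = Subgroup.zpowers b0 := by rw [hBz, MonoidHom.map_zpowers]; rfl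
  have ob : orderOf b0 = 5 := by
    rw [← Nat.card_zpowers, ← hmap, Subgroup.card_map_of_injective (Subgroup.centralizer ({z} : Set G)).subtype_injective, hB]
  have hbz : Commute b0 z := Subgroup.mem_centralizer_singleton_iff.mp (b : ↥(Subgroup.centralizer ({z} : Set G))).2
  have hQ2 : IsPGroup 2 ↥Q := IsPGroup.of_card (n := 9) hcard
  have hQg := Cfsg.Lib.ConwayType.Q_eq p.toCtx Q hQ2 (by rw [hcard]; norm_num)
  have hcap : (Q ⊓ Subgroup.centralizer (B : Set (Subgroup.centralizer ({z} : Set G)))).map (Subgroup.centralizer ({z} : Set G)).subtype =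
      p.toCtx.Q ⊓ Subgroup.centralizer ({b0} : Set G) := by
    rw [Subgroup.map_inf _ _ _ (Subgroup.centralizer ({z} : Set G)).subtype_injective, hQg]
    apply le_antisymm
    · refine inf_le_inf_left _ ?_
      rintro _ ⟨x, hx, rfl⟩
      exact Subgroup.mem_centralizer_singleton_iff.mpr
        (congrArg Subtype.val (Subgroup.mem_centralizer_iff.mp hx (b : ↥(Subgroup.centralizer ({z} : Set G))) b.2)).symm
    · rintro _ ⟨⟨x, hx, rfl⟩, hxb⟩
      refine ⟨⟨x, hx, rfl⟩, x, ?_, rfl⟩
      have hc : Commute x (b : ↥(Subgroup.centralizer ({z} : Set G))) := Subtype.ext (Subgroup.mem_centralizer_singleton_iff.mp hxb)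
      refine Subgroup.mem_centralizer_iff.mpr fun y hy => ?_
      rw [hBz] at hy
      obtain ⟨k, rfl⟩ := Subgroup.mem_zpowers_iff.mp hy
      exact ((hc.zpow_right k).eq).symm
  let e0 : ↥(Q ⊓ Subgroup.centralizer (B : Set (Subgroup.centralizer ({z} : Set G)))) ≃*
      ↥(p.toCtx.Q ⊓ Subgroup.centralizer ({b0} : Set G)) :=
    ((Q ⊓ Subgroup.centralizer (B : Set (Subgroup.centralizer ({z} : Set G)))).equivMapOfInjective (Subgroup.centralizer ({z} : Set G)).subtype (Subgroup.centralizer ({z} : Set G)).subtype_injective).trans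
      (MulEquiv.subgroupCongr hcap)
  have h := Cfsg.Lib.ConwayType.five_centralizer p b0 hbz ob
    (Cfsg.Lib.LargeFischer.isExtraspecial_congr e0 hCQ) (by rw [← Nat.card_congr e0.toEquiv, hCQcard])
  rw [← hmap] at h
  exact h

end Cfsg.Agent.S5385
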