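import Cfsg.Agent.Golay.Modules
import Mathlib
import Cfsg.Statements.S5393
-- import your own Cfsg.Agent.* helpers here

set_option autoImplicit false
open Cfsg

namespace Cfsg.Agent.S5393

/-- The length-24 code built from the squares modulo 23 contains the all-ones word, and the code modulo the all-ones word is an irreducible module over the field with two elements for the code's automorphism group: a subspace of the code that contains the all-ones word and is invariant under every coordinate permutation preserving the code is either the span of the all-ones word or the whole code. -/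
theorem result : (fun _ : Cfsg.GolayPt => (1 : ZMod 2)) ∈ Cfsg.golayCode ∧ ∀ W : Submodule (ZMod 2) (Cfsg.GolayPt → ZMod 2), (fun _ => (1 : ZMod 2)) ∈ W → W ≤ Cfsg.golayCode → (∀ σ ∈ Cfsg.M24, ∀ w ∈ W, (fun p => w (σ.symm p)) ∈ W) → W = Submodule.span (ZMod 2) {fun _ => (1 : ZMod 2)} ∨ W = Cfsg.golayCode := by
  have h1 : (fun _ : Cfsg.GolayPt => (1 : ZMod 2)) ∈ Cfsg.golayCode :=
    Submodule.subset_span (Or.inr rfl)
  refine ⟨h1, fun W hW1 hle hinv => ?_⟩
  rcases Cfsg.Lib.Golay.Modules.classify (U := W) hinv with e | e | e | e | e
  · rw [e, Submodule.mem_bot] at hW1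
    exact absurd (congrFun hW1 none) one_ne_zero
  · exact Or.inl e
  · exact Or.inr e
  · exfalso
    have hm : (Cfsg.Lib.Golay.ind ({none, some 0} : Finset Cfsg.GolayPt)) ∈ W := by
      rw [← SetLike.mem_coe, e]
      decide +kernel
    have h := Cfsg.Lib.Golay.card_support_mem (Cfsg.Lib.Golay.Modules.ind_mem_code.mp (hle hm))
    rw [Finset.card_pair (by decide)] at h
    omega
  · exfalso
    have hm : (Cfsg.Lib.Golay.ind ({none} : Finset Cfsg.GolayPt)) ∈ W := e ▸ Submodule.mem_top
    have h := Cfsg.Lib.Golay.card_support_mem (Cfsg.Lib.Golay.Modules.ind_mem_code.mp (hle hm))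
    rw [Finset.card_singleton] at h
    omega

end Cfsg.Agent.S5393
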