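import Cfsg.Statements.S5394
import Cfsg.Agent.Golay.ElementFix

set_option autoImplicit false
open Cfsg

namespace Cfsg.Agent.S5394

open Cfsg.Lib.Golay Cfsg.Lib.PermCert MulAction
open scoped Pointwise


/-- The automorphism group of the length-24 code built from the squares modulo 23 has exactly two conjugacy classes of involutions: an involution either fixes exactly the eight points of an octad or has no fixed points, both kinds occur, and any two involutions of the same kind are conjugate in the group. -/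
theorem result : (∀ g ∈ Cfsg.M24, orderOf g = 2 → (Finset.univ.filter fun p => g p = p) ∈ Cfsg.octads ∨ ∀ p, g p ≠ p) ∧ (∃ g ∈ Cfsg.M24, orderOf g = 2 ∧ (Finset.univ.filter fun p => g p = p) ∈ Cfsg.octads) ∧ (∃ g ∈ Cfsg.M24, orderOf g = 2 ∧ ∀ p, g p ≠ p) ∧ ∀ g ∈ Cfsg.M24, ∀ h ∈ Cfsg.M24, orderOf g = 2 → orderOf h = 2 → ((∀ p, g p ≠ p) ↔ (∀ p, h p ≠ p)) → ∃ k ∈ Cfsg.M24, k * g * k⁻¹ = h := by
  haveI : Fact (Nat.Prime 2) := ⟨Nat.prime_two⟩
  have hv := valid_of_fvalid fvalid_reps.1
  have hA : (Finset.univ.filter fun p => toP invA.1 p = p) = pts codeOct := by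
    ext p
    have h := fixA_eq
    simp only [List.all_eq_true, List.mem_range, beq_iff_eq] at h
    have h1 := h _ (pidx_lt p)
    rw [Finset.mem_filter, mem_pts, ← pidx_injective.eq_iff, pidx_toP hv, ← h1, beq_iff_eq]
    simp
  have conjfix : ∀ r g : Equiv.Perm Cfsg.GolayPt,
      (Finset.univ.filter fun p => (r * g * r⁻¹) p = p) = r • (Finset.univ.filter fun p => g p = p) := by
    intro r g
    ext p
    conv_rhs => rw [← Finset.inv_smul_mem_iff]
    rw [Finset.mem_filter, Finset.mem_filter]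
    simp [Equiv.Perm.mul_apply, Equiv.Perm.smul_def, Equiv.eq_symm_apply]
  have hord : ∀ g : Cfsg.Lib.Golay.FG, fvalid g = true → nfix g.1 ≠ 24 →
      (List.range 24).all (fun i => ap g.1.1 (ap g.1.1 i) == i) = true → orderOf (toP g.1) = 2 := by
    intro g hg hn h2
    refine orderOf_eq_prime (Equiv.ext fun p => pidx_injective ?_) fun e => hn ?_
    · simp only [List.all_eq_true, List.mem_range, beq_iff_eq] at h2
      rw [pow_two, Equiv.Perm.mul_apply, pidx_toP (valid_of_fvalid hg), pidx_toP (valid_of_fvalid hg)]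
      exact h2 _ (pidx_lt p)
    · rw [← fixCard_toP (valid_of_fvalid hg), e]; decide
  refine ⟨fun g hg h2 => ?_, ⟨toP invA.1, toP_mem_M24 (by decide +kernel), hord _ fvalid_reps.1 (by decide +kernel) (by decide +kernel), ?_⟩,
    ⟨toP invB.1, toP_mem_M24 (by decide +kernel), hord _ fvalid_reps.2.1 (by decide +kernel) (by decide +kernel),
      fixCard_eq_zero.mp fixCard_reps.2.1⟩, fun g hg h hh hg2 hh2 hiff => ?_⟩
  · obtain ⟨r, hr, ⟨e, -⟩ | ⟨-, h0⟩⟩ := involution_classes hg h2
    · refine Or.inl ?_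
      rw [e, conjfix, hA, octads_inv hr, octads_eq_orbit]
      exact MulAction.mem_orbit_self _
    · exact Or.inr (fixCard_eq_zero.mp h0)
  · rw [hA, octads_eq_orbit]
    exact MulAction.mem_orbit_self _
  · obtain ⟨r, hr, hgr⟩ := involution_classes hg hg2
    obtain ⟨s, hs, hhs⟩ := involution_classes hh hh2
    rw [← fixCard_eq_zero, ← fixCard_eq_zero] at hiff
    obtain ⟨t, e1, e2⟩ : ∃ t, g = r * t * r⁻¹ ∧ h = s * t * s⁻¹ := by
      rcases hgr with ⟨e, n⟩ | ⟨e, n⟩ <;> rcases hhs with ⟨e', n'⟩ | ⟨e', n'⟩ <;>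
        first | exact ⟨_, e, e'⟩ | omega
    exact ⟨s * r⁻¹, mul_mem hs (inv_mem hr), by rw [e1, e2]; group⟩

end Cfsg.Agent.S5394
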