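import Mathlib
import Cfsg.Statements.S5395
-- import your own Cfsg.Agent.* helpers here

set_option autoImplicit false
open Cfsg

namespace Cfsg.Agent.S5395

/-- For a finite extraspecial 2-group E, an automorphism of E that induces the identity on E modulo its centre is inner (so these automorphisms form exactly the inner automorphism group, an elementary abelian 2-group of order |E|/2). -/
theorem result {E : Type*} [Group E] [Finite E] (hE : Cfsg.IsExtraspecial 2 E) (φ : E ≃* E) (hφ : ∀ x : E, φ x * x⁻¹ ∈ Subgroup.center E) : ∃ g : E, ∀ x : E, φ x = g * x * g⁻¹ := by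
  haveI : Fact (Nat.Prime 2) := ⟨Nat.prime_two⟩
  obtain ⟨⟨-, -, hcomm⟩, hcard⟩ := hE
  set Z := Subgroup.center E with hZ
  have hcen : ∀ z ∈ Z, ∀ w : E, w * z = z * w := fun z hz => Subgroup.mem_center_iff.mp hz
  let f : E →* Z := MonoidHom.mk' (fun x => ⟨φ x * x⁻¹, hφ x⟩) fun x y => Subtype.ext <| by
    show φ (x * y) * (x * y)⁻¹ = φ x * x⁻¹ * (φ y * y⁻¹)
    rw [map_mul, mul_inv_rev, mul_assoc (φ x) x⁻¹, hcen _ (hφ y) x⁻¹]
    group
  have hmem : ∀ g x : E, g * x * g⁻¹ * x⁻¹ ∈ Z := fun g x => by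
    rw [← hcomm, ← commutatorElement_def]
    exact Subgroup.commutator_mem_commutator (Subgroup.mem_top g) (Subgroup.mem_top x)
  let inner : E → (E →* Z) := fun g => MonoidHom.mk' (fun x => ⟨g * x * g⁻¹ * x⁻¹, hmem g x⟩) fun x y => Subtype.ext <| by
    show g * (x * y) * g⁻¹ * (x * y)⁻¹ = g * x * g⁻¹ * x⁻¹ * (g * y * g⁻¹ * y⁻¹)
    rw [mul_assoc (g * x * g⁻¹) x⁻¹, hcen _ (hmem g y) x⁻¹]
    group
  -- homomorphisms into the centre are counted through characters
  have hc2 : Nat.card ℤˣ = 2 := by rw [Nat.card_eq_fintype_card]; rfl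
  let ι : Z →* ℂˣ := (Units.map (Int.castRingHom ℂ).toMonoidHom).comp
    (mulEquivOfPrimeCardEq (p := 2) hcard hc2).toMonoidHom
  have hι : Function.Injective ι := fun a b h => by
    apply (mulEquivOfPrimeCardEq (p := 2) hcard hc2).injective
    exact Units.map_injective (f := (Int.castRingHom ℂ).toMonoidHom) (fun u v e => Int.cast_injective e) h
  haveI : NeZero (Monoid.exponent (Abelianization E) : ℂ) :=
    ⟨Nat.cast_ne_zero.mpr Monoid.exponent_ne_zero_of_finite⟩
  obtain ⟨m⟩ := CommGroup.monoidHom_mulEquiv_of_hasEnoughRootsOfUnity (Abelianization E) ℂ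
  let j : (E →* Z) → Abelianization E := fun h => m (Abelianization.lift (ι.comp h))
  have hj : Function.Injective j := fun a b h => by
    have h' := Abelianization.lift.injective (m.injective h)
    exact MonoidHom.ext fun x => hι (DFunLike.congr_fun h' x)
  have hab : Nat.card (Abelianization E) = Nat.card (E ⧸ Z) := by
    show Nat.card (E ⧸ commutator E) = _
    rw [hcomm]
  haveI : Finite (E →* Z) := Finite.of_injective j hj
  let ψ : E ⧸ Z → (E →* Z) := fun q => inner q.out
  have hψ : Function.Injective ψ := fun a b h => by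
    rw [← QuotientGroup.out_eq' a, ← QuotientGroup.out_eq' b, QuotientGroup.eq]
    refine Subgroup.mem_center_iff.mpr fun x => ?_
    have e : a.out * x * a.out⁻¹ * x⁻¹ = b.out * x * b.out⁻¹ * x⁻¹ := congrArg Subtype.val (DFunLike.congr_fun h x)
    have e' := mul_right_cancel e
    calc x * (a.out⁻¹ * b.out) = a.out⁻¹ * (a.out * x * a.out⁻¹) * b.out := by group
      _ = a.out⁻¹ * (b.out * x * b.out⁻¹) * b.out := by rw [e']
      _ = a.out⁻¹ * b.out * x := by group
  obtain ⟨q, hq⟩ := (hψ.bijective_of_nat_card_le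
    ((Nat.card_le_card_of_injective j hj).trans hab.le)).2 f
  refine ⟨q.out, fun x => ?_⟩
  have e : q.out * x * q.out⁻¹ * x⁻¹ = φ x * x⁻¹ := congrArg Subtype.val (DFunLike.congr_fun hq x)
  exact (mul_right_cancel e).symm

end Cfsg.Agent.S5395
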