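import Cfsg.Statements.S5396
import Cfsg.Agent.LargeExtra.Coprime

set_option autoImplicit false
open Cfsg

namespace Cfsg.Agent.S5396


/-- The model: a central extension of `F₂^(2(m+1))` by `F₂` given by a bilinear cocycle. -/
@[ext] structure Q2 (m : ℕ) (ε : ZMod 2) where
  s : ZMod 2
  a : Fin (m + 1) → ZMod 2
  b : Fin (m + 1) → ZMod 2
deriving DecidableEq

variable {m : ℕ} {ε : ZMod 2}

abbrev V (m : ℕ) : Type := (Fin (m + 1) → ZMod 2) × (Fin (m + 1) → ZMod 2)

/-- The cocycle. -/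
def coc (ε : ZMod 2) (v w : V m) : ZMod 2 := ∑ i, v.1 i * w.2 i + ε * (v.1 0 * w.1 0 + v.2 0 * w.2 0)

theorem coc_add_left (u v w : V m) : coc ε (u + v) w = coc ε u w + coc ε v w := by
  simp only [coc, Prod.fst_add, Prod.snd_add, Pi.add_apply, add_mul, Finset.sum_add_distrib]
  ring

theorem coc_add_right (u v w : V m) : coc ε u (v + w) = coc ε u v + coc ε u w := by
  simp only [coc, Prod.fst_add, Prod.snd_add, Pi.add_apply, mul_add, Finset.sum_add_distrib]
  ring

theorem coc_zero_left (w : V m) : coc ε 0 w = 0 := by simp [coc]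
theorem coc_zero_right (w : V m) : coc ε w 0 = 0 := by simp [coc]

theorem two_self (x : ZMod 2) : x + x = 0 := CharTwo.add_self_eq_zero x

/-- Projection. -/
def Q2.v (g : Q2 m ε) : V m := (g.a, g.b)

instance : Mul (Q2 m ε) := ⟨fun g h => ⟨g.s + h.s + coc ε g.v h.v, g.a + h.a, g.b + h.b⟩⟩
instance : One (Q2 m ε) := ⟨⟨0, 0, 0⟩⟩
instance : Inv (Q2 m ε) := ⟨fun g => ⟨g.s + coc ε g.v g.v, g.a, g.b⟩⟩

theorem mul_def (g h : Q2 m ε) : g * h = ⟨g.s + h.s + coc ε g.v h.v, g.a + h.a, g.b + h.b⟩ := rfl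
theorem v_mul (g h : Q2 m ε) : (g * h).v = g.v + h.v := rfl
theorem one_def : (1 : Q2 m ε) = ⟨0, 0, 0⟩ := rfl

instance : Group (Q2 m ε) := Group.ofLeftAxioms
  (fun g h k => by
    ext1
    · show g.s + h.s + coc ε g.v h.v + k.s + coc ε (g.v + h.v) k.v = g.s + (h.s + k.s + coc ε h.v k.v) + coc ε g.v (h.v + k.v)
      rw [coc_add_left, coc_add_right]; ring
    · exact add_assoc _ _ _
    · exact add_assoc _ _ _)
  (fun g => by
    ext1
    · show 0 + g.s + coc ε 0 g.v = g.s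
      rw [coc_zero_left]; ring
    · exact zero_add _
    · exact zero_add _)
  (fun g => by
    ext1
    · show g.s + coc ε g.v g.v + g.s + coc ε g.v g.v = 0
      rw [show g.s + coc ε g.v g.v + g.s + coc ε g.v g.v = (g.s + g.s) + (coc ε g.v g.v + coc ε g.v g.v) by ring,
        two_self, two_self, add_zero]
    · exact funext fun i => two_self _
    · exact funext fun i => two_self _)

def equivProd (m : ℕ) (ε : ZMod 2) : Q2 m ε ≃ ZMod 2 × V m where
  toFun g := (g.s, g.v)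
  invFun p := ⟨p.1, p.2.1, p.2.2⟩
  left_inv _ := rfl
  right_inv _ := rfl

instance : Finite (Q2 m ε) := Finite.of_equiv _ (equivProd m ε).symm

theorem card_Q2 (m : ℕ) (ε : ZMod 2) : Nat.card (Q2 m ε) = 2 ^ (2 * (m + 1) + 1) := by
  rw [Nat.card_congr (equivProd m ε), Nat.card_prod, Nat.card_prod, Nat.card_fun, Nat.card_zmod, Nat.card_fin]
  ring

/-- The commutator form. -/
def om (ε : ZMod 2) (v w : V m) : ZMod 2 := coc ε v w + coc ε w v

theorem om_eq (v w : V m) : om ε v w = ∑ i, (v.1 i * w.2 i + w.1 i * v.2 i) := by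
  simp only [om, coc, Finset.sum_add_distrib]
  have := two_self (ε * (v.1 0 * w.1 0 + v.2 0 * w.2 0))
  linear_combination this

theorem om_nondeg {v : V m} (hv : v ≠ 0) : ∃ w, om ε v w = 1 := by
  have h1 : ∀ x : ZMod 2, x ≠ 0 → x = 1 := by decide
  obtain ⟨i, hi⟩ : ∃ i, v.1 i ≠ 0 ∨ v.2 i ≠ 0 := by
    by_contra h
    push Not at h
    exact hv (Prod.ext (funext fun i => (h i).1) (funext fun i => (h i).2))
  rcases hi with hi | hi
  · exact ⟨(0, Pi.single i 1), by simp [om_eq, Pi.single_apply, h1 _ hi]⟩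
  · exact ⟨(Pi.single i 1, 0), by simp [om_eq, Pi.single_apply, h1 _ hi]⟩

theorem commute_iff (g h : Q2 m ε) : Commute g h ↔ om ε g.v h.v = 0 := by
  have key : ∀ x y : ZMod 2, x + y = 0 ↔ x = y := by decide
  rw [om, key, Commute, SemiconjBy, mul_def, mul_def, Q2.ext_iff]
  simp only [add_comm h.a g.a, add_comm h.b g.b, and_true]
  rw [add_comm h.s g.s, add_right_inj]

theorem sq_def (g : Q2 m ε) : g * g = ⟨coc ε g.v g.v, 0, 0⟩ := by
  rw [mul_def, two_self, zero_add]
  congr <;> exact funext fun i => two_self _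

/-- The central involution. -/
def zc : Q2 m ε := ⟨1, 0, 0⟩

theorem s_or (g : Q2 m ε) (h : g.v = 0) : g = 1 ∨ g = zc := by
  have h1 : ∀ x : ZMod 2, x = 0 ∨ x = 1 := by decide
  have ha : g.a = 0 := congrArg Prod.fst h
  have hb : g.b = 0 := congrArg Prod.snd h
  rcases h1 g.s with e | e
  · exact Or.inl (Q2.ext e ha hb)
  · exact Or.inr (Q2.ext e ha hb)

theorem isExtra (m : ℕ) (ε : ZMod 2) : Cfsg.IsExtraspecial 2 ↥(⊤ : Subgroup (Q2 m ε)) := by
  refine Cfsg.Lib.LargeExtra.isExtraspecial_of (z := zc) ?_ (Subgroup.mem_top _)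
    (fun e => one_ne_zero (congrArg Q2.s e)) ?_ ?_ ?_ ?_ ?_ ?_
  · exact IsPGroup.of_card (n := 2 * (m + 1) + 1) (by rw [Subgroup.card_top, card_Q2])
  · rw [sq_def, show (zc : Q2 m ε).v = 0 from rfl, coc_zero_left]; rfl
  · intro g _; exact (commute_iff _ _).mpr (by simp [om, show (zc : Q2 m ε).v = 0 from rfl, coc_zero_left, coc_zero_right])
  · intro g _ h _
    refine s_or _ ?_
    rw [commutatorElement_def, v_mul, v_mul, v_mul]
    show g.v + h.v + g.v + h.v = 0
    refine Prod.ext (funext fun i => ?_) (funext fun i => ?_)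
    · show g.a i + h.a i + g.a i + h.a i = 0
      linear_combination two_self (g.a i + h.a i)
    · show g.b i + h.b i + g.b i + h.b i = 0
      linear_combination two_self (g.b i + h.b i)
  · intro g _
    exact s_or _ (by rw [sq_def]; rfl)
  · intro c _ hc
    refine s_or _ (by_contra fun hv => ?_)
    obtain ⟨w, hw⟩ := om_nondeg (ε := ε) hv
    have := (commute_iff c ⟨0, w.1, w.2⟩).mp (hc _ (Subgroup.mem_top _)).symm
    rw [show (⟨0, w.1, w.2⟩ : Q2 m ε).v = w from rfl, hw] at this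
    exact one_ne_zero this
  · obtain ⟨w, hw⟩ := om_nondeg (ε := ε) (v := ((Pi.single 0 1, 0) : V m)) (fun e => by
      have := congrFun (congrArg Prod.fst e) 0
      simp at this)
    refine ⟨⟨0, Pi.single 0 1, 0⟩, trivial, ⟨0, w.1, w.2⟩, trivial, fun h => ?_⟩
    have h' := (commute_iff _ _).mp h
    exact one_ne_zero (hw.symm.trans h')

theorem exists_big (m : ℕ) (ε : ZMod 2) : ∃ A : Subgroup (Q2 m ε), Cfsg.IsElementaryAbelian 2 A ∧
    Nat.card A = 2 ^ (if ε = 0 then m + 1 + 1 else m + 1) := by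
  have hε : ∀ x : ZMod 2, x = 0 ∨ x = 1 := by decide
  let A : Subgroup (Q2 m ε) :=
    { carrier := {g | g.b = 0 ∧ ε * g.a 0 = 0}
      one_mem' := ⟨rfl, by simp [one_def]⟩
      mul_mem' := fun {g h} hg hh => ⟨by rw [mul_def]; simp [hg.1, hh.1], by
        rw [mul_def]; simp only [Pi.add_apply, mul_add, hg.2, hh.2, add_zero]⟩
      inv_mem' := fun {g} hg => hg }
  have hco : ∀ g ∈ A, ∀ h ∈ A, coc ε g.v h.v = 0 := by
    intro g hg h hh
    simp only [coc, Q2.v, hh.1, Pi.zero_apply, mul_zero, Finset.sum_const_zero, zero_add, add_zero, hg.1]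
    rw [← mul_assoc, hg.2, zero_mul]
  refine ⟨A, ⟨⟨⟨fun x y => Subtype.ext ((commute_iff _ _).mpr (by rw [om, hco _ x.2 _ y.2, hco _ y.2 _ x.2, add_zero])).eq⟩⟩,
    fun g hg => by rw [pow_two, sq_def, hco g hg g hg]; rfl⟩, ?_⟩
  rcases hε ε with rfl | rfl
  · rw [if_pos rfl]
    let e : A ≃ ZMod 2 × (Fin (m + 1) → ZMod 2) :=
      { toFun := fun g => (g.1.s, g.1.a)
        invFun := fun p => ⟨⟨p.1, p.2, 0⟩, rfl, zero_mul _⟩
        left_inv := fun g => Subtype.ext (Q2.ext rfl rfl g.2.1.symm)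
        right_inv := fun _ => rfl }
    rw [Nat.card_congr e, Nat.card_prod, Nat.card_fun, Nat.card_zmod, Nat.card_fin]; ring
  · rw [if_neg one_ne_zero]
    let e : A ≃ ZMod 2 × (Fin m → ZMod 2) :=
      { toFun := fun g => (g.1.s, Fin.tail g.1.a)
        invFun := fun p => ⟨⟨p.1, Fin.cons 0 p.2, 0⟩, rfl, by simp⟩
        left_inv := fun g => Subtype.ext (Q2.ext rfl (by
          have h0 : g.1.a 0 = 0 := by simpa using g.2.2
          show Fin.cons 0 (Fin.tail g.1.a) = g.1.a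
          rw [← h0]; exact Fin.cons_self_tail _) g.2.1.symm)
        right_inv := fun p => by simp }
    rw [Nat.card_congr e, Nat.card_prod, Nat.card_fun, Nat.card_zmod, Nat.card_fin]; ring

/-- The sign of an element of `F₂`. -/
def sg (x : ZMod 2) : ℤ := if x = 0 then 1 else -1

theorem sg_add : ∀ x y : ZMod 2, sg (x + y) = sg x * sg y := by decide

theorem map_prod_sg {k : ℕ} (f : Fin k → ZMod 2) : sg (∑ i, f i) = ∏ i, sg (f i) := by
  induction k with
  | zero => rfl
  | succ k ih => rw [Fin.sum_univ_succ, Fin.prod_univ_succ, sg_add, ih]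

theorem sum_eq_zero_of_shift {ι : Type*} [Fintype ι] [AddCommGroup ι] (f : ι → ZMod 2)
    (hf : ∀ x y, f (x + y) = f x + f y) (w : ι) (hw : f w = 1) : ∑ x, sg (f x) = 0 := by
  have h := Equiv.sum_comp (Equiv.addRight w) fun x => sg (f x)
  simp only [Equiv.coe_addRight, hf, hw, sg_add] at h
  rw [← Finset.sum_mul, show sg 1 = -1 from rfl] at h
  linarith

theorem total {U W : Type*} [AddCommGroup U] [Fintype U] [AddCommGroup W] [Fintype W] (f : U → W → ZMod 2)
    (hadd : ∀ x y w, f (x + y) w = f x w + f y w) (h0 : ∀ v, f v 0 = 0) (hnd : ∀ w, w ≠ 0 → ∃ v, f v w = 1) :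
    ∑ v, ∑ w, sg (f v w) = (Fintype.card U : ℤ) := by
  classical
  rw [Finset.sum_comm, Finset.sum_eq_single (0 : W)]
  · simp [h0, sg]
  · intro w _ hw
    obtain ⟨u, hu⟩ := hnd w hw
    exact sum_eq_zero_of_shift (fun v => f v w) (fun x y => hadd x y w) u hu
  · simp

set_option maxHeartbeats 1000000 in
theorem upper (m : ℕ) (ε : ZMod 2) (A : Subgroup (Q2 m ε)) (hsq : ∀ g ∈ A, g ^ 2 = 1)
    (hab : ∀ g ∈ A, ∀ h ∈ A, g * h = h * g) : Nat.card A ≤ 2 ^ (if ε = 0 then m + 1 + 1 else m + 1) := by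
  classical
  obtain ⟨W, hWdef⟩ : ∃ W : AddSubgroup (V m), ∀ v, v ∈ W ↔ ∃ g ∈ A, g.v = v := ⟨
    { carrier := {v | ∃ g ∈ A, g.v = v}
      zero_mem' := ⟨1, one_mem A, rfl⟩
      add_mem' := by
        rintro _ _ ⟨g, hg, rfl⟩ ⟨h, hh, rfl⟩
        exact ⟨g * h, mul_mem hg hh, rfl⟩
      neg_mem' := by
        rintro _ ⟨g, hg, rfl⟩
        exact ⟨g⁻¹, inv_mem hg, Prod.ext (funext fun i => (CharTwo.neg_eq (g.a i)).symm)
          (funext fun i => (CharTwo.neg_eq (g.b i)).symm)⟩ }, fun _ => Iff.rfl⟩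
  haveI : Fintype W := Fintype.ofFinite _
  have hA : Nat.card A ≤ 2 * Nat.card W := by
    let f : A → ZMod 2 × W := fun g => (g.1.s, ⟨g.1.v, (hWdef _).mpr ⟨g.1, g.2, rfl⟩⟩)
    have := Nat.card_le_card_of_injective f fun g h e => Subtype.ext ((equivProd m ε).injective (Prod.ext
      (congrArg Prod.fst e :) (congrArg (fun p => ((Prod.snd p : W) : V m)) e :)))
    rwa [Nat.card_prod, Nat.card_zmod] at this
  have hom : ∀ v w : W, om ε (v : V m) w = 0 := by
    rintro ⟨v, hv⟩ ⟨w, hw⟩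
    obtain ⟨g, hg, rfl⟩ := (hWdef v).mp hv
    obtain ⟨h, hh, rfl⟩ := (hWdef w).mp hw
    exact (commute_iff g h).mp (hab g hg h hh)
  have hq : ∀ w : W, coc ε (w : V m) w = 0 := by
    rintro ⟨v, hv⟩
    obtain ⟨g, hg, rfl⟩ := (hWdef v).mp hv
    have h := hsq g hg
    rw [pow_two, sq_def] at h
    exact congrArg Q2.s h
  have omr : ∀ u v w : V m, om ε u (v + w) = om ε u v + om ε u w := fun u v w => by
    simp only [om, coc_add_left, coc_add_right]; ring
  have oml : ∀ u v w : V m, om ε (u + v) w = om ε u w + om ε v w := fun u v w => by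
    simp only [om, coc_add_left, coc_add_right]; ring
  let T : V m → ℤ := fun v => ∑ w : W, sg (om ε v w)
  have hT : ∀ v, T v = 0 ∨ T v = Nat.card W := fun v => by
    by_cases h : ∀ w : W, om ε v w = 0
    · exact Or.inr (by simp [T, h, sg])
    · push Not at h
      obtain ⟨w, hw⟩ := h
      have h1 : ∀ x : ZMod 2, x ≠ 0 → x = 1 := by decide
      exact Or.inl (sum_eq_zero_of_shift (fun w : W => om ε v w) (fun x y => omr v x y) w (h1 _ hw))
  have hTW : ∀ v : W, T v = Nat.card W := fun v => by simp [T, hom v, sg]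
  have htot : ∑ v, T v = (Fintype.card (V m) : ℤ) :=
    total (fun (v : V m) (w : W) => om ε v w) (fun x y w => oml x y w)
      (fun v => by simp [om, coc_zero_left, coc_zero_right]) (fun w hw => by
        obtain ⟨u, hu⟩ := om_nondeg (ε := ε) (v := (w : V m)) (fun e => hw (Subtype.ext e))
        exact ⟨u, (add_comm _ _).trans hu⟩)
  have hsplit : ∑ v, T v = (Nat.card W : ℤ) * Nat.card W + ∑ v ∈ Finset.univ.filter (fun v => v ∉ W), T v := by
    rw [← Finset.sum_filter_add_sum_filter_not Finset.univ (fun v => v ∈ W)]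
    congr 1
    rw [Finset.sum_subtype (p := fun v => v ∈ W) (F := ‹Fintype W›) _ (by simp) T, Finset.sum_congr rfl (fun v _ => hTW v)]
    simp
  have hcV : Fintype.card (V m) = (2 ^ (m + 1)) ^ 2 := by
    simp [V, ZMod.card]; ring
  have hnn : 0 ≤ ∑ v ∈ Finset.univ.filter (fun v => v ∉ W), T v :=
    Finset.sum_nonneg fun v _ => by rcases hT v with h | h <;> simp [h]
  rw [hsplit, hcV, Nat.cast_pow] at htot
  have hle : Nat.card W ≤ 2 ^ (m + 1) := by
    have : ((Nat.card W : ℤ)) ^ 2 ≤ ((2 ^ (m + 1) : ℕ) : ℤ) ^ 2 := by rw [pow_two]; linarith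
    exact Nat.le_of_lt_succ (by
      by_contra hh
      push Not at hh
      have h2 : ((2 ^ (m + 1) : ℕ) : ℤ) < Nat.card W := by exact_mod_cast (Nat.lt_of_succ_le hh)
      nlinarith)
  split_ifs with h0
  · calc Nat.card A ≤ 2 * 2 ^ (m + 1) := hA.trans (Nat.mul_le_mul_left 2 hle)
      _ = _ := by rw [pow_succ' _ (m + 1)]
  have h1 : ε = 1 := (show ∀ x : ZMod 2, x ≠ 0 → x = 1 by decide) _ h0
  have hA' : IsPGroup 2 (Q2 m ε) := IsPGroup.of_card (card_Q2 m ε)
  obtain ⟨k, hk⟩ := (hA'.to_subgroup A).exists_card_eq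
  rw [hk] at hA ⊢
  refine Nat.pow_le_pow_right two_pos ?_
  have hk2 : k ≤ m + 2 := (Nat.pow_le_pow_iff_right one_lt_two).mp (hA.trans
    ((Nat.mul_le_mul_left 2 hle).trans_eq (by ring)))
  by_contra hcon
  have hkk : k = m + 2 := by omega
  rw [hkk] at hA
  have hW : Nat.card W = 2 ^ (m + 1) := le_antisymm hle (by
    rw [pow_succ' _ (m + 1)] at hA; omega)
  have hzero : ∑ v ∈ Finset.univ.filter (fun v => v ∉ W), T v = 0 := by
    rw [hW] at htot; push_cast at htot; linarith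
  have hT0 : ∀ v, v ∉ W → T v = 0 := fun v hv =>
    (Finset.sum_eq_zero_iff_of_nonneg (fun v _ => by rcases hT v with h | h <;> simp [h])).mp hzero v (by simp [hv])
  let S : ℤ := ∑ v : V m, sg (coc ε v v)
  have hS : (Nat.card W : ℤ) * S = (Nat.card W : ℤ) * ∑ v : W, sg (coc ε (v : V m) v) := by
    have e1 : (Nat.card W : ℤ) * S = ∑ w : W, ∑ v : V m, sg (coc ε (v + (w : V m)) (v + (w : V m))) := by
      have e0 : ∀ w : W, ∑ v : V m, sg (coc ε (v + (w : V m)) (v + (w : V m))) = S := fun w =>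
        Equiv.sum_comp (Equiv.addRight (w : V m)) fun v => sg (coc ε v v)
      simp [e0]
    have e2 : ∀ (v : V m) (w : W), sg (coc ε (v + (w : V m)) (v + (w : V m))) = sg (coc ε v v) * sg (om ε v w) := fun v w => by
      rw [← sg_add]; congr 1
      simp only [coc_add_left, coc_add_right, om, hq w]
      ring
    have e3 : ∀ v : V m, ∑ w : W, sg (coc ε (v + (w : V m)) (v + (w : V m))) = sg (coc ε v v) * T v := fun v => by
      simp only [e2, T, Finset.mul_sum]
    rw [e1, Finset.sum_comm, Finset.sum_congr rfl fun v _ => e3 v,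
      ← Finset.sum_filter_add_sum_filter_not Finset.univ (fun v => v ∈ W),
      Finset.sum_eq_zero (s := Finset.univ.filter fun v => v ∉ W) (fun v hv => by
        rw [hT0 v (Finset.mem_filter.mp hv).2, mul_zero]), add_zero,
      Finset.sum_subtype (p := fun v => v ∈ W) (F := ‹Fintype W›) _ (by simp) (fun v => sg (coc ε v v) * T v), Finset.mul_sum]
    exact Finset.sum_congr rfl fun v _ => by rw [hTW v, mul_comm]
  have hpos : 0 < S := by
    have h2 : S = ∑ v : W, sg (coc ε (v : V m) v) :=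
      mul_left_cancel₀ (by rw [hW]; positivity) hS
    rw [h2, Finset.sum_congr rfl fun v _ => by rw [hq v]]
    simp [sg, Fintype.card_pos]
  let e : V m ≃ (Fin (m + 1) → ZMod 2 × ZMod 2) :=
    { toFun := fun v i => (v.1 i, v.2 i)
      invFun := fun f => (fun i => (f i).1, fun i => (f i).2)
      left_inv := fun _ => rfl
      right_inv := fun _ => rfl }
  let g : Fin (m + 1) → ZMod 2 × ZMod 2 → ℤ := fun i p =>
    if i = 0 then sg (p.1 * p.2 + (p.1 * p.1 + p.2 * p.2)) else sg (p.1 * p.2)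
  have hval : ∀ v : V m, sg (coc ε v v) = ∏ i, g i (e v i) := fun v => by
    subst h1
    simp only [coc, one_mul]
    rw [Fin.prod_univ_succ, Fin.sum_univ_succ]
    simp only [g, e, Equiv.coe_fn_mk, if_pos rfl, Fin.succ_ne_zero, if_false]
    rw [add_right_comm, sg_add]
    congr 1
    exact map_prod_sg _
  have hneg : S = (-2) * 2 ^ m := by
    show ∑ v, _ = _
    rw [Finset.sum_congr rfl fun v _ => hval v, Equiv.sum_comp e fun f => ∏ i, g i (f i), ← Fintype.prod_sum,
      Fin.prod_univ_succ]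
    have a1 : ∑ p, g 0 p = -2 := by simp only [g, if_pos rfl]; decide
    have a2 : ∀ i : Fin m, ∑ p, g i.succ p = 2 := fun i => by
      simp only [g, Fin.succ_ne_zero, if_false]; decide
    rw [a1, Finset.prod_congr rfl fun i _ => a2 i, Finset.prod_const, Finset.card_univ, Fintype.card_fin]
  nlinarith [pow_pos (two_pos : (0 : ℤ) < 2) m]


/-- For every n ≥ 1 there exist finite extraspecial 2-groups of order 2^(2n+1) whose 2-rank (the largest rank of an elementary abelian subgroup) is n, and ones whose 2-rank is n + 1 (so for each such order there are two non-isomorphic extraspecial 2-groups, told apart by their 2-rank). -/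
theorem result (n : ℕ) (hn : 1 ≤ n) : ∀ r ∈ ({n, n + 1} : Set ℕ), ∃ (E : Type) (_ : Group E) (_ : Finite E), Cfsg.IsExtraspecial 2 E ∧ Nat.card E = 2 ^ (2 * n + 1) ∧ sSup {k : ℕ | ∃ A : Subgroup E, Cfsg.IsElementaryAbelian 2 A ∧ Nat.card A = 2 ^ k} = r := by
  obtain ⟨m, rfl⟩ : ∃ m, n = m + 1 := ⟨n - 1, by omega⟩
  haveI : Fact (Nat.Prime 2) := ⟨Nat.prime_two⟩
  have main : ∀ ε : ZMod 2, ∀ r : ℕ, r = (if ε = 0 then m + 1 + 1 else m + 1) →
      ∃ (E : Type) (_ : Group E) (_ : Finite E), Cfsg.IsExtraspecial 2 E ∧ Nat.card E = 2 ^ (2 * (m + 1) + 1) ∧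
        sSup {k : ℕ | ∃ A : Subgroup E, Cfsg.IsElementaryAbelian 2 A ∧ Nat.card A = 2 ^ k} = r := by
    intro ε r hr
    refine ⟨↥(⊤ : Subgroup (Q2 m ε)), inferInstance, inferInstance, isExtra m ε, ?_, ?_⟩
    · rw [Subgroup.card_top, card_Q2]
    refine IsGreatest.csSup_eq ⟨?_, ?_⟩
    · obtain ⟨A, hA, hc⟩ := exists_big m ε
      refine ⟨A.subgroupOf ⊤, ⟨⟨⟨⟨fun x y => Subtype.ext (Subtype.ext ?_)⟩⟩, fun x hx => Subtype.ext (hA.2 _ hx)⟩, ?_⟩⟩
      · exact congrArg (fun t : A => (t : Q2 m ε)) (hA.1.1.1 ⟨_, x.2⟩ ⟨_, y.2⟩)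
      · rw [Nat.card_congr (Subgroup.subgroupOfEquivOfLe le_top).toEquiv, hc, hr]
    · rintro k ⟨A, hA, hc⟩
      have := upper m ε (A.map (⊤ : Subgroup (Q2 m ε)).subtype) (by
        rintro _ ⟨x, hx, rfl⟩
        exact congrArg Subtype.val (hA.2 x hx)) (by
        rintro _ ⟨x, hx, rfl⟩ _ ⟨y, hy, rfl⟩
        exact congrArg (fun t : A => ((t : (⊤ : Subgroup (Q2 m ε))) : Q2 m ε)) (hA.1.1.1 ⟨x, hx⟩ ⟨y, hy⟩))
      rw [Subgroup.card_map_of_injective (Subgroup.subtype_injective _), hc] at this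
      exact hr ▸ (Nat.pow_le_pow_iff_right one_lt_two).mp this
  intro r hr
  rcases hr with rfl | rfl
  · exact main 1 _ (by simp)
  · exact main 0 _ (by simp)

end Cfsg.Agent.S5396
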