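import Cfsg.Statements.S5401
import Cfsg.Agent.FiTypes.Four

set_option autoImplicit false
open Cfsg

namespace Cfsg.Agent.S5401

/-- Existence of the Fischer 3-transposition groups: there exist finite groups generated by a conjugacy class of 3-transpositions on which they act primitively that are of type M(22), of type M(23), and of type M(24) respectively. -/
theorem result : (∃ (X : Type) (_ : Group X) (_ : Finite X) (E : Set X), Cfsg.IsThreeTranspositionClass E ∧ Cfsg.IsPrimitiveUnderConj E ∧ Cfsg.IsOfTypeM22 X E) ∧ (∃ (X : Type) (_ : Group X) (_ : Finite X) (E : Set X), Cfsg.IsThreeTranspositionClass E ∧ Cfsg.IsPrimitiveUnderConj E ∧ Cfsg.IsOfTypeM23 X E) ∧ (∃ (X : Type) (_ : Group X) (_ : Finite X) (E : Set X), Cfsg.IsThreeTranspositionClass E ∧ Cfsg.IsPrimitiveUnderConj E ∧ Cfsg.IsOfTypeM24 X E) := by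
  open Cfsg.Lib in
  exact ⟨⟨Cfsg.Spor.Fi22, inferInstance, FiPres.finite_fi, FiPres.transp, FiPres.transp_class,
      FiTypes.two_primitive, FiTypes.two_type⟩,
    ⟨Cfsg.Spor.Fi23, inferInstance, Nat.finite_of_card_ne_zero (by rw [FiTwenty.faithful_all.1]; norm_num),
      FiTwenty.transp, FiTwenty.transp_class, FiTypes.three_primitive, FiTypes.three_type⟩,
    ⟨Cfsg.Spor.Fi24, inferInstance, FiFour.finite_group, FiFour.transp, FiFour.transp_class,
      FiFour.transp_prim, FiTypes.four_type⟩⟩

end Cfsg.Agent.S5401
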