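import Cfsg.Statements.S5411
import Cfsg.Agent.Leech.MonsterFusion
-- import your own Cfsg.Agent.* helpers here

set_option autoImplicit false
open Cfsg

namespace Cfsg.Agent.S5411

/-- Let G be a finite group of Monster type at the involution z with Q the extraspecial normal subgroup of order 2^25 of C = C_G(z) (so C/Q is identified with the first Conway group with Q modulo its centre the Leech lattice modulo 2, and z is not weakly closed in Q). Then C acts transitively by conjugation on the involutions of Q that are not conjugate to z in G. -/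
theorem result {G : Type*} [Group G] [Finite G] (z : G) (Q : Subgroup (Subgroup.centralizer ({z} : Set G))) [Q.Normal] (hM : Cfsg.IsOfMonsterType z Q) (s t : G) (hsQ : ∃ hsc : s ∈ Subgroup.centralizer ({z} : Set G), (⟨s, hsc⟩ : Subgroup.centralizer ({z} : Set G)) ∈ Q) (htQ : ∃ htc : t ∈ Subgroup.centralizer ({z} : Set G), (⟨t, htc⟩ : Subgroup.centralizer ({z} : Set G)) ∈ Q) (hs2 : orderOf s = 2) (ht2 : orderOf t = 2) (hs : ¬ IsConj z s) (ht : ¬ IsConj z t) : ∃ h ∈ Subgroup.centralizer ({z} : Set G), h * s * h⁻¹ = t := by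
  classical
  obtain ⟨hw, e, ψ, hψ⟩ := hM
  have hne : ∀ u : G, ¬ IsConj z u → u ≠ z := fun u hu h => hu (by rw [h])
  obtain ⟨a, has, -, ha1, v, hv, hvn⟩ := Cfsg.Lib.Leech.class_of_mem hw hψ hsQ hs2 (hne s hs)
  obtain ⟨b, hbt, -, hb1, w, hw', hwn⟩ := Cfsg.Lib.Leech.class_of_mem hw hψ htQ ht2 (hne t ht)
  by_cases h : Cfsg.sqNorm (v : GolayPt → ℤ) = Cfsg.sqNorm (w : GolayPt → ℤ)
  · exact Cfsg.Lib.Leech.conj_of_class hw hψ has hbt ha1 hv hw' h hvn
  exfalso
  obtain ⟨-, -, -, -, g, hgQ, hgz⟩ := id hw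
  have hg2 : orderOf (g * z * g⁻¹) = 2 := by
    rw [← MulAut.conj_apply, MulEquiv.orderOf_eq]; exact hw.1
  obtain ⟨c, hcg, -, hc1, u, hu, hun⟩ := Cfsg.Lib.Leech.class_of_mem hw hψ hgQ hg2 hgz
  have key : ∀ (y : G) (d : Q) (x : Cfsg.leechLattice), ((d : Subgroup.centralizer ({z} : Set G)) : G) = y →
      ψ x = QuotientGroup.mk d → Cfsg.sqNorm (u : GolayPt → ℤ) = Cfsg.sqNorm (x : GolayPt → ℤ) → IsConj z y := by
    intro y d x hd hx hn
    obtain ⟨k, -, hk⟩ := Cfsg.Lib.Leech.conj_of_class hw hψ hcg hd hc1 hu hx hn hun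
    exact isConj_iff.mpr ⟨k * g, by rw [← hk]; group⟩
  rcases (show Cfsg.sqNorm (u : GolayPt → ℤ) = Cfsg.sqNorm (v : GolayPt → ℤ) ∨
      Cfsg.sqNorm (u : GolayPt → ℤ) = Cfsg.sqNorm (w : GolayPt → ℤ) by omega) with h' | h'
  · exact hs (key s a v has hv h')
  · exact ht (key t b w hbt hw' h')

end Cfsg.Agent.S5411
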