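import Cfsg.Statements.S5414
import Cfsg.Agent.Leech.MonsterSection.Top
import Cfsg.Agent.Leech.MonsterSection.OkThree
import Cfsg.Agent.Leech.MonsterSection.Targets

set_option autoImplicit false
set_option maxRecDepth 100000
open Cfsg Cfsg.Lib.Leech Cfsg.Lib.Leech.MonsterSection

namespace Cfsg.Agent.S5414

/-- Let G be a finite group of Monster type at the involution z with Q the extraspecial normal subgroup of order 2^25 of C = C_G(z) (so C/Q is identified with the first Conway group with Q modulo its centre the Leech lattice modulo 2, and z is not weakly closed in Q). Let s be a conjugate of z in Q other than z and let Y be a subgroup of order 3 of the joint centralizer L of z and s that is not 3-central in L (Y lies in the centre of no Sylow 3-subgroup of L). Then the centralizer of Y modulo Y is a group of Thompson type (an involution whose centralizer D has generalized Fitting subgroup R extraspecial of order 2^9 with D/R the alternating group of degree 9, the involution not weakly closed in R). -/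
theorem result {G : Type*} [Group G] [Finite G] (z : G) (Q : Subgroup (Subgroup.centralizer ({z} : Set G))) [Q.Normal] (hM : Cfsg.IsOfMonsterType z Q) (s : G) (hsQ : ∃ hsc : s ∈ Subgroup.centralizer ({z} : Set G), (⟨s, hsc⟩ : Subgroup.centralizer ({z} : Set G)) ∈ Q) (hs : IsConj z s) (hs1 : s ≠ z) (Y : Subgroup G) (hY : Y ≤ Subgroup.centralizer ({z, s} : Set G)) (hY3 : Nat.card Y = 3) (hnc : ∀ P : Sylow 3 ↥(Subgroup.centralizer ({z, s} : Set G)), ¬ Y.subgroupOf (Subgroup.centralizer ({z, s} : Set G)) ≤ (Subgroup.center ↥(P : Subgroup ↥(Subgroup.centralizer ({z, s} : Set G)))).map (P : Subgroup ↥(Subgroup.centralizer ({z, s} : Set G))).subtype) [hn : (Y.subgroupOf (Subgroup.centralizer (Y : Set G))).Normal] : Cfsg.IsOfThompsonType (↥(Subgroup.centralizer (Y : Set G)) ⧸ Y.subgroupOf (Subgroup.centralizer (Y : Set G))) := by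
  obtain ⟨hw, e, ψ, hψ⟩ := hM
  have hnd : NondegOK threeD := by
    show ∀ c < 2 ^ threeD.m, c ≠ 0 → ∃ j < threeD.m,
      Cfsg.dotInt (threeD.vecZ c threeD.m) (threeD.vecZ (2 ^ j) threeD.m) / 8 % 2 = 1
    decide +kernel
  have hadm : ∀ b ∈ Y, b ≠ 1 → NotThreeCentral z s b := by
    intro b hbY hb1 P hP hP27 hbP
    by_contra! hc
    haveI : Fact (Nat.Prime 3) := ⟨Nat.prime_three⟩
    obtain ⟨hsc, hsm⟩ := hsQ
    set L := Subgroup.centralizer ({z, s} : Set G) with hL
    have hfac : (Nat.card ↥L).factorization 3 = 3 := by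
      rw [hL, card_pair hw hψ (a := ⟨⟨s, hsc⟩, hsm⟩) hs hs1 (r := 3) (by norm_num) (by decide),
        show (244823040 : ℕ) = 3 ^ 3 * 9067520 by norm_num, Nat.factorization_mul (by norm_num) (by norm_num),
        Finsupp.add_apply, (Nat.Prime.factorization_pow (by norm_num)), Finsupp.single_eq_same,
        Nat.factorization_eq_zero_of_not_dvd (by norm_num : ¬ 3 ∣ 9067520)]
    have hcL : Nat.card ↥(P.subgroupOf L) = 3 ^ (Nat.card ↥L).factorization 3 := by
      rw [Nat.card_congr (Subgroup.subgroupOfEquivOfLe hP).toEquiv, hP27, hfac]; norm_num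
    refine hnc (Sylow.ofCard _ hcL) fun y hy => ?_
    have hYb : Y = Subgroup.zpowers b := by
      refine (Subgroup.eq_of_le_of_card_ge (Subgroup.zpowers_le.mpr hbY) ?_).symm
      have h1 : orderOf b ∣ 3 := hY3 ▸ Subgroup.orderOf_dvd_natCard Y hbY
      rw [hY3, Nat.card_zpowers, ((Nat.dvd_prime Nat.prime_three).mp h1).resolve_left
        fun h => hb1 (orderOf_eq_one_iff.mp h)]
    have hy' : (y : G) ∈ Subgroup.zpowers b := hYb ▸ hy
    have hyP : (y : G) ∈ P := Subgroup.zpowers_le.mpr hbP hy'
    refine ⟨⟨y, hyP⟩, Subgroup.mem_center_iff.mpr fun p => Subtype.ext (Subtype.ext ?_), rfl⟩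
    obtain ⟨i, hi⟩ := Subgroup.mem_zpowers_iff.mp hy'
    show ((p : ↥L) : G) * (y : G) = (y : G) * ((p : ↥L) : G)
    rw [← hi]
    exact (Commute.zpow_right (hc _ p.2) i).eq
  obtain ⟨t, R, hR, h1, ⟨h2⟩, -⟩ := monster_section hw hψ threeCls threeAct hnd three_target.2 (w := 4) (by norm_num)
    (by decide +kernel) (NotThreeCentral z) notThreeCentral_trans
    (classHyp_three hw hψ threeCls threeAct rfl (by decide +kernel))
    hsQ hs hs1 hY hY3 hadm
  obtain ⟨f⟩ := three_target.1
  exact ⟨t, R, hR, h1, ⟨h2.trans f⟩⟩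

end Cfsg.Agent.S5414
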