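import Cfsg.Statements.S5415
import Cfsg.Agent.Leech.MonsterSection.TopCentral
import Cfsg.Agent.Leech.MonsterSection.BigTarget

set_option autoImplicit false
set_option maxRecDepth 100000
open Cfsg Cfsg.Lib.Leech Cfsg.Lib.Leech.MonsterSection

namespace Cfsg.Agent.S5415

/-- Let G be a finite group of Monster type at the involution z with Q the extraspecial normal subgroup of order 2^25 of C = C_G(z) (so C/Q is identified with the first Conway group with Q modulo its centre the Leech lattice modulo 2, and z is not weakly closed in Q). Let s be a conjugate of z in Q other than z and let Y be a subgroup of order 3 of the joint centralizer L of z and s that is 3-central in L (Y lies in the centre of some Sylow 3-subgroup of L). Then the centralizer of Y modulo Y is a group of large Fischer type (an involution whose centralizer D has generalized Fitting subgroup R extraspecial of order 2^13 and normal subgroups R ≤ N ≤ M with N/R of order 3, M/N the projective special unitary group of dimension 4 over the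 field with nine elements and M of index 2 in D; the involution not weakly closed in R). -/
theorem result {G : Type*} [Group G] [Finite G] (z : G) (Q : Subgroup (Subgroup.centralizer ({z} : Set G))) [Q.Normal] (hM : Cfsg.IsOfMonsterType z Q) (s : G) (hsQ : ∃ hsc : s ∈ Subgroup.centralizer ({z} : Set G), (⟨s, hsc⟩ : Subgroup.centralizer ({z} : Set G)) ∈ Q) (hs : IsConj z s) (hs1 : s ≠ z) (Y : Subgroup G) (hY : Y ≤ Subgroup.centralizer ({z, s} : Set G)) (hY3 : Nat.card Y = 3) (hc : ∃ P : Sylow 3 ↥(Subgroup.centralizer ({z, s} : Set G)), Y.subgroupOf (Subgroup.centralizer ({z, s} : Set G)) ≤ (Subgroup.center ↥(P : Subgroup ↥(Subgroup.centralizer ({z, s} : Set G)))).map (P : Subgroup ↥(Subgroup.centralizer ({z, s} : Set G))).subtype) [hn : (Y.subgroupOf (Subgroup.centralizer (Y : Set G))).Normal] : Cfsg.IsOfLargeFischerType (↥(Subgroup.centralizer (Y : Set G)) ⧸ Y.subgroupOf (Subgroup.centralizer (Y : Set G))) := by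
  obtain ⟨hw, e, ψ, hψ⟩ := hM
  have : Fact (Nat.Prime 3) := ⟨Nat.prime_three⟩
  obtain ⟨hsc, hsm⟩ := hsQ
  have hadm : ∀ b ∈ Y, b ≠ 1 → ThreeCentral z s b := by
    intro b hbY _
    set L := Subgroup.centralizer ({z, s} : Set G) with hL
    obtain ⟨P, hP⟩ := hc
    refine ⟨(P : Subgroup L).map L.subtype, Subgroup.map_subtype_le _, ?_, ?_, ?_⟩
    · rw [Subgroup.card_map_of_injective L.subtype_injective, P.card_eq_multiplicity, hL,
        card_pair hw hψ (a := ⟨⟨s, hsc⟩, hsm⟩) hs hs1 (r := 3) (by norm_num) (by decide),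
        show (244823040 : ℕ) = 3 ^ 3 * 9067520 by norm_num, Nat.factorization_mul (by norm_num) (by norm_num),
        Finsupp.add_apply, (Nat.Prime.factorization_pow (by norm_num)), Finsupp.single_eq_same,
        Nat.factorization_eq_zero_of_not_dvd (by norm_num : ¬ 3 ∣ 9067520)]
      norm_num
    · obtain ⟨w, -, hw'⟩ := hP (show (⟨b, hY hbY⟩ : L) ∈ Y.subgroupOf L from hbY)
      exact ⟨_, w.2, congrArg Subtype.val hw'⟩
    · rintro _ ⟨p, hp, rfl⟩
      obtain ⟨w, hwc, hw'⟩ := hP (show (⟨b, hY hbY⟩ : L) ∈ Y.subgroupOf L from hbY)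
      have h1 := congrArg (fun x : (P : Subgroup L) => ((x : L) : G)) (Subgroup.mem_center_iff.mp hwc ⟨p, hp⟩)
      have h2 : ((w : L) : G) = b := congrArg Subtype.val hw'
      simpa [h2] using h1
  have hx3 : orderOf (permPart ⟨bigD.x, x_mem_mono bigCls⟩ : Equiv.Perm GolayPt) = 3 := by
    refine orderOf_eq_prime ?_ fun h => ?_
    · rw [← Subgroup.coe_pow, ← map_pow,
        show (⟨bigD.x, x_mem_mono bigCls⟩ : monoGroup) ^ 3 = 1 from Subtype.ext (x_pow_r bigCls), map_one,
        Subgroup.coe_one]
    · obtain ⟨i, hi, hne⟩ := bigBOK.moved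
      rw [permPart_x bigCls] at h
      have h1 := congrArg Cfsg.Lib.Golay.pidx
        ((Cfsg.Lib.Golay.toP_ptAt (valid_sig bigCls) hi).symm.trans
          (Equiv.congr_fun h (Cfsg.Lib.Golay.ptAt i)))
      rw [Equiv.Perm.one_apply, show Cfsg.Lib.Golay.pidx (Cfsg.Lib.Golay.ptAt i) = i from
        Cfsg.Lib.Golay.pidx_ptAt ⟨i, hi⟩, show Cfsg.Lib.Golay.pidx (Cfsg.Lib.Golay.ptAt _) = _ from
        Cfsg.Lib.Golay.pidx_ptAt ⟨_, Cfsg.Lib.PermCert.valid_lt (valid_sig bigCls) hi⟩] at h1
      exact hne h1
  obtain ⟨t, R, hR, h1, ⟨h2⟩, -⟩ := monster_section_rep hw hψ bigCls bigRep bigNondeg bigP_no_two (w := 6)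
    (by norm_num) (by decide +kernel) (ThreeCentral z) threeCentral_trans
    (classHyp_central hw hψ bigCls rfl (by decide +kernel) hx3)
    ⟨hsc, hsm⟩ hs hs1 hY hY3 hadm
  obtain ⟨N, M, hN, hM', hsh⟩ := large_shape R h2
  exact ⟨t, R, hR, h1, N, M, hN, hM', hsh⟩

end Cfsg.Agent.S5415
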