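import Cfsg.Statements.S5416
import Cfsg.Agent.Leech.MonsterSection.Top
import Cfsg.Agent.Leech.MonsterSection.OkSeven
import Cfsg.Agent.Leech.MonsterSection.Targets

set_option autoImplicit false
set_option maxRecDepth 100000
open Cfsg Cfsg.Lib.Leech Cfsg.Lib.Leech.MonsterSection

namespace Cfsg.Agent.S5416

/-- Let G be a finite group of Monster type at the involution z with Q the extraspecial normal subgroup of order 2^25 of C = C_G(z) (so C/Q is identified with the first Conway group with Q modulo its centre the Leech lattice modulo 2, and z is not weakly closed in Q). Let s be a conjugate of z in Q other than z and let B be a Sylow 7-subgroup of the joint centralizer of z and s. Then the centralizer of B modulo B is a group of Held type (an involution whose centralizer D has generalized Fitting subgroup R extraspecial of order 2^7 with D/R isomorphic to SL(3, 2), exactly 29 of its conjugates lying in R, and the involution not weakly closed in R). -/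
theorem result {G : Type*} [Group G] [Finite G] (z : G) (Q : Subgroup (Subgroup.centralizer ({z} : Set G))) [Q.Normal] (hM : Cfsg.IsOfMonsterType z Q) (s : G) (hsQ : ∃ hsc : s ∈ Subgroup.centralizer ({z} : Set G), (⟨s, hsc⟩ : Subgroup.centralizer ({z} : Set G)) ∈ Q) (hs : IsConj z s) (hs1 : s ≠ z) (B : Subgroup G) (hB : B ≤ Subgroup.centralizer ({z, s} : Set G)) (hBp : Nat.card B = 7 ^ (Nat.card ↥(Subgroup.centralizer ({z, s} : Set G))).factorization 7) [hn : (B.subgroupOf (Subgroup.centralizer (B : Set G))).Normal] : Cfsg.IsOfHeldType (↥(Subgroup.centralizer (B : Set G)) ⧸ B.subgroupOf (Subgroup.centralizer (B : Set G))) := by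
  obtain ⟨hw, e, ψ, hψ⟩ := hM
  have hnd : NondegOK sevenD := by
    show ∀ c < 2 ^ sevenD.m, c ≠ 0 → ∃ j < sevenD.m,
      Cfsg.dotInt (sevenD.vecZ c sevenD.m) (sevenD.vecZ (2 ^ j) sevenD.m) / 8 % 2 = 1
    decide +kernel
  have hcard : Nat.card B = sevenD.r := by
    rw [hBp]
    obtain ⟨hsc, hsm⟩ := hsQ
    rw [card_pair hw hψ (a := ⟨⟨s, hsc⟩, hsm⟩) hs hs1 (r := 7) (by norm_num) (by decide),
      show (244823040 : ℕ) = 7 ^ 1 * 34974720 by norm_num, Nat.factorization_mul (by norm_num) (by norm_num),
      Finsupp.add_apply, (Nat.Prime.factorization_pow (by norm_num)), Finsupp.single_eq_same,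
      Nat.factorization_eq_zero_of_not_dvd (by norm_num : ¬ 7 ∣ 34974720)]
    rfl
  obtain ⟨t, R, hR, h1, ⟨h2⟩, h3⟩ := monster_section hw hψ sevenCls sevenAct hnd seven_target.2 (w := 3) (by norm_num)
    (by decide +kernel) (fun _ _ => True) (fun _ _ _ _ _ _ => trivial)
    (classHyp_sylow hw hψ sevenCls sevenAct (by show 7 ∣ 244823040 ∧ ¬ 7 ^ 2 ∣ 244823040; norm_num))
    hsQ hs hs1 hB hcard (fun _ _ _ => trivial)
  obtain ⟨f⟩ := seven_target.1
  exact ⟨t, R, hR, h1, ⟨h2.trans f⟩, (h3 fun _ _ => trivial).trans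
    (show 1 + 2 * sevenD.n64 = 29 by decide +kernel)⟩

end Cfsg.Agent.S5416
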