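import Cfsg.Statements.S5418
import Cfsg.Agent.Leech.MonsterSection.SevenInv

set_option autoImplicit false
set_option maxRecDepth 100000
open Cfsg Cfsg.Lib.Leech Cfsg.Lib.Leech.MonsterSection
-- import your own Cfsg.Agent.* helpers here

set_option autoImplicit false
open Cfsg

namespace Cfsg.Agent.S5418

/-- Let G be a finite group of Monster type at the involution z with Q the extraspecial normal subgroup of order 2^25 of C = C_G(z) (so C/Q is identified with the first Conway group with Q modulo its centre the Leech lattice modulo 2, and z is not weakly closed in Q). Let s be a conjugate of z in Q other than z and let B be a Sylow 7-subgroup of the joint centralizer of z and s. Then the centralizer of B has index 6 in the normalizer of B; and some involution inverting B induces, by conjugation, a non-inner automorphism of the layer of the centralizer of B. -/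
theorem result {G : Type*} [Group G] [Finite G] (z : G) (Q : Subgroup (Subgroup.centralizer ({z} : Set G))) [Q.Normal] (hM : Cfsg.IsOfMonsterType z Q) (s : G) (hsQ : ∃ hsc : s ∈ Subgroup.centralizer ({z} : Set G), (⟨s, hsc⟩ : Subgroup.centralizer ({z} : Set G)) ∈ Q) (hs : IsConj z s) (hs1 : s ≠ z) (B : Subgroup G) (hB : B ≤ Subgroup.centralizer ({z, s} : Set G)) (hBp : Nat.card B = 7 ^ (Nat.card ↥(Subgroup.centralizer ({z, s} : Set G))).factorization 7) : (Subgroup.centralizer (B : Set G)).relIndex (Subgroup.normalizer (B : Set G)) = 6 ∧ ∃ t : G, orderOf t = 2 ∧ (∀ b ∈ B, t * b * t⁻¹ = b⁻¹) ∧ (∀ x ∈ (Cfsg.layer ↥(Subgroup.centralizer (B : Set G))).map (Subgroup.centralizer (B : Set G)).subtype, t * x * t⁻¹ ∈ (Cfsg.layer ↥(Subgroup.centralizer (B : Set G))).map (Subgroup.centralizer (B : Set G)).subtype) ∧ ¬ ∃ l ∈ (Cfsg.layer ↥(Subgroup.centralizer (B : Set G))).map (Subgroup.centralizer (B : Set G)).subtype, ∀ x ∈ (Cfsg.layer ↥(Subgroup.centralizer (B : Set G))).map (Subgroup.centralizer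 (B : Set G)).subtype, t * x * t⁻¹ = l * x * l⁻¹ := by
  classical
  obtain ⟨hw, e, ψ, hψ⟩ := hM
  haveI : Fact (Nat.Prime 7) := ⟨by norm_num⟩
  obtain ⟨hsc, hsm⟩ := hsQ
  set a : Q := ⟨⟨s, hsc⟩, hsm⟩ with ha
  have hcard : Nat.card B = 7 := by
    rw [hBp, card_pair hw hψ (a := a) hs hs1 (r := 7) (by norm_num) (by decide),
      show (244823040 : ℕ) = 7 ^ 1 * 34974720 by norm_num, Nat.factorization_mul (by norm_num) (by norm_num),
      Finsupp.add_apply, (Nat.Prime.factorization_pow (by norm_num)), Finsupp.single_eq_same,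
      Nat.factorization_eq_zero_of_not_dvd (by norm_num : ¬ 7 ∣ 34974720)]
    rfl
  haveI : Nontrivial B := Finite.one_lt_card_iff_nontrivial.mp (by rw [hcard]; norm_num)
  obtain ⟨⟨x0, hx0⟩, hx1⟩ := exists_ne (1 : B)
  have hox : orderOf x0 = 7 :=
    ((Nat.dvd_prime (by norm_num : Nat.Prime 7)).mp (hcard ▸ Subgroup.orderOf_dvd_natCard B hx0)).resolve_left
      fun h => hx1 (Subtype.ext (orderOf_eq_one_iff.mp h))
  obtain ⟨hxc, hxa⟩ := mem_pair (a := a) (hB hx0)
  obtain ⟨i, hi, k, -, himg⟩ := classHyp_sylow hw hψ sevenCls sevenAct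
    (by show 7 ∣ 244823040 ∧ ¬ 7 ^ 2 ∣ 244823040; norm_num) a hs hs1 ⟨⟨x0, hxc⟩, hxa⟩
    (by rw [← Subgroup.orderOf_coe, ← Subgroup.orderOf_coe]; exact hox) trivial
  set b : Subgroup.centralizer ({z} : Set G) := ((⟨⟨x0, hxc⟩, hxa⟩ : CQa a) ^ i).1 with hb'
  have hb : orderOf b = 7 := by rw [hb', Subgroup.orderOf_coe]; exact hi
  have hbB : (b : G) ∈ B := by
    rw [show (b : G) = x0 ^ i by simp [hb']]
    exact Subgroup.zpow_mem _ hx0 _
  have hBb : B = Subgroup.zpowers (b : G) := (Subgroup.eq_of_le_of_card_ge (Subgroup.zpowers_le.mpr hbB) (by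
    rw [Nat.card_zpowers, Subgroup.orderOf_coe, hb, hcard])).symm
  subst hBb
  set B := Subgroup.zpowers (b : G) with hB
  have hnorm : ∀ (g : G) (m : ℤ), g * (b : G) * g⁻¹ = (b : G) ^ m → g ∈ Subgroup.normalizer (B : Set G) := by
    intro g m hg
    have hm : B.map (MulAut.conj g).toMonoidHom = B := by
      refine Subgroup.eq_of_le_of_card_ge ?_ (by rw [Subgroup.card_map_of_injective (MulAut.conj g).injective])
      rintro _ ⟨y, hy, rfl⟩
      obtain ⟨j, rfl⟩ := Subgroup.mem_zpowers_iff.mp hy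
      show g * (b : G) ^ j * g⁻¹ ∈ B
      rw [← conj_zpow, hg]
      exact Subgroup.zpow_mem _ (Subgroup.zpow_mem _ (Subgroup.mem_zpowers _) _) _
    refine Subgroup.mem_normalizer_iff.mpr fun y => ⟨fun hy => hm.le ⟨y, hy, rfl⟩, fun hy => ?_⟩
    obtain ⟨y', hy', e'⟩ := hm.ge hy
    rwa [← show y' = y from (MulAut.conj g).injective e']
  obtain ⟨u, hu, hu1, hub, hout⟩ := seven_layer hw hψ hb himg
  obtain ⟨v, hvb⟩ := exists_squaring hw hψ hb himg
  have hubG : (u : G) * (b : G) * (u : G)⁻¹ = (b : G)⁻¹ := congrArg Subtype.val hub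
  have hvbG : (v : G) * (b : G) * (v : G)⁻¹ = (b : G) ^ 2 := congrArg Subtype.val hvb
  have huN := hnorm _ (-1) (by rw [zpow_neg_one]; exact hubG)
  have hvN := hnorm _ 2 (by rw [hvbG, ← zpow_natCast]; rfl)
  refine ⟨?_, (u : G), ?_, fun y hy => ?_, ?_, hout⟩
  · haveI : IsCyclic B := isCyclic_of_prime_card (p := 7) hcard
    set φ := Subgroup.normalizerMonoidHom B with hφ
    rw [Subgroup.relIndex, ← Subgroup.normalizerMonoidHom_ker B, Subgroup.index_ker]
    have hle : Nat.card φ.range ∣ 6 := by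
      have h := Subgroup.card_subgroup_dvd_card φ.range
      rwa [IsCyclic.card_mulAut, hcard, Nat.totient_prime (by norm_num)] at h
    set w : Subgroup.normalizer (B : Set G) := ⟨(v : G), hvN⟩ * ⟨(u : G), huN⟩ with hw'
    set bB : B := ⟨(b : G), Subgroup.mem_zpowers _⟩
    have hwb : ∀ n : ℕ, ((φ w ^ n) bB : G) = (b : G) ^ ((-2 : ℤ) ^ n) := by
      intro n
      induction n with
      | zero => simp [bB]
      | succ n ih =>
        rw [pow_succ']
        show (w : G) * ((φ w ^ n) bB : G) * (w : G)⁻¹ = _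
        rw [ih, ← conj_zpow, show (w : G) * (b : G) * (w : G)⁻¹ = (b : G) ^ (-2 : ℤ) by
          calc (w : G) * (b : G) * (w : G)⁻¹ = (v : G) * ((u : G) * (b : G) * (u : G)⁻¹) * (v : G)⁻¹ := by
                simp [hw']; group
            _ = _ := by rw [hubG, ← conj_inv, hvbG]; group, ← zpow_mul, pow_succ']
    have hne : ∀ n : ℕ, 0 < n → n < 6 → φ w ^ n ≠ 1 := fun n h0 h6 h => by
      have h1 := hwb n
      rw [h, MulAut.one_apply] at h1
      have h2 : (b : G) ^ ((-2 : ℤ) ^ n - 1) = 1 := by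
        rw [zpow_sub_one, ← h1]
        simp [bB]
      rw [← orderOf_dvd_iff_zpow_eq_one, Subgroup.orderOf_coe, hb] at h2
      revert h2
      interval_cases n <;> decide
    have hd : orderOf (φ w) ∣ Nat.card φ.range := Subgroup.orderOf_dvd_natCard _ ⟨w, rfl⟩
    have hpos := orderOf_pos (φ w)
    have h6 : orderOf (φ w) = 6 := by
      have hle' : orderOf (φ w) ≤ 6 := Nat.le_of_dvd (by norm_num) (hd.trans hle)
      by_contra h
      exact hne _ hpos (by omega) (pow_orderOf_eq_one _)
    exact Nat.dvd_antisymm hle (h6 ▸ hd)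
  · refine orderOf_eq_prime (by rw [pow_two]; exact congrArg Subtype.val hu) fun h => hu1 (Subtype.ext h)
  · obtain ⟨j, rfl⟩ := Subgroup.mem_zpowers_iff.mp hy
    rw [← conj_zpow, hubG, inv_zpow]
  · intro x hx
    have huC : (u : G) ∈ Subgroup.normalizer (Subgroup.centralizer (B : Set G) : Set G) := by
      have hh : ∀ g : G, g * (b : G) * g⁻¹ = (b : G)⁻¹ → ∀ c, c ∈ Subgroup.centralizer (B : Set G) →
          g * c * g⁻¹ ∈ Subgroup.centralizer (B : Set G) := by
        intro g hg c hc
        refine (mem_centB hB).mpr ?_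
        have hcb : Commute c (b : G)⁻¹ := (show Commute c (b : G) from (mem_centB hB).mp hc).inv_right
        have hb2 : (b : G) = g * (b : G)⁻¹ * g⁻¹ := by rw [← conj_inv, hg, inv_inv]
        calc g * c * g⁻¹ * (b : G) = g * c * g⁻¹ * (g * (b : G)⁻¹ * g⁻¹) := by rw [← hb2]
          _ = g * (c * (b : G)⁻¹) * g⁻¹ := by group
          _ = g * ((b : G)⁻¹ * c) * g⁻¹ := by rw [hcb.eq]
          _ = g * (b : G)⁻¹ * g⁻¹ * (g * c * g⁻¹) := by group
          _ = (b : G) * (g * c * g⁻¹) := by rw [← hb2]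
      refine Subgroup.mem_normalizer_iff.mpr fun c => ⟨fun hc => hh _ hubG c hc, fun hc => ?_⟩
      have hui : (u : G)⁻¹ = (u : G) := inv_eq_of_mul_eq_one_left (congrArg Subtype.val hu)
      have h := hh _ hubG _ hc
      convert h using 1
      rw [hui]
      calc c = ((u : G) * (u : G)) * c * ((u : G) * (u : G)) := by
            rw [show (u : G) * (u : G) = 1 from congrArg Subtype.val hu, one_mul, mul_one]
        _ = _ := by group
    obtain ⟨x', hx', rfl⟩ := hx
    exact ⟨Subgroup.normalizerMonoidHom (Subgroup.centralizer (B : Set G)) ⟨(u : G), huC⟩ x',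
      (Cfsg.Lib.Components.layer_map_equiv
        (Subgroup.normalizerMonoidHom (Subgroup.centralizer (B : Set G)) ⟨(u : G), huC⟩)).le ⟨x', hx', rfl⟩, rfl⟩

end Cfsg.Agent.S5418
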