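import Cfsg.Agent.Components.Cores
import Mathlib
import Cfsg.Statements.S5420
-- import your own Cfsg.Agent.* helpers here

set_option autoImplicit false
open Cfsg

namespace Cfsg.Agent.S5420

/-- Let Q be an extraspecial 2-subgroup of the finite group G whose centralizer in G is its centre Z and which is normal in the centralizer of Z. If Z lies in the largest normal 2-subgroup of G, then Q is a large extraspecial 2-subgroup of G: it normalizes no non-trivial subgroup of G of odd order. -/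
theorem result {G : Type*} [Group G] [Finite G] (Q : Subgroup G) (hL1 : Cfsg.IsExtraspecial 2 ↥Q) (hL2 : Subgroup.centralizer (Q : Set G) = ((Subgroup.center ↥Q).map Q.subtype)) (hL3 : Subgroup.centralizer (((Subgroup.center ↥Q).map Q.subtype) : Set G) ≤ Subgroup.normalizer (Q : Set G)) (hZ : ((Subgroup.center ↥Q).map Q.subtype) ≤ Cfsg.pCore 2 G) : Cfsg.IsLargeExtraspecial Q := by
  refine ⟨hL1, hL2, hL3, fun K hK hQK => ?_⟩
  set Z := (Subgroup.center Q).map Q.subtype with hZdef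
  haveI : (Cfsg.pCore 2 G).Normal := Cfsg.Lib.Components.pCore_normal' 2
  have hP : IsPGroup 2 (Cfsg.pCore 2 G) := Cfsg.Lib.Components.isPGroup_pCore 2
  have hmeet : ∀ S : Subgroup G, IsPGroup 2 S → ∀ g, g ∈ K → g ∈ S → g = 1 := by
    intro S hS g hgK hgS
    obtain ⟨n, hn⟩ := hS ⟨g, hgS⟩
    have hn' : g ^ 2 ^ n = 1 := congrArg Subtype.val hn
    have h1 : orderOf g ∣ 2 ^ n := orderOf_dvd_of_pow_eq_one hn'
    have h2 : orderOf g ∣ Nat.card K := Subgroup.orderOf_dvd_natCard K hgK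
    have hcop : Nat.Coprime (2 ^ n) (Nat.card K) := Nat.Coprime.pow_left _ (Nat.coprime_two_left.mpr hK)
    exact orderOf_eq_one_iff.mp (Nat.eq_one_of_dvd_coprimes hcop h1 h2)
  have hQ : IsPGroup 2 Q := hL1.1.1
  have hcomm : ∀ k ∈ K, ∀ q ∈ Q, k * q * k⁻¹ * q⁻¹ ∈ K := fun k hk q hq => by
    rw [show k * q * k⁻¹ * q⁻¹ = k * (q * k⁻¹ * q⁻¹) by group]
    exact mul_mem hk ((Subgroup.mem_normalizer_iff.mp (hQK hq) _).mp (inv_mem hk))
  have hKN : K ≤ Subgroup.normalizer (Q : Set G) := fun k hk => hL3 (Subgroup.mem_centralizer_iff.mpr fun z hz => by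
    obtain ⟨z', hz', rfl⟩ := hz
    have h1 := hcomm k hk _ z'.2
    have h2 : k * (z' : G) * k⁻¹ * (z' : G)⁻¹ ∈ Cfsg.pCore 2 G := mul_mem
      ((inferInstance : (Cfsg.pCore 2 G).Normal).conj_mem _ (hZ ⟨z', hz', rfl⟩) k) (inv_mem (hZ ⟨z', hz', rfl⟩))
    exact ((mul_inv_eq_iff_eq_mul.mp (mul_inv_eq_one.mp (hmeet _ hP _ h1 h2)))).symm)
  refine (Subgroup.eq_bot_iff_forall _).mpr fun k hk => ?_
  have hkC : k ∈ Subgroup.centralizer (Q : Set G) := Subgroup.mem_centralizer_iff.mpr fun q hq => by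
    have h2 : k * q * k⁻¹ * q⁻¹ ∈ Q := mul_mem ((Subgroup.mem_normalizer_iff.mp (hKN hk) q).mp hq) (inv_mem hq)
    exact ((mul_inv_eq_iff_eq_mul.mp (mul_inv_eq_one.mp (hmeet _ hQ _ (hcomm k hk q hq) h2)))).symm
  rw [hL2] at hkC
  exact hmeet _ hQ k hk (Subgroup.map_subtype_le _ hkC)

end Cfsg.Agent.S5420
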