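import Cfsg.Statements.S5422
import Cfsg.Agent.LargeExtra.Symmetry
import Cfsg.Agent.LargeExtra.FourGroup

set_option autoImplicit false
set_option linter.style.haveILetI false
open Cfsg

namespace Cfsg.Agent.S5422

/-- Let Q be an extraspecial 2-subgroup of the finite group G whose centralizer in G is its centre Z and which is normal in the centralizer of Z; suppose Q has width at least 2 (order 2^(2w+1) with w ≥ 2) and g is an element of G not normalizing Z with g Z g⁻¹ inside Q. Then Z lies inside g Q g⁻¹; writing V for the subgroup generated by Z and g Z g⁻¹ (a four-group), the normalizer of V induces on V its full automorphism group, that is, the centralizer of V has index 6 in the normalizer of V; and Q is a large extraspecial 2-subgroup of G. -/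
theorem result {G : Type*} [Group G] [Finite G] (Q : Subgroup G) (hL1 : Cfsg.IsExtraspecial 2 ↥Q) (hL2 : Subgroup.centralizer (Q : Set G) = ((Subgroup.center ↥Q).map Q.subtype)) (hL3 : Subgroup.centralizer (((Subgroup.center ↥Q).map Q.subtype) : Set G) ≤ Subgroup.normalizer (Q : Set G)) (w : ℕ) (hw : 2 ≤ w) (hcard : Nat.card ↥Q = 2 ^ (2 * w + 1)) (g : G) (hg : g ∉ Subgroup.normalizer (((Subgroup.center ↥Q).map Q.subtype) : Set G)) (hZg : (((Subgroup.center ↥Q).map Q.subtype)).map (MulAut.conj g).toMonoidHom ≤ Q) : ((Subgroup.center ↥Q).map Q.subtype) ≤ (Q).map (MulAut.conj g).toMonoidHom ∧ (Subgroup.centralizer ((((Subgroup.center ↥Q).map Q.subtype) ⊔ (((Subgroup.center ↥Q).map Q.subtype)).map (MulAut.conj g).toMonoidHom : Subgroup G) : Set G)).relIndex (Subgroup.normalizer ((((Subgroup.center ↥Q).map Q.subtype) ⊔ (((Subgroup.center ↥Q).map Q.subtype)).map (MulAut.conj g).toMonoidHom : Subgroup G) : Set G)) = 6 ∧ Cfsg.IsLargeExtraspecial Q := by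
  obtain ⟨z, hx, hc⟩ := Cfsg.Lib.LargeExtra.exists_x2 hL1
  simp only [hc] at hL2 hL3 hg hZg ⊢
  rw [Cfsg.Lib.Coprime.centralizer_zpowers] at hL3
  have hC : Subgroup.centralizer (Q : Set G) ≤ Q := hL2.le.trans (Subgroup.zpowers_le.mpr hx.mem)
  set z' := g * z * g⁻¹ with hz'
  have hmapz : (Subgroup.zpowers z).map (MulAut.conj g).toMonoidHom = Subgroup.zpowers z' := by
    rw [MonoidHom.map_zpowers]; rfl
  have hz'Q : z' ∈ Q := hZg (Subgroup.mem_map_of_mem _ (Subgroup.mem_zpowers z))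
  have hne : z' ≠ z := fun e => hg (by
    refine Subgroup.mem_normalizer_iff.mpr fun x => ?_
    have hcom : Commute g z := mul_inv_eq_iff_eq_mul.mp e
    simp only [SetLike.mem_coe, Cfsg.Lib.LargeExtra.mem_zpowers_two hx.zz]
    refine ⟨?_, fun h => ?_⟩
    · rintro (rfl | rfl)
      · simp
      · exact Or.inr e
    · rcases h with h | h
      · exact Or.inl (conj_eq_one_iff.mp h)
      · exact Or.inr ((MulAut.conj g).injective (h.trans e.symm)))
  have hcard8 : 8 < Nat.card Q := by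
    rw [hcard]
    calc 8 < 2 ^ 5 := by norm_num
      _ ≤ _ := Nat.pow_le_pow_right (by norm_num) (by omega)
  have hsym := Cfsg.Lib.LargeExtra.mem_conj_of_mem hx hC hL3 hcard8 hz'Q hne
  have hz'1 : z' ≠ 1 := fun e => hx.ne (conj_eq_one_iff.mp e)
  have hz'z : z' ∉ Subgroup.zpowers z := fun hm => by
    rcases (Cfsg.Lib.LargeExtra.mem_zpowers_two hx.zz).mp hm with e | e
    · exact hz'1 e
    · exact hne e
  have hz'zz : z' * z' = 1 := by
    rw [hz', show g * z * g⁻¹ * (g * z * g⁻¹) = g * (z * z) * g⁻¹ by group, hx.zz, mul_one, mul_inv_cancel]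
  have hzmem : z ∈ Q.map (MulAut.conj g).toMonoidHom := by
    rw [Subgroup.mem_map_equiv, MulAut.conj_symm_apply]; exact hsym
  refine ⟨Subgroup.zpowers_le.mpr hzmem, ?_, hL1, by rw [hc]; exact hL2,
    by rw [hc, Cfsg.Lib.Coprime.centralizer_zpowers]; exact hL3, fun K hK hQK => ?_⟩
  · rw [hmapz, Subgroup.zpowers_eq_closure, Subgroup.zpowers_eq_closure, ← Subgroup.closure_union,
      ← Set.insert_eq]
    obtain ⟨q, hq, hqz⟩ := hx.exists_swap hz'Q hz'z
    obtain ⟨q₀, hq₀, hqz₀⟩ := hx.exists_swap hsym (fun hm => by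
      rcases (Cfsg.Lib.LargeExtra.mem_zpowers_two hx.zz).mp hm with e | e
      · exact hx.ne (conj_eq_one_iff.mp (show g⁻¹ * z * g⁻¹⁻¹ = 1 by rwa [inv_inv]))
      · exact hne (by rw [hz']; nth_rewrite 1 [← e]; group))
    refine Cfsg.Lib.LargeExtra.relIndex_six (q := q) (q' := g * q₀ * g⁻¹) hx.zz hz'zz hx.ne hz'1 hne
      (hx.central z' hz'Q).symm ?_ hqz ?_ ?_
    · rw [(hx.central q hq).eq, mul_inv_cancel_right]
    · calc g * q₀ * g⁻¹ * (g * z * g⁻¹) * (g * q₀ * g⁻¹)⁻¹ = g * (q₀ * z * q₀⁻¹) * g⁻¹ := by group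
        _ = _ := by rw [(hx.central q₀ hq₀).eq, mul_inv_cancel_right]
    · calc g * q₀ * g⁻¹ * z * (g * q₀ * g⁻¹)⁻¹ = g * (q₀ * (g⁻¹ * z * g) * q₀⁻¹) * g⁻¹ := by group
        _ = _ := by rw [hqz₀, hz']; group
  · refine Cfsg.Lib.LargeExtra.large_of_two_subgroup hx hC hL3 hz'Q hz'z hz'zz (hx.isP.map _) hzmem ?_ hK hQK
    intro c hc'
    have hn := hL3 (Cfsg.Lib.LargeExtra.mem_centralizer_conj.mp hc')
    refine Subgroup.mem_normalizer_iff.mpr fun y => ?_
    rw [Subgroup.mem_map_equiv, Subgroup.mem_map_equiv, MulAut.conj_symm_apply, MulAut.conj_symm_apply,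
      Subgroup.mem_normalizer_iff.mp hn (g⁻¹ * y * g)]
    congr! 1
    group

end Cfsg.Agent.S5422
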