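import Cfsg.Statements.S5425
import Cfsg.Agent.Golay.OctInv
import Cfsg.Agent.SolvStruct.AltEight.Main

set_option autoImplicit false
open Cfsg

namespace Cfsg.Agent.S5425

open Cfsg.Lib.Golay Cfsg.Lib.PermCert MulAction
open scoped Pointwise commutatorElement


/-- In the Mathieu group of degree 24 (the automorphism group of the length-24 binary Golay code, acting on the 24 coordinates), let z be an involution whose fixed points form an octad (the support of a code word of weight 8), and let Q be the largest normal 2-subgroup of the centralizer C of z. Then Q is extraspecial of order 2^7 with an elementary abelian subgroup of order 16 (plus type), Q is a large extraspecial 2-subgroup, and C is the split extension of Q by the special linear group of degree 3 over the field with two elements. -/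
theorem result (z : ↥Cfsg.M24) (hz : orderOf z = 2) (hfix : (Finset.univ.filter fun p : Cfsg.GolayPt => (z : Equiv.Perm Cfsg.GolayPt) p = p) ∈ Cfsg.octads) (Q : Subgroup ↥Cfsg.M24) (hQ : Q = (Cfsg.pCore 2 ↥(Subgroup.centralizer ({z} : Set ↥Cfsg.M24))).map (Subgroup.centralizer ({z} : Set ↥Cfsg.M24)).subtype) : Cfsg.IsExtraspecial 2 ↥Q ∧ Nat.card ↥Q = 2 ^ 7 ∧ (∃ E : Subgroup ↥Cfsg.M24, E ≤ Q ∧ Cfsg.IsElementaryAbelian 2 E ∧ Nat.card ↥E = 2 ^ 4) ∧ Cfsg.IsLargeExtraspecial Q ∧ ∃ K : Subgroup ↥Cfsg.M24, K ≤ Subgroup.centralizer ({z} : Set ↥Cfsg.M24) ∧ Q ⊓ K = ⊥ ∧ Q ⊔ K = Subgroup.centralizer ({z} : Set ↥Cfsg.M24) ∧ Nonempty (↥K ≃* Matrix.SpecialLinearGroup (Fin 3) (ZMod 2)) := by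
  haveI : Fact (Nat.Prime 2) := ⟨Nat.prime_two⟩
  have hzo : orderOf (z : Equiv.Perm Cfsg.GolayPt) = 2 := by rw [Subgroup.orderOf_coe]; exact hz
  obtain ⟨g, hg, hzg⟩ : ∃ g ∈ Cfsg.M24, (z : Equiv.Perm Cfsg.GolayPt) = g * toP invA.1 * g⁻¹ := by
    obtain ⟨g, hg, ⟨h, -⟩ | ⟨-, h0⟩⟩ := involution_classes z.2 hzo
    · exact ⟨g, hg, h⟩
    · exfalso
      have h8 := hfix.2
      have e : (Finset.univ.filter fun p : Cfsg.GolayPt => (z : Equiv.Perm Cfsg.GolayPt) p = p).card = 0 := by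
        rw [Finset.card_eq_zero, Finset.filter_eq_empty_iff]
        exact fun p _ => fixCard_eq_zero.mp h0 p
      omega
  set g' : Cfsg.M24 := ⟨g, hg⟩ with hgdef
  set φ : Cfsg.M24 →* Equiv.Perm Cfsg.GolayPt := Cfsg.M24.subtype.comp (MulAut.conj g'⁻¹).toMonoidHom with hφdef
  have hφ : Function.Injective φ := (Subgroup.subtype_injective _).comp (MulAut.conj g'⁻¹).injective
  have hφz : φ z = toP invA.1 := by
    show g⁻¹ * (z : Equiv.Perm Cfsg.GolayPt) * g⁻¹⁻¹ = _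
    rw [hzg]; group
  have hφm : ∀ n, φ n ∈ Cfsg.M24 := fun n => ((MulAut.conj g'⁻¹) n).2
  have hpre : ∀ d, d ∈ Cfsg.M24 → ∃ d', φ d' = d := fun d hd =>
    ⟨⟨g * d * g⁻¹, mul_mem (mul_mem hg hd) (inv_mem hg)⟩, by
      show g⁻¹ * (g * d * g⁻¹) * g⁻¹⁻¹ = d
      group⟩
  have hA : cgInvA.grp ≤ Cfsg.M24 := grp_cgM24 ▸ grp_le_of_gensIn cgM24_ok cgInvA_ok oct_gensIn.2.2.2
  have hQle : cgOctQ.grp ≤ cgInvA.grp := grp_le_of_gensIn cgInvA_ok cgOctQ_ok oct_gensIn.1
  have hKle : cgOctK.grp ≤ cgInvA.grp := grp_le_of_gensIn cgInvA_ok cgOctK_ok oct_gensIn.2.1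
  have hEle : cgOctE.grp ≤ cgOctQ.grp := grp_le_of_gensIn cgOctQ_ok cgOctE_ok oct_gensIn.2.2.1
  have hcard : ∀ H : Subgroup (Equiv.Perm Cfsg.GolayPt), H ≤ Cfsg.M24 → Nat.card (H.comap φ) = Nat.card H := by
    intro H hH
    rw [Nat.card_congr (Subgroup.equivMapOfInjective _ φ hφ).toEquiv, Subgroup.map_comap_eq_self]
    exact fun d hd => hpre d (hH hd)
  have hC : Subgroup.centralizer ({z} : Set Cfsg.M24) = cgInvA.grp.comap φ := by
    ext n
    rw [Subgroup.mem_centralizer_singleton_iff, Subgroup.mem_comap, ← centralizer_invA, ← hφz, ← map_mul, ← map_mul,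
      hφ.eq_iff]
    exact ⟨fun h => ⟨hφm n, h⟩, And.right⟩
  set Q0 : Subgroup Cfsg.M24 := cgOctQ.grp.comap φ with hQ0
  set K0 : Subgroup Cfsg.M24 := cgOctK.grp.comap φ with hK0
  have hQ7 : Nat.card Q0 = 2 ^ 7 := by
    rw [hcard _ (hQle.trans hA), CG.card_grp cgOctQ_ok, oct_sizes.1]; rfl
  obtain ⟨v0, v1, v2, v3, v4, v5, p6, p7, s8, s9, s10, s11, s12, s13⟩ := oct_elements
  obtain ⟨r1, r2, r3, r4, r5, r6, r7, r8⟩ := oct_relations
  have mQ := fun {x : PP} (hx : valid 24 x = true) (hs : sift 24 cgOctQ.chain [x] = true) =>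
    hpre (toP x) (hA (hQle (mem_of_sift cgOctQ_ok hx hs)))
  obtain ⟨a, ha⟩ := mQ (valid_of_fvalid v1) s9
  obtain ⟨u, hu⟩ := mQ (valid_of_fvalid v3) s11
  obtain ⟨n1, hn1⟩ := mQ (valid_of_fvalid v4) s12
  obtain ⟨n2, hn2⟩ := mQ (valid_of_fvalid v5) s13
  obtain ⟨k, hk⟩ := hpre (toP octKWit.1) (hA (hKle (mem_of_sift cgOctK_ok (valid_of_fvalid v2) s10)))
  obtain ⟨gA, hgA⟩ := hpre _ (toP_mem_M24 p6)
  obtain ⟨gB, hgB⟩ := hpre _ (toP_mem_M24 p7)
  have hKsimple : IsSimpleGroup K0 := by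
    haveI : IsSimpleGroup cgOctK.grp := isSimple_onPts grpOctK_simple
    have e : K0.map φ = cgOctK.grp := Subgroup.map_comap_eq_self fun d hd => hpre d (hA (hKle hd))
    exact ((Subgroup.equivMapOfInjective K0 φ hφ).trans (MulEquiv.subgroupCongr e)).isSimpleGroup
  have hK168 : Nat.card K0 = 168 := by rw [hcard _ (hKle.trans hA), CG.card_grp cgOctK_ok, oct_sizes.2.2.1]
  have data : Cfsg.Lib.LargeExtra.SplitData z Q0 K0 := by
    refine ⟨⟨?_, ?_, ?_, IsPGroup.of_card hQ7, ?_, ?_, ?_, ?_⟩, ?_, by rw [hQ7]; norm_num,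
      hC ▸ Subgroup.comap_mono hKle, ?_, hKsimple, ?_, ?_, ?_, ?_⟩
    · show φ z ∈ cgOctQ.grp
      rw [hφz]; exact mem_of_sift cgOctQ_ok (valid_of_fvalid v0) s8
    · intro e; exact r2 (by rw [← hφz, e, map_one])
    · exact hφ (by rw [map_mul, map_one, hφz, r1])
    · intro q hq
      exact hφ (by rw [map_mul, map_mul, hφz]; exact (octQ_facts.1 _ hq).1.eq)
    · intro x hx y hy
      rcases octQ_facts.2.1 _ hx _ hy with e | e <;> rw [← map_commutatorElement] at e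
      · exact Or.inl (hφ (e.trans (map_one φ).symm))
      · exact Or.inr (hφ (e.trans hφz.symm))
    · intro x hx
      rcases (octQ_facts.1 _ hx).2 with e | e <;> rw [← map_mul] at e
      · exact Or.inl (hφ (e.trans (map_one φ).symm))
      · exact Or.inr (hφ (e.trans hφz.symm))
    · intro c hc hall
      rcases octQ_facts.2.2.1 _ hc (fun b hb => by
        obtain ⟨b', rfl⟩ := hpre b (hA (hQle hb))
        exact (hall b' hb).map φ) with e | e
      · exact Or.inl (hφ (e.trans (map_one φ).symm))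
      · exact Or.inr (hφ (e.trans hφz.symm))
    · refine ⟨n1, ?_, n2, ?_, fun h => r8 ?_⟩
      · rw [hQ0, Subgroup.mem_comap, hn1]; exact mem_of_sift cgOctQ_ok (valid_of_fvalid v4) s12
      · rw [hQ0, Subgroup.mem_comap, hn2]; exact mem_of_sift cgOctQ_ok (valid_of_fvalid v5) s13
      · rw [← hn1, ← hn2]; exact (h.map φ).eq
    · intro n hn
      rw [hC, Subgroup.mem_comap] at hn
      refine Subgroup.mem_normalizer_iff.mpr fun y => ?_
      rw [hQ0, Subgroup.mem_comap, Subgroup.mem_comap, map_mul, map_mul, map_inv]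
      exact Subgroup.mem_normalizer_iff.mp (cgInvA_le_normalizer hn) (φ y)
    · intro h
      obtain ⟨m, hm⟩ := h.exists_card_eq
      rw [hK168] at hm
      have : 3 ∣ 2 ^ m := hm ▸ (by norm_num)
      have := Nat.prime_three.dvd_of_dvd_pow this
      omega
    · rw [hQ7, hK168, hC, hcard _ hA, CG.card_grp cgInvA_ok, oct_sizes.2.2.2]; norm_num
    · refine ⟨k, ?_, u, ?_, fun h => r6 ?_, fun h => r7 ?_⟩
      · rw [hK0, Subgroup.mem_comap, hk]; exact mem_of_sift cgOctK_ok (valid_of_fvalid v2) s10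
      · rw [hQ0, Subgroup.mem_comap, hu]; exact mem_of_sift cgOctQ_ok (valid_of_fvalid v3) s11
      · rw [← hk, ← hu, ← map_mul, ← map_mul, mul_inv_eq_iff_eq_mul.mp h]
      · rw [← hk, ← hu, ← hφz, ← map_mul, ← map_mul, ← map_mul, mul_inv_eq_iff_eq_mul.mp h]
    · refine ⟨a, gA, gB, ?_, fun h => r3 (by rw [← ha, h, hφz]), hφ ?_, hφ ?_⟩
      · rw [hQ0, Subgroup.mem_comap, ha]; exact mem_of_sift cgOctQ_ok (valid_of_fvalid v1) s9
      · rw [map_mul, map_mul, map_inv, hgA, hφz, ha, mul_inv_eq_iff_eq_mul, r4]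
      · rw [map_mul, map_mul, map_inv, map_mul, hgB, hφz, ha, mul_inv_eq_iff_eq_mul, r5]
  have hQQ : Q = Q0 := hQ.trans data.pCore_eq
  subst hQQ
  refine ⟨data.isExtraspecial, hQ7, ⟨cgOctE.grp.comap φ, Subgroup.comap_mono hEle, ⟨?_, ?_⟩, ?_⟩, data.isLarge,
    K0, data.leK, data.inf_eq_bot, data.sup_eq, ?_⟩
  · refine ⟨⟨fun x y => Subtype.ext (hφ ?_)⟩⟩
    have hx := x.2
    have hy := y.2
    rw [Subgroup.mem_comap] at hx hy
    simp only [Subgroup.coe_mul, map_mul]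
    have sq := octQ_facts.2.2.2
    have i1 : ∀ w ∈ cgOctE.grp, w⁻¹ = w := fun w hw => inv_eq_of_mul_eq_one_right (sq w hw)
    calc φ x * φ y = (φ x * φ y)⁻¹ := (i1 _ (mul_mem hx hy)).symm
      _ = (φ y)⁻¹ * (φ x)⁻¹ := by group
      _ = φ y * φ x := by rw [i1 _ hx, i1 _ hy]
  · intro x hx
    exact hφ (by rw [map_pow, map_one, pow_two]; exact octQ_facts.2.2.2 _ hx)
  · rw [hcard _ (hEle.trans (hQle.trans hA)), CG.card_grp cgOctE_ok, oct_sizes.2.1]; rfl
  · haveI := hKsimple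
    obtain ⟨e⟩ := Cfsg.Lib.SolvStruct.AltEight.equiv_gl_three hK168
    obtain ⟨e'⟩ := Cfsg.Lib.SolvStruct.AltEight.gl_equiv_psl 3
    have hbot : Subgroup.center (Matrix.SpecialLinearGroup (Fin 3) (ZMod 2)) = ⊥ := by
      rw [← Subgroup.card_eq_one, Cfsg.Lib.Classical.card_center_SL, Nat.card_zmod]
      simp
    exact ⟨(e.trans e').trans ((QuotientGroup.quotientMulEquivOfEq hbot).trans QuotientGroup.quotientBot)⟩

end Cfsg.Agent.S5425
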