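import Cfsg.Agent.Elementary.UniqueFixedCoset
import Mathlib
import Cfsg.Statements.S5437
-- import your own Cfsg.Agent.* helpers here

set_option autoImplicit false
open Cfsg

namespace Cfsg.Agent.S5437

/-- Let I be a set of involutions of the finite group G closed under conjugation, and H a subgroup of G. The following are equivalent: (1) for every member x of I lying in H, the conjugates of x lying in H form a single H-class and the centralizer of x lies in H; (2) for every g outside H, no member of I lies in both H and g H g⁻¹; (3) every member of I lying in H fixes exactly one coset in the action of G on the cosets of H. -/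
theorem result {G : Type*} [Group G] [Finite G] (I : Set G) (hI : ∀ x ∈ I, orderOf x = 2) (hIc : ∀ g : G, ∀ x ∈ I, g * x * g⁻¹ ∈ I) (H : Subgroup G) : ((∀ x ∈ I, x ∈ H → (∀ g : G, g * x * g⁻¹ ∈ H → ∃ h ∈ H, h * x * h⁻¹ = g * x * g⁻¹) ∧ Subgroup.centralizer ({x} : Set G) ≤ H) ↔ (∀ g : G, g ∉ H → ∀ x ∈ I, ¬ (x ∈ H ∧ x ∈ (H : Subgroup G).map (MulAut.conj g).toMonoidHom))) ∧ ((∀ g : G, g ∉ H → ∀ x ∈ I, ¬ (x ∈ H ∧ x ∈ (H : Subgroup G).map (MulAut.conj g).toMonoidHom)) ↔ ∀ x ∈ I, x ∈ H → ∃! c : G ⧸ H, x • c = c) := by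
  have hmap : ∀ g x : G, x ∈ H.map (MulAut.conj g).toMonoidHom ↔ g⁻¹ * x * g ∈ H := fun g x => by
    rw [Subgroup.mem_map_equiv]
    simp [MulAut.conj_symm_apply]
  refine ⟨⟨fun h g hg x hx ⟨hxH, hxg⟩ => ?_, fun h x hx hxH => ⟨fun g hg => ⟨g, ?_, rfl⟩, fun g hg => ?_⟩⟩,
    ⟨fun h x hx hxH => ?_, fun h g hg x hx ⟨hxH, hxg⟩ => ?_⟩⟩
  · obtain ⟨hfus, hcen⟩ := h x hx hxH
    obtain ⟨k, hk, hke⟩ := hfus g⁻¹ (by simpa using (hmap g x).mp hxg)
    rw [inv_inv] at hke
    have hmem : g * k ∈ H := hcen (Subgroup.mem_centralizer_singleton_iff.mpr (by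
      calc g * k * x = g * (k * x * k⁻¹) * k := by group
        _ = g * (g⁻¹ * x * g) * k := by rw [hke]
        _ = x * (g * k) := by group))
    exact hg ((Subgroup.mul_mem_cancel_right H hk).mp hmem)
  · by_contra hgH
    exact h g⁻¹ (fun h' => hgH (inv_mem_iff.mp h')) x hx ⟨hxH, (hmap _ _).mpr (by simpa using hg)⟩
  · rw [Subgroup.mem_centralizer_singleton_iff] at hg
    by_contra hgH
    exact h g hgH x hx ⟨hxH, (hmap _ _).mpr (by rw [mul_assoc, ← hg, inv_mul_cancel_left]; exact hxH)⟩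
  · refine ⟨QuotientGroup.mk 1, Cfsg.Lib.UniqueFixedCoset.fixed_iff.mpr (by simpa using hxH), fun c hc => ?_⟩
    induction c using QuotientGroup.induction_on with
    | _ g =>
      rw [Cfsg.Lib.UniqueFixedCoset.fixed_iff] at hc
      rw [QuotientGroup.eq, mul_one, inv_mem_iff]
      by_contra hgH
      exact h g hgH x hx ⟨hxH, (hmap _ _).mpr hc⟩
  · have h1 : x • (QuotientGroup.mk g : G ⧸ H) = QuotientGroup.mk g :=
      Cfsg.Lib.UniqueFixedCoset.fixed_iff.mpr ((hmap _ _).mp hxg)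
    have h2 : x • (QuotientGroup.mk 1 : G ⧸ H) = QuotientGroup.mk 1 :=
      Cfsg.Lib.UniqueFixedCoset.fixed_iff.mpr (by simpa using hxH)
    have := (h x hx hxH).unique h1 h2
    rw [QuotientGroup.eq, mul_one, inv_mem_iff] at this
    exact hg this

end Cfsg.Agent.S5437
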