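import Cfsg.Agent.Elementary.UniqueFixedCoset
import Mathlib
import Cfsg.Statements.S5439
-- import your own Cfsg.Agent.* helpers here

set_option autoImplicit false
open Cfsg

namespace Cfsg.Agent.S5439

/-- Let I and J be two different conjugacy classes of involutions of the finite group G and H a subgroup such that every member of I ∪ J fixes exactly one coset in the action on the cosets of H, and such that for every a in I ∩ H and every b in (I ∪ J) ∩ H different from a and commuting with it, the centralizer of a b lies in H. Then H = G. -/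
theorem result {G : Type*} [Group G] [Finite G] (I J : Set G) (a₀ b₀ : G) (ha₀ : orderOf a₀ = 2) (hb₀ : orderOf b₀ = 2) (hI : I = {x | IsConj a₀ x}) (hJ : J = {x | IsConj b₀ x}) (hIJ : I ≠ J) (H : Subgroup G) (hfix : ∀ x ∈ I ∪ J, ∃! c : G ⧸ H, x • c = c) (hcent : ∀ a ∈ I, a ∈ H → ∀ b ∈ I ∪ J, b ∈ H → a ≠ b → a * b = b * a → Subgroup.centralizer ({a * b} : Set G) ≤ H) : H = ⊤ := by
  subst hI hJ
  have hord : ∀ u v : G, IsConj u v → orderOf u = orderOf v := fun u v h => by
    obtain ⟨c, rfl⟩ := isConj_iff.mp h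
    exact ((MulAut.conj c).orderOf_eq u).symm
  obtain ⟨d, hd, -⟩ := hfix a₀ (Or.inl (IsConj.refl _))
  induction d using QuotientGroup.induction_on with
  | _ g =>
  rw [Cfsg.Lib.UniqueFixedCoset.fixed_iff] at hd
  set a := g⁻¹ * a₀ * g with hadef
  have haI : IsConj a₀ a := isConj_iff.mpr ⟨g⁻¹, by simp [hadef]⟩
  have ha2 : orderOf a = 2 := (hord _ _ haI).symm.trans ha₀
  have hJH : ∀ b, IsConj b₀ b → b ∈ H := by
    intro b hb
    have hb2 : orderOf b = 2 := (hord _ _ hb).symm.trans hb₀
    have hab : ¬ IsConj a b := fun h => hIJ (Set.ext fun x => ⟨fun hx => hb.trans ((haI.trans h).symm.trans hx),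
      fun hx => (haI.trans h).trans (hb.symm.trans hx)⟩)
    obtain ⟨c, hc2, -, hcb, hca, hac⟩ := Cfsg.Lib.UniqueFixedCoset.exists_dihedral_centre ha2 hb2 hab
    have hCa := Cfsg.Lib.UniqueFixedCoset.centralizer_le hd (hfix a (Or.inl haI))
    have hcH : c ∈ H := hCa (Subgroup.mem_centralizer_singleton_iff.mpr hca.eq)
    by_cases hca' : c = a
    · exact hCa (Subgroup.mem_centralizer_singleton_iff.mpr (by rw [← hca']; exact hcb.eq.symm))
    by_cases hcb' : c = b
    · exact hcb' ▸ hcH
    have hmem : a * c ∈ {x | IsConj a₀ x} ∪ {x | IsConj b₀ x} := (hac hca' hcb').imp haI.trans hb.trans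
    have hne : a ≠ a * c := fun e => by
      have : c = 1 := by simpa using e.symm
      rw [this, orderOf_one] at hc2; exact absurd hc2 (by norm_num)
    have hacH : a * c ∈ H := mul_mem hd hcH
    have hcomm : a * (a * c) = a * c * a := by rw [mul_assoc a c a, hca.eq]
    have hle := hcent a haI hd (a * c) hmem hacH hne hcomm
    refine hle (Subgroup.mem_centralizer_singleton_iff.mpr ?_)
    rw [← mul_assoc a a c, ← sq, ← ha2, pow_orderOf_eq_one, one_mul]
    exact hcb.eq.symm
  refine (Subgroup.eq_top_iff' H).mpr fun w => ?_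
  have hu := hfix b₀ (Or.inr (IsConj.refl _))
  have hfixall : ∀ w : G, b₀ • (QuotientGroup.mk w : G ⧸ H) = QuotientGroup.mk w := fun w =>
    Cfsg.Lib.UniqueFixedCoset.fixed_iff.mpr (hJH _ (isConj_iff.mpr ⟨w⁻¹, by simp⟩))
  have := hu.unique (hfixall w) (hfixall 1)
  rw [QuotientGroup.eq, mul_one, inv_mem_iff] at this
  exact this

end Cfsg.Agent.S5439
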