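import Cfsg.Statements.S5441
import Cfsg.Agent.LargeFischer.Setting

set_option autoImplicit false
open Cfsg

namespace Cfsg.Agent.S5441

/-- Let G be a finite group of large Fischer type at the involution z: the generalized Fitting subgroup Q of H = C_G(z) is extraspecial of order 2^13, H has normal subgroups Q ≤ H₁ ≤ H₂ with H₁/Q of order 3, H₂/H₁ the projective special unitary group of dimension 4 over the field with nine elements and H₂ of index 2 in H, and some conjugate of z other than z lies in Q. Then the conjugates of z lying in Q and different from z form a single orbit under conjugation by H. -/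
theorem result {G : Type*} [Group G] [Finite G] (z : G) (Q : Subgroup (Subgroup.centralizer ({z} : Set G))) [Q.Normal] (hF : Cfsg.IsOfLargeFischerTypeAt z Q) (s t : G) (hsQ : ∃ hsc : s ∈ Subgroup.centralizer ({z} : Set G), (⟨s, hsc⟩ : Subgroup.centralizer ({z} : Set G)) ∈ Q) (htQ : ∃ htc : t ∈ Subgroup.centralizer ({z} : Set G), (⟨t, htc⟩ : Subgroup.centralizer ({z} : Set G)) ∈ Q) (hs : IsConj z s) (ht : IsConj z t) (hs1 : s ≠ z) (ht1 : t ≠ z) : ∃ h ∈ Subgroup.centralizer ({z} : Set G), h * s * h⁻¹ = t := by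
  obtain ⟨a, b, -, -, -, -, -, -, -, hall, hna⟩ := Cfsg.Lib.LargeFischer.main hF
  obtain ⟨hsc, hsQ⟩ := hsQ
  obtain ⟨htc, htQ⟩ := htQ
  have key : ∀ (x : G) (hx : x ∈ Subgroup.centralizer ({z} : Set G)), (⟨x, hx⟩ : Subgroup.centralizer ({z} : Set G)) ∈ Q →
      IsConj z x → x ≠ z → ∃ h : Subgroup.centralizer ({z} : Set G), h * b * h⁻¹ = ⟨x, hx⟩ := by
    intro x hx hxQ hc hxz
    obtain ⟨g, hg⟩ := isConj_iff.mp hc
    have ho : orderOf (⟨x, hx⟩ : Subgroup.centralizer ({z} : Set G)) = 2 := by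
      have h : orderOf x = 2 := by
        rw [← hg, ← hF.1.1]
        exact orderOf_injective (MulAut.conj g).toMonoidHom (MulAut.conj g).injective z
      rw [← h, ← Subgroup.orderOf_coe]
    refine (hall _ hxQ ho hxz).resolve_left ?_
    rintro ⟨h, hh⟩
    have hh' : (h : G) * (a : G) * (h : G)⁻¹ = x := congrArg Subtype.val hh
    exact hna (hc.trans (isConj_iff.mpr ⟨(h : G), hh'⟩).symm)
  obtain ⟨u, hu⟩ := key s hsc hsQ hs hs1
  obtain ⟨v, hv⟩ := key t htc htQ ht ht1
  refine ⟨((v * u⁻¹ : Subgroup.centralizer ({z} : Set G)) : G), (v * u⁻¹).2, ?_⟩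
  have hu' : (u : G) * (b : G) * (u : G)⁻¹ = s := congrArg Subtype.val hu
  have hv' : (v : G) * (b : G) * (v : G)⁻¹ = t := congrArg Subtype.val hv
  rw [← hu', ← hv']
  push_cast
  group

end Cfsg.Agent.S5441
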