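import Cfsg.Statements.S5442
import Cfsg.Agent.LargeFischer.Intersections

set_option autoImplicit false
open Cfsg

namespace Cfsg.Agent.S5442

/-- Let G be a finite group of large Fischer type at the involution z: the generalized Fitting subgroup Q of H = C_G(z) is extraspecial of order 2^13, H has normal subgroups Q ≤ H₁ ≤ H₂ with H₁/Q of order 3, H₂/H₁ the projective special unitary group of dimension 4 over the field with nine elements and H₂ of index 2 in H, and some conjugate of z other than z lies in Q. Let s = g z g⁻¹ be a conjugate of z lying in Q and different from z. Then the intersection of Q and g Q g⁻¹ (as subgroups of G) is elementary abelian of order 2^7; and in H/Q, writing X for the image of the centralizer of s in H and E for the image of the intersection of g Q g⁻¹ with H, E is a normal subgroup of X, elementary abelian of order 32, with X/E isomorphic to the alternating group of degree 6. -/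
theorem result {G : Type*} [Group G] [Finite G] (z : G) (Q : Subgroup (Subgroup.centralizer ({z} : Set G))) [Q.Normal] (hF : Cfsg.IsOfLargeFischerTypeAt z Q) (s : G) (hsQ : ∃ hsc : s ∈ Subgroup.centralizer ({z} : Set G), (⟨s, hsc⟩ : Subgroup.centralizer ({z} : Set G)) ∈ Q) (hs : IsConj z s) (hs1 : s ≠ z) (g : G) (hg : g * z * g⁻¹ = s) (X E : Subgroup ((Subgroup.centralizer ({z} : Set G)) ⧸ Q)) (hX : X = ((Subgroup.centralizer ({z} : Set G) ⊓ Subgroup.centralizer ({s} : Set G)).subgroupOf (Subgroup.centralizer ({z} : Set G))).map (QuotientGroup.mk' Q)) (hE : E = ((((Q.map (Subgroup.centralizer ({z} : Set G)).subtype)).map (MulAut.conj g).toMonoidHom ⊓ Subgroup.centralizer ({z} : Set G)).subgroupOf (Subgroup.centralizer ({z} : Set G))).map (QuotientGroup.mk' Q)) : Cfsg.IsElementaryAbelian 2 ((Q.map (Subgroup.centralizer ({z} : Set G)).subtype) ⊓ ((Q.map (Subgroup.centralizer ({z} : Set G)).subtype)).map (MulAut.conj g).toMonoidHom) ∧ Nat.card ↥((Q.map (Subgroup.centralizer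 ({z} : Set G)).subtype) ⊓ ((Q.map (Subgroup.centralizer ({z} : Set G)).subtype)).map (MulAut.conj g).toMonoidHom) = 2 ^ 7 ∧ E ≤ X ∧ (∀ x ∈ X, ∀ y ∈ E, x * y * x⁻¹ ∈ E) ∧ Cfsg.IsElementaryAbelian 2 E ∧ Nat.card E = 32 ∧ ∃ _ : (E.subgroupOf X).Normal, Nonempty (↥X ⧸ E.subgroupOf X ≃* alternatingGroup (Fin 6)) := by
  obtain ⟨c⟩ := Cfsg.Lib.LargeFischer.exists_ctx hF
  obtain ⟨hsc, hsQ⟩ := hsQ
  let x : ↥Q := ⟨⟨s, hsc⟩, hsQ⟩
  obtain ⟨hsq, hint, hE32, hn, hiso⟩ := c.joint g x hg hs1
  have hgx : g * z * g⁻¹ = ((x : Subgroup.centralizer ({z} : Set G)) : G) := hg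
  have hX' : X = (Cfsg.Lib.LargeFischer.pairCent z s).map (QuotientGroup.mk' Q) := hX
  have hE' : E = (c.RC g).map (QuotientGroup.mk' Q) := hE
  subst hX' hE'
  have hmap : (Q.map (Subgroup.centralizer ({z} : Set G)).subtype) ⊓
      ((Q.map (Subgroup.centralizer ({z} : Set G)).subtype)).map (MulAut.conj g).toMonoidHom =
      (c.RC g ⊓ Q).map (Subgroup.centralizer ({z} : Set G)).subtype := by
    ext a
    constructor
    · rintro ⟨⟨b, hb, rfl⟩, h2⟩
      exact ⟨b, ⟨⟨h2, b.2⟩, hb⟩, rfl⟩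
    · rintro ⟨b, ⟨hb1, hb2⟩, rfl⟩
      exact ⟨⟨b, hb2, rfl⟩, hb1.1⟩
  have hcomm := (c.RC_inter hgx hs1).2
  refine ⟨⟨⟨⟨fun a b => ?_⟩⟩, ?_⟩, ?_, ?_, ?_, ⟨⟨⟨fun a b => ?_⟩⟩, ?_⟩, hE32, hn, hiso⟩
  · have ha := a.2
    have hb := b.2
    simp only [hmap] at ha hb
    obtain ⟨a', ha', ea⟩ := ha
    obtain ⟨b', hb', eb⟩ := hb
    refine Subtype.ext ?_
    show (a : G) * (b : G) = (b : G) * (a : G)
    rw [← ea, ← eb, ← map_mul, ← map_mul, hcomm a' ha' b' hb']
  · rintro a ha
    rw [hmap] at ha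
    obtain ⟨a', ha', rfl⟩ := ha
    rw [← map_pow, hsq a' ha', map_one]
  · rw [hmap, Subgroup.card_map_of_injective (Subgroup.subtype_injective _), hint]
  · exact Subgroup.map_mono fun r hr => (Cfsg.Lib.LargeFischer.mem_pairCent (z := z) (x := (x : Subgroup.centralizer ({z} : Set G)))).mpr (c.RC_fix hgx hr)
  · rintro _ ⟨h, hh, rfl⟩ _ ⟨r, hr, rfl⟩
    exact ⟨h * r * h⁻¹, c.RC_conj hgx ((Cfsg.Lib.LargeFischer.mem_pairCent (z := z) (x := (x : Subgroup.centralizer ({z} : Set G)))).mp hh) hr, by rw [map_mul, map_mul, map_inv]⟩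
  · obtain ⟨a', ha', ea⟩ := a.2
    obtain ⟨b', hb', eb⟩ := b.2
    refine Subtype.ext ?_
    show (a : (Subgroup.centralizer ({z} : Set G)) ⧸ Q) * b = b * a
    rw [← ea, ← eb, ← map_mul, ← map_mul]
    refine (QuotientGroup.eq.mpr ?_)
    have hX2 := hgx ▸ c.X2g.conj g
    rcases hX2.comm _ (c.mem_RC ((c.RC g).inv_mem hb')) _ (c.mem_RC ((c.RC g).inv_mem ha')) with e | e
    · rw [show (a' * b')⁻¹ * (b' * a') = 1 from Subtype.ext (by rw [Subgroup.coe_one, ← e, commutatorElement_def]; push_cast; group)]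
      exact one_mem _
    · rw [show (a' * b')⁻¹ * (b' * a') = (x : Subgroup.centralizer ({z} : Set G)) from
        Subtype.ext (by rw [← e, commutatorElement_def]; push_cast; group)]
      exact x.2
  · rintro _ ⟨r, hr, rfl⟩
    rw [← map_pow, QuotientGroup.mk'_apply, QuotientGroup.eq_one_iff]
    have hX2 := hgx ▸ c.X2g.conj g
    rcases hX2.sq _ (c.mem_RC hr) with e | e
    · rw [show r ^ 2 = 1 from Subtype.ext (((Subgroup.coe_pow _ r 2).trans (pow_two _)).trans e)]
      exact one_mem _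
    · rw [show r ^ 2 = (x : Subgroup.centralizer ({z} : Set G)) from Subtype.ext (((Subgroup.coe_pow _ r 2).trans (pow_two _)).trans e)]
      exact x.2

end Cfsg.Agent.S5442
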