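import Cfsg.Statements.S5444
import Cfsg.Agent.LargeFischer.MaxElementary

set_option autoImplicit false
open Cfsg

namespace Cfsg.Agent.S5444

/-- Let G be a finite group of large Fischer type at the involution z: the generalized Fitting subgroup Q of H = C_G(z) is extraspecial of order 2^13, H has normal subgroups Q ≤ H₁ ≤ H₂ with H₁/Q of order 3, H₂/H₁ the projective special unitary group of dimension 4 over the field with nine elements and H₂ of index 2 in H, and some conjugate of z other than z lies in Q. Let T be a Sylow 2-subgroup of H. Then T has exactly one elementary abelian subgroup A of largest order; A has order 2^11, it meets Q in a subgroup of order 2^7, and its image in H/Q has order 16. -/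
theorem result {G : Type*} [Group G] [Finite G] (z : G) (Q : Subgroup (Subgroup.centralizer ({z} : Set G))) [Q.Normal] (hF : Cfsg.IsOfLargeFischerTypeAt z Q) (T : Sylow 2 ↥(Subgroup.centralizer ({z} : Set G))) : ∃ A : Subgroup ↥(T : Subgroup (Subgroup.centralizer ({z} : Set G))), Cfsg.maxElementaryAbelianSubgroups 2 ↥(T : Subgroup (Subgroup.centralizer ({z} : Set G))) = {A} ∧ Nat.card A = 2 ^ 11 ∧ Nat.card ↥(A.map (T : Subgroup (Subgroup.centralizer ({z} : Set G))).subtype ⊓ Q) = 2 ^ 7 ∧ Nat.card ↥((A.map (T : Subgroup (Subgroup.centralizer ({z} : Set G))).subtype).map (QuotientGroup.mk' Q)) = 16 := by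
  obtain ⟨A0, hle, hA, hc, hcQ, hcm, huniq⟩ := Cfsg.Lib.LargeFischer.max_elementary hF T
  have hmap : (A0.subgroupOf (T : Subgroup (Subgroup.centralizer ({z} : Set G)))).map
      (T : Subgroup (Subgroup.centralizer ({z} : Set G))).subtype = A0 := by
    rw [Subgroup.subgroupOf_map_subtype, inf_of_le_left hle]
  have hcard : Nat.card ↥(A0.subgroupOf (T : Subgroup (Subgroup.centralizer ({z} : Set G)))) = 2 ^ 11 := by
    rw [Nat.card_congr (Subgroup.subgroupOfEquivOfLe hle).toEquiv, hc]
  have hel : Cfsg.IsElementaryAbelian 2 (A0.subgroupOf (T : Subgroup (Subgroup.centralizer ({z} : Set G)))) :=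
    ⟨⟨⟨fun a b => Subtype.ext (Subtype.ext
      (congrArg Subtype.val (hA.1.is_comm.comm ⟨_, a.2⟩ ⟨_, b.2⟩) :))⟩⟩, fun a ha => Subtype.ext (hA.2 _ ha)⟩
  have hup : ∀ B : Subgroup ↥(T : Subgroup (Subgroup.centralizer ({z} : Set G))), Cfsg.IsElementaryAbelian 2 B →
      Nat.card ↥B ≤ 2 ^ 11 ∧ (2 ^ 11 ≤ Nat.card ↥B → B = A0.subgroupOf (T : Subgroup (Subgroup.centralizer ({z} : Set G)))) := by
    intro B hB
    have hinj := (T : Subgroup (Subgroup.centralizer ({z} : Set G))).subtype_injective
    obtain ⟨h1, h2⟩ := huniq (B.map (T : Subgroup (Subgroup.centralizer ({z} : Set G))).subtype)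
      (Subgroup.map_subtype_le B) ⟨⟨⟨by
        rintro ⟨_, a, ha, rfl⟩ ⟨_, b, hb, rfl⟩
        refine Subtype.ext ?_
        show Subgroup.subtype _ a * Subgroup.subtype _ b = Subgroup.subtype _ b * Subgroup.subtype _ a
        have hab : a * b = b * a := congrArg Subtype.val (hB.1.is_comm.comm ⟨a, ha⟩ ⟨b, hb⟩)
        rw [← map_mul, ← map_mul, hab]⟩⟩, by
        rintro _ ⟨a, ha, rfl⟩
        rw [← map_pow, hB.2 a ha, map_one]⟩
    rw [Subgroup.card_map_of_injective hinj] at h1 h2
    refine ⟨h1, fun h => Subgroup.map_injective hinj ?_⟩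
    rw [h2 h, hmap]
  refine ⟨A0.subgroupOf (T : Subgroup (Subgroup.centralizer ({z} : Set G))), Set.ext fun B => ?_, hcard, ?_, ?_⟩
  · constructor
    · intro hB
      exact (hup B hB.1).2 (hcard ▸ hB.2 _ hel)
    · rintro rfl
      exact ⟨hel, fun B hB => hcard ▸ (hup B hB).1⟩
  · rw [hmap]; exact hcQ
  · rw [hmap]; exact hcm

end Cfsg.Agent.S5444
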