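import Cfsg.Statements.S5452
import Cfsg.Agent.ThreeTransposition.DoubleCover.Lift
import Cfsg.Agent.ThreeTransposition.UnitaryRadical.Standard

set_option autoImplicit false
open Cfsg

namespace Cfsg.Agent.S5452

/-- Let G be a finite group with an involution d whose centralizer C is quasisimple with C modulo the subgroup generated by d isomorphic to the projective special unitary group of dimension 6 over the field with four elements, and suppose some conjugate of d other than d commutes with d. Then every involution of C modulo the subgroup generated by d is the image of an involution of C, and d is not a square in G. -/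
theorem result {G : Type*} [Group G] [Finite G] (d : G) (hd : orderOf d = 2) (hq : Cfsg.IsQuasisimple ↥(Subgroup.centralizer ({d} : Set G))) [hzn : ((Subgroup.zpowers d).subgroupOf (Subgroup.centralizer ({d} : Set G))).Normal] (K : Type) [Field K] [Fintype K] (hK : Fintype.card K = 4) (e : ↥(Subgroup.centralizer ({d} : Set G)) ⧸ (Subgroup.zpowers d).subgroupOf (Subgroup.centralizer ({d} : Set G)) ≃* Cfsg.PSU 6 K 2) (hnwc : ∃ g : G, g * d * g⁻¹ ∈ Subgroup.centralizer ({d} : Set G) ∧ g * d * g⁻¹ ≠ d) : (∀ x : ↥(Subgroup.centralizer ({d} : Set G)) ⧸ (Subgroup.zpowers d).subgroupOf (Subgroup.centralizer ({d} : Set G)), orderOf x = 2 → ∃ y : ↥(Subgroup.centralizer ({d} : Set G)), orderOf y = 2 ∧ (QuotientGroup.mk y : ↥(Subgroup.centralizer ({d} : Set G)) ⧸ (Subgroup.zpowers d).subgroupOf (Subgroup.centralizer ({d} : Set G))) = x) ∧ ¬ ∃ g : G, g ^ 2 = d := by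
  open Cfsg.Lib.Classical Cfsg.Lib.ThreeTr Cfsg.Lib.DoubleCover in
  have hd2 : d * d = 1 := by rw [← pow_two, ← hd]; exact pow_orderOf_eq_one d
  have hF' : Fintype.card K = 2 ^ 2 := by rw [hK]; norm_num
  have hS : IsSixSpace (stdHerm 6 hF') := ⟨(Cfsg.Lib.TTUnitary.four_std hK 6 hF').two,
    (Cfsg.Lib.TTUnitary.four_std hK 6 hF').norm, Module.finrank_fin_fun K⟩
  set φ : (stdHerm 6 hF').SIsom →* _ := e.symm.toMonoidHom.comp
    ((QuotientGroup.mk' (Subgroup.center (Cfsg.SU 6 K 2))).comp (suEquiv 6 hF').toMonoidHom) with hφ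
  have hker : φ.ker ≤ Subgroup.center (stdHerm 6 hF').SIsom := fun t ht => by
    rw [hφ, MonoidHom.mem_ker, MonoidHom.comp_apply, MonoidHom.comp_apply] at ht
    simp only [MulEquiv.coe_toMonoidHom, map_eq_one_iff _ e.symm.injective, QuotientGroup.mk'_apply,
      QuotientGroup.eq_one_iff, Subgroup.mem_center_iff] at ht
    exact Subgroup.mem_center_iff.2 fun u => (suEquiv 6 hF').injective (by rw [map_mul, map_mul]; exact ht _)
  have hdm : d ∈ Subgroup.centralizer ({d} : Set G) := Subgroup.mem_centralizer_singleton_iff.2 rfl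
  have hD : IsDouble (QuotientGroup.mk' ((Subgroup.zpowers d).subgroupOf (Subgroup.centralizer ({d} : Set G))))
      ⟨d, hdm⟩ := by
    refine ⟨QuotientGroup.mk'_surjective _, Subtype.ext hd2,
      fun x => Subtype.ext (Subgroup.mem_centralizer_singleton_iff.1 x.2).symm, fun x hx => ?_⟩
    rw [QuotientGroup.mk'_apply, QuotientGroup.eq_one_iff, Subgroup.mem_subgroupOf] at hx
    obtain ⟨n, hn⟩ := Subgroup.mem_zpowers_iff.1 hx
    rcases Int.even_or_odd n with ⟨k, rfl⟩ | ⟨k, rfl⟩
    · rw [zpow_add, ← (Commute.refl d).mul_zpow, hd2, one_zpow] at hn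
      exact Or.inl (Subtype.ext hn.symm)
    · rw [zpow_add, two_mul, zpow_add, ← (Commute.refl d).mul_zpow, hd2, one_zpow, one_mul, zpow_one] at hn
      exact Or.inr (Subtype.ext hn.symm)
  have hlift : ∀ x : ↥(Subgroup.centralizer ({d} : Set G)),
      (QuotientGroup.mk x : ↥(Subgroup.centralizer ({d} : Set G)) ⧸
        (Subgroup.zpowers d).subgroupOf (Subgroup.centralizer ({d} : Set G))) ^ 2 = 1 → x * x = 1 := fun x hx =>
    involution_lift hS hD φ (e.symm.surjective.comp ((QuotientGroup.mk'_surjective _).comp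
      (suEquiv 6 hF').surjective)) hker (by rw [← pow_two]; exact hx) rfl
  haveI : Fact (Nat.Prime 2) := ⟨Nat.prime_two⟩
  refine ⟨fun q hq => ?_, ?_⟩
  · obtain ⟨x, rfl⟩ := QuotientGroup.mk_surjective q
    refine ⟨x, orderOf_eq_prime (by rw [pow_two]; exact hlift x (by rw [← hq]; exact pow_orderOf_eq_one _)) ?_, rfl⟩
    rintro rfl
    rw [QuotientGroup.mk_one, orderOf_one] at hq
    omega
  · rintro ⟨g, hg⟩
    have hgC : g ∈ Subgroup.centralizer ({d} : Set G) :=
      Subgroup.mem_centralizer_singleton_iff.2 (by rw [← hg, ← pow_succ, ← pow_succ'])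
    have h1 := congrArg Subtype.val (hlift ⟨g, hgC⟩ (by
      rw [← QuotientGroup.mk_pow, QuotientGroup.eq_one_iff, Subgroup.mem_subgroupOf]
      exact hg ▸ Subgroup.mem_zpowers _))
    have h2 : g ^ 2 = 1 := by rw [pow_two]; exact h1
    rw [hg] at h2
    rw [h2, orderOf_one] at hd
    omega


end Cfsg.Agent.S5452
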