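import Cfsg.Statements.S5453
import Cfsg.Agent.ThreeTransposition.DoubleCover.LiftM22
import Cfsg.Agent.Components.Quasisimple

set_option autoImplicit false
open Cfsg

namespace Cfsg.Agent.S5453

/-- Let G be a finite group with an involution d whose centralizer C is quasisimple, such that C modulo the subgroup generated by d is of type M(22) with respect to some conjugacy class of 3-transpositions generating it and also has an involution whose own centralizer is quasisimple with quotient by it isomorphic to the projective special unitary group of dimension 6 over the field with four elements and which is not weakly closed in that centralizer; and suppose some conjugate of d other than d commutes with d. Then every involution of C modulo the subgroup generated by d is the image of an involution of C, and d is not a square in G. -/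
theorem result {G : Type*} [Group G] [Finite G] (d : G) (hd : orderOf d = 2) (hq : Cfsg.IsQuasisimple ↥(Subgroup.centralizer ({d} : Set G))) [hzn : ((Subgroup.zpowers d).subgroupOf (Subgroup.centralizer ({d} : Set G))).Normal] (htype : ∃ E : Set (↥(Subgroup.centralizer ({d} : Set G)) ⧸ (Subgroup.zpowers d).subgroupOf (Subgroup.centralizer ({d} : Set G))), Cfsg.IsThreeTranspositionClass E ∧ Cfsg.IsOfTypeM22 _ E) (hinvol : ∃ d' : ↥(Subgroup.centralizer ({d} : Set G)) ⧸ (Subgroup.zpowers d).subgroupOf (Subgroup.centralizer ({d} : Set G)), orderOf d' = 2 ∧ Cfsg.IsQuasisimple ↥(Subgroup.centralizer ({d'} : Set _)) ∧ (∃ (K : Type) (_ : Field K) (_ : Fintype K), Fintype.card K = 4 ∧ ∃ _ : ((Subgroup.zpowers d').subgroupOf (Subgroup.centralizer ({d'} : Set _))).Normal, Nonempty (↥(Subgroup.centralizer ({d'} : Set _)) ⧸ (Subgroup.zpowers d').subgroupOf (Subgroup.centralizer ({d'} : Set _)) ≃* Cfsg.PSU 6 K 2)) ∧ ∃ g, g * d' * g⁻¹ ∈ Subgroup.centralizer ({d'} : Set _) ∧ g * d' * g⁻¹ ≠ d') (hnwc : ∃ g : G, g * d * g⁻¹ ∈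 Subgroup.centralizer ({d} : Set G) ∧ g * d * g⁻¹ ≠ d) : (∀ x : ↥(Subgroup.centralizer ({d} : Set G)) ⧸ (Subgroup.zpowers d).subgroupOf (Subgroup.centralizer ({d} : Set G)), orderOf x = 2 → ∃ y : ↥(Subgroup.centralizer ({d} : Set G)), orderOf y = 2 ∧ (QuotientGroup.mk y : ↥(Subgroup.centralizer ({d} : Set G)) ⧸ (Subgroup.zpowers d).subgroupOf (Subgroup.centralizer ({d} : Set G))) = x) ∧ ¬ ∃ g : G, g ^ 2 = d := by
  open Cfsg.Lib.ThreeTr Cfsg.Lib.DoubleCover in
  obtain ⟨E, hE, ht⟩ := htype
  have hd2 : d * d = 1 := by rw [← pow_two, ← hd]; exact pow_orderOf_eq_one d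
  haveI : IsSimpleGroup (↥(Subgroup.centralizer ({d} : Set G)) ⧸
      (Subgroup.zpowers d).subgroupOf (Subgroup.centralizer ({d} : Set G))) := by
    obtain ⟨a, -, b, -, hab, -⟩ := ht.2
    haveI : Nontrivial (↥(Subgroup.centralizer ({d} : Set G)) ⧸
        (Subgroup.zpowers d).subgroupOf (Subgroup.centralizer ({d} : Set G))) :=
      ⟨a, b, fun e => hab (e ▸ Commute.refl a)⟩
    refine ⟨fun N hN => ?_⟩
    rcases Cfsg.Lib.Components.qs_subnormal_eq_top_or_le_center hq
      (H := N.comap (QuotientGroup.mk' _)) (hN.comap _).isSubnormal with e | e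
    · right
      rw [← Subgroup.map_comap_eq_self_of_surjective (QuotientGroup.mk'_surjective _) N, e,
        Subgroup.map_top_of_surjective _ (QuotientGroup.mk'_surjective _)]
    · left
      refine eq_bot_iff.2 fun q hqN => ?_
      obtain ⟨x, rfl⟩ := QuotientGroup.mk_surjective q
      rw [← ht.1]
      refine Subgroup.mem_center_iff.2 fun y => ?_
      obtain ⟨y, rfl⟩ := QuotientGroup.mk_surjective y
      exact congrArg (QuotientGroup.mk' _) (Subgroup.mem_center_iff.1 (e hqN) y)
  have h := m22_of_simple hE ht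
  have hdm : d ∈ Subgroup.centralizer ({d} : Set G) := Subgroup.mem_centralizer_singleton_iff.2 rfl
  have hD : IsDouble (QuotientGroup.mk' ((Subgroup.zpowers d).subgroupOf (Subgroup.centralizer ({d} : Set G))))
      ⟨d, hdm⟩ := by
    refine ⟨QuotientGroup.mk'_surjective _, Subtype.ext hd2,
      fun x => Subtype.ext (Subgroup.mem_centralizer_singleton_iff.1 x.2).symm, fun x hx => ?_⟩
    rw [QuotientGroup.mk'_apply, QuotientGroup.eq_one_iff, Subgroup.mem_subgroupOf] at hx
    obtain ⟨n, hn⟩ := Subgroup.mem_zpowers_iff.1 hx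
    rcases Int.even_or_odd n with ⟨k, rfl⟩ | ⟨k, rfl⟩
    · rw [zpow_add, ← (Commute.refl d).mul_zpow, hd2, one_zpow] at hn
      exact Or.inl (Subtype.ext hn.symm)
    · rw [zpow_add, two_mul, zpow_add, ← (Commute.refl d).mul_zpow, hd2, one_zpow, one_mul, zpow_one] at hn
      exact Or.inr (Subtype.ext hn.symm)
  have hlift : ∀ x : ↥(Subgroup.centralizer ({d} : Set G)),
      (QuotientGroup.mk x : ↥(Subgroup.centralizer ({d} : Set G)) ⧸
        (Subgroup.zpowers d).subgroupOf (Subgroup.centralizer ({d} : Set G))) ^ 2 = 1 → x * x = 1 := fun x hx =>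
    involution_lift_m22 hD h (by rw [← pow_two]; exact hx) rfl
  haveI : Fact (Nat.Prime 2) := ⟨Nat.prime_two⟩
  refine ⟨fun q hq => ?_, ?_⟩
  · obtain ⟨x, rfl⟩ := QuotientGroup.mk_surjective q
    refine ⟨x, orderOf_eq_prime (by rw [pow_two]; exact hlift x (by rw [← hq]; exact pow_orderOf_eq_one _)) ?_, rfl⟩
    rintro rfl
    rw [QuotientGroup.mk_one, orderOf_one] at hq
    omega
  · rintro ⟨g, hg⟩
    have hgC : g ∈ Subgroup.centralizer ({d} : Set G) :=
      Subgroup.mem_centralizer_singleton_iff.2 (by rw [← hg, ← pow_succ, ← pow_succ'])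
    have h1 := congrArg Subtype.val (hlift ⟨g, hgC⟩ (by
      rw [← QuotientGroup.mk_pow, QuotientGroup.eq_one_iff, Subgroup.mem_subgroupOf]
      exact hg ▸ Subgroup.mem_zpowers _))
    have h2 : g ^ 2 = 1 := by rw [pow_two]; exact h1
    rw [hg] at h2
    rw [h2, orderOf_one] at hd
    omega


end Cfsg.Agent.S5453
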