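import Cfsg.Statements.S5454
import Cfsg.Agent.USixFusion.Fusion
import Cfsg.Agent.ThreeTransposition.UnitaryRadical.Standard
import Cfsg.Agent.ThreeTransposition.RelationTypes
import Cfsg.Agent.Components.Quasisimple

set_option autoImplicit false
open Cfsg

namespace Cfsg.Agent.S5454

/-- Let G be a finite group with an involution d whose centralizer C is quasisimple with C modulo the subgroup generated by d isomorphic to the projective special unitary group of dimension 6 over the field with four elements, and suppose some conjugate of d other than d commutes with d. Let S be a Sylow 2-subgroup of C and A the Thompson subgroup of S (generated by the elementary abelian subgroups of S of largest order), regarded as a subgroup of G. Then A is elementary abelian of order 2^10, exactly 22 conjugates of d lie in A, and the normalizer of A permutes them transitively. -/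
theorem result {G : Type*} [Group G] [Finite G] (d : G) (hd : orderOf d = 2) (hq : Cfsg.IsQuasisimple ↥(Subgroup.centralizer ({d} : Set G))) [hzn : ((Subgroup.zpowers d).subgroupOf (Subgroup.centralizer ({d} : Set G))).Normal] (K : Type) [Field K] [Fintype K] (hK : Fintype.card K = 4) (e : ↥(Subgroup.centralizer ({d} : Set G)) ⧸ (Subgroup.zpowers d).subgroupOf (Subgroup.centralizer ({d} : Set G)) ≃* Cfsg.PSU 6 K 2) (hnwc : ∃ g : G, g * d * g⁻¹ ∈ Subgroup.centralizer ({d} : Set G) ∧ g * d * g⁻¹ ≠ d) (S : Sylow 2 ↥(Subgroup.centralizer ({d} : Set G))) (A : Subgroup G) (hA : A = (Cfsg.thompsonSubgroupOf 2 (S : Subgroup ↥(Subgroup.centralizer ({d} : Set G)))).map (Subgroup.centralizer ({d} : Set G)).subtype) : Cfsg.IsElementaryAbelian 2 A ∧ Nat.card A = 2 ^ 10 ∧ Set.ncard {x : G | x ∈ A ∧ IsConj d x} = 22 ∧ ∀ x ∈ A, ∀ y ∈ A, IsConj d x → IsConj d y → ∃ n ∈ Subgroup.normalizer (A : Set G), n * x * n⁻¹ = y := by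
  open Cfsg.Lib.Classical Cfsg.Lib.ThreeTr Cfsg.Lib.DoubleCover Cfsg.Lib.USixFusion in
  have hd2 : d * d = 1 := by rw [← pow_two, ← hd]; exact pow_orderOf_eq_one d
  have hF' : Fintype.card K = 2 ^ 2 := by rw [hK]; norm_num
  have hS : IsSixSpace (stdHerm 6 hF') := ⟨(Cfsg.Lib.TTUnitary.four_std hK 6 hF').two,
    (Cfsg.Lib.TTUnitary.four_std hK 6 hF').norm, Module.finrank_fin_fun K⟩
  set φ : (stdHerm 6 hF').SIsom →* _ := e.symm.toMonoidHom.comp
    ((QuotientGroup.mk' (Subgroup.center (Cfsg.SU 6 K 2))).comp (suEquiv 6 hF').toMonoidHom) with hφ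
  have hker : φ.ker ≤ Subgroup.center (stdHerm 6 hF').SIsom := fun t ht => by
    rw [hφ, MonoidHom.mem_ker, MonoidHom.comp_apply, MonoidHom.comp_apply] at ht
    simp only [MulEquiv.coe_toMonoidHom, map_eq_one_iff _ e.symm.injective, QuotientGroup.mk'_apply,
      QuotientGroup.eq_one_iff, Subgroup.mem_center_iff] at ht
    exact Subgroup.mem_center_iff.2 fun u => (suEquiv 6 hF').injective (by rw [map_mul, map_mul]; exact ht _)
  have hdm : d ∈ Subgroup.centralizer ({d} : Set G) := Subgroup.mem_centralizer_singleton_iff.2 rfl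
  have hD : IsDouble (QuotientGroup.mk' ((Subgroup.zpowers d).subgroupOf (Subgroup.centralizer ({d} : Set G))))
      ⟨d, hdm⟩ := by
    refine ⟨QuotientGroup.mk'_surjective _, Subtype.ext hd2,
      fun x => Subtype.ext (Subgroup.mem_centralizer_singleton_iff.1 x.2).symm, fun x hx => ?_⟩
    rw [QuotientGroup.mk'_apply, QuotientGroup.eq_one_iff, Subgroup.mem_subgroupOf] at hx
    obtain ⟨n, hn⟩ := Subgroup.mem_zpowers_iff.1 hx
    rcases Int.even_or_odd n with ⟨k, rfl⟩ | ⟨k, rfl⟩
    · rw [zpow_add, ← (Commute.refl d).mul_zpow, hd2, one_zpow] at hn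
      exact Or.inl (Subtype.ext hn.symm)
    · rw [zpow_add, two_mul, zpow_add, ← (Commute.refl d).mul_zpow, hd2, one_zpow, one_mul, zpow_one] at hn
      exact Or.inr (Subtype.ext hn.symm)
  haveI : Finite K := Finite.of_fintype K
  obtain ⟨hcard, -, -⟩ := psu_six_facts hK
  let U : Setup K (Fin 6 → K) ↥(Subgroup.centralizer ({d} : Set G))
      (↥(Subgroup.centralizer ({d} : Set G)) ⧸ (Subgroup.zpowers d).subgroupOf (Subgroup.centralizer ({d} : Set G))) :=
    { H := stdHerm 6 hF'
      six := hS
      φ := φ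
      φsurj := e.symm.surjective.comp ((QuotientGroup.mk'_surjective _).comp (suEquiv 6 hF').surjective)
      φker := hker
      π := QuotientGroup.mk' _
      z := ⟨d, hdm⟩
      double := hD
      z_ne := fun h => by
        have h' : d = 1 := congrArg Subtype.val h
        rw [h', orderOf_one] at hd
        omega
      z_ker := by
        rw [QuotientGroup.mk'_apply, QuotientGroup.eq_one_iff, Subgroup.mem_subgroupOf]
        exact Subgroup.mem_zpowers d }
  have hQ : Nat.card (↥(Subgroup.centralizer ({d} : Set G)) ⧸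
      (Subgroup.zpowers d).subgroupOf (Subgroup.centralizer ({d} : Set G))) = 9196830720 :=
    (Nat.card_congr e.toEquiv).trans hcard
  obtain ⟨Kc, -, hT⟩ := U.thompson_eq S
  have hA' : A = whole U Kc := by rw [hA, hT]; rfl
  subst hA'
  have hm := @normalizer_moves K _ _ (Fin 6 → K) _ _ _ _ G _ _ d U rfl Kc
  refine ⟨⟨⟨⟨fun a b => Subtype.ext (top_comm U Kc a.2 b.2).eq⟩⟩, fun a ha => ?_⟩, ?_,
    ncard_conjugates U rfl Kc hq.1.commutator_eq_top hQ hnwc, fun x hx y hy cx cy => ?_⟩
  · obtain ⟨c, hc, rfl⟩ := (mem_top_grp U Kc).1 ha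
    rw [pow_two]
    exact congrArg Subtype.val (U.grp_sq Kc hc)
  · rw [whole, Subgroup.card_subtype, U.card_grp Kc]
    norm_num
  · obtain ⟨n, hn, rfl⟩ := hm hx cx
    obtain ⟨m, hm', rfl⟩ := hm hy cy
    exact ⟨m * n⁻¹, mul_mem hm' (inv_mem hn), by group⟩

end Cfsg.Agent.S5454
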