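import Cfsg.Statements.S5455
import Cfsg.Agent.FusionFrame.Fusion
import Cfsg.Agent.FusionFrame.Sylow
import Cfsg.Agent.FusionFrame.Model

set_option autoImplicit false
set_option linter.style.haveILetI false
open Cfsg

namespace Cfsg.Agent.S5455

/-- Let G be a finite group with an involution d whose centralizer C is quasisimple, such that C modulo the subgroup generated by d is of type M(22) with respect to some conjugacy class of 3-transpositions generating it and also has an involution whose own centralizer is quasisimple with quotient by it isomorphic to the projective special unitary group of dimension 6 over the field with four elements and which is not weakly closed in that centralizer; and suppose some conjugate of d other than d commutes with d. Let S be a Sylow 2-subgroup of C and A the Thompson subgroup of S, regarded as a subgroup of G. Then A is elementary abelian of order 2^11, exactly 23 conjugates of d lie in A, and the normalizer of A permutes them transitively. -/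
theorem result {G : Type*} [Group G] [Finite G] (d : G) (hd : orderOf d = 2) (hq : Cfsg.IsQuasisimple ↥(Subgroup.centralizer ({d} : Set G))) [hzn : ((Subgroup.zpowers d).subgroupOf (Subgroup.centralizer ({d} : Set G))).Normal] (htype : ∃ E : Set (↥(Subgroup.centralizer ({d} : Set G)) ⧸ (Subgroup.zpowers d).subgroupOf (Subgroup.centralizer ({d} : Set G))), Cfsg.IsThreeTranspositionClass E ∧ Cfsg.IsOfTypeM22 _ E) (hinvol : ∃ d' : ↥(Subgroup.centralizer ({d} : Set G)) ⧸ (Subgroup.zpowers d).subgroupOf (Subgroup.centralizer ({d} : Set G)), orderOf d' = 2 ∧ Cfsg.IsQuasisimple ↥(Subgroup.centralizer ({d'} : Set _)) ∧ (∃ (K : Type) (_ : Field K) (_ : Fintype K), Fintype.card K = 4 ∧ ∃ _ : ((Subgroup.zpowers d').subgroupOf (Subgroup.centralizer ({d'} : Set _))).Normal, Nonempty (↥(Subgroup.centralizer ({d'} : Set _)) ⧸ (Subgroup.zpowers d').subgroupOf (Subgroup.centralizer ({d'} : Set _)) ≃* Cfsg.PSU 6 K 2)) ∧ ∃ g, g * d' * g⁻¹ ∈ Subgroup.centralizer ({d'} : Set _) ∧ g * d' * g⁻¹ ≠ d') (hnwc : ∃ g : G,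 g * d * g⁻¹ ∈ Subgroup.centralizer ({d} : Set G) ∧ g * d * g⁻¹ ≠ d) (S : Sylow 2 ↥(Subgroup.centralizer ({d} : Set G))) (A : Subgroup G) (hA : A = (Cfsg.thompsonSubgroupOf 2 (S : Subgroup ↥(Subgroup.centralizer ({d} : Set G)))).map (Subgroup.centralizer ({d} : Set G)).subtype) : Cfsg.IsElementaryAbelian 2 A ∧ Nat.card A = 2 ^ 11 ∧ Set.ncard {x : G | x ∈ A ∧ IsConj d x} = 23 ∧ ∀ x ∈ A, ∀ y ∈ A, IsConj d x → IsConj d y → ∃ n ∈ Subgroup.normalizer (A : Set G), n * x * n⁻¹ = y := by
  open Cfsg.Lib.ThreeTr Cfsg.Lib.FusionFrame Cfsg.Lib.DoubleCover in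
  obtain ⟨E, hE, h22⟩ := htype
  set Z := (Subgroup.zpowers d).subgroupOf (Subgroup.centralizer ({d} : Set G)) with hZdef
  set π := QuotientGroup.mk' Z with hπdef
  have hd2 : d * d = 1 := by rw [← pow_two, ← hd, pow_orderOf_eq_one]
  let z : ↥(Subgroup.centralizer ({d} : Set G)) := ⟨d, Subgroup.mem_centralizer_singleton_iff.2 rfl⟩
  have hzker : π z = 1 := (QuotientGroup.eq_one_iff z).2 (Subgroup.mem_zpowers d)
  have hzne : z ≠ 1 := fun e => by
    have e' : d = 1 := congrArg Subtype.val e
    rw [e', orderOf_one] at hd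
    norm_num at hd
  have hdouble : Cfsg.Lib.DoubleCover.IsDouble π z := by
    refine ⟨QuotientGroup.mk'_surjective Z, Subtype.ext hd2, fun x => Subtype.ext
      (Subgroup.mem_centralizer_singleton_iff.1 x.2).symm, fun x hx => ?_⟩
    obtain ⟨k, hk⟩ := (Subgroup.mem_subgroupOf.1 ((QuotientGroup.eq_one_iff x).1 hx) : (x : G) ∈ Subgroup.zpowers d)
    have hk' : d ^ k = (x : G) := hk
    rcases Int.even_or_odd k with ⟨j, rfl⟩ | ⟨j, rfl⟩
    · refine Or.inl (Subtype.ext ?_)
      rw [← hk', zpow_add, ← (Commute.refl d).mul_zpow, hd2, one_zpow]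
      rfl
    · refine Or.inr (Subtype.ext ?_)
      rw [← hk', zpow_add, zpow_one, two_mul, zpow_add, ← (Commute.refl d).mul_zpow, hd2, one_zpow, one_mul]
  have hperf : commutator ↥(Subgroup.centralizer ({d} : Set G)) = ⊤ := Group.isPerfect_def.1 hq.1
  haveI hQ : IsSimpleGroup (↥(Subgroup.centralizer ({d} : Set G)) ⧸ Z) := by
    haveI := hq.2
    have hle : Z ≤ Subgroup.center ↥(Subgroup.centralizer ({d} : Set G)) := fun x hx => Subgroup.mem_center_iff.2 fun y => by
      rcases hdouble.ker x ((QuotientGroup.eq_one_iff x).2 hx) with rfl | rfl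
      · simp
      · exact (hdouble.central y).symm.eq
    set f := QuotientGroup.map Z (Subgroup.center ↥(Subgroup.centralizer ({d} : Set G))) (MonoidHom.id _) hle with hf
    have hinj : Function.Injective f := by
      rw [← MonoidHom.ker_eq_bot_iff, eq_bot_iff, ← h22.1]
      intro q hq'
      obtain ⟨y, rfl⟩ := QuotientGroup.mk_surjective q
      have hy : y ∈ Subgroup.center ↥(Subgroup.centralizer ({d} : Set G)) := (QuotientGroup.eq_one_iff (N := Subgroup.center ↥(Subgroup.centralizer ({d} : Set G))) y).1 hq'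
      refine Subgroup.mem_center_iff.2 fun r => ?_
      obtain ⟨r, rfl⟩ := QuotientGroup.mk_surjective r
      rw [← QuotientGroup.mk_mul, ← QuotientGroup.mk_mul, Subgroup.mem_center_iff.1 hy r]
    have hsurj : Function.Surjective f := fun q => by
      obtain ⟨y, rfl⟩ := QuotientGroup.mk_surjective q
      exact ⟨QuotientGroup.mk y, rfl⟩
    set e := MulEquiv.ofBijective f ⟨hinj, hsurj⟩
    haveI := hq.2.toNontrivial
    haveI : Nontrivial (↥(Subgroup.centralizer ({d} : Set G)) ⧸ Z) := e.toEquiv.nontrivial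
    exact IsSimpleGroup.isSimpleGroup_of_surjective e.symm.toMonoidHom e.symm.surjective
  have hM := Cfsg.Lib.DoubleCover.m22_of_simple hE h22
  obtain ⟨L, K⟩ := Cfsg.Lib.FusionFrame.exists_cover hM hdouble hzne hzker hperf
  obtain ⟨B, hB, hJ⟩ := K.thompson_eq S
  rw [hJ] at hA
  have hi : Function.Injective (Subgroup.centralizer ({d} : Set G)).subtype := (Subgroup.centralizer ({d} : Set G)).subtype_injective
  have hrange : ∀ x : G, Commute x d → ∃ c, (Subgroup.centralizer ({d} : Set G)).subtype c = x := fun x hx =>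
    ⟨⟨x, Subgroup.mem_centralizer_singleton_iff.2 hx.eq⟩, rfl⟩
  obtain ⟨hsq, hcm⟩ := K.cliqueGroup_elementary hB
  subst hA
  refine ⟨⟨⟨⟨?_⟩⟩, ?_⟩, ?_, ?_, ?_⟩
  · rintro ⟨_, a, ha, rfl⟩ ⟨_, b, hb, rfl⟩
    exact Subtype.ext ((hcm a ha b hb).map (Subgroup.centralizer ({d} : Set G)).subtype).eq
  · rintro _ ⟨a, ha, rfl⟩
    rw [pow_two, ← map_mul, hsq a ha, map_one]
  · exact (Nat.card_congr (((Subgroup.closure B).comap π).equivMapOfInjective _ hi).toEquiv).symm.trans
      (K.card_clique hB)
  · exact K.ncard_conjugates hB hi hrange rfl (by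
      obtain ⟨g, hgc, hgne⟩ := hnwc
      exact ⟨g, Subgroup.mem_centralizer_singleton_iff.1 hgc, hgne⟩)
  · intro x hx y hy hxc hyc
    obtain ⟨n, hn, rfl⟩ := K.normalizer_moves hB hi hrange rfl hx hxc
    obtain ⟨m, hm, rfl⟩ := K.normalizer_moves hB hi hrange rfl hy hyc
    exact ⟨m * n⁻¹, mul_mem hm (inv_mem hn), by group⟩

end Cfsg.Agent.S5455
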