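import Cfsg.Statements.S5458
import Cfsg.Agent.ThreeTransposition.M22Count.CliqueStab

set_option autoImplicit false
set_option linter.style.haveILetI false
open Cfsg

namespace Cfsg.Agent.S5458

/-- Let G be a finite group with trivial centre generated by a conjugation-invariant set D of 3-transpositions on which it acts primitively, of type M(22), and suppose G also has an involution whose centralizer is quasisimple with quotient by it the projective special unitary group of dimension 6 over the field with four elements and which is not weakly closed in that centralizer. Let T be a Sylow 2-subgroup of G. Then the subgroup generated by the members of D lying in T is the Thompson subgroup of T (generated by the elementary abelian subgroups of T of largest order). -/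
theorem result {G : Type*} [Group G] [Finite G] {D : Set G} (hD : Cfsg.IsThreeTranspositionGroup D) (hprim : Cfsg.IsPrimitiveUnderConj D) (h22 : Cfsg.IsOfTypeM22 G D) (hM : ∃ d : G, orderOf d = 2 ∧ Cfsg.IsQuasisimple ↥(Subgroup.centralizer ({d} : Set G)) ∧ (∃ (_ : ((Subgroup.zpowers d).subgroupOf (Subgroup.centralizer ({d} : Set G))).Normal) (K : Type) (_ : Field K) (_ : Fintype K), Fintype.card K = 4 ∧ Nonempty (↥(Subgroup.centralizer ({d} : Set G)) ⧸ (Subgroup.zpowers d).subgroupOf (Subgroup.centralizer ({d} : Set G)) ≃* Cfsg.PSU 6 K 2)) ∧ ∃ g : G, g * d * g⁻¹ ∈ Subgroup.centralizer ({d} : Set G) ∧ g * d * g⁻¹ ≠ d) (T : Sylow 2 G) : Subgroup.closure {x : G | x ∈ D ∧ x ∈ (T : Subgroup G)} = Cfsg.thompsonSubgroupOf 2 (T : Subgroup G) := by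
  open Cfsg.Lib.ThreeTr in
  classical
  have h := M22.mk' hD hprim h22
  have hE := h.cls.1
  haveI : Fact (Nat.Prime 2) := ⟨Nat.prime_two⟩
  set B := {x : G | x ∈ D ∧ x ∈ (T : Subgroup G)} with hBdef
  have hBc : ∀ x ∈ B, ∀ y ∈ B, Commute x y := by
    rintro x ⟨hx, hxT⟩ y ⟨hy, hyT⟩
    by_contra hnc
    have h3 := cube_of_not_commute hE hx hy hnc
    have h1 : x * y ≠ 1 := fun e => hnc (by
      rw [eq_inv_of_mul_eq_one_right e, inv_eq hE hx])
    obtain ⟨k, hk⟩ := T.isPGroup' ⟨x * y, mul_mem hxT hyT⟩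
    have hk' : (x * y) ^ 2 ^ k = 1 := congrArg Subtype.val hk
    have hd := Nat.dvd_gcd (orderOf_dvd_of_pow_eq_one h3) (orderOf_dvd_of_pow_eq_one hk')
    rw [Nat.Coprime.gcd_eq_one (Nat.Coprime.pow_right k (by norm_num)), Nat.dvd_one, orderOf_eq_one_iff] at hd
    exact h1 hd
  -- a largest commuting set lies in a conjugate
  haveI : Nonempty {C : Set G // C ⊆ D ∧ ∀ x ∈ C, ∀ y ∈ C, Commute x y} := ⟨⟨∅, by simp⟩⟩
  obtain ⟨⟨C, hCD, hCc⟩, hmax⟩ :=
    Finite.exists_max fun C : {C : Set G // C ⊆ D ∧ ∀ x ∈ C, ∀ y ∈ C, Commute x y} => C.1.ncard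
  have hC : IsMaxClique D C := by
    refine ⟨hCD, hCc, fun y hy hyC => ?_⟩
    by_contra hyn
    have hm := hmax ⟨insert y C, Set.insert_subset hy hCD, ?_⟩
    · simp only at hm
      rw [Set.ncard_insert_of_notMem hyn (Set.toFinite _)] at hm
      omega
    · rintro u (rfl | hu) v (rfl | hv)
      exacts [Commute.refl _, hyC v hv, (hyC u hu).symm, hCc u hu v hv]
  obtain ⟨hCsq, -⟩ := hC.closure_elementary h
  obtain ⟨P, hP⟩ := (show IsPGroup 2 ↥(Subgroup.closure C) from fun x =>
    ⟨1, Subtype.ext (by simpa [sq] using hCsq _ x.2)⟩).exists_le_sylow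
  obtain ⟨g, hg⟩ := MulAction.exists_smul_eq G P T
  have hB : IsMaxClique D B := by
    refine ⟨fun x hx => hx.1, hBc, fun y hy hyB => ⟨hy, ?_⟩⟩
    have hgC : ∀ c ∈ C, g * c * g⁻¹ ∈ B := fun c hc => ⟨conj_mem h.cls g (hCD hc), by
      rw [← hg, Sylow.coe_subgroup_smul]
      exact ⟨c, hP (Subgroup.subset_closure hc), by simp⟩⟩
    have hy' : g⁻¹ * y * g ∈ C := by
      refine hC.max _ (by simpa using conj_mem h.cls g⁻¹ hy) fun c hc => ?_
      refine (conj_commute_iff g _ _).1 ?_
      rw [show g * (g⁻¹ * y * g) * g⁻¹ = y by group]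
      exact hyB _ (hgC c hc)
    have hg' := (hgC _ hy').2
    rwa [show g * (g⁻¹ * y * g) * g⁻¹ = y by group] at hg'
  obtain ⟨hsq, hcm⟩ := hB.closure_elementary h
  set A := Subgroup.closure B
  have hAT : A ≤ (T : Subgroup G) := (Subgroup.closure_le _).2 fun x hx => hx.2
  set A' := A.subgroupOf (T : Subgroup G)
  have hcardA : Nat.card ↥A' = Nat.card ↥A := Nat.card_congr (Subgroup.subgroupOfEquivOfLe hAT).toEquiv
  have hA'e : Cfsg.IsElementaryAbelian 2 A' :=
    ⟨⟨⟨fun a b => Subtype.ext (Subtype.ext (hcm _ a.2 _ b.2).eq)⟩⟩,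
      fun a ha => Subtype.ext (by simpa [sq] using hsq _ ha)⟩
  have hsmall : ∀ E : Subgroup ↥(T : Subgroup G), Cfsg.IsElementaryAbelian 2 E →
      E ≤ A' ∨ Nat.card ↥E < Nat.card ↥A' := by
    intro E hEe
    have hcard : Nat.card ↥(E.map (T : Subgroup G).subtype) = Nat.card ↥E := Subgroup.card_subtype _ E
    have q1 : ∀ x ∈ E.map (T : Subgroup G).subtype, x * x = 1 := by
      rintro _ ⟨x, hx, rfl⟩
      have := congrArg Subtype.val (hEe.2 x hx)
      simpa [sq] using this
    have q2 : ∀ x ∈ E.map (T : Subgroup G).subtype, ∀ y ∈ E.map (T : Subgroup G).subtype, Commute x y := by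
      rintro _ ⟨x, hx, rfl⟩ _ ⟨y, hy, rfl⟩
      haveI := hEe.1
      exact congrArg (fun z : ↥E => ((z : ↥(T : Subgroup G)) : G)) (mul_comm' (⟨x, hx⟩ : ↥E) ⟨y, hy⟩)
    have q3 : ∀ x ∈ E.map (T : Subgroup G).subtype, ∀ b ∈ B, x * b * x⁻¹ ∈ B := by
      rintro _ ⟨x, hx, rfl⟩ b hb
      exact ⟨conj_mem h.cls _ hb.1, mul_mem (mul_mem x.2 hb.2) (inv_mem x.2)⟩
    rcases hB.elementary_small h q1 q2 q3 with hle | hlt
    · exact Or.inl fun x hx => hle ⟨x, hx, rfl⟩
    · exact Or.inr (by rw [hcardA, ← hcard]; exact hlt)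
  have hJ : Cfsg.maxElementaryAbelianSubgroups 2 ↥(T : Subgroup G) = {A'} := by
    ext E
    constructor
    · rintro ⟨hEe, hEmax⟩
      rcases hsmall E hEe with hle | hlt
      · exact Subgroup.eq_of_le_of_card_ge hle (hEmax A' hA'e)
      · exact absurd (hEmax A' hA'e) (by omega)
    · rintro rfl
      refine ⟨hA'e, fun E hEe => ?_⟩
      rcases hsmall E hEe with hle | hlt
      · exact Nat.card_le_card_of_injective (Subgroup.inclusion hle) (Subgroup.inclusion_injective hle)
      · exact hlt.le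
  rw [Cfsg.thompsonSubgroupOf, Cfsg.thompsonSubgroup, hJ, sSup_singleton, Subgroup.map_subgroupOf_eq_of_le hAT]

end Cfsg.Agent.S5458
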