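import Mathlib
import Cfsg.Statements.S5459
-- import your own Cfsg.Agent.* helpers here

set_option autoImplicit false
open Cfsg

namespace Cfsg.Agent.S5459

/-- Let G be a finite group with a quasisimple normal subgroup L and an involution d such that G is generated by L and d, the centre of L has odd order, and d inverts every element of the centre of L. If the commuting graph on the conjugacy class of the image of d in G modulo the centre of L is connected, then the commuting graph on the conjugacy class of d is connected. -/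
theorem result {G : Type*} [Group G] [Finite G] (L : Subgroup G) [L.Normal] (hL : Cfsg.IsQuasisimple ↥L) (d : G) (hd : orderOf d = 2) (hgen : L ⊔ Subgroup.zpowers d = ⊤) (hodd : Odd (Nat.card ↥(Subgroup.center ↥L))) (hinv : ∀ c ∈ (Subgroup.center ↥L).map L.subtype, d * c * d⁻¹ = c⁻¹) [hn : ((Subgroup.center ↥L).map L.subtype).Normal] (hconn : (Cfsg.commutingGraph (conjugatesOf (QuotientGroup.mk d : G ⧸ (Subgroup.center ↥L).map L.subtype))).Connected) : (Cfsg.commutingGraph (conjugatesOf d)).Connected := by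
  classical
  set Z := (Subgroup.center ↥L).map L.subtype with hZ
  have hcard : Nat.card Z = Nat.card ↥(Subgroup.center ↥L) :=
    Nat.card_congr ((Subgroup.center ↥L).equivMapOfInjective L.subtype L.subtype_injective).symm.toEquiv
  have hcop : (Nat.card Z).Coprime 4 := by
    rw [hcard, show (4 : ℕ) = 2 ^ 2 from rfl]; exact (Nat.coprime_two_right.mpr hodd).pow_right 2
  have hcop2 : (Nat.card Z).Coprime 2 := by rw [hcard]; exact Nat.coprime_two_right.mpr hodd
  set D := conjugatesOf d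
  have hDmem : ∀ e, e ∈ D ↔ ∃ g : G, g * d * g⁻¹ = e := fun e => isConj_iff
  have hd2 : d * d = 1 := by rw [← pow_two, ← hd, pow_orderOf_eq_one]
  have hsq : ∀ e ∈ D, e * e = 1 := fun e he => by
    obtain ⟨g, rfl⟩ := (hDmem e).mp he
    calc g * d * g⁻¹ * (g * d * g⁻¹) = g * (d * d) * g⁻¹ := by group
      _ = 1 := by rw [hd2]; group
  have hinvD : ∀ e ∈ D, ∀ c ∈ Z, e * c = c⁻¹ * e := fun e he c hc => by
    obtain ⟨g, rfl⟩ := (hDmem e).mp he
    have h := hinv (g⁻¹ * c * g) (by simpa using hn.conj_mem c hc g⁻¹)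
    calc g * d * g⁻¹ * c = g * (d * (g⁻¹ * c * g) * d⁻¹) * (d * g⁻¹) := by group
      _ = c⁻¹ * (g * d * g⁻¹) := by rw [h]; group
  have hconjZ : ∀ e ∈ D, ∀ z ∈ Z, z * e * z⁻¹ = z * z * e := fun e he z hz => by
    rw [mul_assoc, hinvD e he z⁻¹ (inv_mem hz), inv_inv, mul_assoc]
  have root : ∀ (n : ℕ), (Nat.card Z).Coprime n → ∀ c ∈ Z, ∃ z ∈ Z, z ^ n = c := fun n hn' c hc => by
    refine ⟨(powCoprime hn').symm ⟨c, hc⟩, SetLike.coe_mem _, ?_⟩
    exact congrArg Subtype.val ((powCoprime hn').apply_symm_apply (⟨c, hc⟩ : Z))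
  set Γ := Cfsg.commutingGraph D
  let cj : G → D → D := fun g e => ⟨g * e.1 * g⁻¹, by
    obtain ⟨h, hh⟩ := (hDmem e.1).mp e.2
    exact (hDmem _).mpr ⟨g * h, by rw [← hh]; group⟩⟩
  have hadj : ∀ g (a b : D), Γ.Adj a b → Γ.Adj (cj g a) (cj g b) := by
    intro g a b h
    rw [show Γ = SimpleGraph.fromRel (fun a b : D => Commute (a : G) (b : G)) from rfl, SimpleGraph.fromRel_adj] at h ⊢
    refine ⟨fun e => h.1 (Subtype.ext (mul_left_cancel (mul_right_cancel (congrArg Subtype.val e)))), ?_⟩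
    rcases h.2 with h2 | h2
    · exact Or.inl ((Commute.conj_iff g).mpr h2)
    · exact Or.inr ((Commute.conj_iff g).mpr h2)
  have hreach : ∀ g (a b : D), Γ.Reachable a b → Γ.Reachable (cj g a) (cj g b) := fun g a b h =>
    h.map ⟨cj g, fun {x y} hxy => hadj g x y hxy⟩
  set v₀ : D := ⟨d, mem_conjugatesOf_self⟩
  have hcj1 : cj 1 v₀ = v₀ := Subtype.ext (by simp [cj, v₀])
  have hcjmul : ∀ g h, cj g (cj h v₀) = cj (g * h) v₀ := fun g h => Subtype.ext (by
    show g * (h * d * h⁻¹) * g⁻¹ = g * h * d * (g * h)⁻¹; group)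
  let M : Subgroup G :=
    { carrier := {g | Γ.Reachable v₀ (cj g v₀)}
      one_mem' := by show Γ.Reachable v₀ (cj 1 v₀); rw [hcj1]
      mul_mem' := fun {a b} ha hb => by
        show Γ.Reachable v₀ (cj (a * b) v₀)
        rw [← hcjmul]; exact ha.trans (hreach a _ _ hb)
      inv_mem' := fun {a} ha => by
        show Γ.Reachable v₀ (cj a⁻¹ v₀)
        have := hreach a⁻¹ _ _ ha
        rw [hcjmul, inv_mul_cancel, hcj1] at this
        exact this.symm }
  have hMc : ∀ g, g * d * g⁻¹ = d → g ∈ M := fun g hg => by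
    show Γ.Reachable v₀ (cj g v₀)
    rw [show cj g v₀ = v₀ from Subtype.ext hg]
  set π : G →* G ⧸ Z := QuotientGroup.mk' Z
  have hπZ : ∀ c ∈ Z, π c = 1 := fun c hc => (QuotientGroup.eq_one_iff c).mpr hc
  -- lifting a path
  have lift : ∀ (a b : conjugatesOf (QuotientGroup.mk d : G ⧸ Z)) (w : (Cfsg.commutingGraph _).Walk a b),
      (∃ g ∈ M, π (g * d * g⁻¹) = a.1) → ∃ g ∈ M, π (g * d * g⁻¹) = b.1 := by
    intro a b w
    induction w with
    | nil => exact id
    | @cons u v x hAdj _ ih =>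
      rintro ⟨g, hgM, hg⟩
      apply ih
      have hcomm : Commute u.1 v.1 := by
        rw [Cfsg.commutingGraph, SimpleGraph.fromRel_adj] at hAdj
        rcases hAdj.2 with h | h
        exacts [h, h.symm]
      obtain ⟨q, hq⟩ := isConj_iff.mp v.2
      obtain ⟨k, rfl⟩ := QuotientGroup.mk'_surjective Z q
      set d₁ := g * d * g⁻¹ with hd₁
      set e₀ := k * d * k⁻¹ with he₀
      have hd₁D : d₁ ∈ D := (hDmem _).mpr ⟨g, rfl⟩
      have he₀D : e₀ ∈ D := (hDmem _).mpr ⟨k, rfl⟩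
      have hc : d₁ * e₀ * d₁ * e₀ ∈ Z := by
        refine (QuotientGroup.eq_one_iff _).mp ?_
        show π (d₁ * e₀ * d₁ * e₀) = 1
        have he : π e₀ = v.1 := hq
        rw [map_mul, map_mul, map_mul, hg, he, hcomm.eq, mul_assoc v.1, ← hg, ← map_mul π d₁, hsq _ hd₁D, map_one,
          mul_one, ← he, ← map_mul π e₀, hsq _ he₀D, map_one]
      obtain ⟨z, hz, hzc⟩ := root 4 hcop _ hc
      have hcom : Commute d₁ (z * e₀ * z⁻¹) := by
        rw [hconjZ e₀ he₀D z hz, commute_iff_eq]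
        have h1 : d₁ * (z * z * e₀) = (z * z)⁻¹ * (d₁ * e₀) := by
          rw [← mul_assoc, hinvD d₁ hd₁D _ (mul_mem hz hz), mul_assoc]
        have h2 : d₁ * e₀ = z ^ 4 * (e₀ * d₁) := by
          rw [hzc]
          calc d₁ * e₀ = d₁ * e₀ * (d₁ * (e₀ * e₀) * d₁) := by rw [hsq _ he₀D, mul_one, hsq _ hd₁D, mul_one]
            _ = d₁ * e₀ * d₁ * e₀ * (e₀ * d₁) := by group
        rw [h1, h2]; simp [pow_succ, mul_assoc]
      refine ⟨z * k, ?_, ?_⟩
      · have hed : Γ.Reachable (cj g v₀) (cj (z * k) v₀) := by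
          by_cases e : cj g v₀ = cj (z * k) v₀
          · rw [e]
          refine SimpleGraph.Adj.reachable ?_
          rw [show Γ = SimpleGraph.fromRel (fun a b : D => Commute (a : G) (b : G)) from rfl, SimpleGraph.fromRel_adj]
          refine ⟨e, Or.inl ?_⟩
          show Commute d₁ (z * k * d * (z * k)⁻¹)
          convert hcom using 1; rw [he₀]; group
        exact (show Γ.Reachable v₀ (cj g v₀) from hgM).trans hed
      · rw [show z * k * d * (z * k)⁻¹ = z * e₀ * z⁻¹ by rw [he₀]; group, map_mul, map_mul, map_inv, hπZ z hz, inv_one, one_mul, mul_one]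
        exact hq
  have hMZ : ∀ g : G, ∃ z ∈ Z, z⁻¹ * g ∈ M := by
    intro g
    obtain ⟨w⟩ := hconn.preconnected ⟨QuotientGroup.mk d, mem_conjugatesOf_self⟩ ⟨π (g * d * g⁻¹), isConj_iff.mpr ⟨π g, by show π g * π d * (π g)⁻¹ = π (g * d * g⁻¹); rw [map_mul, map_mul, map_inv]⟩⟩
    obtain ⟨h, hh, he⟩ := lift _ _ w ⟨1, one_mem _, by show π (1 * d * 1⁻¹) = π d; rw [one_mul, inv_one, mul_one]⟩
    have hc : g * d * g⁻¹ * (h * d * h⁻¹)⁻¹ ∈ Z := (QuotientGroup.eq_one_iff _).mp (by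
      show π _ = 1
      rw [map_mul, map_inv, he, mul_inv_cancel])
    obtain ⟨z, hz, hzc⟩ := root 2 hcop2 _ hc
    refine ⟨z, hz, ?_⟩
    have e : g * d * g⁻¹ = z * (h * d * h⁻¹) * z⁻¹ := by
      rw [hconjZ _ ((hDmem _).mpr ⟨h, rfl⟩) z hz, ← pow_two, hzc, inv_mul_cancel_right]
    have : h⁻¹ * z⁻¹ * g ∈ M := hMc _ (by
      calc h⁻¹ * z⁻¹ * g * d * (h⁻¹ * z⁻¹ * g)⁻¹ = h⁻¹ * z⁻¹ * (g * d * g⁻¹) * (z * h) := by group
        _ = d := by rw [e]; group)
    have := mul_mem hh this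
    rwa [show h * (h⁻¹ * z⁻¹ * g) = z⁻¹ * g by group] at this
  have hZc : ∀ z ∈ Z, ∀ l ∈ L, z * l = l * z := by
    intro z hz l hl
    obtain ⟨z', hz', rfl⟩ := Subgroup.mem_map.mp hz
    exact (congrArg Subtype.val (Subgroup.mem_center_iff.mp hz' ⟨l, hl⟩)).symm
  have hLM : L ≤ M := by
    haveI := hL.1
    intro l hl
    have hmem : (⟨l, hl⟩ : L) ∈ commutator L := by
      rw [Group.IsPerfect.commutator_eq_top]; exact Subgroup.mem_top _
    rw [commutator_eq_closure] at hmem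
    refine Subgroup.closure_induction (k := commutatorSet ↥L) (p := fun (x : L) _ => (x : G) ∈ M) ?_ (one_mem M) (fun _ _ _ _ => mul_mem) (fun _ _ => inv_mem) hmem
    rintro _ ⟨⟨a, ha⟩, ⟨b, hb⟩, rfl⟩
    obtain ⟨z, hz, hza⟩ := hMZ a
    obtain ⟨z', hz', hzb⟩ := hMZ b
    show a * b * a⁻¹ * b⁻¹ ∈ M
    have key : a * b * a⁻¹ * b⁻¹ = (z⁻¹ * a) * (z'⁻¹ * b) * (z⁻¹ * a)⁻¹ * (z'⁻¹ * b)⁻¹ := by
      have c1 : z' * a = a * z' := hZc z' hz' a ha
      have c2 : z * b = b * z := hZc z hz b hb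
      have c3 : Commute z' z := (hZc z' hz' z (Subgroup.map_subtype_le _ hz))
      have c1' : Commute z' a := c1
      have c2' : Commute z b := c2
      symm
      calc (z⁻¹ * a) * (z'⁻¹ * b) * (z⁻¹ * a)⁻¹ * (z'⁻¹ * b)⁻¹
          = z⁻¹ * (a * z'⁻¹) * b * a⁻¹ * (z * b⁻¹) * z' := by group
        _ = z⁻¹ * z'⁻¹ * (a * b * a⁻¹ * b⁻¹) * (z * z') := by rw [(c1'.inv_left).eq.symm, (c2'.inv_right).eq]; group
        _ = a * b * a⁻¹ * b⁻¹ := by
            have hmemL : a * b * a⁻¹ * b⁻¹ ∈ L := mul_mem (mul_mem (mul_mem ha hb) (inv_mem ha)) (inv_mem hb)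
            rw [mul_assoc _ _ (z * z'), ← hZc (z * z') (mul_mem hz hz') _ hmemL, c3.eq.symm]; group
    rw [key]
    exact mul_mem (mul_mem (mul_mem hza hzb) (inv_mem hza)) (inv_mem hzb)
  have hMtop : M = ⊤ := top_unique (hgen ▸ sup_le hLM (Subgroup.zpowers_le.mpr (hMc d (by group))))
  haveI : Nonempty D := ⟨v₀⟩
  have hall : ∀ e : D, Γ.Reachable v₀ e := fun e => by
    obtain ⟨g, hg⟩ := (hDmem _).mp e.2
    have : g ∈ M := hMtop ▸ Subgroup.mem_top g
    rw [show e = cj g v₀ from Subtype.ext hg.symm]; exact this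
  exact ⟨fun a b => (hall a).symm.trans (hall b)⟩

end Cfsg.Agent.S5459
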