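import Cfsg.Statements.S5462
import Cfsg.Agent.ThreeTransposition.M22Count.MaxClique
import Cfsg.Agent.ThreeTransposition.M22Count.UniqueClass
import Cfsg.Agent.ThreeTransposition.Classes

set_option autoImplicit false
set_option linter.style.haveILetI false
open Cfsg

namespace Cfsg.Agent.S5462

/-- Let G be a finite group with trivial centre generated by a conjugation-invariant set D of 3-transpositions on which it acts primitively, such that for some d in D the subgroup generated by the members of D other than d commuting with d has central largest normal 2- and 3-subgroups, and suppose G with D is of type M(22). Then every automorphism of G of order 2 fixes some member of D. -/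
theorem result {G : Type*} [Group G] [Finite G] {D : Set G} (hD : Cfsg.IsThreeTranspositionGroup D) (hprim : Cfsg.IsPrimitiveUnderConj D) (d₀ : G) (hd₀ : d₀ ∈ D) (h3 : Cfsg.pCore 3 ↥(Subgroup.closure {y : G | y ∈ D ∧ y ≠ d₀ ∧ Commute d₀ y}) ≤ Subgroup.center ↥(Subgroup.closure {y : G | y ∈ D ∧ y ≠ d₀ ∧ Commute d₀ y})) (h2 : Cfsg.pCore 2 ↥(Subgroup.closure {y : G | y ∈ D ∧ y ≠ d₀ ∧ Commute d₀ y}) ≤ Subgroup.center ↥(Subgroup.closure {y : G | y ∈ D ∧ y ≠ d₀ ∧ Commute d₀ y})) (h22 : Cfsg.IsOfTypeM22 G D) (φ : MulAut G) (hφ : orderOf φ = 2) : ∃ d ∈ D, φ d = d := by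
  open Cfsg.Lib.ThreeTr in
  have h := M22.mk' hD hprim h22
  have hE := h.cls.1
  have hinv : ∀ z, φ (φ z) = z := fun z => by
    have e : φ ^ 2 = 1 := hφ ▸ pow_orderOf_eq_one φ
    rw [sq] at e
    exact DFunLike.congr_fun e z
  have hne1 : φ d₀ ≠ 1 := fun e => by
    have := hE.1 d₀ hd₀
    rw [φ.injective (e.trans (map_one φ).symm), orderOf_one] at this
    norm_num at this
  have hmap : ∀ z ∈ D, φ z ∈ D := fun z hz => by
    have e := h.class_unique (map_class h.cls φ.toMonoidHom φ.surjective hd₀ hne1)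
    exact e ▸ ⟨z, hz, rfl⟩
  by_contra hcon
  push Not at hcon
  have hcom : ∀ z ∈ D, Commute z (φ z) := fun z hz => by
    by_contra hnc
    refine hcon _ (conj_mem h.cls z (hmap z hz)) ?_
    rw [map_mul, map_mul, map_inv, hinv, inv_eq hE (hmap z hz), inv_eq hE hz]
    exact (braid hE hz (hmap z hz) hnc).symm
  -- a maximal invariant set of commuting members
  haveI : Nonempty {C : Set G // C ⊆ D ∧ (∀ x ∈ C, ∀ y ∈ C, Commute x y) ∧ ∀ c ∈ C, φ c ∈ C} :=
    ⟨⟨∅, by simp⟩⟩
  obtain ⟨⟨B, hBD, hBc, hBφ⟩, hmax⟩ :=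
    Finite.exists_max fun C : {C : Set G // C ⊆ D ∧ (∀ x ∈ C, ∀ y ∈ C, Commute x y) ∧ ∀ c ∈ C, φ c ∈ C} => C.1.ncard
  have hB : IsMaxClique D B := by
    refine ⟨hBD, hBc, fun y hy hyB => ?_⟩
    by_contra hyn
    have hφc : ∀ c ∈ B, Commute (φ y) c := fun c hc => by
      rw [← hinv c]
      exact (hyB _ (hBφ c hc)).map φ.toMonoidHom
    have hm := hmax ⟨insert y (insert (φ y) B), Set.insert_subset hy (Set.insert_subset (hmap y hy) hBD), ?_, ?_⟩
    · simp only at hm
      have h1 : (insert y B).ncard ≤ (insert y (insert (φ y) B)).ncard :=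
        Set.ncard_le_ncard (Set.insert_subset_insert (Set.subset_insert _ _)) (Set.toFinite _)
      rw [Set.ncard_insert_of_notMem hyn (Set.toFinite _)] at h1
      omega
    · rintro u (rfl | rfl | hu) v (rfl | rfl | hv)
      exacts [Commute.refl _, hcom _ hy, hyB v hv, (hcom _ hy).symm, Commute.refl _, hφc v hv, (hyB u hu).symm,
        (hφc u hu).symm, hBc u hu v hv]
    · rintro c (rfl | rfl | hc)
      · exact Or.inr (Or.inl rfl)
      · exact Or.inl (hinv y)
      · exact Or.inr (Or.inr (hBφ c hc))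
  obtain ⟨x, hx, hfree⟩ := hB.exists_free h
  have hfree' : ∀ b ∈ B, ¬ Commute (φ x) b := fun b hb e => hfree _ (hBφ b hb) (by
    have := e.map φ.toMonoidHom
    simpa [hinv] using this)
  obtain ⟨b, hb, d, hd, hbd, he⟩ :=
    hB.free_neighbour h hx hfree ⟨hmap x hx, hcon x hx, hcom x hx⟩ hfree'
  -- applying the automorphism once more gives the same pair
  have hb' := hBφ b hb
  have hd' := hBφ d hd
  have he2 : b * d * x * (b * d)⁻¹ = φ b * φ d * x * (φ b * φ d)⁻¹ := by
    have e2 := congrArg φ he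
    rw [hinv, map_mul, map_mul, map_inv, map_mul, he] at e2
    set w := φ b * φ d
    have hw : w * w = 1 := by
      show φ b * φ d * (φ b * φ d) = 1
      rw [(hBc _ hd' _ hb').mul_mul_mul_comm, sq_eq_one hE (hBD hb'), sq_eq_one hE (hBD hd'), one_mul]
    rw [inv_eq_of_mul_eq_one_right hw] at e2 ⊢
    conv_rhs => rw [e2]
    simp only [← mul_assoc]
    rw [hw, one_mul, mul_assoc _ w w, hw, mul_one]
  rcases hB.pair_eq h hx hfree hb hd hb' hd' hbd (fun e => hbd (φ.injective e)) he2 with ⟨e, -⟩ | ⟨e, -⟩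
  · exact hcon b (hBD hb) e
  · refine hcon _ (conj_mem h.cls b hx) ?_
    rw [map_mul, map_mul, map_inv, e, he, inv_eq hE (hBD hd), inv_eq hE (hBD hb), mul_inv_rev, inv_eq hE (hBD hd),
      inv_eq hE (hBD hb), (hBc b hb d hd).eq]
    calc d * (d * b * x * (d * b)) * d = d * d * b * x * (d * (b * d)) := by simp only [mul_assoc]
      _ = b * x * (d * (d * b)) := by rw [sq_eq_one hE (hBD hd), one_mul, (hBc b hb d hd).eq]
      _ = b * x * b := by rw [← mul_assoc d d b, sq_eq_one hE (hBD hd), one_mul]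

end Cfsg.Agent.S5462
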