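import Cfsg.Statements.S5466
import Cfsg.Agent.ThreeTransposition.M24Count.TripleCentralizer
import Cfsg.Agent.Components.GenFitting
import Cfsg.Agent.ThreeTransposition.RelationTypes
import Cfsg.Agent.ThreeTransposition.M22Count.Pair.Aut

set_option autoImplicit false
set_option linter.style.haveILetI false
set_option linter.unusedVariables false
open Cfsg

namespace Cfsg.Agent.S5466

open Subgroup Cfsg.Lib.ThreeTr Cfsg.Lib.Components

/-- A normal quasisimple subgroup containing its centralizer in the centre is the generalized Fitting subgroup. -/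
theorem genFitting_eq {C : Type*} [Group C] [Finite C] {K : Subgroup C} [K.Normal] (hq : IsQuasisimple ↥K)
    (hcent : centralizer (K : Set C) ≤ K) : generalizedFittingSubgroup C = K := by
  have hK : IsComponent K := ⟨(inferInstance : K.Normal).isSubnormal, hq⟩
  refine le_antisymm (sup_le (sSup_le fun M hM => ?_) ?_) (le_trans (comp_le_layer hK) le_sup_left)
  · by_cases e : M = K
    · exact e.le
    · exfalso
      refine e ?_
      refine (comp_eq_of_le hM hK ?_)
      exact le_trans (Subgroup.commutator_eq_bot_iff_le_centralizer.1 (comp_commute hM hK e)) hcent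
  · refine le_trans (Subgroup.commutator_eq_bot_iff_le_centralizer.1 ?_) hcent
    refine eq_bot_iff.2 (le_trans (Subgroup.commutator_mono le_rfl (comp_le_layer hK)) ?_)
    rw [Subgroup.commutator_comm, layer_commute_fitting]

set_option maxHeartbeats 1000000 in
theorem main {G : Type*} [Group G] [Finite G] {D : Set G} (h : Cfsg.Lib.ThreeTr.M24 D) {L : Subgroup G} (hL : L = commutator G)
    {d y z : G} (hl : CList D [d, y, z]) {E CL K : Subgroup G} (hE : E = closure ({d * y, d * z} : Set G))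
    (hCL : CL = L ⊓ centralizer ({d * y * z} : Set G))
    (hK : K = (generalizedFittingSubgroup ↥CL).map CL.subtype) :
    IsQuasisimple ↥K ∧ (center ↥K).map K.subtype = E ∧ K = L ⊓ centralizer (E : Set G) ∧
      (∃ (_ : (E.subgroupOf K).Normal) (F : Type) (_ : Field F) (_ : Fintype F), Fintype.card F = 4 ∧
        Nonempty (↥K ⧸ E.subgroupOf K ≃* Cfsg.PSU 6 F 2)) ∧
      ∃ _ : (K.subgroupOf CL).Normal, Nonempty (↥CL ⧸ K.subgroupOf CL ≃* Equiv.Perm (Fin 3)) ∧ E ≤ CL ∧
        ∃ (_ : (E.subgroupOf CL).Normal) (F : Type) (_ : Field F) (_ : Fintype F), Fintype.card F = 4 ∧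
          Nonempty (↥CL ⧸ E.subgroupOf CL ≃* MulAut (Cfsg.PSU 6 F 2)) := by
  classical
  have hcls := h.cls
  have hEs := hcls.1
  obtain ⟨χ, hχ⟩ := h.exists_sign
  have hcore := h.triCore hχ hl
  have hcardC := h.card_trio_centralizer hl
  have U := h.unique
  have hlt := h.listTrans
  have hinj := trio_clist hl
  have hd := hl.mem d (by simp)
  have hy := hl.mem y (by simp)
  have hz := hl.mem z (by simp)
  have cdy : Commute d y := hl.comm d (by simp) y (by simp)
  have cdz : Commute d z := hl.comm d (by simp) z (by simp)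
  have cyz : Commute y z := hl.comm y (by simp) z (by simp)
  have dd := sq_eq_one hEs hd
  have yy := sq_eq_one hEs hy
  have zz := sq_eq_one hEs hz
  -- the derived group is the kernel of the sign
  have hker : L = χ.ker := by
    refine le_antisymm (hL ▸ Abelianization.commutator_subset_ker χ) fun g hg => ?_
    have key : ∀ x : G, (χ x = 1 ∧ Abelianization.of x = 1) ∨ (χ x = -1 ∧ Abelianization.of x = Abelianization.of d) := by
      intro x
      have hx : x ∈ closure D := hcls.2.2.symm ▸ mem_top x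
      have hcj : ∀ e ∈ D, Abelianization.of e = Abelianization.of d := fun e he => by
        obtain ⟨u, hu⟩ := exists_conj hcls hd he
        rw [← hu, map_mul, map_mul, map_inv, mul_comm (Abelianization.of u), mul_inv_cancel_right]
      have hsq : Abelianization.of d * Abelianization.of d = 1 := by rw [← map_mul, dd, map_one]
      induction hx using closure_induction with
      | mem e he => exact Or.inr ⟨hχ e he, hcj e he⟩
      | one => exact Or.inl ⟨map_one χ, map_one _⟩
      | mul a b _ _ ha hb =>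
        rcases ha with ⟨a1, a2⟩ | ⟨a1, a2⟩ <;> rcases hb with ⟨b1, b2⟩ | ⟨b1, b2⟩ <;>
          simp [map_mul, a1, a2, b1, b2, hsq]
      | inv a _ ha =>
        rcases ha with ⟨a1, a2⟩ | ⟨a1, a2⟩
        · exact Or.inl ⟨by simp [a1], by simp [a2]⟩
        · refine Or.inr ⟨by simp [a1], ?_⟩
          rw [map_inv, a2]
          exact inv_eq_of_mul_eq_one_right hsq
    rcases key g with ⟨-, e⟩ | ⟨e, -⟩
    · rw [hL, ← Abelianization.ker_of]; exact e
    · exact absurd (e.symm.trans hg) (by decide)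
  set C := centralizer (trioSet d y z) with hC
  set K₀ : Subgroup G := L ⊓ C with hK₀
  have hχd := hχ d hd
  have hχy := hχ y hy
  have hχz := hχ z hz
  have hfix : ∀ g : G, g * d * g⁻¹ = d → g * y * g⁻¹ = y → g * z * g⁻¹ = z → g ∈ C := fun g a b c =>
    mem_trio_centralizer.2 fun i => by fin_cases i <;> assumption
  have hne : ∀ i, trio d y z i ∈ D := fun i => by fin_cases i <;> assumption
  have htcomm : ∀ i j, Commute (trio d y z i) (trio d y z j) := fun i j => by
    fin_cases i <;> fin_cases j <;>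
      first | exact Commute.refl _ | exact cdy | exact cdy.symm | exact cdz | exact cdz.symm | exact cyz | exact cyz.symm
  have htC : ∀ i, trio d y z i ∈ C := fun i => mem_trio_centralizer.2 fun j => by
    rw [(htcomm i j).eq, mul_inv_cancel_right]
  have hdC : d ∈ C := htC 0
  have hyC : y ∈ C := htC 1
  have hzC : z ∈ C := htC 2
  have hm2 : ∀ {a b : G}, a ∈ C → b ∈ C → χ a = -1 → χ b = -1 → a * b ∈ K₀ := fun {a b} ha hb ea eb =>
    ⟨hker.symm ▸ (show χ (a * b) = 1 by rw [map_mul, ea, eb]; decide), mul_mem ha hb⟩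
  have hdy : d * y ∈ K₀ := hm2 hdC hyC hχd hχy
  have hdz : d * z ∈ K₀ := hm2 hdC hzC hχd hχz
  have hEK : E ≤ K₀ := by
    rw [hE, closure_le]
    rintro _ (rfl | rfl) <;> assumption
  have hEv : ∀ x ∈ E, x ∈ eight d y z ∧ χ x = 1 ∧ ∀ k ∈ C, Commute k x := by
    intro x hx
    have hx' : x = 1 ∨ x = d * y ∨ x = d * z ∨ x = y * z := by
      rw [hE] at hx
      have edy : d * y * (d * z) = y * z := by
        rw [mul_assoc, ← mul_assoc y d z, ← cdy.eq, mul_assoc d y z, ← mul_assoc, dd, one_mul]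
      induction hx using closure_induction with
      | mem w hw => rcases hw with rfl | rfl <;> simp
      | one => simp
      | mul a b _ _ ha hb =>
        have sdy : d * y * (d * y) = 1 := by rw [cdy.symm.mul_mul_mul_comm, dd, yy, one_mul]
        have sdz : d * z * (d * z) = 1 := by rw [cdz.symm.mul_mul_mul_comm, dd, zz, one_mul]
        have syz : y * z * (y * z) = 1 := by rw [cyz.symm.mul_mul_mul_comm, yy, zz, one_mul]
        have c1 : Commute (d * y) (d * z) :=
          ((Commute.refl d).mul_right cdz).mul_left (cdy.symm.mul_right cyz)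
        have e2 : d * y * (y * z) = d * z := by rw [← edy, ← mul_assoc, sdy, one_mul]
        have e3 : d * z * (y * z) = d * y := by rw [← edy, c1.eq, ← mul_assoc, sdz, one_mul]
        rcases ha with rfl | rfl | rfl | rfl <;> rcases hb with rfl | rfl | rfl | rfl
        all_goals simp [sdy, sdz, syz]
        · exact Or.inr (Or.inr (Or.inr edy))
        · exact Or.inr (Or.inr (Or.inl e2))
        · exact Or.inr (Or.inr (Or.inr (by rw [← c1.eq, edy])))
        · exact Or.inr (Or.inl e3)
        · exact Or.inr (Or.inr (Or.inl (by rw [← edy, c1.eq, mul_assoc, sdy, mul_one])))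
        · exact Or.inr (Or.inl (by rw [← edy, mul_assoc, sdz, mul_one]))
      | inv a _ ha =>
        rcases ha with rfl | rfl | rfl | rfl
        · simp
        · rw [mul_inv_rev, inv_eq hEs hd, inv_eq hEs hy, ← cdy.eq]; simp
        · rw [mul_inv_rev, inv_eq hEs hd, inv_eq hEs hz, ← cdz.eq]; simp
        · rw [mul_inv_rev, inv_eq hEs hy, inv_eq hEs hz, ← cyz.eq]; simp
    refine ⟨?_, ?_, fun k hk => ?_⟩
    · rcases hx' with rfl | rfl | rfl | rfl <;> simp [eight]
    · rcases hx' with rfl | rfl | rfl | rfl <;> simp [hχd, hχy, hχz]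
    · have hk' : ∀ i, Commute k (trio d y z i) := fun i => mul_inv_eq_iff_eq_mul.1 (mem_trio_centralizer.1 hk i)
      rcases hx' with rfl | rfl | rfl | rfl
      exacts [Commute.one_right k, (hk' 0).mul_right (hk' 1), (hk' 0).mul_right (hk' 2), (hk' 1).mul_right (hk' 2)]
  have h8E : ∀ x ∈ eight d y z, χ x = 1 → x ∈ E := by
    intro x hx h1
    have m1 : d * y ∈ E := hE ▸ subset_closure (Or.inl rfl)
    have m2 : d * z ∈ E := hE ▸ subset_closure (Or.inr rfl)
    simp only [eight, List.mem_cons, List.not_mem_nil, or_false] at hx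
    rcases hx with rfl | rfl | rfl | rfl | rfl | rfl | rfl | rfl
    · exact one_mem _
    · rw [hχd] at h1; exact absurd h1 (by decide)
    · rw [hχy] at h1; exact absurd h1 (by decide)
    · rw [hχz] at h1; exact absurd h1 (by decide)
    · exact m1
    · exact m2
    · have := mul_mem m1 m2
      rwa [mul_assoc, ← mul_assoc y d z, ← cdy.eq, mul_assoc d y z, ← mul_assoc, dd, one_mul] at this
    · rw [map_mul, map_mul, hχd, hχy, hχz] at h1; exact absurd h1 (by decide)
  -- fixing the four-group is fixing the three members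
  have hpairfix : ∀ g : G, g * (d * y) * g⁻¹ = d * y → g * (d * z) * g⁻¹ = d * z → g ∈ C := by
    intro g e1 e2
    have hcj : ∀ {a b : G}, CList D [a, b] → g * (a * b) * g⁻¹ = a * b →
        (g * a * g⁻¹ = a ∨ g * a * g⁻¹ = b) ∧ (g * b * g⁻¹ = a ∨ g * b * g⁻¹ = b) := fun {a b} hab e => by
      have := U.uniq 2 (by omega) _ [a, b] (hab.map_conj hcls g) hab (by simp) rfl
        (by rw [conj_list_prod]; simpa using e)
      exact ⟨by simpa using (this (g * a * g⁻¹)).1 (by simp), by simpa using (this (g * b * g⁻¹)).1 (by simp)⟩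
    have l1 : CList D [d, y] := ⟨(List.nodup_cons.2 ⟨by simpa using (show d ≠ y from hinj.ne (show (0 : Fin 3) ≠ 1 by decide)),
      List.nodup_singleton y⟩), by simp [hd, hy], by simp [cdy, cdy.symm]⟩
    have l2 : CList D [d, z] := ⟨(List.nodup_cons.2 ⟨by simpa using (show d ≠ z from hinj.ne (show (0 : Fin 3) ≠ 2 by decide)),
      List.nodup_singleton z⟩), by simp [hd, hz], by simp [cdz, cdz.symm]⟩
    obtain ⟨a1, a2⟩ := hcj l1 e1
    obtain ⟨b1, b2⟩ := hcj l2 e2
    have n01 : d ≠ y := hinj.ne (show (0 : Fin 3) ≠ 1 by decide)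
    have n02 : d ≠ z := hinj.ne (show (0 : Fin 3) ≠ 2 by decide)
    have n12 : y ≠ z := hinj.ne (show (1 : Fin 3) ≠ 2 by decide)
    have ginj : ∀ a b : G, g * a * g⁻¹ = g * b * g⁻¹ → a = b := fun a b e => mul_left_cancel (mul_right_cancel e)
    have hd' : g * d * g⁻¹ = d := by
      rcases a1 with e | e
      · exact e
      · rcases b1 with e' | e'
        · exact e'
        · exact absurd (e.symm.trans e') n12
    exact hfix g hd' (a2.resolve_left fun e => n01 (ginj _ _ (hd'.trans e.symm)))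
      (b2.resolve_left fun e => n02 (ginj _ _ (hd'.trans e.symm)))
  have hcentE : L ⊓ centralizer (E : Set G) = K₀ := by
    refine le_antisymm (fun g hg => ⟨hg.1, ?_⟩) fun g hg => ⟨hg.1, mem_centralizer_iff.2 fun x hx =>
      ((hEv x hx).2.2 g hg.2).eq.symm⟩
    have := mem_centralizer_iff.1 hg.2
    refine hpairfix g ?_ ?_ <;> rw [mul_inv_eq_iff_eq_mul] <;> refine (this _ ?_).symm
    exacts [hE ▸ subset_closure (Or.inl rfl), hE ▸ subset_closure (Or.inr rfl)]
  -- the model
  obtain ⟨F, _, _, h4, ψ, hψs, hψk, hψt⟩ := hcore.model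
  obtain ⟨hcardP, hsimp, hZP⟩ := psu_six_facts h4
  haveI := hsimp
  haveI : Finite (Cfsg.PSU 6 F 2) := Finite.of_surjective ψ hψs
  let ψ₀ : ↥K₀ →* Cfsg.PSU 6 F 2 := ψ.comp (inclusion inf_le_right)
  have hψ₀s : Function.Surjective ψ₀ := fun q => by
    obtain ⟨c, rfl⟩ := hψs q
    rcases Int.units_eq_one_or (χ c) with e | e
    · exact ⟨⟨c, by rw [hker]; exact e, c.2⟩, rfl⟩
    · refine ⟨⟨c * d, hm2 c.2 hdC e hχd⟩, ?_⟩
      show ψ (c * ⟨d, hdC⟩) = ψ c
      rw [map_mul, hψt ⟨d, hdC⟩ (Or.inl rfl), mul_one]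
  have hψ₀k : ψ₀.ker = E.subgroupOf K₀ := by
    ext k
    rw [MonoidHom.mem_ker, mem_subgroupOf]
    refine ⟨fun e => h8E _ (hψk _ e) (by have := k.2.1; rw [hker] at this; exact this), fun hk => ?_⟩
    have key : ∀ (w : G) (hwC : w ∈ C), w ∈ E → ψ ⟨w, hwC⟩ = 1 := fun w hwC hw => by
      rw [hE] at hw
      induction hw using closure_induction with
      | mem v hv =>
        rcases hv with rfl | rfl
        · rw [show (⟨d * y, hwC⟩ : ↥C) = ⟨d, hdC⟩ * ⟨y, hyC⟩ from rfl, map_mul, hψt _ (Or.inl rfl),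
            hψt _ (Or.inr (Or.inl rfl)), one_mul]
        · rw [show (⟨d * z, hwC⟩ : ↥C) = ⟨d, hdC⟩ * ⟨z, hzC⟩ from rfl, map_mul, hψt _ (Or.inl rfl),
            hψt _ (Or.inr (Or.inr rfl)), one_mul]
      | one => exact map_one ψ
      | mul a b ha hb iha ihb =>
        have hA : a ∈ C := (hEK (hE ▸ ha)).2
        have hB : b ∈ C := (hEK (hE ▸ hb)).2
        rw [show (⟨a * b, hwC⟩ : ↥C) = ⟨a, hA⟩ * ⟨b, hB⟩ from rfl, map_mul, iha, ihb, one_mul]
      | inv a ha iha =>
        have hA : a ∈ C := (hEK (hE ▸ ha)).2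
        rw [show (⟨a⁻¹, hwC⟩ : ↥C) = (⟨a, hA⟩ : ↥C)⁻¹ from rfl, map_inv, iha, inv_one]
    exact key k k.2.2 hk
  have hZK : center ↥K₀ = E.subgroupOf K₀ := by
    refine le_antisymm (fun k hk => ?_) fun k hk => ?_
    · rw [← hψ₀k, MonoidHom.mem_ker, ← mem_bot, ← hZP, mem_center_iff]
      intro q
      obtain ⟨w, rfl⟩ := hψ₀s q
      rw [← map_mul, ← map_mul, mem_center_iff.1 hk w]
    · exact mem_center_iff.2 fun w => Subtype.ext ((hEv _ hk).2.2 w w.2.2).eq
  have hperf : ⁅K₀, K₀⁆ = K₀ := by rw [hK₀, hker]; exact hcore.perfect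
  have hqK : IsQuasisimple ↥K₀ := by
    refine ⟨⟨?_⟩, ?_⟩
    · refine Subgroup.map_injective K₀.subtype_injective ?_
      rw [map_subtype_commutator, hperf, ← MonoidHom.range_eq_map, range_subtype]
    · exact ((QuotientGroup.quotientMulEquivOfEq (hZK.trans hψ₀k.symm)).trans
        (QuotientGroup.quotientKerEquivOfSurjective ψ₀ hψ₀s)).isSimpleGroup
  -- the centraliser of the product
  have hperm : ∀ g ∈ CL, ∀ i, ∃ j, g * trio d y z i * g⁻¹ = trio d y z j := by
    intro g hg i
    have e : g * (d * y * z) * g⁻¹ = d * y * z := by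
      rw [mul_inv_eq_iff_eq_mul]
      rw [hCL] at hg
      exact mem_centralizer_singleton_iff.1 hg.2
    have := (U.uniq 3 le_rfl _ [d, y, z] (hl.map_conj hcls g) hl (by simp) rfl
      (by rw [conj_list_prod]; simpa [mul_assoc] using e) (g * trio d y z i * g⁻¹)).1
      (by fin_cases i <;> simp [trio])
    simp only [List.mem_cons, List.not_mem_nil, or_false] at this
    rcases this with e' | e' | e'
    exacts [⟨0, e'⟩, ⟨1, e'⟩, ⟨2, e'⟩]
  choose f hf using hperm
  let σ : ↥CL →* Equiv.Perm (Fin 3) := MonoidHom.mk' (fun c =>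
    { toFun := f c c.2
      invFun := f (c⁻¹ : ↥CL) (c⁻¹).2
      left_inv := fun i => hinj (by rw [← hf, ← hf]; simp [mul_assoc])
      right_inv := fun i => hinj (by rw [← hf, ← hf]; simp [mul_assoc]) })
    fun a b => Equiv.ext fun i => hinj (by
      show trio d y z (f _ _ i) = trio d y z (f _ _ (f _ _ i))
      rw [← hf, ← hf, ← hf]; simp [mul_assoc])
  have hσ : ∀ (c : ↥CL) i, (c : G) * trio d y z i * (c : G)⁻¹ = trio d y z (σ c i) := fun c i => hf c c.2 i
  have hK₀CL : K₀ ≤ CL := by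
    rw [hCL]
    refine fun g hg => ⟨hg.1, mem_centralizer_singleton_iff.2 ?_⟩
    have hk' : ∀ i, Commute g (trio d y z i) := fun i => mul_inv_eq_iff_eq_mul.1 (mem_trio_centralizer.1 hg.2 i)
    exact (((hk' 0).mul_right (hk' 1)).mul_right (hk' 2)).eq
  have hσk : σ.ker = K₀.subgroupOf CL := by
    ext c
    rw [MonoidHom.mem_ker, mem_subgroupOf]
    constructor
    · intro e
      refine ⟨?_, mem_trio_centralizer.2 fun i => by rw [hσ, e]; rfl⟩
      have hc : (c : G) ∈ L ⊓ centralizer ({d * y * z} : Set G) := hCL ▸ c.2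
      exact hc.1
    · intro hc
      refine Equiv.ext fun i => hinj ?_
      rw [← hσ, mem_trio_centralizer.1 hc.2 i]
      rfl
  have hσs : Function.Surjective σ := by
    intro p
    obtain ⟨g, hg1, hg⟩ := exists_perm_sign hEs hlt hχ hl p
    have hgCL : g ∈ CL := by
      rw [hCL]
      refine ⟨by rw [hker]; exact hg1, mem_centralizer_singleton_iff.2 ?_⟩
      exact mul_inv_eq_iff_eq_mul.1 (trio_prod hl hg)
    exact ⟨⟨g, hgCL⟩, Equiv.ext fun i => hinj ((hσ ⟨g, hgCL⟩ i).symm.trans (hg i))⟩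
  haveI hKn : (K₀.subgroupOf CL).Normal := hσk ▸ inferInstance
  have hqKC : IsQuasisimple ↥(K₀.subgroupOf CL) := by
    obtain ⟨hp, hs⟩ := hqK
    let i := subgroupOfEquivOfLe hK₀CL
    refine ⟨⟨?_⟩, ?_⟩
    · have := congrArg (Subgroup.map i.symm.toMonoidHom) hp.commutator_eq_top
      rwa [_root_.commutator_def, Subgroup.map_commutator, Subgroup.map_top_of_surjective _ i.symm.surjective,
        ← _root_.commutator_def] at this
    · haveI := hs
      have hcm : (center ↥(K₀.subgroupOf CL)).map i.toMonoidHom = center ↥K₀ := by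
        ext x
        obtain ⟨w, rfl⟩ := i.surjective x
        constructor
        · rintro ⟨w', hw', e'⟩
          obtain rfl : w' = w := i.injective e'
          refine mem_center_iff.2 fun v => ?_
          obtain ⟨v, rfl⟩ := i.surjective v
          rw [← map_mul, ← map_mul, mem_center_iff.1 hw' v]
        · intro hw
          refine ⟨w, mem_center_iff.2 fun v => i.injective ?_, rfl⟩
          rw [map_mul, map_mul]
          exact mem_center_iff.1 hw _
      exact (QuotientGroup.congr _ _ i hcm).isSimpleGroup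
  have hcentral : ∀ c : ↥CL, (∀ k ∈ K₀, Commute (c : G) k) → (c : G) ∈ E := by
    intro c hc
    have hcC : (c : G) ∈ C := hpairfix c (by rw [(hc _ hdy).eq, mul_inv_cancel_right])
      (by rw [(hc _ hdz).eq, mul_inv_cancel_right])
    have hcl : (c : G) ∈ L ⊓ centralizer ({d * y * z} : Set G) := hCL ▸ c.2
    have hcK : (c : G) ∈ K₀ := ⟨hcl.1, hcC⟩
    have : (⟨c, hcK⟩ : ↥K₀) ∈ center ↥K₀ := mem_center_iff.2 fun w => Subtype.ext (hc w w.2).eq.symm
    rw [hZK] at this
    exact this
  have hFit : generalizedFittingSubgroup ↥CL = K₀.subgroupOf CL := genFitting_eq hqKC fun c hc => by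
    rw [mem_subgroupOf]
    refine hEK (hcentral c fun k hk => ?_)
    exact (congrArg Subtype.val (mem_centralizer_iff.1 hc ⟨k, hK₀CL hk⟩ hk)).symm
  have hKK : K = K₀ := by rw [hK, hFit, map_subgroupOf_eq_of_le hK₀CL]
  subst hKK
  have hEn : (E.subgroupOf K₀).Normal := hψ₀k ▸ inferInstance
  refine ⟨hqK, ?_, hcentE.symm, ⟨hEn, F, inferInstance, inferInstance, h4,
    ⟨(QuotientGroup.quotientMulEquivOfEq hψ₀k.symm).trans (QuotientGroup.quotientKerEquivOfSurjective ψ₀ hψ₀s)⟩⟩,
    hKn, ⟨(QuotientGroup.quotientMulEquivOfEq hσk.symm).trans (QuotientGroup.quotientKerEquivOfSurjective σ hσs)⟩,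
    hEK.trans hK₀CL, ?_⟩
  · rw [hZK, map_subgroupOf_eq_of_le hEK]
  -- the action on the quotient
  have hconjK : ∀ c : ↥CL, ∀ k ∈ K₀, (c : G) * k * (c : G)⁻¹ ∈ K₀ := fun c k hk => by
    have := hKn.conj_mem ⟨k, hK₀CL hk⟩ hk c
    exact this
  let α : ↥CL →* MulAut ↥K₀ := MonoidHom.mk' (fun c =>
    { toFun := fun k => ⟨(c : G) * k * (c : G)⁻¹, hconjK c k k.2⟩
      invFun := fun k => ⟨(c : G)⁻¹ * k * (c : G)⁻¹⁻¹, hconjK c⁻¹ k k.2⟩
      left_inv := fun k => Subtype.ext (by simp [mul_assoc])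
      right_inv := fun k => Subtype.ext (by simp [mul_assoc])
      map_mul' := fun k l => Subtype.ext (by simp [mul_assoc]) })
    fun c c' => MulEquiv.ext fun k => Subtype.ext (by simp [mul_assoc])
  obtain ⟨Θ, -, hΘ⟩ := exists_induced_aut ψ₀ hψ₀s α fun c k hk => by
    rw [← MonoidHom.mem_ker, hψ₀k, ← hZK] at hk ⊢
    refine mem_center_iff.2 fun w => ?_
    obtain ⟨w, rfl⟩ := (α c).surjective w
    rw [← map_mul, ← map_mul, mem_center_iff.1 hk w]
  have hEC : ∀ x ∈ E, ∀ k ∈ K₀, Commute x k := fun x hx k hk => ((hEv x hx).2.2 k hk.2).symm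
  have hΘk : Θ.ker = E.subgroupOf CL := by
    ext c
    rw [hΘ, mem_subgroupOf]
    constructor
    · intro hc
      refine hcentral c fun k hk => ?_
      -- trivial modulo the centre of a perfect group
      let δ : ↥K₀ → G := fun k => (k : G)⁻¹ * ((c : G) * k * (c : G)⁻¹)
      have hδE : ∀ k : ↥K₀, δ k ∈ E := fun k => by
        have h1 : k⁻¹ * α c k ∈ ψ₀.ker := by rw [MonoidHom.mem_ker, map_mul, map_inv, hc k, inv_mul_cancel]
        rw [hψ₀k] at h1
        exact h1
      have hδ : ∀ a b : ↥K₀, δ (a * b) = δ a * δ b := fun a b => by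
        show ((a : G) * b)⁻¹ * ((c : G) * ((a : G) * b) * (c : G)⁻¹) = _
        calc ((a : G) * b)⁻¹ * ((c : G) * ((a : G) * b) * (c : G)⁻¹) =
              (b : G)⁻¹ * (δ a * ((c : G) * b * (c : G)⁻¹)) := by simp only [δ]; group
          _ = δ a * δ b := by rw [← mul_assoc, ← (hEC _ (hδE a) _ (inv_mem b.2)).eq, mul_assoc]
      let δh : ↥K₀ →* ↥E := MonoidHom.mk' (fun k => ⟨δ k, hδE k⟩) fun a b => Subtype.ext (hδ a b)
      have htriv : (⊤ : Subgroup ↥K₀) ≤ δh.ker := by
        rw [← hqK.1.commutator_eq_top, _root_.commutator_def, Subgroup.commutator_le]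
        intro a _ b _
        rw [MonoidHom.mem_ker, map_commutatorElement, commutatorElement_eq_one_iff_mul_comm]
        exact Subtype.ext (hEC _ (hδE a) _ (hEK (hδE b))).eq
      have h1 : δ ⟨k, hk⟩ = 1 := congrArg Subtype.val (MonoidHom.mem_ker.1 (htriv (mem_top (⟨k, hk⟩ : ↥K₀))))
      exact mul_inv_eq_iff_eq_mul.1 (inv_mul_eq_one.1 h1).symm
    · intro hc k
      refine congrArg ψ₀ (Subtype.ext ?_)
      show (c : G) * k * (c : G)⁻¹ = k
      rw [(hEC _ hc _ k.2).eq, mul_inv_cancel_right]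
  have hF16 : Nat.card (MulAut (Cfsg.PSU 6 F 2)) = 55180984320 := by
    haveI : Fact (Nat.Prime 2) := ⟨Nat.prime_two⟩
    rw [Cfsg.Agent.S0815.result (F := F) 2 1 le_rfl (q := 2) (by norm_num) (by rw [h4]; norm_num) 6 (by norm_num)
      (by norm_num), hcardP]
    rfl
  haveI : Finite (MulAut (Cfsg.PSU 6 F 2)) :=
    Finite.of_injective (fun φ : MulAut (Cfsg.PSU 6 F 2) => (φ : Cfsg.PSU 6 F 2 → Cfsg.PSU 6 F 2)) DFunLike.coe_injective
  haveI hEn' : (E.subgroupOf CL).Normal := hΘk ▸ inferInstance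
  have hcE : Nat.card ↥(E.subgroupOf CL) = Nat.card ↥(E.subgroupOf K₀) :=
    (Nat.card_congr (subgroupOfEquivOfLe (hEK.trans hK₀CL)).toEquiv).trans
      (Nat.card_congr (subgroupOfEquivOfLe hEK).toEquiv).symm
  have hcK : Nat.card ↥K₀ = 9196830720 * Nat.card ↥(E.subgroupOf K₀) := by
    rw [Subgroup.card_eq_card_quotient_mul_card_subgroup (E.subgroupOf K₀)]
    congr 1
    exact (Nat.card_congr ((QuotientGroup.quotientMulEquivOfEq hψ₀k.symm).trans
      (QuotientGroup.quotientKerEquivOfSurjective ψ₀ hψ₀s)).toEquiv).trans hcardP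
  have hcL : Nat.card ↥CL = 6 * Nat.card ↥K₀ := by
    rw [Subgroup.card_eq_card_quotient_mul_card_subgroup (K₀.subgroupOf CL),
      Nat.card_congr (subgroupOfEquivOfLe hK₀CL).toEquiv,
      Nat.card_congr ((QuotientGroup.quotientMulEquivOfEq hσk.symm).trans
        (QuotientGroup.quotientKerEquivOfSurjective σ hσs)).toEquiv, Nat.card_perm, Nat.card_fin]
    rfl
  have hΘs : Function.Surjective Θ := by
    refine surjective_of_card Θ ((congrArg (fun X : Subgroup ↥CL => Nat.card ↥X) hΘk).trans hcE) rfl hF16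
      ⟨?_, Nat.card_pos⟩
    rw [hcL, hcK]
    ring
  exact ⟨hEn', F, inferInstance, inferInstance, h4,
    ⟨(QuotientGroup.quotientMulEquivOfEq hΘk.symm).trans (QuotientGroup.quotientKerEquivOfSurjective Θ hΘs)⟩⟩


/-- Let G be a finite group with trivial centre generated by a conjugation-invariant set D of 3-transpositions on which it acts primitively, such that for some d in D the subgroup generated by the members of D other than d commuting with d has central largest normal 2- and 3-subgroups, and suppose G with D is of type M(24), and let L be the commutator subgroup of G. Let d₁, d₂, d₃ be distinct pairwise commuting members of D, j their product, E the subgroup generated by d₁ d₂ and d₁ d₃ (a four-group lying in L), CL the centralizer of j in L and K its generalized Fitting subgroup. Then K is quasisimple with centre E, K is the centralizer of E in L, K modulo E is isomorphic to the projective special unitary group of dimension 6 over the field with four elements, CL/K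 is isomorphic to the symmetric group of degree 3, and CL modulo E is isomorphic to the full automorphism group of that unitary group. -/
theorem result {G : Type*} [Group G] [Finite G] {D : Set G} (hD : Cfsg.IsThreeTranspositionGroup D) (hprim : Cfsg.IsPrimitiveUnderConj D) (d₀ : G) (hd₀ : d₀ ∈ D) (h3 : Cfsg.pCore 3 ↥(Subgroup.closure {y : G | y ∈ D ∧ y ≠ d₀ ∧ Commute d₀ y}) ≤ Subgroup.center ↥(Subgroup.closure {y : G | y ∈ D ∧ y ≠ d₀ ∧ Commute d₀ y})) (h2 : Cfsg.pCore 2 ↥(Subgroup.closure {y : G | y ∈ D ∧ y ≠ d₀ ∧ Commute d₀ y}) ≤ Subgroup.center ↥(Subgroup.closure {y : G | y ∈ D ∧ y ≠ d₀ ∧ Commute d₀ y})) (h24 : Cfsg.IsOfTypeM24 G D) (L : Subgroup G) (hL : L = commutator G) (d₁ d₂ d₃ : G) (h₁ : d₁ ∈ D) (h₂ : d₂ ∈ D) (h₃ : d₃ ∈ D) (h12 : d₁ ≠ d₂) (h13 : d₁ ≠ d₃) (h23 : d₂ ≠ d₃) (c12 : Commute d₁ d₂) (c13 : Commute d₁ d₃) (c23 : Commute d₂ d₃) (E CL K : Subgroup G) (hE : E = Subgroup.closure ({d₁ * d₂, d₁ * d₃} : Set G)) (hCL : CL = L ⊓ Subgroup.centralizer ({d₁ * d₂ * d₃} : Set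 G)) (hK : K = (Cfsg.generalizedFittingSubgroup ↥CL).map CL.subtype) : Cfsg.IsQuasisimple ↥K ∧ (Subgroup.center ↥K).map K.subtype = E ∧ K = L ⊓ Subgroup.centralizer (E : Set G) ∧ (∃ (_ : (E.subgroupOf K).Normal) (F : Type) (_ : Field F) (_ : Fintype F), Fintype.card F = 4 ∧ Nonempty (↥K ⧸ E.subgroupOf K ≃* Cfsg.PSU 6 F 2)) ∧ ∃ _ : (K.subgroupOf CL).Normal, Nonempty (↥CL ⧸ K.subgroupOf CL ≃* Equiv.Perm (Fin 3)) ∧ E ≤ CL ∧ ∃ (_ : (E.subgroupOf CL).Normal) (F : Type) (_ : Field F) (_ : Fintype F), Fintype.card F = 4 ∧ Nonempty (↥CL ⧸ E.subgroupOf CL ≃* MulAut (Cfsg.PSU 6 F 2)) := by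
  exact main (Cfsg.Lib.ThreeTr.M24.mk' hD hprim h24) hL (clist_three h₁ h₂ h₃ h12 h13 h23 c12 c13 c23) hE hCL hK

end Cfsg.Agent.S5466
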