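import Cfsg.Statements.S5467
import Cfsg.Agent.FiFour.Quad.Local
-- import your own Cfsg.Agent.* helpers here

set_option autoImplicit false
open Cfsg

namespace Cfsg.Agent.S5467

/-- Let G be a finite group with trivial centre generated by a conjugation-invariant set D of 3-transpositions on which it acts primitively, such that for some d in D the subgroup generated by the members of D other than d commuting with d has central largest normal 2- and 3-subgroups, and suppose G with D is of type M(24), and let L be the commutator subgroup of G. Let z be the product of four distinct pairwise commuting members of D (an involution of L) and C its centralizer in L. Then the generalized Fitting subgroup Q of C is extraspecial of order 2^13, and C has normal subgroups Q ≤ N ≤ M with N/Q of order 3, M/N isomorphic to the projective special unitary group of dimension 4 over the field with nine elements, and M of index 2 in C. -/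
theorem result {G : Type*} [Group G] [Finite G] {D : Set G} (hD : Cfsg.IsThreeTranspositionGroup D) (hprim : Cfsg.IsPrimitiveUnderConj D) (d₀ : G) (hd₀ : d₀ ∈ D) (h3 : Cfsg.pCore 3 ↥(Subgroup.closure {y : G | y ∈ D ∧ y ≠ d₀ ∧ Commute d₀ y}) ≤ Subgroup.center ↥(Subgroup.closure {y : G | y ∈ D ∧ y ≠ d₀ ∧ Commute d₀ y})) (h2 : Cfsg.pCore 2 ↥(Subgroup.closure {y : G | y ∈ D ∧ y ≠ d₀ ∧ Commute d₀ y}) ≤ Subgroup.center ↥(Subgroup.closure {y : G | y ∈ D ∧ y ≠ d₀ ∧ Commute d₀ y})) (h24 : Cfsg.IsOfTypeM24 G D) (L : Subgroup G) (hL : L = commutator G) (z : G) (l : List G) (hl : (l.Nodup ∧ l.length = 4 ∧ (∀ a ∈ l, a ∈ D) ∧ (∀ a ∈ l, ∀ b ∈ l, Commute a b) ∧ l.prod = z)) (C : Subgroup G) (hC : C = L ⊓ Subgroup.centralizer ({z} : Set G)) : ∃ (Q : Subgroup ↥C) (_ : Q.Normal), Cfsg.generalizedFittingSubgroup ↥C = Q ∧ Cfsg.IsExtraspecial 2 ↥Q ∧ Nat.card Q = 2 ^ 13 ∧ ∃ (N M : Subgroup ↥C) (_ : N.Normal) (_ : M.Normal), Q ≤ N ∧ N ≤ M ∧ Nat.card N = 3 * Nat.card Q ∧ (∃ (K : Type) (_ : Field K) (_ : Fintype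 K), Fintype.card K = 9 ∧ Nonempty (↥M ⧸ N.subgroupOf M ≃* Cfsg.PSU 4 K 3)) ∧ M.index = 2 := by
  open Cfsg.Lib.FiFour Cfsg.Lib.FiFour.Quad Cfsg.Lib.ThreeTr in
  obtain ⟨e, he⟩ := exists_iso hD hprim h24
  subst hC hL
  obtain ⟨hnd, hlen, hlD, hlc, hlz⟩ := hl
  have hmem : ∀ x : G, x ∈ D → e.symm x ∈ transp := fun x hx => by
    rw [← he] at hx
    obtain ⟨t, ht, rfl⟩ := hx
    rwa [MulEquiv.symm_apply_apply]
  have hcl : CList transp (l.map e.symm) :=
    ⟨hnd.map e.symm.injective, fun w hw => by obtain ⟨a, ha, rfl⟩ := List.mem_map.1 hw; exact hmem a (hlD a ha),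
      fun w hw v hv => by
        obtain ⟨a, ha, rfl⟩ := List.mem_map.1 hw
        obtain ⟨b, hb, rfl⟩ := List.mem_map.1 hv
        exact (hlc a ha b hb).map e.symm⟩
  obtain ⟨g, hg⟩ := hm.listTrans (four 0) (l.map e.symm) (four_ok 0).1 hcl (by simp [four, hlen]) le_rfl
  have hz : e (g * z0 * g⁻¹) = z := by
    have h := congrArg List.prod hg
    rw [conj_list_prod, (four_ok 0).2] at h
    rw [← h, ← map_list_prod e.symm l, MulEquiv.apply_symm_apply, hlz]
  let φ : Gm ≃* G := (MulAut.conj g).trans e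
  have hφz : φ z0 = z := hz
  have hderiv : commutator G = chi.ker.map e.toMonoidHom := by
    rw [show chi.ker = commutator Gm from commutator_eq.symm, commutator_def, commutator_def, Subgroup.map_commutator,
      Subgroup.map_top_of_surjective e.toMonoidHom e.surjective]
  have heven : chi.ker.map φ.toMonoidHom = commutator G := by
    rw [hderiv]
    refine le_antisymm (Subgroup.map_le_iff_le_comap.2 fun x hx => ⟨g * x * g⁻¹, ?_, rfl⟩) ?_
    · exact (inferInstance : chi.ker.Normal).conj_mem x hx g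
    · rintro _ ⟨x, hx, rfl⟩
      exact ⟨g⁻¹ * x * g⁻¹⁻¹, (inferInstance : chi.ker.Normal).conj_mem x hx g⁻¹, by simp [φ, mul_assoc]⟩
  have hcz : (chi.ker ⊓ Subgroup.centralizer ({z0} : Set Gm)).map φ.toMonoidHom =
      commutator G ⊓ Subgroup.centralizer ({z} : Set G) := by
    rw [Subgroup.map_inf _ _ _ φ.injective, heven]
    congr 1
    ext y
    obtain ⟨x, rfl⟩ := φ.surjective y
    rw [Subgroup.mem_map_equiv, MulEquiv.symm_apply_apply, Subgroup.mem_centralizer_singleton_iff,
      Subgroup.mem_centralizer_singleton_iff, ← hφz, ← map_mul, ← map_mul, φ.injective.eq_iff]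
  let j : ↥Ce ≃* ↥(chi.ker ⊓ Subgroup.centralizer ({z0} : Set Gm)) :=
    { toFun := fun x => ⟨x.1.1, x.2, x.1.2⟩
      invFun := fun x => ⟨⟨x.1, x.2.2⟩, x.2.1⟩
      left_inv := fun x => rfl
      right_inv := fun x => rfl
      map_mul' := fun x y => rfl }
  exact shape_congr ((j.trans (φ.subgroupMap _)).trans (MulEquiv.subgroupCongr hcz)) shape_Ce

end Cfsg.Agent.S5467
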