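import Cfsg.Statements.S5468
import Cfsg.Agent.ThreeTransposition.M23Count.PairCentraliser

set_option autoImplicit false
open Cfsg

namespace Cfsg.Agent.S5468

/-- Let G be a finite group with trivial centre generated by a conjugation-invariant set D of 3-transpositions on which it acts primitively, such that for some d in D the subgroup generated by the members of D other than d commuting with d has central largest normal 2- and 3-subgroups, and suppose G with D is of type M(23). Let d₁, d₂ be distinct commuting members of D, j = d₁ d₂, K the joint centralizer of d₁ and d₂ and C the centralizer of j. Then K has index 2 in C, the centre of K is the subgroup generated by d₁ and d₂, K is quasisimple with K modulo its centre isomorphic to the projective special unitary group of dimension 6 over the field with four elements, and C modulo the subgroup generated by d₁ and d₂ has trivial centre (so it is that unitary group extended by an outer involution). -/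
theorem result {G : Type*} [Group G] [Finite G] {D : Set G} (hD : Cfsg.IsThreeTranspositionGroup D) (hprim : Cfsg.IsPrimitiveUnderConj D) (d₀ : G) (hd₀ : d₀ ∈ D) (h3 : Cfsg.pCore 3 ↥(Subgroup.closure {y : G | y ∈ D ∧ y ≠ d₀ ∧ Commute d₀ y}) ≤ Subgroup.center ↥(Subgroup.closure {y : G | y ∈ D ∧ y ≠ d₀ ∧ Commute d₀ y})) (h2 : Cfsg.pCore 2 ↥(Subgroup.closure {y : G | y ∈ D ∧ y ≠ d₀ ∧ Commute d₀ y}) ≤ Subgroup.center ↥(Subgroup.closure {y : G | y ∈ D ∧ y ≠ d₀ ∧ Commute d₀ y})) (h23 : Cfsg.IsOfTypeM23 G D) (d₁ d₂ : G) (h₁ : d₁ ∈ D) (h₂ : d₂ ∈ D) (hne : d₁ ≠ d₂) (hc : Commute d₁ d₂) (K C V : Subgroup G) (hK : K = Subgroup.centralizer ({d₁, d₂} : Set G)) (hC : C = Subgroup.centralizer ({d₁ * d₂} : Set G)) (hV : V = Subgroup.closure ({d₁, d₂} : Set G)) [hn : (V.subgroupOf C).Normal] : K ≤ C ∧ (K.subgroupOf C).index = 2 ∧ (Subgroup.center ↥K).map K.subtype = V ∧ Cfsg.IsQuasisimple ↥K ∧ (∃ (F : Type) (_ : Field F) (_ : Fintype F), Fintype.card F = 4 ∧ Nonempty (↥K ⧸ Subgroup.center ↥K ≃* Cfsg.PSU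 6 F 2)) ∧ Subgroup.center (↥C ⧸ V.subgroupOf C) = ⊥ := by
  open Cfsg.Lib.ThreeTr Subgroup in
  classical
  have h := M23.mk' hD hprim h23
  have hE := h.cls.1
  have hb : d₂ ∈ perp D d₁ := ⟨h₂, hne.symm, hc⟩
  have hKg : K = closure (perp D d₁ ∩ perp D d₂) := hK.trans (h.pair_centralizer h₁ hb)
  have hKc : ∀ g, g ∈ K ↔ Commute g d₁ ∧ Commute g d₂ := fun g => by
    rw [hK, mem_centralizer_iff]
    refine ⟨fun hg => ⟨(hg d₁ (Or.inl rfl)).symm, (hg d₂ (Or.inr rfl)).symm⟩, ?_⟩
    rintro ⟨k1, k2⟩ y (rfl | rfl)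
    exacts [k1.symm.eq, k2.symm.eq]
  have hCc : ∀ g, g ∈ C ↔ g * (d₁ * d₂) * g⁻¹ = d₁ * d₂ := fun g => by
    rw [hC, mem_centralizer_singleton_iff]
    exact (mul_inv_eq_iff_eq_mul).symm
  have hKC : K ≤ C := fun g hg => (hCc g).2 (by
    rw [((((hKc g).1 hg).1).mul_right ((hKc g).1 hg).2).eq, mul_inv_cancel_right])
  -- elements of the centraliser of the product permute the pair
  have hperm : ∀ g ∈ C, (g * d₁ * g⁻¹ = d₁ ∧ g * d₂ * g⁻¹ = d₂) ∨ (g * d₁ * g⁻¹ = d₂ ∧ g * d₂ * g⁻¹ = d₁) := by
    intro g hg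
    have hne' : g * d₁ * g⁻¹ ≠ g * d₂ * g⁻¹ := fun e => hne (mul_left_cancel (mul_right_cancel e))
    have hu := pair_unique hE h.twin' (l := [g * d₁ * g⁻¹, g * d₂ * g⁻¹]) (l' := [d₁, d₂]) rfl rfl
      (by simpa using hne') (by simpa using hne)
      (by simp [conj_mem h.cls g h₁, conj_mem h.cls g h₂]) (by simp [h₁, h₂])
      (by
        intro x hx y hy
        simp only [List.mem_cons, List.not_mem_nil, or_false] at hx hy
        rcases hx with rfl | rfl <;> rcases hy with rfl | rfl
        exacts [Commute.refl _, (conj_commute_iff g d₁ d₂).2 hc, (conj_commute_iff g d₂ d₁).2 hc.symm, Commute.refl _])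
      (by
        intro x hx y hy
        simp only [List.mem_cons, List.not_mem_nil, or_false] at hx hy
        rcases hx with rfl | rfl <;> rcases hy with rfl | rfl
        exacts [Commute.refl _, hc, hc.symm, Commute.refl _])
      (by
        simp only [List.prod_cons, List.prod_nil, mul_one]
        rw [show g * d₁ * g⁻¹ * (g * d₂ * g⁻¹) = g * (d₁ * d₂) * g⁻¹ by group]
        exact (hCc g).1 hg)
    have k1 := (hu (g * d₁ * g⁻¹)).1 (by simp)
    have k2 := (hu (g * d₂ * g⁻¹)).1 (by simp)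
    simp only [List.mem_cons, List.not_mem_nil, or_false] at k1 k2
    rcases k1 with k1 | k1 <;> rcases k2 with k2 | k2
    · exact absurd (k1.trans k2.symm) hne'
    · exact Or.inl ⟨k1, k2⟩
    · exact Or.inr ⟨k1, k2⟩
    · exact absurd (k1.trans k2.symm) hne'
  obtain ⟨s, hs1, hs2⟩ := h.pair_moves h₁ hb h₂ (show d₁ ∈ perp D d₂ from ⟨h₁, hne, hc.symm⟩)
  have hsC : s ∈ C := (hCc s).2 (by
    rw [show s * (d₁ * d₂) * s⁻¹ = s * d₁ * s⁻¹ * (s * d₂ * s⁻¹) by group, hs1, hs2, hc.eq])
  have hidx : (K.subgroupOf C).index = 2 := by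
    rw [Subgroup.index_eq_two_iff]
    refine ⟨⟨s, hsC⟩, fun g => ?_⟩
    rw [mem_subgroupOf, mem_subgroupOf, hKc, hKc]
    have e1 : ∀ {u v : G}, Commute u v ↔ u * v * u⁻¹ = v := fun {u v} => (mul_inv_eq_iff_eq_mul).symm
    simp only [e1, coe_mul]
    rw [show (g : G) * s * d₁ * ((g : G) * s)⁻¹ = (g : G) * (s * d₁ * s⁻¹) * (g : G)⁻¹ by group,
      show (g : G) * s * d₂ * ((g : G) * s)⁻¹ = (g : G) * (s * d₂ * s⁻¹) * (g : G)⁻¹ by group, hs1, hs2]
    rcases hperm g g.2 with ⟨k1, k2⟩ | ⟨k1, k2⟩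
    · exact Or.inr ⟨⟨k1, k2⟩, fun hh => hne (k2.symm.trans hh.1).symm⟩
    · exact Or.inl ⟨⟨k2, k1⟩, fun hh => hne (hh.1.symm.trans k1)⟩
  have hVK : ∀ v ∈ V, v ∈ K ∧ ∀ k ∈ K, Commute v k := by
    intro v hv
    rw [hV] at hv
    induction hv using closure_induction with
    | mem y hy =>
      rcases hy with rfl | rfl
      · exact ⟨(hKc _).2 ⟨Commute.refl _, hc⟩, fun k hk => ((hKc k).1 hk).1.symm⟩
      · exact ⟨(hKc _).2 ⟨hc.symm, Commute.refl _⟩, fun k hk => ((hKc k).1 hk).2.symm⟩
    | one => exact ⟨one_mem _, fun k _ => Commute.one_left k⟩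
    | mul u w _ _ hu hw => exact ⟨mul_mem hu.1 hw.1, fun k hk => (hu.2 k hk).mul_left (hw.2 k hk)⟩
    | inv u _ hu => exact ⟨inv_mem hu.1, fun k hk => (hu.2 k hk).inv_left⟩
  have hV4 : ∀ z, (z = 1 ∨ z = d₁ ∨ z = d₂ ∨ z = d₁ * d₂) → z ∈ V := by
    have k1 : d₁ ∈ V := by rw [hV]; exact subset_closure (Or.inl rfl)
    have k2 : d₂ ∈ V := by rw [hV]; exact subset_closure (Or.inr rfl)
    rintro z (rfl | rfl | rfl | rfl)
    exacts [one_mem _, k1, k2, mul_mem k1 k2]
  have hVfour : ∀ z ∈ V, z = 1 ∨ z = d₁ ∨ z = d₂ ∨ z = d₁ * d₂ := fun z hz =>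
    h.pair_center h₁ hb ((hKc z).1 (hVK z hz).1).1 ((hKc z).1 (hVK z hz).1).2 fun y hy =>
      ((hVK z hz).2 y (hKg ▸ subset_closure hy)).symm
  have hcenK : (center ↥K).map K.subtype = V := by
    ext z
    constructor
    · rintro ⟨z, hz, rfl⟩
      exact hV4 _ (h.pair_center h₁ hb ((hKc _).1 z.2).1 ((hKc _).1 z.2).2 fun y hy =>
        congrArg Subtype.val (mem_center_iff.1 hz ⟨y, hKg ▸ subset_closure hy⟩))
    · intro hz
      exact ⟨⟨z, (hVK z hz).1⟩, mem_center_iff.2 fun k => Subtype.ext ((hVK z hz).2 k k.2).symm.eq, rfl⟩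
  have hcenC : center (↥C ⧸ V.subgroupOf C) = ⊥ := by
    rw [eq_bot_iff]
    intro q hq
    obtain ⟨c, rfl⟩ := QuotientGroup.mk_surjective q
    rw [mem_bot, QuotientGroup.eq_one_iff, mem_subgroupOf]
    have hfix : ∀ y ∈ perp D d₁ ∩ perp D d₂, Commute (c : G) y := by
      intro y hy
      have hyK : y ∈ K := hKg ▸ subset_closure hy
      have e := QuotientGroup.eq.1 (mem_center_iff.1 hq (QuotientGroup.mk ⟨y, hKC hyK⟩))
      rw [mem_subgroupOf] at e
      set w := (c : G) * y * (c : G)⁻¹ with hw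
      have hyw : y * w ∈ V := by
        have e' : ((y * (c : G))⁻¹ * ((c : G) * y)) ∈ V := e
        obtain ⟨v, hv, hve⟩ : ∃ v ∈ V, (c : G) * y = y * (c : G) * v := ⟨_, e', by group⟩
        have : y * w = (c : G) * v * (c : G)⁻¹ := by
          rw [hw, hve]
          simp only [← mul_assoc]
          rw [sq_eq_one hE hy.1.1, one_mul]
        rw [this]
        have := (inferInstance : (V.subgroupOf C).Normal).conj_mem ⟨v, hKC (hVK v hv).1⟩ hv c
        exact this
      have hwD : w ∈ D := conj_mem h.cls _ hy.1.1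
      have hyy := sq_eq_one hE hy.1.1
      have nomem : ∀ z ∈ perp D y, y * z ∉ D := by
        intro z hz hz'
        let A : G → Finset G := fun p => (mem' D).filter fun e => Commute e p
        have hk : ∀ p ∈ D, (A p).card = 3510 + 1 := fun p hp => h.solid.full.tower.card_comm hp
        have hsub : ∀ e, e ∈ A (y * z) → e ∈ A y ∧ e ∈ A z := fun e he => by
          simp only [A, Finset.mem_filter, mem_mem'] at he ⊢
          have := (commute_pair_iff hE hy.1.1 hz.1 he.1 hz.2.1.symm hz.2.2).1 he.2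
          exact ⟨⟨he.1, this.1⟩, he.1, this.2⟩
        have ey : A (y * z) = A y :=
          Finset.eq_of_subset_of_card_le (fun e he => (hsub e he).1) (by rw [hk y hy.1.1, hk _ hz'])
        have ez : A (y * z) = A z :=
          Finset.eq_of_subset_of_card_le (fun e he => (hsub e he).2) (by rw [hk z hz.1, hk _ hz'])
        refine hz.2.1 (h.twin' y hy.1.1 z hz.1 fun e he => ?_).symm
        have key : e ∈ A y ↔ e ∈ A z := by rw [← ey, ← ez]
        simp only [A, Finset.mem_filter, mem_mem', he, true_and] at key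
        exact ⟨fun k => (key.1 k.symm).symm, fun k => (key.2 k.symm).symm⟩
      rcases hVfour _ hyw with e' | e' | e' | e'
      · show (c : G) * y = y * c
        rw [← mul_inv_eq_iff_eq_mul, ← hw, eq_inv_of_mul_eq_one_right e', inv_eq hE hy.1.1]
      · exact absurd (show y * d₁ ∈ D by
          rw [← e', ← mul_assoc, hyy, one_mul]; exact hwD) (nomem d₁ ⟨h₁, hy.1.2.1.symm, hy.1.2.2.symm⟩)
      · exact absurd (show y * d₂ ∈ D by
          rw [← e', ← mul_assoc, hyy, one_mul]; exact hwD) (nomem d₂ ⟨h₂, hy.2.2.1.symm, hy.2.2.2.symm⟩)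
      · exfalso
        have hw' : w = y * (d₁ * d₂) := by rw [← e', ← mul_assoc, hyy, one_mul]
        have hcy1 := hy.1.2.2
        have hcy2 := hy.2.2.2
        have hwc : Commute w d₁ := by
          rw [hw']; exact hcy1.symm.mul_left ((Commute.refl d₁).mul_left hc.symm)
        have hwd2 : Commute w d₂ := by
          rw [hw']; exact hcy2.symm.mul_left (hc.mul_left (Commute.refl d₂))
        have hwne : w ≠ d₁ := fun e1 => (nomem d₂ ⟨h₂, hy.2.2.1.symm, hy.2.2.2.symm⟩) (by
          have : y * d₂ = 1 := by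
            have h1 : y * (d₁ * d₂) = d₁ := hw'.symm.trans e1
            rw [hc.eq, ← mul_assoc] at h1
            exact mul_eq_right.1 h1
          rw [show y = d₂ by rw [eq_inv_of_mul_eq_one_left this, inv_eq hE h₂]] at hy
          exact absurd rfl hy.2.2.1)
        have hprod : w * d₁ = y * d₂ := by
          rw [hw', hc.eq, mul_assoc, mul_assoc, sq_eq_one hE h₁, mul_one]
        have hu := pair_unique hE h.twin' (l := [w, d₁]) (l' := [y, d₂]) rfl rfl (by simpa using hwne)
          (by simpa using hy.2.2.1) (by simp [hwD, h₁]) (by simp [hy.1.1, h₂])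
          (by
            intro p hp q hq
            simp only [List.mem_cons, List.not_mem_nil, or_false] at hp hq
            rcases hp with rfl | rfl <;> rcases hq with rfl | rfl
            exacts [Commute.refl _, hwc, hwc.symm, Commute.refl _])
          (by
            intro p hp q hq
            simp only [List.mem_cons, List.not_mem_nil, or_false] at hp hq
            rcases hp with rfl | rfl <;> rcases hq with rfl | rfl
            exacts [Commute.refl _, hcy2.symm, hcy2, Commute.refl _])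
          (by simpa using hprod)
        have := (hu d₁).1 (by simp)
        simp only [List.mem_cons, List.not_mem_nil, or_false] at this
        rcases this with e1 | e1
        · exact hy.1.2.1 e1.symm
        · exact hne e1
    have hcK : ∀ k ∈ K, Commute (c : G) k := by
      intro k hk
      rw [hKg] at hk
      induction hk using closure_induction with
      | mem y hy => exact hfix y hy
      | one => exact Commute.one_right _
      | mul u v _ _ hu hv => exact hu.mul_right hv
      | inv u _ hu => exact hu.inv_right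
    have hd1K : d₁ ∈ K := (hKc _).2 ⟨Commute.refl _, hc⟩
    have hd2K : d₂ ∈ K := (hKc _).2 ⟨hc.symm, Commute.refl _⟩
    exact hV4 _ (h.pair_center h₁ hb (hcK _ hd1K) (hcK _ hd2K) fun y hy => (hfix y hy).symm)
  subst hKg
  exact ⟨hKC, hidx, hcenK, h.pair_quasisimple h₁ hb, h.pair_psu h₁ hb, hcenC⟩

end Cfsg.Agent.S5468
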