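import Cfsg.Statements.S5471
import Cfsg.Agent.ThreeTransposition.PairSwap

set_option autoImplicit false
open Cfsg

namespace Cfsg.Agent.S5471

/-- Let G be a finite group with trivial centre generated by a conjugation-invariant set D of 3-transpositions on which it acts primitively, such that for some d in D the subgroup generated by the members of D other than d commuting with d has central largest normal 2- and 3-subgroups, and suppose G with D is of type M(23). Let d₁, d₂, d₃ be distinct pairwise commuting members of D and j their product. Then the joint centralizer of d₁, d₂, d₃ is normal in the centralizer of j with quotient isomorphic to the symmetric group of degree 3. -/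
theorem result {G : Type*} [Group G] [Finite G] {D : Set G} (hD : Cfsg.IsThreeTranspositionGroup D) (hprim : Cfsg.IsPrimitiveUnderConj D) (d₀ : G) (hd₀ : d₀ ∈ D) (h3 : Cfsg.pCore 3 ↥(Subgroup.closure {y : G | y ∈ D ∧ y ≠ d₀ ∧ Commute d₀ y}) ≤ Subgroup.center ↥(Subgroup.closure {y : G | y ∈ D ∧ y ≠ d₀ ∧ Commute d₀ y})) (h2 : Cfsg.pCore 2 ↥(Subgroup.closure {y : G | y ∈ D ∧ y ≠ d₀ ∧ Commute d₀ y}) ≤ Subgroup.center ↥(Subgroup.closure {y : G | y ∈ D ∧ y ≠ d₀ ∧ Commute d₀ y})) (h23 : Cfsg.IsOfTypeM23 G D) (d₁ d₂ d₃ : G) (h₁ : d₁ ∈ D) (h₂ : d₂ ∈ D) (h₃ : d₃ ∈ D) (h12 : d₁ ≠ d₂) (h13 : d₁ ≠ d₃) (h23 : d₂ ≠ d₃) (c12 : Commute d₁ d₂) (c13 : Commute d₁ d₃) (c23 : Commute d₂ d₃) (K C : Subgroup G) (hK : K = Subgroup.centralizer ({d₁, d₂, d₃} : Set G)) (hC : C = Subgroup.centralizer ({d₁ * d₂ * d₃} : Set G)) : K ≤ C ∧ ∃ _ : (K.subgroupOf C).Normal, Nonempty (↥C ⧸ K.subgroupOf C ≃* Equiv.Perm (Fin 3)) := by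
  have h23' : Cfsg.IsOfTypeM23 G D := by assumption
  obtain ⟨hcls, hT, h6⟩ := Cfsg.Lib.ThreeTr.six_noRel hD hprim hd₀ h2 (Or.inl h23')
  have hmem : ∀ i, (![d₁, d₂, d₃] : Fin 3 → G) i ∈ D := by intro i; fin_cases i <;> assumption
  have hinj : Function.Injective (![d₁, d₂, d₃] : Fin 3 → G) := by
    intro i k h
    fin_cases i <;> fin_cases k <;> simp_all
  have hcomm : ∀ i k, Commute ((![d₁, d₂, d₃] : Fin 3 → G) i) ((![d₁, d₂, d₃] : Fin 3 → G) k) := by
    intro i k
    fin_cases i <;> fin_cases k <;>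
      first | exact Commute.refl _ | assumption | exact c12.symm | exact c13.symm | exact c23.symm
  refine Cfsg.Lib.ThreeTr.triple_quotient hcls ![d₁, d₂, d₃] hinj hmem hcomm (fun i h1 h2 => ?_) ?_ K C ?_ ?_
  · obtain rfl | rfl | rfl : i = 1 ∨ i = 2 ∨ i = 3 := by omega
    exacts [Cfsg.Lib.ThreeTr.two_noRel hcls.1, Cfsg.Lib.ThreeTr.four_noRel hcls.1 hT, h6]
  · intro i k hik l hli hlk
    exact Cfsg.Lib.ThreeTr.m23_swap hD hprim hd₀ h2 h23' (hmem l)
      ⟨hmem i, fun e => hli (hinj e).symm, hcomm l i⟩ ⟨hmem k, fun e => hlk (hinj e).symm, hcomm l k⟩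
      (fun e => hik (hinj e)) (hcomm i k)
  · intro g
    rw [hK, Subgroup.mem_centralizer_iff]
    refine ⟨fun h i => ?_, fun h x hx => ?_⟩
    · fin_cases i
      · exact (h d₁ (by simp)).symm
      · exact (h d₂ (by simp)).symm
      · exact (h d₃ (by simp)).symm
    · rcases hx with rfl | rfl | rfl
      exacts [(h 0).symm.eq, (h 1).symm.eq, (h 2).symm.eq]
  · intro g
    rw [hC, Subgroup.mem_centralizer_singleton_iff]
    rfl

end Cfsg.Agent.S5471
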