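import Cfsg.Statements.S5514
import Cfsg.Agent.OrthSevenThree.Classes
-- import your own Cfsg.Agent.* helpers here

set_option autoImplicit false
open Cfsg

namespace Cfsg.Agent.S5514

/-- The commutator subgroup of the isometry group of a non-degenerate 7-dimensional quadratic form over the field with three elements, modulo its (trivial) centre — the simple group Ω(7, 3) — has exactly seven conjugacy classes of subgroups of order 3. -/
theorem result : ∃ Y : Fin 7 → Subgroup (Cfsg.POmega (ZMod 3) (Cfsg.quadFormOdd 3 (ZMod 3))), (∀ i, Nat.card (Y i) = 3) ∧ (∀ i j, (∃ g : Cfsg.POmega (ZMod 3) (Cfsg.quadFormOdd 3 (ZMod 3)), (Y i).map (MulAut.conj g).toMonoidHom = Y j) → i = j) ∧ (∀ X : Subgroup (Cfsg.POmega (ZMod 3) (Cfsg.quadFormOdd 3 (ZMod 3))), Nat.card X = 3 → ∃ i, ∃ g : Cfsg.POmega (ZMod 3) (Cfsg.quadFormOdd 3 (ZMod 3)), X.map (MulAut.conj g).toMonoidHom = Y i) := by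
  rw [← Cfsg.Lib.FiPres.Qf_coe]
  let e : Cfsg.POmega (ZMod 3) (⇑Cfsg.Lib.FiPres.Qf) ≃* Cfsg.Lib.OrthSevenThree.Om :=
    (QuotientGroup.quotientMulEquivOfEq Cfsg.Lib.FiPres.card_omega7.2).trans QuotientGroup.quotientBot
  let y := fun i => e.symm (Cfsg.Lib.OrthSevenThree.rep i)
  refine ⟨fun i => Subgroup.zpowers (y i), fun i => ?_, ?_, ?_⟩
  · rw [Nat.card_zpowers, MulEquiv.orderOf_eq, Cfsg.Lib.OrthSevenThree.orderOf_rep]
  · rintro i j ⟨g, hg⟩
    rw [MonoidHom.map_zpowers] at hg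
    have h : g * y i * g⁻¹ ∈ Subgroup.zpowers (y j) := by
      simp only at hg
      rw [← hg]
      exact Subgroup.mem_zpowers _
    obtain ⟨n, hn⟩ := Subgroup.mem_zpowers_iff.1 h
    refine Cfsg.Lib.OrthSevenThree.rep_conj (c := e g) (Subgroup.mem_zpowers_iff.2 ⟨n, ?_⟩)
    have := congrArg e hn
    simpa [y] using this
  · intro X hX
    have : Fact (Nat.Prime 3) := ⟨Nat.prime_three⟩
    obtain ⟨x, hx⟩ := (isCyclic_of_prime_card hX).exists_generator
    have hxX : X = Subgroup.zpowers (x : Cfsg.POmega (ZMod 3) (⇑Cfsg.Lib.FiPres.Qf)) := by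
      refine le_antisymm (fun a ha => ?_) (Subgroup.zpowers_le.2 x.2)
      obtain ⟨n, hn⟩ := Subgroup.mem_zpowers_iff.1 (hx ⟨a, ha⟩)
      exact Subgroup.mem_zpowers_iff.2 ⟨n, by rw [← SubgroupClass.coe_zpow, hn]⟩
    have ho : orderOf (e x.1) = 3 := by
      rw [MulEquiv.orderOf_eq, ← Nat.card_zpowers, ← hxX, hX]
    obtain ⟨i, c, hc⟩ := Cfsg.Lib.OrthSevenThree.seven_classes _ ho
    refine ⟨i, e.symm c⁻¹, ?_⟩
    rw [hxX, MonoidHom.map_zpowers]
    congr 1
    apply e.injective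
    show e (e.symm c⁻¹ * x.1 * (e.symm c⁻¹)⁻¹) = e (y i)
    simp only [y, map_mul, map_inv, MulEquiv.apply_symm_apply, hc]
    group

end Cfsg.Agent.S5514
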