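import Cfsg.Statements.S5519
import Cfsg.Agent.ThreeTransposition.M22Count.Pair.Fitting
import Cfsg.Agent.ThreeTransposition.M22Count.Pair.OrthSix

set_option autoImplicit false
set_option linter.style.haveILetI false
open Cfsg

namespace Cfsg.Agent.S5519

/-- A small carrier for a transported group. -/
structure Slot (n : ℕ) where
  /-- The index. -/
  idx : Fin n

/-- The index as an equivalence. -/
def slotEquiv (n : ℕ) : Slot n ≃ Fin n := ⟨Slot.idx, Slot.mk, fun _ => rfl, fun _ => rfl⟩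

/-- Extraspecial groups are preserved by isomorphisms. -/
theorem extra_equiv {p : ℕ} {E : Type*} {E' : Type*} [Group E] [Group E'] (f : E ≃* E')
    (h : Cfsg.IsExtraspecial p E) : Cfsg.IsExtraspecial p E' := by
  have hs : Function.Surjective f.toMonoidHom := f.surjective
  have hZ : (Subgroup.center E).map f.toMonoidHom = Subgroup.center E' := by
    ext y
    obtain ⟨x, rfl⟩ := f.surjective y
    simp only [Subgroup.mem_map, Subgroup.mem_center_iff]
    constructor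
    · rintro ⟨x', hx', he⟩ g
      obtain ⟨g', rfl⟩ := f.surjective g
      rw [show f x = f x' from he.symm, ← map_mul, ← map_mul, hx' g']
    · exact fun hy => ⟨x, fun g => f.injective (by rw [map_mul, map_mul]; exact hy _), rfl⟩
  have hC : (commutator E).map f.toMonoidHom = commutator E' := by
    rw [_root_.commutator_def, _root_.commutator_def, Subgroup.map_commutator,
      Subgroup.map_top_of_surjective _ hs]
  have hF : (frattini E).map f.toMonoidHom = frattini E' := by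
    refine le_antisymm (Subgroup.map_le_iff_le_comap.2 (frattini_le_comap_frattini_of_surjective hs)) ?_
    intro y hy
    have h2 := frattini_le_comap_frattini_of_surjective (φ := f.symm.toMonoidHom) f.symm.surjective hy
    exact ⟨f.symm y, h2, f.apply_symm_apply y⟩
  refine ⟨⟨h.1.1.of_equiv f, ?_, ?_⟩, ?_⟩
  · rw [← hF, h.1.2.1, hZ]
  · rw [← hC, h.1.2.2, hZ]
  · rw [← hZ, ← Nat.card_congr ((Subgroup.center E).equivMapOfInjective _ f.injective).toEquiv, h.2]

set_option maxHeartbeats 800000 in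
/-- Let G be a finite group with trivial centre generated by a conjugation-invariant set D of 3-transpositions on which it acts primitively, such that for some d in D the subgroup generated by the members of D other than d commuting with d has central largest normal 2- and 3-subgroups, and suppose G with D is of type M(22). Let d₁, d₂ be distinct commuting members of D and C the centralizer of their product. Then the generalized Fitting subgroup of C is the direct product of a group of order 2 and an extraspecial 2-group of order 2^9, and C modulo it is isomorphic to the full isometry group of the elliptic quadratic form in dimension 6 over the field with two elements. -/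
theorem result {G : Type*} [Group G] [Finite G] {D : Set G} (hD : Cfsg.IsThreeTranspositionGroup D) (hprim : Cfsg.IsPrimitiveUnderConj D) (d₀ : G) (hd₀ : d₀ ∈ D) (h3 : Cfsg.pCore 3 ↥(Subgroup.closure {y : G | y ∈ D ∧ y ≠ d₀ ∧ Commute d₀ y}) ≤ Subgroup.center ↥(Subgroup.closure {y : G | y ∈ D ∧ y ≠ d₀ ∧ Commute d₀ y})) (h2 : Cfsg.pCore 2 ↥(Subgroup.closure {y : G | y ∈ D ∧ y ≠ d₀ ∧ Commute d₀ y}) ≤ Subgroup.center ↥(Subgroup.closure {y : G | y ∈ D ∧ y ≠ d₀ ∧ Commute d₀ y})) (h22 : Cfsg.IsOfTypeM22 G D) (d₁ d₂ : G) (h₁ : d₁ ∈ D) (h₂ : d₂ ∈ D) (hne : d₁ ≠ d₂) (hc : Commute d₁ d₂) (C : Subgroup G) (hC : C = Subgroup.centralizer ({d₁ * d₂} : Set G)) [hn : (Cfsg.generalizedFittingSubgroup ↥C).Normal] : (∃ (E : Type) (_ : Group E) (_ : Finite E), Cfsg.IsExtraspecial 2 E ∧ Nat.card E = 2 ^ 9 ∧ Nonempty (↥(Cfsg.generalizedFittingSubgroup ↥C) ≃* Multiplicative (ZMod 2) × E)) ∧ Nonempty (↥C ⧸ Cfsg.generalizedFittingSubgroup ↥C ≃* Cfsg.isometryGroup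 (ZMod 2) (Cfsg.quadFormMinus 2 (ZMod 2) 1 1)) := by
  open Cfsg.Lib.ThreeTr Subgroup in
  have h := M22.mk' hD hprim h22
  have hb : d₂ ∈ perp D d₁ := ⟨h₂, hne.symm, hc⟩
  obtain ⟨F, i1, i2, H, π, vec, u, P⟩ := h.exists_pairModel h₁ hb
  obtain ⟨ψ, hψ⟩ := P.exists_isPsi
  obtain ⟨hcard, -, hcen⟩ := P.pairTwo_facts hψ
  obtain ⟨hcomm, hsq⟩ := P.pairTwo_comm
  obtain ⟨hn', ⟨hiso⟩⟩ := P.quotient_aut
  have hF : Fintype.card F = 4 := by rw [← Nat.card_eq_fintype_card]; exact P.model.four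
  obtain ⟨eO⟩ := OrthSix.isometry_equiv_mulAut hF
  have hgf := P.genFitting
  subst hC
  have hEC : pairTwo D d₁ d₂ ≤ centralizer ({d₁ * d₂} : Set G) :=
    (pairTwo_le hc).trans (h.pair_le_prod h₁ hb)
  refine ⟨?_, ⟨(QuotientGroup.quotientMulEquivOfEq hgf).trans (hiso.trans eO)⟩⟩
  have hV : closure ({d₁, d₂} : Set G) ≤ pairTwo D d₁ d₂ := closure_mono Set.subset_union_left
  have ha : d₁ ∈ pairTwo D d₁ d₂ := hV (subset_closure (Set.mem_insert _ _))
  have hz : d₁ * d₂ ∈ pairTwo D d₁ d₂ := hV (mul_mem (subset_closure (Set.mem_insert _ _))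
    (subset_closure (Set.mem_insert_of_mem _ rfl)))
  have hi := h.cls.1
  have hzp : ∀ x : ↥(pairTwo D d₁ d₂), (x : G) ∈ zpowers (d₁ * d₂) →
      x ∈ zpowers (⟨d₁ * d₂, hz⟩ : ↥(pairTwo D d₁ d₂)) := fun x hx => by
    obtain ⟨n, hn⟩ := mem_zpowers_iff.1 hx
    exact mem_zpowers_iff.2 ⟨n, Subtype.ext (by rw [coe_zpow]; exact hn)⟩
  have hcenter : ∀ x : ↥(pairTwo D d₁ d₂), (x : G) ∈ closure ({d₁, d₂} : Set G) → x ∈ center _ := fun x hx => by
    rw [← hcen] at hx
    exact mem_center_iff.2 fun g => Subtype.ext (mem_centralizer_iff.1 (mem_inf.1 hx).2 g g.2)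
  obtain ⟨gg, jj, hgg, hnc, -⟩ := P.exists_eight
  have hgm : ∀ i, gg i ∈ pairTwo D d₁ d₂ := fun i => subset_closure (Or.inr (hgg i))
  have hord : orderOf (d₁ * d₂) = 2 := by
    haveI : Fact (Nat.Prime 2) := ⟨Nat.prime_two⟩
    refine orderOf_eq_prime ?_ fun e => hne ?_
    · rw [hc.mul_pow, pow_two, pow_two, sq_eq_one hi h₁, sq_eq_one hi h₂, one_mul]
    · rw [mul_eq_one_iff_eq_inv] at e
      rw [e, inv_eq_of_mul_eq_one_right (sq_eq_one hi h₂)]
  have hnot : (⟨d₁, ha⟩ : ↥(pairTwo D d₁ d₂)) ∉ zpowers (⟨d₁ * d₂, hz⟩ : ↥(pairTwo D d₁ d₂)) := fun hmem => by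
    obtain ⟨n, hn⟩ := mem_zpowers_iff.1 hmem
    have hn := congrArg Subtype.val hn
    rw [coe_zpow] at hn
    have hsq2 : (d₁ * d₂) * (d₁ * d₂) = 1 := by
      rw [← pow_two, ← hord]; exact pow_orderOf_eq_one _
    have hd1 : d₁ ≠ 1 := (orderOf_eq_one_iff.not).1 (by rw [hi.1 d₁ h₁]; norm_num)
    have hd2 : d₂ ≠ 1 := (orderOf_eq_one_iff.not).1 (by rw [hi.1 d₂ h₂]; norm_num)
    rcases Int.even_or_odd n with ⟨k, rfl⟩ | ⟨k, rfl⟩
    · rw [zpow_add, ← (Commute.refl (d₁ * d₂)).mul_zpow, hsq2, one_zpow] at hn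
      exact hd1 hn.symm
    · rw [zpow_add, two_mul, zpow_add, ← (Commute.refl (d₁ * d₂)).mul_zpow, hsq2, one_zpow, one_mul, zpow_one] at hn
      exact hd2 (mul_left_cancel (a := d₁) (by rw [mul_one]; exact hn))
  have hctr : center ↥(pairTwo D d₁ d₂) ≤
      closure ({(⟨d₁, ha⟩ : ↥(pairTwo D d₁ d₂)), ⟨d₁ * d₂, hz⟩} : Set ↥(pairTwo D d₁ d₂)) := fun x hx => by
    have h1 : (x : G) ∈ closure ({d₁, d₂} : Set G) := by
      rw [← hcen]
      exact mem_inf.2 ⟨x.2, mem_centralizer_iff.2 fun g hg => congrArg Subtype.val (mem_center_iff.1 hx ⟨g, hg⟩)⟩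
    have gen : ∀ S : Subgroup G, d₁ ∈ S → d₁ * d₂ ∈ S → closure ({d₁, d₂} : Set G) ≤ S := fun S p q => by
      have h3 := mul_mem p q
      rw [← mul_assoc, sq_eq_one hi h₁, one_mul] at h3
      rw [closure_le]
      rintro w (hw | hw) <;> rw [hw]
      exacts [p, h3]
    have h2 := gen ((closure ({(⟨d₁, ha⟩ : ↥(pairTwo D d₁ d₂)), ⟨d₁ * d₂, hz⟩} :
        Set ↥(pairTwo D d₁ d₂))).map (pairTwo D d₁ d₂).subtype)
      (mem_map.2 ⟨(⟨d₁, ha⟩ : ↥(pairTwo D d₁ d₂)), subset_closure (Set.mem_insert _ _), rfl⟩)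
      (mem_map.2 ⟨(⟨d₁ * d₂, hz⟩ : ↥(pairTwo D d₁ d₂)), subset_closure (Set.mem_insert_of_mem _ rfl), rfl⟩)
    obtain ⟨x', hx', e'⟩ := h2 h1
    rwa [← (Subtype.ext e' : x' = x)]
  obtain ⟨M, hM, hMcard, ⟨e⟩⟩ := split_extraspecial (a := (⟨d₁, ha⟩ : ↥(pairTwo D d₁ d₂))) (z := ⟨d₁ * d₂, hz⟩)
    (Subtype.ext (sq_eq_one hi h₁)) (by rw [← orderOf_coe]; exact hord) hnot
    (fun x y => hzp _ (hcomm _ x.2 _ y.2)) (fun x => hzp _ (hsq _ x.2))
    (hcenter _ (subset_closure (Set.mem_insert _ _)))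
    (hcenter _ (mul_mem (subset_closure (Set.mem_insert _ _)) (subset_closure (Set.mem_insert_of_mem _ rfl))))
    hctr ⟨⟨gg 0, hgm 0⟩, ⟨gg (jj 0), hgm _⟩, fun hcomm' => hnc 0 (congrArg Subtype.val hcomm'.eq)⟩
  haveI : Finite ↥M := inferInstance
  let eM : Slot (Nat.card ↥M) ≃ ↥M := (slotEquiv _).trans (Finite.equivFin ↥M).symm
  letI : Group (Slot (Nat.card ↥M)) := eM.group
  have hM' := extra_equiv eM.mulEquiv.symm hM
  refine ⟨Slot (Nat.card ↥M), inferInstance, Finite.of_equiv _ eM.symm, hM', ?_, ?_⟩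
  · rw [Nat.card_congr (slotEquiv _), Nat.card_fin]; omega
  · exact ⟨(MulEquiv.subgroupCongr hgf).trans ((subgroupOfEquivOfLe hEC).trans
    (e.trans (MulEquiv.prodCongr (MulEquiv.refl _) eM.mulEquiv.symm)))⟩

end Cfsg.Agent.S5519
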