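import Mathlib
import Cfsg.Statements.S5541
-- import your own Cfsg.Agent.* helpers here

set_option autoImplicit false
open Cfsg

namespace Cfsg.Agent.S5541

/-- Let ρ be a representation of a group H on a finite-dimensional real vector space U whose only ρ-invariant subspaces are the zero subspace and U, and suppose U carries a non-zero ρ-invariant symmetric bilinear form. Then the following are equivalent: (1) there is a non-zero ρ-equivariant commutative bilinear product on U of which every ρ-equivariant bilinear product is a scalar multiple; (2) there is a non-zero ρ-invariant trilinear form on U that is symmetric under all permutations of its arguments and of which every ρ-invariant trilinear form is a scalar multiple. -/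
theorem result {H : Type*} [Group H] {U : Type*} [AddCommGroup U] [Module ℝ U] [FiniteDimensional ℝ U] (ρ : Representation ℝ H U) (hirr : ∀ W : Submodule ℝ U, (∀ g : H, W.map (ρ g) ≤ W) → W = ⊥ ∨ W = ⊤) (B : LinearMap.BilinForm ℝ U) (hB0 : B ≠ 0) (hBs : ∀ u v, B u v = B v u) (hBi : ∀ (g : H) (u v : U), B (ρ g u) (ρ g v) = B u v) : (∃ m : U →ₗ[ℝ] U →ₗ[ℝ] U, m ≠ 0 ∧ (∀ u v, m u v = m v u) ∧ (∀ (g : H) (u v : U), m (ρ g u) (ρ g v) = ρ g (m u v)) ∧ ∀ m' : U →ₗ[ℝ] U →ₗ[ℝ] U, (∀ (g : H) (u v : U), m' (ρ g u) (ρ g v) = ρ g (m' u v)) → ∃ c : ℝ, m' = c • m) ↔ (∃ t : U →ₗ[ℝ] U →ₗ[ℝ] U →ₗ[ℝ] ℝ, t ≠ 0 ∧ (∀ u v w, t u v w = t v u w ∧ t u v w = t u w v) ∧ (∀ (g : H) (u v w : U), t (ρ g u) (ρ g v) (ρ g w) = t u v w) ∧ ∀ t' : U →ₗ[ℝ] U →ₗ[ℝ] U →ₗ[ℝ] ℝ, (∀ (g : H) (u v w : U), t' (ρ g u) (ρ g v) (ρ g w) = t' u v w) → ∃ c : ℝ, t' = c • t) := by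
  classical
  have hsurj : ∀ g : H, Function.Surjective (ρ g) := fun g u => ⟨ρ g⁻¹ u, by
    rw [← Module.End.mul_apply, ← map_mul, mul_inv_cancel, map_one, Module.End.one_apply]⟩
  -- the form is non-degenerate
  have hker : LinearMap.ker B = ⊥ := by
    refine (hirr (LinearMap.ker B) fun g => ?_).resolve_right fun h => hB0 (LinearMap.ker_eq_top.mp h)
    rintro _ ⟨x, hx, rfl⟩
    refine LinearMap.mem_ker.mpr (LinearMap.ext fun y => ?_)
    obtain ⟨y, rfl⟩ := hsurj g y
    rw [hBi, LinearMap.mem_ker.mp hx]; rfl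
  have hnd : B.Nondegenerate := by
    constructor
    · intro x hx
      have : x ∈ LinearMap.ker B := LinearMap.mem_ker.mpr (LinearMap.ext fun y => hx y)
      rwa [hker, Submodule.mem_bot] at this
    · intro x hx
      have : x ∈ LinearMap.ker B := LinearMap.mem_ker.mpr (LinearMap.ext fun y => by rw [hBs]; exact hx y)
      rwa [hker, Submodule.mem_bot] at this
  set e := B.toDual hnd with he
  have hed : ∀ x y, e x y = B x y := fun x y => rfl
  have hext : ∀ x y : U, (∀ w, B x w = B y w) → x = y := fun x y h => e.injective (LinearMap.ext h)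
  constructor
  · rintro ⟨m, hm0, hms, hmi, huniq⟩
    set t : U →ₗ[ℝ] U →ₗ[ℝ] U →ₗ[ℝ] ℝ := m.compr₂ e.toLinearMap with ht
    have hta : ∀ u v w, t u v w = B (m u v) w := fun u v w => rfl
    have htu : ∀ t' : U →ₗ[ℝ] U →ₗ[ℝ] U →ₗ[ℝ] ℝ, (∀ (g : H) (u v w : U), t' (ρ g u) (ρ g v) (ρ g w) = t' u v w) →
        ∃ c : ℝ, t' = c • t := by
      intro t' ht'
      obtain ⟨c, hc⟩ := huniq (t'.compr₂ e.symm.toLinearMap) fun g u v => hext _ _ fun w => by
        obtain ⟨w, rfl⟩ := hsurj g w
        rw [hBi, ← hed, ← hed]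
        simp only [LinearMap.compr₂_apply, LinearEquiv.coe_coe, LinearEquiv.apply_symm_apply, ht']
      refine ⟨c, LinearMap.ext fun u => LinearMap.ext fun v => ?_⟩
      have := congrArg e (LinearMap.congr_fun (LinearMap.congr_fun hc u) v)
      simpa [ht] using this
    have hti : ∀ (g : H) (u v w : U), t (ρ g u) (ρ g v) (ρ g w) = t u v w := fun g u v w => by
      rw [hta, hta, hmi, hBi]
    have ht12 : ∀ u v w, t u v w = t v u w := fun u v w => by rw [hta, hta, hms]
    have ht0 : t ≠ 0 := fun h => hm0 (LinearMap.ext fun u => LinearMap.ext fun v => e.injective (by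
      have := LinearMap.congr_fun (LinearMap.congr_fun h u) v
      simpa [ht] using this))
    refine ⟨t, ht0, fun u v w => ⟨ht12 u v w, ?_⟩, hti, htu⟩
    -- the transposed form is a multiple
    let t' : U →ₗ[ℝ] U →ₗ[ℝ] U →ₗ[ℝ] ℝ := LinearMap.mk₂ ℝ (fun u v => (t u).flip v)
      (fun _ _ _ => by ext; simp) (fun _ _ _ => by ext; simp) (fun _ _ _ => by ext; simp) (fun _ _ _ => by ext; simp)
    have ht' : ∀ u v w, t' u v w = t u w v := fun u v w => rfl
    obtain ⟨c, hc⟩ := htu t' fun g u v w => by rw [ht', ht', hti]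
    have hc' : ∀ u v w, t u w v = c * t u v w := fun u v w => by
      rw [← ht', hc]; rfl
    obtain ⟨a, b, d, habd⟩ : ∃ a b d, t a b d ≠ 0 := by
      by_contra h
      push Not at h
      exact ht0 (LinearMap.ext fun a => LinearMap.ext fun b => LinearMap.ext fun d => h a b d)
    have hc2 : c * c = 1 := mul_right_cancel₀ habd (by rw [mul_assoc, ← hc', ← hc', one_mul])
    have hc3 : c * c * c = 1 := mul_right_cancel₀ habd (by
      rw [one_mul, mul_assoc, mul_assoc, ← hc' a b d, ht12 a d b, ← hc' d a b, ht12 d b a, ← hc' b d a, ht12 b a d])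
    rw [hc2, one_mul] at hc3
    rw [hc', hc3, one_mul]
  · rintro ⟨t, ht0, hts, hti, huniq⟩
    set m : U →ₗ[ℝ] U →ₗ[ℝ] U := t.compr₂ e.symm.toLinearMap with hm
    have hma : ∀ u v w, B (m u v) w = t u v w := fun u v w => by
      rw [← hed]; simp [hm]
    refine ⟨m, fun h => ht0 ?_, fun u v => hext _ _ fun w => ?_, fun g u v => hext _ _ fun w => ?_, fun m' hm' => ?_⟩
    · refine LinearMap.ext fun u => LinearMap.ext fun v => LinearMap.ext fun w => ?_
      rw [← hma, h]; simp
    · rw [hma, hma, (hts u v w).1]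
    · obtain ⟨w, rfl⟩ := hsurj g w
      rw [hma, hti, hBi, hma]
    · obtain ⟨c, hc⟩ := huniq (m'.compr₂ e.toLinearMap) fun g u v w => by
        show B (m' (ρ g u) (ρ g v)) (ρ g w) = B (m' u v) w
        rw [hm', hBi]
      refine ⟨c, LinearMap.ext fun u => LinearMap.ext fun v => hext _ _ fun w => ?_⟩
      have : B (m' u v) w = c * t u v w := by
        show (m'.compr₂ e.toLinearMap) u v w = _
        rw [hc]; rfl
      rw [this]; simp [hma]

end Cfsg.Agent.S5541
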