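import Mathlib
import Cfsg.Statements.S5543
-- import your own Cfsg.Agent.* helpers here

set_option autoImplicit false
open Cfsg

namespace Cfsg.Agent.S5543

/-- Let V be a finite-dimensional real vector space with a commutative bilinear product and a positive-definite symmetric bilinear form that associates with the product and satisfies the Norton inequality (the Majorana setting of the definitions). Let X be a group of linear automorphisms of V in which every element squares to the identity, and suppose every non-identity element x of X is a Majorana involution with an axial vector a(x) of squared length 1, such that for any two distinct non-identity x, y the product a(x) ∘ a(y) equals (1/8)(a(x) + a(y) − a(xy)) (the dihedral subalgebra of type 2A whose third axis belongs to the involution xy). Then X has order at most 4. -/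
theorem result {V : Type*} [AddCommGroup V] [Module ℝ V] [FiniteDimensional ℝ V] (mul : V →ₗ[ℝ] V →ₗ[ℝ] V) (B : LinearMap.BilinForm ℝ V) (hV : Cfsg.Axial.IsMajoranaAmbient mul B) (X : Subgroup (V ≃ₗ[ℝ] V)) (hX : ∀ x ∈ X, x * x = 1) (ax : (V ≃ₗ[ℝ] V) → V) (hax : ∀ x ∈ X, x ≠ 1 → Cfsg.Axial.IsMajoranaPair mul B x (ax x)) (h1 : ∀ x ∈ X, x ≠ 1 → B (ax x) (ax x) = 1) (h2A : ∀ x ∈ X, ∀ y ∈ X, x ≠ 1 → y ≠ 1 → x ≠ y → mul (ax x) (ax y) = (1 / 8 : ℝ) • (ax x + ax y - ax (x * y))) : Nat.card ↥X ≤ 4 := by
  classical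
  obtain ⟨hcomm, -⟩ := hV
  by_contra hcard
  rw [not_le] at hcard
  haveI : Finite X := Nat.finite_of_card_ne_zero (by omega)
  haveI : Fintype X := Fintype.ofFinite _
  rw [Nat.card_eq_fintype_card] at hcard
  have hinv : ∀ x : X, x * x = 1 := fun x => Subtype.ext (hX x x.2)
  have hXc : ∀ x y : X, x * y = y * x := fun x y => by
    have h := hinv (x * y)
    calc x * y = x * ((x * y) * (x * y)) * y := by rw [h, mul_one]
      _ = (x * x) * (y * x) * (y * y) := by simp only [mul_assoc]
      _ = y * x := by rw [hinv, hinv, one_mul, mul_one]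
  have pick : ∀ S : Finset X, S.card ≤ 4 → ∃ x, x ∉ S := fun S hS => by
    by_contra h
    push Not at h
    have := Finset.card_le_card (fun x _ => h x : (Finset.univ : Finset X) ⊆ S)
    rw [Finset.card_univ] at this; omega
  obtain ⟨a, ha⟩ := pick {1} (by simp)
  obtain ⟨b, hb⟩ := pick {1, a} (le_trans Finset.card_le_two (by norm_num))
  obtain ⟨d, hd⟩ := pick {1, a, b, a * b} Finset.card_le_four
  simp only [Finset.mem_insert, Finset.mem_singleton, not_or] at ha hb hd
  set v : X → V := fun x => ax x.1 with hvdef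
  have key : ∀ x y z : X, x ≠ 1 → y ≠ 1 → x ≠ y → x * y = z → mul (v x) (v y) = (1 / 8 : ℝ) • (v x + v y - v z) := by
    intro x y z hx hy hxy hz
    rw [← hz]
    exact h2A x.1 x.2 y.1 y.2 (fun e => hx (Subtype.ext e)) (fun e => hy (Subtype.ext e)) (fun e => hxy (Subtype.ext e))
  have hcancel : ∀ {x y : X}, x * y = 1 → x = y := fun {x y} e => by
    rw [← mul_one x, ← hinv y, ← mul_assoc, e, one_mul]
  set c := a * b with hcdef
  set e := a * d with hedef
  set f := b * d with hfdef
  set g := a * b * d with hgdef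
  have hc1 : c ≠ 1 := fun h => hb.2 (hcancel h).symm
  have he1 : e ≠ 1 := fun h => hd.2.1 (hcancel h).symm
  have hf1 : f ≠ 1 := fun h => hd.2.2.1 (hcancel h).symm
  have hg1 : g ≠ 1 := fun h => hd.2.2.2 (hcancel h).symm
  have hac : a * c = b := by rw [hcdef, ← mul_assoc, hinv, one_mul]
  have hae : a * e = d := by rw [hedef, ← mul_assoc, hinv, one_mul]
  have haf : a * f = g := by rw [hfdef, hgdef, mul_assoc]
  have hag : a * g = f := by rw [← haf, ← mul_assoc, hinv, one_mul]
  have hbe : b * e = g := by rw [hedef, hgdef, ← mul_assoc, hXc b a]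
  have hcd : c * d = g := rfl
  have hce : c * e = f := by
    rw [hcdef, hedef, hXc a b, mul_assoc, ← mul_assoc a a d, hinv, one_mul]
  have hfg : f * g = a := by
    rw [← haf, hXc a f, ← mul_assoc, hinv, one_mul]
  have nab : a ≠ b := Ne.symm hb.2
  have nac : a ≠ c := fun h => hb.1 (mul_left_cancel (show a * b = a * 1 by rw [mul_one]; exact h.symm))
  have nad : a ≠ d := Ne.symm hd.2.1
  have nae : a ≠ e := fun h => hd.1 (mul_left_cancel (show a * d = a * 1 by rw [mul_one]; exact h.symm))
  have nbd : b ≠ d := Ne.symm hd.2.2.1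
  have ncd : c ≠ d := Ne.symm hd.2.2.2
  have nbe : b ≠ e := fun h => hg1 (by rw [← hbe, h, hinv])
  have nce : c ≠ e := fun h => hf1 (by rw [← hce, h, hinv])
  have nfg : f ≠ g := fun h => ha (by rw [← hfg, h, hinv])
  have k1 := key a b c ha hb.1 nab rfl
  have k2 := key a c b ha hc1 nac hac
  have k3 := key a d e ha hd.1 nad rfl
  have k4 := key a e d ha he1 nae hae
  have k5 := key b d f hb.1 hd.1 nbd rfl
  have k6 := key b e g hb.1 he1 nbe hbe
  have k7 := key c d g hc1 hd.1 ncd hcd
  have k8 := key c e f hc1 he1 nce hce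
  have nag : a ≠ g := fun h => hf1 (by rw [← hag, ← h, hinv])
  have naf : a ≠ f := fun h => hg1 (by rw [← haf, ← h, hinv])
  have k9 := key a g f ha hg1 nag hag
  have k10 := key a f g ha hf1 naf haf
  have k11 := key f g a hf1 hg1 nfg hfg
  obtain ⟨-, -, ⟨⟨-, -, -, hfus⟩, -⟩, -⟩ := hax a.1 a.2 (fun h => ha (Subtype.ext h))
  have hq : (1 / 4 : ℝ) ∈ Cfsg.Axial.majoranaSpectrum := by simp [Cfsg.Axial.majoranaSpectrum]
  have hu : v b - v c ∈ Cfsg.Axial.eigen mul (v a) (1 / 4) := by
    rw [Cfsg.Axial.eigen, Module.End.mem_eigenspace_iff, map_sub, k1, k2]; module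
  have hw : v d - v e ∈ Cfsg.Axial.eigen mul (v a) (1 / 4) := by
    rw [Cfsg.Axial.eigen, Module.End.mem_eigenspace_iff, map_sub, k3, k4]; module
  have h := hfus _ hq _ hq _ hu _ hw
  have hlaw : Cfsg.Axial.monsterLaw (1 / 4 : ℝ) (1 / 32) (1 / 4) (1 / 4) = {1, 0} := by
    norm_num [Cfsg.Axial.monsterLaw]
  rw [hlaw, Cfsg.Axial.eigenSum, iSup_insert, iSup_singleton, Submodule.mem_sup] at h
  obtain ⟨p, hp, q, hqm, hpq⟩ := h
  rw [Cfsg.Axial.eigen, Module.End.mem_eigenspace_iff] at hp hqm
  have hprod : mul (v b - v c) (v d - v e) = (1 / 4 : ℝ) • (v g - v f) := by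
    simp only [map_sub, LinearMap.sub_apply, k5, k6, k7, k8]; module
  set w := (1 / 4 : ℝ) • (v g - v f) with hwdef
  have haw : mul (v a) w = (1 / 4 : ℝ) • w := by
    rw [hwdef, map_smul, map_sub, k9, k10]; module
  have hp' : mul (v a) w = p := by
    rw [← hprod, ← hpq, map_add]
    show mul (ax a.1) p + mul (ax a.1) q = p
    rw [hp, hqm]; module
  have hw0 : w = 0 := by
    have e1 : mul (v a) p = p := by
      show mul (ax a.1) p = p
      rw [hp, one_smul]
    rw [← hp', haw, map_smul, haw] at e1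
    have e2 : ((1 / 4 : ℝ) * (1 / 4) - 1 / 4) • w = 0 := by rw [sub_smul, mul_smul, e1, sub_self]
    exact (smul_eq_zero.mp e2).resolve_left (by norm_num)
  have heq : v g = v f := sub_eq_zero.mp ((smul_eq_zero.mp hw0).resolve_left (by norm_num))
  obtain ⟨-, -, ⟨⟨hne, hff, -, -⟩, -⟩, -⟩ := hax f.1 f.2 (fun h => hf1 (Subtype.ext h))
  obtain ⟨-, -, ⟨⟨-, haa, -, -⟩, -⟩, -⟩ := hax a.1 a.2 (fun h => ha (Subtype.ext h))
  rw [heq] at k11
  have hff' : mul (v f) (v f) = v f := hff
  rw [hff'] at k11
  have e3 : v a = (-6 : ℝ) • v f := by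
    have := congrArg (fun x => (8 : ℝ) • x) k11
    simp only [smul_smul] at this
    norm_num at this
    rw [eq_sub_iff_add_eq] at this
    rw [eq_sub_of_add_eq' this]; module
  have haa' : mul (v a) (v a) = v a := haa
  rw [e3] at haa'
  simp only [map_smul, LinearMap.smul_apply, hff', smul_smul] at haa'
  have e4 : ((-6 : ℝ) * -6 - -6) • v f = 0 := by rw [sub_smul, haa', sub_self]
  exact hne ((smul_eq_zero.mp e4).resolve_left (by norm_num))

end Cfsg.Agent.S5543
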