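import Cfsg.Statements.S5557
import Cfsg.Agent.ThreeTransposition.UnitaryRadical.Standard

set_option autoImplicit false
open Cfsg

namespace Cfsg.Agent.S5557

/-- Let G be a finite group generated by a conjugacy class D of 3-transpositions, with trivial centre and with generalized Fitting subgroup F*(G) = O₂(G) (so the Fitting subgroup is O₂(G) too). If G/O₂(G) is isomorphic to SU₇(2), then O₂(G) is elementary abelian. No complement is asserted. -/
theorem result {G : Type*} [Group G] [Finite G] {D : Set G} (hD : Cfsg.IsThreeTranspositionClass D)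
    (hZ : Subgroup.center G = ⊥) (hF : Cfsg.generalizedFittingSubgroup G = Cfsg.pCore 2 G)
    (hq : ∃ (F : Type) (_ : Field F) (_ : Fintype F), Fintype.card F = 4 ∧ Nonempty (G ⧸ Cfsg.pCore 2 G ≃* ↥(Cfsg.SU 7 F 2))) :
    Cfsg.IsElementaryAbelian 2 (Cfsg.pCore 2 G) := by
  obtain ⟨F, hFi, hFt, hF, ⟨e⟩⟩ := hq
  obtain ⟨ψ, hker, P⟩ := Cfsg.Lib.TTUnitary.exists_quot hD hZ (Or.inr rfl) hF (by rw [hF]; norm_num) e
  exact hker ▸ P.ker_elementary

end Cfsg.Agent.S5557
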