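import Cfsg.Statements.S5561
import Cfsg.Agent.S0215
import Cfsg.Agent.Coprime.Sylow
import Cfsg.Agent.Components.Cores

set_option autoImplicit false
open Cfsg

namespace Cfsg.Agent.S5561

/-- The case p = 3 of the Z*-type result for involution classes. Let G be a finite group and d an involution of G such that the product of any two conjugates of d has order a power of 3. Then the product of any two conjugates of d lies in O₃(G); so the conjugacy class of d lies in the coset O₃(G)d. -/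
theorem result {G : Type*} [Group G] [Finite G] (d : G) (hd : orderOf d = 2)
    (hprod : ∀ a ∈ conjugatesOf d, ∀ b ∈ conjugatesOf d, ∃ k : ℕ, orderOf (a * b) = 3 ^ k) :
    ∀ a ∈ conjugatesOf d, ∀ b ∈ conjugatesOf d, a * b ∈ Cfsg.pCore 3 G := by
  classical
  haveI := Fact.mk Nat.prime_two
  haveI : Fact (Nat.Prime 3) := ⟨Nat.prime_three⟩
  have hdd : d * d = 1 := by rw [← pow_two, ← hd, pow_orderOf_eq_one]
  have hconj : ∀ g : G, g * d * g⁻¹ ∈ conjugatesOf d := fun g => isConj_iff.mpr ⟨g, rfl⟩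
  have hdmem : d ∈ conjugatesOf d := IsConj.refl d
  have hinv : ∀ a ∈ conjugatesOf d, a⁻¹ = a := by
    intro a ha
    obtain ⟨g, rfl⟩ := isConj_iff.mp ha
    rw [conj_inv, inv_eq_of_mul_eq_one_right hdd]
  have h1 : ∀ (r : ℕ), r.Prime → r ≠ 3 → ∀ x : G, (∃ k, orderOf x = 3 ^ k) →
      (∃ j, orderOf x = r ^ j) → x = 1 := by
    rintro r hr hr3 x ⟨k, hk⟩ ⟨j, hj⟩
    refine orderOf_eq_one_iff.mp (Nat.dvd_one.mp ?_)
    rw [← ((Nat.coprime_primes Nat.prime_three hr).mpr (Ne.symm hr3)).pow k j]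
    exact Nat.dvd_gcd (hk ▸ dvd_rfl) (hj ▸ dvd_rfl)
  obtain ⟨S, hS⟩ : ∃ S : Sylow 2 G, d ∈ S := by
    obtain ⟨S, hS⟩ := (IsPGroup.of_card (n := 1) (by rw [Nat.card_zpowers, hd, pow_one] :
      Nat.card (Subgroup.zpowers d) = 2 ^ 1)).exists_le_sylow
    exact ⟨S, hS (Subgroup.mem_zpowers d)⟩
  have hiso : ∀ g : G, g * d * g⁻¹ ∈ S → g * d * g⁻¹ = d := by
    intro g hg
    obtain ⟨j, hj⟩ := IsPGroup.iff_orderOf.mp S.2 ⟨_, mul_mem hg hS⟩
    rw [← Subgroup.orderOf_coe] at hj
    have h := h1 2 Nat.prime_two (by norm_num) _ (hprod _ (hconj g) _ hdmem) ⟨j, hj⟩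
    exact (mul_eq_one_iff_eq_inv.mp h).trans (inv_eq_of_mul_eq_one_right hdd)
  obtain ⟨N, hNn, hNodd, hN⟩ := Cfsg.Agent.S0215.result S d hd hS hiso
  haveI := hNn
  set C := N ⊓ Subgroup.centralizer ({d} : Set G) with hC
  let f : G → G := fun n => n * d * n⁻¹ * d
  have hf3 : ∀ n, ∃ k, orderOf (f n) = 3 ^ k := fun n => hprod _ (hconj n) _ hdmem
  have hAN : Subgroup.zpowers d ≤ Subgroup.normalizer (N : Set G) := fun x _ => by
    rw [Subgroup.normalizer_eq_top]; trivial
  have hcop : (Nat.card (Subgroup.zpowers d)).Coprime (Nat.card N) := by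
    rw [Nat.card_zpowers, hd]; exact hNodd.coprime_two_left
  have hA : Group.IsSolvable (Subgroup.zpowers d) := inferInstance
  -- invariant subgroups are stable under f
  have hfR : ∀ R : Subgroup G, Subgroup.zpowers d ≤ Subgroup.normalizer (R : Set G) →
      ∀ x ∈ R, f x ∈ R := by
    intro R hR x hx
    have h2 := (Subgroup.mem_normalizer_iff.mp (hR (Subgroup.mem_zpowers d)) x⁻¹).mp (R.inv_mem hx)
    rw [inv_eq_of_mul_eq_one_right hdd] at h2
    show x * d * x⁻¹ * d ∈ R
    rw [show x * d * x⁻¹ * d = x * (d * x⁻¹ * d) by group]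
    exact R.mul_mem hx h2
  have hCmem : ∀ n, n ∈ Subgroup.centralizer ({d} : Set G) ↔ f n = 1 := by
    intro n
    rw [Subgroup.mem_centralizer_singleton_iff]
    show _ ↔ n * d * n⁻¹ * d = 1
    rw [mul_eq_one_iff_eq_inv, inv_eq_of_mul_eq_one_right hdd, mul_inv_eq_iff_eq_mul]
  -- the index of C is a power of three
  have hpart : ∀ r, r.Prime → r ≠ 3 → r ^ (Nat.card N).factorization r ∣ Nat.card C := by
    intro r hr hr3
    haveI : Fact r.Prime := ⟨hr⟩
    obtain ⟨R, hR⟩ := Cfsg.Lib.Coprime.exists_invariant_sylow hAN hcop (Or.inl hA) r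
    set R₀ := (R : Subgroup N).map N.subtype with hR₀
    have hcR : Nat.card R₀ = r ^ (Nat.card N).factorization r := by
      rw [hR₀, Subgroup.card_map_of_injective N.subtype_injective, R.card_eq_multiplicity]
    have hle : R₀ ≤ C := by
      intro x hx
      refine ⟨Subgroup.map_subtype_le _ hx, (hCmem x).mpr (h1 r hr hr3 _ (hf3 x) ?_)⟩
      obtain ⟨j, hj⟩ := IsPGroup.iff_orderOf.mp (IsPGroup.of_card hcR) ⟨f x, hfR R₀ hR x hx⟩
      exact ⟨j, by rw [← hj, Subgroup.orderOf_mk]⟩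
    rw [← hcR]
    exact Subgroup.card_dvd_of_le hle
  obtain ⟨P, hP⟩ := Cfsg.Lib.Coprime.exists_invariant_sylow hAN hcop (Or.inl hA) 3
  set P₀ := (P : Subgroup N).map N.subtype with hP₀
  have hP₀N : P₀ ≤ N := Subgroup.map_subtype_le _
  have hcP : Nat.card P₀ = 3 ^ (Nat.card N).factorization 3 := by
    rw [hP₀, Subgroup.card_map_of_injective N.subtype_injective, P.card_eq_multiplicity]
  have hdvd : Nat.card N ∣ Nat.card P₀ * Nat.card C / Nat.card ↥(P₀ ⊓ C) := by
    have hk : Nat.card ↥(P₀ ⊓ C) ∣ Nat.card P₀ := Subgroup.card_dvd_of_le inf_le_left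
    rw [Nat.mul_comm, Nat.mul_div_assoc _ hk]
    rw [Nat.dvd_iff_prime_pow_dvd_dvd]
    intro r k hr hrk
    have hkle : k ≤ (Nat.card N).factorization r :=
      (hr.pow_dvd_iff_le_factorization Nat.card_pos.ne').mp hrk
    refine (pow_dvd_pow r hkle).trans ?_
    by_cases hr3 : r = 3
    · subst hr3
      have h2 : IsPGroup 3 ↥(P₀ ⊓ C) := (IsPGroup.of_card hcP).to_le inf_le_left
      obtain ⟨i, hi⟩ := h2.exists_card_eq
      have h4 : 3 ^ i ∣ Nat.card C := hi ▸ Subgroup.card_dvd_of_le inf_le_right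
      obtain ⟨c, hc⟩ := h4
      rw [hcP, hi, hc, mul_assoc, mul_comm c, ← mul_assoc, Nat.mul_div_cancel' (by rw [← hcP, ← hi]; exact hk)]
      exact dvd_mul_right _ _
    · exact (hpart r hr hr3).trans (dvd_mul_right _ _)
  -- hence every value is attained on P₀
  have hcover : ∀ n ∈ N, ∃ x ∈ P₀, x⁻¹ * n ∈ C := by
    have hCN : C ≤ N := inf_le_left
    let φ : P₀ ⧸ C.subgroupOf P₀ → N ⧸ C.subgroupOf N :=
      Quotient.map' (fun x => ⟨x.1, hP₀N x.2⟩) (fun a b h => by
        rw [QuotientGroup.leftRel_apply, Subgroup.mem_subgroupOf] at h ⊢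
        exact h)
    have hinj : Function.Injective φ := by
      intro a b
      induction a using Quotient.inductionOn'
      induction b using Quotient.inductionOn'
      intro h
      have h' := Quotient.eq''.mp h
      rw [QuotientGroup.leftRel_apply, Subgroup.mem_subgroupOf] at h'
      refine Quotient.eq''.mpr ?_
      rw [QuotientGroup.leftRel_apply, Subgroup.mem_subgroupOf]
      exact h'
    have hcard : Nat.card (N ⧸ C.subgroupOf N) ≤ Nat.card (P₀ ⧸ C.subgroupOf P₀) := by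
      have eN := Subgroup.card_eq_card_quotient_mul_card_subgroup (C.subgroupOf N)
      rw [Nat.card_congr (Subgroup.subgroupOfEquivOfLe hCN).toEquiv] at eN
      have eP := Subgroup.card_eq_card_quotient_mul_card_subgroup (C.subgroupOf P₀)
      have e2 : Nat.card (C.subgroupOf P₀) = Nat.card ↥(P₀ ⊓ C) := by
        rw [← Subgroup.inf_subgroupOf_right, inf_comm,
          Nat.card_congr (Subgroup.subgroupOfEquivOfLe (inf_le_left : P₀ ⊓ C ≤ P₀)).toEquiv]
      rw [e2] at eP
      rw [eP, Nat.mul_right_comm, Nat.mul_div_cancel _ Nat.card_pos] at hdvd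
      exact Nat.le_of_mul_le_mul_right (eN ▸ Nat.le_of_dvd (Nat.mul_pos Nat.card_pos Nat.card_pos) hdvd)
        Nat.card_pos
    intro n hn
    obtain ⟨a, ha⟩ := ((Nat.bijective_iff_injective_and_card φ).mpr
      ⟨hinj, le_antisymm (Nat.card_le_card_of_injective φ hinj) hcard⟩).2
      (QuotientGroup.mk ⟨n, hn⟩)
    induction a using Quotient.inductionOn' with
    | h x =>
      have h' := Quotient.eq''.mp ha
      rw [QuotientGroup.leftRel_apply, Subgroup.mem_subgroupOf] at h'
      exact ⟨x, x.2, h'⟩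
  have hfP : ∀ n ∈ N, f n ∈ P₀ := by
    intro n hn
    obtain ⟨x, hx, hxc⟩ := hcover n hn
    have hc : x⁻¹ * n * d = d * (x⁻¹ * n) := Subgroup.mem_centralizer_singleton_iff.mp hxc.2
    have heq : n * d * n⁻¹ = x * d * x⁻¹ := by
      calc n * d * n⁻¹ = x * (x⁻¹ * n * d) * n⁻¹ := by group
        _ = x * (d * (x⁻¹ * n)) * n⁻¹ := by rw [hc]
        _ = x * d * x⁻¹ := by group
    show n * d * n⁻¹ * d ∈ P₀
    rw [heq]
    exact hfR P₀ hP x hx
  -- all products with d are values of f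
  have hval : ∀ a ∈ conjugatesOf d, a * d ∈ P₀ := by
    intro a ha
    obtain ⟨g, rfl⟩ := isConj_iff.mp ha
    set x := g * d * g⁻¹ * d with hx
    have hxN : x ∈ N := by
      have h2 := N.inv_mem (hN g)
      rw [mul_inv_rev, mul_inv_rev, mul_inv_rev, inv_inv, inv_inv,
        inv_eq_of_mul_eq_one_right hdd, ← mul_assoc, ← mul_assoc] at h2
      exact h2
    obtain ⟨k, hk⟩ := hprod _ (hconj g) _ hdmem
    have hodd : Odd (orderOf x) := by rw [hx, hk]; exact Odd.pow (by decide)
    obtain ⟨t, ht⟩ := hodd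
    have hxpow : x = x ^ (t + 1) * x ^ (t + 1) := by
      rw [← pow_add, show t + 1 + (t + 1) = orderOf x + 1 by omega, pow_succ, pow_orderOf_eq_one,
        one_mul]
    have hdy : d * x * d = x⁻¹ := by
      rw [hx, mul_inv_rev, inv_eq_of_mul_eq_one_right hdd, conj_inv,
        inv_eq_of_mul_eq_one_right hdd]
      rw [show d * (g * d * g⁻¹ * d) * d = d * (g * d * g⁻¹) * (d * d) by group, hdd, mul_one]
    have hpw : d * (x ^ (t + 1))⁻¹ * d = x ^ (t + 1) := by
      have e : ∀ y : G, MulAut.conj d y = d * y * d := fun y => by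
        rw [MulAut.conj_apply, inv_eq_of_mul_eq_one_right hdd]
      rw [← e, map_inv, map_pow, e, hdy, inv_pow, inv_inv]
    have hfy : f (x ^ (t + 1)) = x := by
      show x ^ (t + 1) * d * (x ^ (t + 1))⁻¹ * d = x
      rw [show x ^ (t + 1) * d * (x ^ (t + 1))⁻¹ * d = x ^ (t + 1) * (d * (x ^ (t + 1))⁻¹ * d) by group,
        hpw, ← hxpow]
    rw [← hfy]
    exact hfP _ (N.pow_mem hxN _)
  let M : Subgroup G := Subgroup.closure {y | ∃ a ∈ conjugatesOf d, a * d = y}
  have hMP : M ≤ P₀ := (Subgroup.closure_le _).mpr (by rintro y ⟨a, ha, rfl⟩; exact hval a ha)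
  have hab : ∀ a ∈ conjugatesOf d, ∀ b ∈ conjugatesOf d, a * b ∈ M := by
    intro a ha b hb
    have h2 := M.mul_mem (Subgroup.subset_closure ⟨a, ha, rfl⟩)
      (M.inv_mem (Subgroup.subset_closure ⟨b, hb, rfl⟩))
    rw [mul_inv_rev, inv_eq_of_mul_eq_one_right hdd, hinv b hb,
      show a * d * (d * b) = a * (d * d) * b by group, hdd, mul_one] at h2
    exact h2
  haveI : M.Normal := by
    refine ⟨fun m hm g => ?_⟩
    induction hm using Subgroup.closure_induction with
    | mem y hy =>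
      obtain ⟨a, ha, rfl⟩ := hy
      rw [show g * (a * d) * g⁻¹ = (g * a * g⁻¹) * (g * d * g⁻¹) by group]
      exact hab _ ((ha : IsConj d a).trans (isConj_iff.mpr ⟨g, rfl⟩)) _ (hconj g)
    | one => simp
    | mul y z _ _ hy hz => rw [← conj_mul]; exact M.mul_mem hy hz
    | inv y _ hy => rw [← conj_inv]; exact M.inv_mem hy
  intro a ha b hb
  exact Cfsg.Lib.Components.le_pCore ((IsPGroup.of_card hcP).to_le hMP) (hab a ha b hb)

end Cfsg.Agent.S5561
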