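import Cfsg.Statements.S5563
-- import your own Cfsg.Agent.* helpers here
import Cfsg.Agent.JankoFour.CentralP

set_option autoImplicit false
open Cfsg

namespace Cfsg.Agent.S5563

/-- Let G be a finite non-abelian simple group of Janko-four type (an involution z whose centralizer H has an extraspecial largest normal 2-subgroup E of order 2^13 containing its centralizer in H, a normal subgroup N ≥ E of H with N/E of order 3 and H/N the automorphism group of M₂₂, and a subgroup P ≤ N of order 3 with C_E(P) = ⟨z⟩, N_H(P) ≠ C_H(P) and P ≤ C_H(P)′). Then the centralizer of P in H is the perfect sixfold cover of M₂₂ — it is perfect, its centre is cyclic of order 6 and its central quotient is isomorphic to M₂₂ — and the normalizer of P in G lies in H. -/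
theorem result {G : Type*} [Group G] [Finite G] [IsSimpleGroup G] (hG : ¬ IsMulCommutative G) (z : G) (P : Subgroup G) (hJ : Cfsg.IsOfJankoFourTypeWith z P) :
    ⁅(Subgroup.centralizer ({z} : Set G) ⊓ Subgroup.centralizer (P : Set G)), (Subgroup.centralizer ({z} : Set G) ⊓ Subgroup.centralizer (P : Set G))⁆ = (Subgroup.centralizer ({z} : Set G) ⊓ Subgroup.centralizer (P : Set G)) ∧
    IsCyclic ↥(Subgroup.center ↥(Subgroup.centralizer ({z} : Set G) ⊓ Subgroup.centralizer (P : Set G))) ∧ Nat.card ↥(Subgroup.center ↥(Subgroup.centralizer ({z} : Set G) ⊓ Subgroup.centralizer (P : Set G))) = 6 ∧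
    Cfsg.Spor.IsoM22 (↥(Subgroup.centralizer ({z} : Set G) ⊓ Subgroup.centralizer (P : Set G)) ⧸ Subgroup.center ↥(Subgroup.centralizer ({z} : Set G) ⊓ Subgroup.centralizer (P : Set G))) ∧ Subgroup.normalizer (P : Set G) ≤ Subgroup.centralizer ({z} : Set G) := by
  classical
  obtain ⟨C⟩ := Cfsg.Lib.JankoFour.exists_ctx hJ
  have hP := hJ.2.2.2.2.2.2.2.2
  set K := Subgroup.centralizer ({z} : Set G) ⊓ Subgroup.centralizer (P : Set G) with hK
  have hKH : K ≤ Subgroup.centralizer ({z} : Set G) := inf_le_left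
  have hinj := Cfsg.Lib.JankoFour.conjM22_injective
  let α : ↥K →* ↥(MulAut.conj : Cfsg.Spor.M22 →* MulAut Cfsg.Spor.M22).range :=
    (C.ψ.comp (Subgroup.inclusion hKH)).codRestrict _ fun x => by
      obtain ⟨m, hm⟩ := C.psi_inn (h := Subgroup.inclusion hKH x) (C.mem_K.mp x.2).2
      exact ⟨m, hm.symm⟩
  let φ : ↥K →* Cfsg.Spor.M22 := (MonoidHom.ofInjective hinj).symm.toMonoidHom.comp α
  have hφ : ∀ x : ↥K, MulAut.conj (φ x) = C.ψ (Subgroup.inclusion hKH x) := fun x => by
    have h := congrArg Subtype.val ((MonoidHom.ofInjective hinj).apply_symm_apply (α x))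
    rw [MonoidHom.ofInjective_apply] at h
    exact h
  have hsurj : Function.Surjective φ := fun m => by
    obtain ⟨h, hh, e⟩ := C.psi_surj_K m
    exact ⟨⟨h, hh⟩, hinj ((hφ _).trans e)⟩
  have hzK : z ∈ K := C.mem_K.mpr ⟨Subgroup.mem_centralizer_singleton_iff.mpr rfl, (C.z_comm C.pH).symm⟩
  have hpK : C.p ∈ K := C.mem_K.mpr ⟨C.pH, Commute.refl _⟩
  let g : ↥K := ⟨z * C.p, mul_mem hzK hpK⟩
  have hzp : Commute z C.p := (C.z_comm C.pH).symm
  have hp3 : C.p ^ 3 = 1 := C.ord ▸ pow_orderOf_eq_one C.p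
  have hgo : orderOf g = 6 := by
    rw [← Subgroup.orderOf_coe]
    show orderOf (z * C.p) = 6
    rw [hzp.orderOf_mul_eq_mul_orderOf_of_coprime (by rw [C.hz, C.ord]; norm_num), C.hz, C.ord]
  have hz2 : z ^ 2 = 1 := C.hz ▸ pow_orderOf_eq_one z
  have hg4 : (⟨C.p, hpK⟩ : ↥K) = g ^ 4 := Subtype.ext (by
    rw [Subgroup.coe_pow]
    show C.p = (z * C.p) ^ 4
    rw [hzp.mul_pow, pow_mul z 2 2 |>.trans (by rw [hz2, one_pow]), pow_succ C.p 3, hp3, one_mul, one_mul])
  have hg3 : (⟨z, hzK⟩ : ↥K) = g ^ 3 := Subtype.ext (by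
    rw [Subgroup.coe_pow]
    show z = (z * C.p) ^ 3
    rw [hzp.mul_pow, hp3, mul_one, pow_succ, hz2, one_mul])
  have hker : φ.ker ≤ Subgroup.zpowers g := by
    intro x hx
    obtain ⟨k, hk⟩ := C.psi_one (h := Subgroup.inclusion hKH x) (C.mem_K.mp x.2).2
      (by rw [← hφ, MonoidHom.mem_ker.mp hx, map_one])
    have hpk : ∀ k : ℕ, (⟨C.p, hpK⟩ : ↥K) ^ k ∈ Subgroup.zpowers g := fun k => by
      rw [hg4, ← pow_mul]; exact pow_mem (Subgroup.mem_zpowers g) _
    rcases hk with e | e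
    · rw [show x = (⟨C.p, hpK⟩ : ↥K) ^ k from Subtype.ext (by rw [Subgroup.coe_pow]; exact e)]
      exact hpk k
    · rw [show x = ⟨z, hzK⟩ * (⟨C.p, hpK⟩ : ↥K) ^ k from
        Subtype.ext (by rw [Subgroup.coe_mul, Subgroup.coe_pow]; exact e), hg3]
      exact mul_mem (pow_mem (Subgroup.mem_zpowers g) _) (hpk k)
  have hcenter : Subgroup.zpowers g ≤ Subgroup.center ↥K := by
    refine Subgroup.zpowers_le.mpr (Subgroup.mem_center_iff.mpr fun y => Subtype.ext ?_)
    obtain ⟨hyH, hyp⟩ := C.mem_K.mp y.2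
    show (y : G) * (z * C.p) = z * C.p * y
    exact ((C.z_comm hyH).mul_right hyp).eq
  have hcker : Subgroup.center ↥K ≤ φ.ker := fun x hx => by
    refine MonoidHom.mem_ker.mpr (Cfsg.Lib.JankoFour.M22_center fun m => ?_)
    obtain ⟨y, rfl⟩ := hsurj m
    rw [← map_mul, ← map_mul, Subgroup.mem_center_iff.mp hx y]
  have hZ : Subgroup.center ↥K = Subgroup.zpowers g := le_antisymm (le_trans hcker hker) hcenter
  have hKerZ : φ.ker = Subgroup.center ↥K := le_antisymm (le_trans hker hcenter) hcker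
  refine ⟨C.K_perfect hG hP, ?_, ?_, ⟨(QuotientGroup.quotientMulEquivOfEq hKerZ.symm).trans
    (QuotientGroup.quotientKerEquivOfSurjective φ hsurj)⟩, C.normalizer_P_le hG⟩
  · rw [hZ]; infer_instance
  · rw [hZ, Nat.card_zpowers, hgo]

end Cfsg.Agent.S5563
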