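import Cfsg.Statements.S5565
-- import your own Cfsg.Agent.* helpers here
import Cfsg.Agent.JankoFour.SylowThree

set_option autoImplicit false
open Cfsg

namespace Cfsg.Agent.S5565

/-- Let G be a finite non-abelian simple group of Janko-four type (an involution z whose centralizer H has an extraspecial largest normal 2-subgroup E of order 2^13 containing its centralizer in H, a normal subgroup N ≥ E of H with N/E of order 3 and H/N the automorphism group of M₂₂, and a subgroup P ≤ N of order 3 with C_E(P) = ⟨z⟩, N_H(P) ≠ C_H(P) and P ≤ C_H(P)′). Then a Sylow 3-subgroup R of G contained in H is extraspecial of order 27 and exponent 3, its normalizer in G lies in H, and that normalizer has order 864. -/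
theorem result {G : Type*} [Group G] [Finite G] [IsSimpleGroup G] (hG : ¬ IsMulCommutative G) (z : G) (hJ : Cfsg.IsOfJankoFourTypeAt z) (R : Sylow 3 G) (hR : (R : Subgroup G) ≤ Subgroup.centralizer ({z} : Set G)) :
    Cfsg.IsExtraspecial 3 ↥(R : Subgroup G) ∧ Nat.card ↥(R : Subgroup G) = 27 ∧ Monoid.exponent ↥(R : Subgroup G) = 3 ∧
    Subgroup.normalizer ((R : Subgroup G) : Set G) ≤ Subgroup.centralizer ({z} : Set G) ∧ Nat.card ↥(Subgroup.normalizer ((R : Subgroup G) : Set G)) = 864 := by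
  classical
  haveI : Fact (Nat.Prime 3) := ⟨Nat.prime_three⟩
  obtain ⟨P, hP⟩ := hJ
  obtain ⟨C⟩ := Cfsg.Lib.JankoFour.exists_ctx hP
  obtain ⟨R₀, -, hR₀K, hR₀27, ⟨a, ha, b, hb, hab⟩, hexp, -, hNH, hN⟩ :=
    C.exists_sylow_three hG hP.2.2.2.2.2.2.2.2
  set H := Subgroup.centralizer ({z} : Set G) with hH
  have hR₀H : R₀ ≤ H := le_trans hR₀K inf_le_left
  have hc : Nat.card ↥(R₀.subgroupOf H) = 3 ^ (Nat.card ↥H).factorization 3 := by
    rw [Nat.card_congr (Subgroup.subgroupOfEquivOfLe hR₀H).toEquiv, hR₀27, hH, C.cardH,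
      show (8192 : ℕ) * 2661120 = 3 ^ 3 * 807403520 by norm_num, Nat.factorization_mul (by norm_num) (by norm_num),
      Finsupp.add_apply, Nat.factorization_eq_zero_of_not_dvd (by norm_num : ¬ 3 ∣ 807403520),
      Nat.prime_three.factorization_pow, Finsupp.single_eq_same, add_zero]
    rfl
  obtain ⟨h, hh⟩ := MulAction.exists_smul_eq ↥H (Sylow.ofCard _ hc) (R.subtype hR)
  have hRR : (R : Subgroup G) = R₀.map (MulAut.conj (h : G)).toMonoidHom := by
    have h1 : (R₀.subgroupOf H).map (MulAut.conj h).toMonoidHom = (R : Subgroup G).subgroupOf H :=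
      congrArg (fun s : Sylow 3 ↥H => (s : Subgroup ↥H)) hh
    ext x
    constructor
    · intro hx
      have hx' : (⟨x, hR hx⟩ : ↥H) ∈ (R : Subgroup G).subgroupOf H := Subgroup.mem_subgroupOf.mpr hx
      rw [← h1] at hx'
      obtain ⟨y, hy, e⟩ := hx'
      exact ⟨y, Subgroup.mem_subgroupOf.mp hy, congrArg Subtype.val e⟩
    · rintro ⟨y, hy, rfl⟩
      have hy' : MulAut.conj h (⟨y, hR₀H hy⟩ : ↥H) ∈ (R : Subgroup G).subgroupOf H :=
        h1 ▸ Subgroup.mem_map_of_mem _ (Subgroup.mem_subgroupOf.mpr hy)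
      exact Subgroup.mem_subgroupOf.mp hy'
  rw [hRR]
  set f : G ≃* G := MulAut.conj (h : G) with hf
  have hcard : Nat.card ↥(R₀.map f.toMonoidHom) = 27 := by rw [Subgroup.card_map_of_injective f.injective, hR₀27]
  refine ⟨?_, hcard, ?_, ?_, ?_⟩
  · exact Cfsg.Lib.Fusion.isExtraspecial_of_cube (by rw [hcard]; norm_num)
      (a := ⟨f a, Subgroup.mem_map_of_mem _ ha⟩) (b := ⟨f b, Subgroup.mem_map_of_mem _ hb⟩)
      fun e => hab (f.injective (by rw [map_mul, map_mul]; exact congrArg Subtype.val e))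
  · rw [← Monoid.exponent_eq_of_mulEquiv (R₀.equivMapOfInjective f.toMonoidHom f.injective)]
    refine (Nat.prime_three.eq_one_or_self_of_dvd _ (Monoid.exponent_dvd_of_forall_pow_eq_one fun x =>
      Subtype.ext (by rw [Subgroup.coe_pow]; exact hexp x x.2))).resolve_left fun e => ?_
    haveI := Monoid.exp_eq_one_iff.mp e
    rw [Nat.card_unique] at hR₀27
    norm_num at hR₀27
  · rw [← Subgroup.map_equiv_normalizer_eq]
    rintro _ ⟨x, hx, rfl⟩
    exact mul_mem (mul_mem h.2 (hNH hx)) (inv_mem h.2)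
  · rw [← Subgroup.map_equiv_normalizer_eq, Subgroup.card_map_of_injective f.injective, hN]

end Cfsg.Agent.S5565
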