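import Cfsg.Statements.S5568
-- import your own Cfsg.Agent.* helpers here
import Cfsg.Agent.JankoFour.CentralT

set_option autoImplicit false
open Cfsg

namespace Cfsg.Agent.S5568

/-- Let G be a finite non-abelian simple group of Janko-four type (an involution z whose centralizer H has an extraspecial largest normal 2-subgroup E of order 2^13 containing its centralizer in H, a normal subgroup N ≥ E of H with N/E of order 3 and H/N the automorphism group of M₂₂, and a subgroup P ≤ N of order 3 with C_E(P) = ⟨z⟩, N_H(P) ≠ C_H(P) and P ≤ C_H(P)′). Let V be an elementary abelian subgroup of G of order 2^11. Then under conjugation by the normalizer of V the non-identity elements of V fall into an orbit of length 1771 consisting of conjugates of z and an orbit of length 276 consisting of involutions t not conjugate to z, and for such t the centralizer of t in G lies in the normalizer of V. -/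
theorem result {G : Type*} [Group G] [Finite G] [IsSimpleGroup G] (hG : ¬ IsMulCommutative G) (z : G) (hJ : Cfsg.IsOfJankoFourTypeAt z) (V : Subgroup G) (hV : Cfsg.IsElementaryAbelian 2 V) (hcard : Nat.card ↥V = 2 ^ 11) :
    ∃ z' t : G, z' ∈ V ∧ t ∈ V ∧ t ≠ 1 ∧ IsConj z z' ∧ ¬ IsConj z t ∧
    Set.ncard {v : G | ∃ n ∈ Subgroup.normalizer (V : Set G), n * z' * n⁻¹ = v} = 1771 ∧
    Set.ncard {v : G | ∃ n ∈ Subgroup.normalizer (V : Set G), n * t * n⁻¹ = v} = 276 ∧
    Subgroup.centralizer ({t} : Set G) ≤ Subgroup.normalizer (V : Set G) := by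
  obtain ⟨P, hP⟩ := hJ
  obtain ⟨C⟩ := Cfsg.Lib.JankoFour.exists_ctx hP
  obtain ⟨g, rfl⟩ := C.conj_V hV hcard
  set D := C.sextet hG with hD
  obtain ⟨t, ht⟩ := D.T_nonempty
  set f : G ≃* G := MulAut.conj g
  have hN : ∀ n, n ∈ Subgroup.normalizer ((C.V.map f.toMonoidHom : Subgroup G) : Set G) ↔
      ∃ m ∈ Subgroup.normalizer (C.V : Set G), f m = n := fun n => by
    rw [← Subgroup.map_equiv_normalizer_eq]
    exact Subgroup.mem_map
  have horb : ∀ (a : G) (S : Set G), {v : G | ∃ n ∈ Subgroup.normalizer (C.V : Set G), n * a * n⁻¹ = v} = S →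
      {v : G | ∃ n ∈ Subgroup.normalizer ((C.V.map f.toMonoidHom : Subgroup G) : Set G), n * f a * n⁻¹ = v}.ncard =
        S.ncard := by
    intro a S h
    conv_rhs => rw [← h, ← Set.ncard_image_of_injective _ f.injective]
    congr 1
    ext v
    constructor
    · rintro ⟨n, hn, rfl⟩
      obtain ⟨m, hm, rfl⟩ := (hN n).mp hn
      exact ⟨_, ⟨m, hm, rfl⟩, by rw [map_mul, map_mul, map_inv]⟩
    · rintro ⟨_, ⟨m, hm, rfl⟩, rfl⟩
      exact ⟨f m, (hN _).mpr ⟨m, hm, rfl⟩, by rw [map_mul, map_mul, map_inv]⟩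
  have hconj : ∀ a, IsConj a (f a) := fun a => isConj_iff.mpr ⟨g, rfl⟩
  refine ⟨f z, f t, ⟨z, D.memA, rfl⟩, ⟨t, ht.1, rfl⟩, fun e => ht.2.1 ((MulEquiv.map_eq_one_iff f).mp e),
    hconj z, fun h => ht.2.2 (h.trans (hconj t).symm), ?_, ?_, ?_⟩
  · rw [horb z D.Z ?_, D.counts.2.1]
    ext v
    exact ⟨fun ⟨n, hn, e⟩ => e ▸ D.conj_Z hn D.z_mem_Z, fun hv => D.fuse v hv.1 hv.2⟩
  · rw [horb t D.T ?_, D.counts.1]
    ext v
    exact ⟨fun ⟨n, hn, e⟩ => e ▸ D.conj_T hn ht, fun hv => D.transitive ht hv⟩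
  · intro x hx
    refine (hN x).mpr ⟨f.symm x, C.centralizer_T hG ht (Subgroup.mem_centralizer_singleton_iff.mpr ?_), f.apply_symm_apply x⟩
    refine f.injective ?_
    rw [map_mul, map_mul, f.apply_symm_apply]
    exact Subgroup.mem_centralizer_singleton_iff.mp hx

end Cfsg.Agent.S5568
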