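import Cfsg.Statements.S5594
import Cfsg.Agent.Leech.Monomial

set_option autoImplicit false
open Cfsg

namespace Cfsg.Agent.S5594

/-- The automorphism group of the Leech lattice contains the negation map, and the subgroup of order 2 it generates has no complement: the automorphism group is a non-split extension of its quotient by that subgroup (it is not the direct product of a group of order 2 with the first Conway group). -/
theorem result :
    ∃ n : ↥Cfsg.Co0, (∀ v : ↥Cfsg.leechLattice, ((n • v : ↥Cfsg.leechLattice) : Cfsg.GolayPt → ℤ) = -(v : Cfsg.GolayPt → ℤ)) ∧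
    ∀ K : Subgroup ↥Cfsg.Co0, ¬ (Subgroup.zpowers n).IsComplement' K := by
  refine ⟨Cfsg.Lib.Leech.negOne, fun v => ?_, fun K hK => ?_⟩
  · rw [Cfsg.Lib.Leech.negOne_apply]; rfl
  obtain ⟨h, hh⟩ := Cfsg.Lib.Leech.exists_sqrt_negOne
  have hdis := hK.disjoint
  obtain ⟨⟨⟨a, ha⟩, k⟩, hak⟩ := hK.2 h
  obtain ⟨m, hm⟩ := Subgroup.mem_zpowers_iff.mp ha
  have hn : Cfsg.Lib.Leech.negOne ∈ K := by
    have hc : Commute Cfsg.Lib.Leech.negOne (k : Cfsg.Co0) := Cfsg.Lib.Leech.negOne_comm _
    have hkk : (k : Cfsg.Co0) * k = Cfsg.Lib.Leech.negOne := by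
      have e : a * (k : Cfsg.Co0) = h := hak
      have hcomm : Commute a (k : Cfsg.Co0) := hm ▸ hc.zpow_left m
      have ha2 : a * a = 1 := by
        rw [← hm, ← (Commute.refl Cfsg.Lib.Leech.negOne).mul_zpow, Cfsg.Lib.Leech.negOne_sq, one_zpow]
      rw [← hh, ← e, hcomm.symm.mul_mul_mul_comm, ha2, one_mul]
    rw [← hkk]; exact mul_mem k.2 k.2
  exact Cfsg.Lib.Leech.negOne_ne_one
    (Subgroup.disjoint_def.mp hdis (Subgroup.mem_zpowers _) hn)

end Cfsg.Agent.S5594
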