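import Cfsg.Statements.S5596
import Cfsg.Agent.LargeExtra.Setting

set_option autoImplicit false
set_option linter.style.haveILetI false
open Cfsg

namespace Cfsg.Agent.S5596

/-- Setting: `z` is an involution of the finite group `G`; for each element `x`, `Q x` is the largest normal 2-subgroup of the centralizer of `x`; `Q z` is extraspecial and contains its own centralizer in `G`. A subgroup `U` is singular when it is elementary abelian, every non-identity element of `U` is conjugate to `z`, and any two non-identity elements `u`, `v` of `U` are orthogonal (`v ∈ Q u`). Write `QU` for the intersection of the `Q u` and `LU` for the join of the `Q u` over the non-identity `u` in `U`. If `U` is singular of order `2 ^ n` with `n ≥ 2`, then `U ≤ QU ≤ LU`, `LU` normalizes `U`, and `LU` induces on `U` its full automorphism group (the general linear group of dimension `n` over the field with two elements): every automorphism of `U` is conjugation by some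 element of `LU`. -/
theorem result {G : Type*} [Group G] [Finite G]
    (Q : G → Subgroup G)
    (hQ : ∀ x : G, Q x = (Cfsg.pCore 2 ↥(Subgroup.centralizer ({x} : Set G))).map (Subgroup.centralizer ({x} : Set G)).subtype)
    (z : G) (hz : orderOf z = 2) (hE : Cfsg.IsExtraspecial 2 ↥(Q z))
    (hC : Subgroup.centralizer ((Q z : Subgroup G) : Set G) ≤ Q z)
    (U : Subgroup G) (hU2 : ∀ u ∈ U, u * u = 1)
    (hS : ∀ u ∈ U, u ≠ 1 → ∃ g : G, g * z * g⁻¹ = u)
    (hO : ∀ u ∈ U, ∀ v ∈ U, u ≠ 1 → v ≠ 1 → v ∈ Q u)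
    (QU LU : Subgroup G) (hQU : QU = ⨅ u ∈ ((U : Set G) \ {1}), Q u) (hLU : LU = ⨆ u ∈ ((U : Set G) \ {1}), Q u)
    (n : ℕ) (hn : 2 ≤ n) (hcard : Nat.card ↥U = 2 ^ n) :
    U ≤ QU ∧ QU ≤ LU ∧ LU ≤ Subgroup.normalizer (U : Set G) ∧
      ∀ φ : ↥U ≃* ↥U, ∃ g ∈ LU, ∀ u : ↥U, g * (u : G) * g⁻¹ = ((φ u : ↥U) : G) := by
  have S : Cfsg.Lib.LargeExtra.Sys Q z :=
    ⟨hQ, by rw [← pow_two, ← hz]; exact pow_orderOf_eq_one z, fun e => by simp [e] at hz, hE, hC⟩
  subst hQU hLU
  have hmem : ∀ u ∈ U, u ≠ 1 → u ∈ ((U : Set G) \ {1}) := fun u hu h1 => ⟨hu, h1⟩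
  have hle : ∀ u ∈ U, u ≠ 1 → Q u ≤ ⨆ u ∈ ((U : Set G) \ {1}), Q u := fun u hu h1 =>
    le_iSup₂ (f := fun u (_ : u ∈ ((U : Set G) \ {1})) => Q u) u (hmem u hu h1)
  have hne : U ≠ ⊥ := fun e => by
    rw [e, Subgroup.card_bot] at hcard
    have := Nat.one_lt_two_pow (n := n) (by omega)
    omega
  obtain ⟨⟨u₀, hu₀⟩, hu₀'⟩ := Subgroup.ne_bot_iff_exists_ne_one.mp hne
  have hu₀1 : u₀ ≠ 1 := fun e => hu₀' (Subtype.ext e)
  refine ⟨le_iInf₂ fun u hu => S.le_Q hS hO hu.1 (fun e => hu.2 (by simp [e])),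
    (iInf₂_le (f := fun u (_ : u ∈ ((U : Set G) \ {1})) => Q u) u₀ (hmem u₀ hu₀ hu₀1)).trans (hle u₀ hu₀ hu₀1),
    iSup₂_le fun u hu => S.Q_le_normalizer hS hO hu.1 (fun e => hu.2 (by simp [e])), fun φ => ?_⟩
  exact S.induces_aut hS hO hU2 hle φ

end Cfsg.Agent.S5596
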