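import Cfsg.Statements.S5601
import Cfsg.Agent.Golay.ElementFix

set_option autoImplicit false
open scoped Pointwise
open Cfsg

namespace Cfsg.Agent.S5601

open Cfsg.Lib.Golay Cfsg.Lib.PermCert MulAction
open scoped Pointwise


/-- The group of the length-24 code has exactly two conjugacy classes of subgroups of order 3: a subgroup of order 3 fixes either exactly 6 of the 24 points or none of them, both cases occur, and two subgroups of order 3 with the same number of fixed points are conjugate. -/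
theorem result : (∀ X : Subgroup ↥Cfsg.M24, Nat.card X = 3 → {p : Cfsg.GolayPt | ∀ x ∈ X, ((x : ↥Cfsg.M24) : Equiv.Perm Cfsg.GolayPt) p = p}.ncard = 6 ∨ {p : Cfsg.GolayPt | ∀ x ∈ X, ((x : ↥Cfsg.M24) : Equiv.Perm Cfsg.GolayPt) p = p}.ncard = 0) ∧ (∃ X : Subgroup ↥Cfsg.M24, Nat.card X = 3 ∧ {p : Cfsg.GolayPt | ∀ x ∈ X, ((x : ↥Cfsg.M24) : Equiv.Perm Cfsg.GolayPt) p = p}.ncard = 6) ∧ (∃ X : Subgroup ↥Cfsg.M24, Nat.card X = 3 ∧ {p : Cfsg.GolayPt | ∀ x ∈ X, ((x : ↥Cfsg.M24) : Equiv.Perm Cfsg.GolayPt) p = p}.ncard = 0) ∧ ∀ X Y : Subgroup ↥Cfsg.M24, Nat.card X = 3 → Nat.card Y = 3 → {p : Cfsg.GolayPt | ∀ x ∈ X, ((x : ↥Cfsg.M24) : Equiv.Perm Cfsg.GolayPt) p = p}.ncard = {p : Cfsg.GolayPt | ∀ x ∈ Y, ((x : ↥Cfsg.M24) : Equiv.Perm Cfsg.GolayPt) p = p}.ncard → ∃ k : ↥Cfsg.M24, MulAut.conj k • X = Y := by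
  haveI : Fact (Nat.Prime 3) := ⟨Nat.prime_three⟩
  have key : ∀ X : Subgroup ↥Cfsg.M24, Nat.card X = 3 → ∃ x : ↥Cfsg.M24, X = Subgroup.zpowers x ∧
      orderOf (x : Equiv.Perm Cfsg.GolayPt) = 3 ∧
      {p : Cfsg.GolayPt | ∀ x ∈ X, ((x : ↥Cfsg.M24) : Equiv.Perm Cfsg.GolayPt) p = p}.ncard = fixCard x := by
    intro X hX
    obtain ⟨x, hx, hx1⟩ := (Subgroup.bot_or_exists_ne_one X).resolve_left fun h => by
      rw [h, Subgroup.card_bot] at hX; simp at hX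
    have ho : orderOf x = 3 := by
      have h := orderOf_dvd_natCard (⟨x, hx⟩ : X)
      rw [hX, Subgroup.orderOf_mk] at h
      exact ((Nat.dvd_prime Nat.prime_three).mp h).resolve_left (by simpa using hx1)
    have e : Subgroup.zpowers x = X := Subgroup.eq_of_le_of_card_ge (Subgroup.zpowers_le.mpr hx)
      (by rw [Nat.card_zpowers, ho, hX])
    refine ⟨x, e.symm, by rw [Subgroup.orderOf_coe, ho], ?_⟩
    rw [fixCard, ← Set.ncard_coe_finset]
    congr 1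
    ext p
    simp only [Set.mem_setOf_eq, Finset.coe_filter, Finset.mem_univ, true_and, ← e]
    refine ⟨fun h => h x (Subgroup.mem_zpowers x), ?_⟩
    rintro h y ⟨i, rfl⟩
    show ((x ^ i : ↥Cfsg.M24) : Equiv.Perm Cfsg.GolayPt) p = p
    rw [SubgroupClass.coe_zpow]
    exact Equiv.Perm.zpow_apply_eq_self_of_apply_eq_self h i
  have mkX : ∀ g : Cfsg.Lib.Golay.FG, fvalid g = true → preserves g.1 = true →
      (List.range 24).all (fun i => ap g.1.1 (ap g.1.1 (ap g.1.1 i)) == i) = true → toP g.1 ≠ 1 →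
      ∃ X : Subgroup ↥Cfsg.M24, Nat.card X = 3 ∧
        {p : Cfsg.GolayPt | ∀ x ∈ X, ((x : ↥Cfsg.M24) : Equiv.Perm Cfsg.GolayPt) p = p}.ncard = fixCard (toP g.1) := by
    intro g hg hp h3 h1
    have hv := valid_of_fvalid hg
    have ho : orderOf (toP g.1) = 3 := orderOf_eq_prime (Equiv.ext fun p => pidx_injective (by
      simp only [List.all_eq_true, List.mem_range, beq_iff_eq] at h3
      rw [pow_succ, pow_two, Equiv.Perm.mul_apply, Equiv.Perm.mul_apply, pidx_toP hv, pidx_toP hv, pidx_toP hv]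
      exact h3 _ (pidx_lt p))) h1
    set x : ↥Cfsg.M24 := ⟨toP g.1, toP_mem_M24 hp⟩
    have hox : orderOf x = 3 := by rw [Subgroup.orderOf_mk]; exact ho
    obtain ⟨y, hy, -, hyn⟩ := key _ ((Nat.card_zpowers x).trans hox)
    refine ⟨_, (Nat.card_zpowers x).trans hox, hyn.trans ?_⟩
    refine congrArg Finset.card (Finset.filter_congr fun p _ => ?_)
    have h1 : y ∈ Subgroup.zpowers x := hy ▸ Subgroup.mem_zpowers y
    have h2 : x ∈ Subgroup.zpowers y := hy ▸ Subgroup.mem_zpowers x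
    obtain ⟨i, rfl⟩ := h1
    obtain ⟨j, hj⟩ := h2
    have hj : ((toP g.1) ^ i) ^ j = toP g.1 := by
      simpa [x] using congrArg Subtype.val hj
    show ((x ^ i : ↥Cfsg.M24) : Equiv.Perm Cfsg.GolayPt) p = p ↔ _
    rw [SubgroupClass.coe_zpow]
    refine ⟨fun h => ?_, fun h => Equiv.Perm.zpow_apply_eq_self_of_apply_eq_self h i⟩
    rw [← hj]
    exact Equiv.Perm.zpow_apply_eq_self_of_apply_eq_self h j
  have mvd : ∀ g : Cfsg.Lib.Golay.FG, fvalid g = true → nfix g.1 ≠ 24 → toP g.1 ≠ 1 := fun g hg hn e => hn (by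
    rw [← fixCard_toP (valid_of_fvalid hg), e]; decide)
  refine ⟨fun X hX => ?_, ?_, ?_, fun X Y hX hY hn => ?_⟩
  · obtain ⟨x, -, ho, hx⟩ := key X hX
    obtain ⟨r, -, ⟨-, h⟩ | ⟨-, h⟩⟩ := three_classes x.2 ho <;> omega
  · obtain ⟨X, hX, hn⟩ := mkX triA fvalid_reps.2.2.1 (by decide +kernel) (by decide +kernel)
      (mvd _ fvalid_reps.2.2.1 (by decide +kernel))
    exact ⟨X, hX, hn.trans fixCard_reps.2.2.1⟩
  · obtain ⟨X, hX, hn⟩ := mkX triB fvalid_reps.2.2.2 (by decide +kernel) (by decide +kernel)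
      (mvd _ fvalid_reps.2.2.2 (by decide +kernel))
    exact ⟨X, hX, hn.trans fixCard_reps.2.2.2⟩
  · obtain ⟨x, rfl, hox, hx⟩ := key X hX
    obtain ⟨y, rfl, hoy, hy⟩ := key Y hY
    rw [hx, hy] at hn
    obtain ⟨r, hr, hxr⟩ := three_classes x.2 hox
    obtain ⟨s, hs, hys⟩ := three_classes y.2 hoy
    obtain ⟨t, e1, e2⟩ : ∃ t, (x : Equiv.Perm Cfsg.GolayPt) = r * t * r⁻¹ ∧ (y : Equiv.Perm Cfsg.GolayPt) = s * t * s⁻¹ := by
      rcases hxr with ⟨e, h⟩ | ⟨e, h⟩ <;> rcases hys with ⟨e', h'⟩ | ⟨e', h'⟩ <;>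
        first | exact ⟨_, e, e'⟩ | omega
    refine ⟨⟨s * r⁻¹, mul_mem hs (inv_mem hr)⟩, ?_⟩
    show (Subgroup.zpowers x).map (MulAut.conj _).toMonoidHom = _
    rw [MonoidHom.map_zpowers]
    congr 1
    apply Subtype.ext
    show s * r⁻¹ * (x : Equiv.Perm Cfsg.GolayPt) * (s * r⁻¹)⁻¹ = y
    rw [e1, e2]; group

end Cfsg.Agent.S5601
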