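import Cfsg.Statements.S5602
import Cfsg.Agent.Golay.ElementFix

set_option autoImplicit false
open scoped Pointwise
open Cfsg

namespace Cfsg.Agent.S5602

open Cfsg.Lib.Golay Cfsg.Lib.PermCert MulAction
open scoped Pointwise


/-- An element of order 3 of the group of the length-24 code having exactly 6 fixed points maps to themselves exactly 21 octads, exactly 15 trios, exactly 16 sextets and exactly 20 dodecads. -/
theorem result (g : Equiv.Perm Cfsg.GolayPt) (hg : g ∈ Cfsg.M24) (h₃ : orderOf g = 3) (h₆ : (Finset.univ.filter fun p => g p = p).card = 6) : {o : Finset Cfsg.GolayPt | o ∈ Cfsg.octads ∧ g • o = o}.ncard = 21 ∧ {T : Finset (Finset Cfsg.GolayPt) | T ∈ Cfsg.trios ∧ g • T = T}.ncard = 15 ∧ {S : Finset (Finset Cfsg.GolayPt) | S ∈ Cfsg.sextets ∧ g • S = S}.ncard = 16 ∧ {d : Finset Cfsg.GolayPt | d ∈ Cfsg.dodecads ∧ g • d = d}.ncard = 20 := by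
  obtain ⟨r, hr, ⟨e, -⟩ | ⟨-, h0⟩⟩ := three_classes hg h₃
  · have hc := counts_octads; have ht := counts_trios; have hs := counts_sextets
    simp only [List.map_cons, List.map_nil, List.cons.injEq] at hc ht hs
    exact ⟨fixed_octads fvalid_reps.2.2.1 hr e hc.2.2.1, fixed_trios fvalid_reps.2.2.1 hr e ht.2.2.1,
      fixed_sextets fvalid_reps.2.2.1 hr e hs.2.2.1, fixed_dodecads hr e⟩
  · rw [fixCard, h₆] at h0
    simp at h0

end Cfsg.Agent.S5602
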