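import Cfsg.Statements.S5603
import Cfsg.Agent.Golay.ElementFix

set_option autoImplicit false
open scoped Pointwise
open Cfsg

namespace Cfsg.Agent.S5603

open Cfsg.Lib.Golay Cfsg.Lib.PermCert MulAction
open scoped Pointwise


/-- A fixed-point-free element of order 3 of the group of the length-24 code maps to themselves exactly 7 sextets and exactly 15 trios. -/
theorem result (g : Equiv.Perm Cfsg.GolayPt) (hg : g ∈ Cfsg.M24) (h₃ : orderOf g = 3) (h₀ : ∀ p, g p ≠ p) : {S : Finset (Finset Cfsg.GolayPt) | S ∈ Cfsg.sextets ∧ g • S = S}.ncard = 7 ∧ {T : Finset (Finset Cfsg.GolayPt) | T ∈ Cfsg.trios ∧ g • T = T}.ncard = 15 := by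
  obtain ⟨r, hr, ⟨-, h6⟩ | ⟨e, -⟩⟩ := three_classes hg h₃
  · rw [fixCard_eq_zero.mpr h₀] at h6
    simp at h6
  · have ht := counts_trios; have hs := counts_sextets
    simp only [List.map_cons, List.map_nil, List.cons.injEq] at ht hs
    exact ⟨fixed_sextets fvalid_reps.2.2.2 hr e hs.2.2.2.1, fixed_trios fvalid_reps.2.2.2 hr e ht.2.2.2.1⟩

end Cfsg.Agent.S5603
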