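import Cfsg.Statements.S5604
import Cfsg.Agent.Golay.Seven

set_option autoImplicit false
open scoped Pointwise
open Cfsg

namespace Cfsg.Agent.S5604

open Cfsg.Lib.Golay Cfsg.Lib.PermCert MulAction
open scoped Pointwise


/-- For a subgroup S of order 7 of the group of the length-24 code (a Sylow 7-subgroup): the normaliser of S has order 126, the centraliser of S has order 42 and is non-abelian, and the whole normaliser leaves some trio invariant. (These are the orders of a Frobenius group of order 21 times a symmetric group of degree 3; the isomorphism type itself is not asserted here.) -/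
theorem result (S : Subgroup ↥Cfsg.M24) (hS : Nat.card S = 7) : Nat.card ↥(Subgroup.normalizer (S : Set ↥Cfsg.M24)) = 126 ∧ Nat.card ↥(Subgroup.centralizer (S : Set ↥Cfsg.M24)) = 42 ∧ (∃ x ∈ Subgroup.centralizer (S : Set ↥Cfsg.M24), ∃ y ∈ Subgroup.centralizer (S : Set ↥Cfsg.M24), x * y ≠ y * x) ∧ ∃ T ∈ Cfsg.trios, ∀ n ∈ Subgroup.normalizer (S : Set ↥Cfsg.M24), ((n : ↥Cfsg.M24) : Equiv.Perm Cfsg.GolayPt) • T = T := by
  haveI : Fact (Nat.Prime 7) := ⟨by norm_num⟩
  set x : Cfsg.M24 := ⟨xSeven, xSeven_mem⟩ with hxdef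
  have hxo : orderOf x = 7 := (Subgroup.orderOf_mk _ _).trans orderOf_xSeven
  have hf : (Nat.card Cfsg.M24).factorization 7 = 1 := by
    rw [card_M24]
    have a := (Fact.out : Nat.Prime 7).pow_dvd_iff_le_factorization (k := 1) (n := 244823040) (by norm_num)
    have b := (Fact.out : Nat.Prime 7).pow_dvd_iff_le_factorization (k := 2) (n := 244823040) (by norm_num)
    have h1 := a.mp (by norm_num)
    have h2 : ¬ 2 ≤ Nat.factorization 244823040 7 := fun h => absurd (b.mpr h) (by norm_num)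
    omega
  set P : Sylow 7 Cfsg.M24 := Sylow.ofCard (Subgroup.zpowers x) (by rw [Nat.card_zpowers, hxo, hf, pow_one])
  set Q : Sylow 7 Cfsg.M24 := Sylow.ofCard S (by rw [hS, hf, pow_one])
  obtain ⟨g, hg⟩ := MulAction.exists_smul_eq Cfsg.M24 P Q
  set y : Cfsg.M24 := g * x * g⁻¹ with hy
  have hyS : y ∈ S := by
    have h1 : y ∈ (g • P : Sylow 7 Cfsg.M24) := ⟨x, Subgroup.mem_zpowers x, by simp [hy]⟩
    rw [hg] at h1
    exact h1
  have hSy : S = Subgroup.zpowers y := by
    refine (Subgroup.eq_of_le_of_card_ge (Subgroup.zpowers_le.mpr hyS) ?_).symm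
    rw [hS, Nat.card_zpowers, hy, ← MulAut.conj_apply, MulEquiv.orderOf_eq, hxo]
  subst hSy
  set φ : Cfsg.M24 →* Equiv.Perm Cfsg.GolayPt := Cfsg.M24.subtype.comp (MulAut.conj g⁻¹).toMonoidHom with hφdef
  have hφ : Function.Injective φ := (Subgroup.subtype_injective _).comp (MulAut.conj g⁻¹).injective
  have hφy : φ y = xSeven := by
    simp [hφdef, hy, hxdef, mul_assoc]
  have hφm : ∀ n, φ n ∈ Cfsg.M24 := fun n => ((MulAut.conj g⁻¹) n).2
  have hsurj : ∀ K : Subgroup (Equiv.Perm Cfsg.GolayPt), K ≤ Cfsg.M24 → Nat.card (K.comap φ) = Nat.card K := by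
    intro K hK
    rw [Nat.card_congr (Subgroup.equivMapOfInjective _ φ hφ).toEquiv, Subgroup.map_comap_eq_self]
    intro d hd
    exact ⟨MulAut.conj g ⟨d, hK hd⟩, by simp [hφdef, mul_assoc]⟩
  have hN : Subgroup.normalizer (Subgroup.zpowers y : Set Cfsg.M24) = cgSevenN.grp.comap φ := by
    ext n
    rw [mem_normalizer_zpowers, Subgroup.mem_comap, ← normalizer_seven, ← hφy, ← MonoidHom.map_zpowers, ← map_inv,
      ← map_mul, ← map_mul, Subgroup.mem_map_iff_mem hφ]
    exact ⟨fun h => ⟨hφm n, h⟩, And.right⟩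
  have hC : Subgroup.centralizer (Subgroup.zpowers y : Set Cfsg.M24) = cgSeven.grp.comap φ := by
    ext n
    rw [Subgroup.zpowers_eq_closure, Subgroup.centralizer_closure, Subgroup.mem_centralizer_singleton_iff,
      Subgroup.mem_comap, ← centralizer_seven, ← hφy, ← map_mul, ← map_mul, hφ.eq_iff]
    exact ⟨fun h => ⟨hφm n, h⟩, And.right⟩
  refine ⟨?_, ?_, ?_, (g : Equiv.Perm Cfsg.GolayPt) • famOf codeTrio, smul_mem_trios g.2 famTrio_mem, ?_⟩
  · rw [hN, hsurj _ seven_le.2, card_seven_grps.2]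
  · rw [hC, hsurj _ (seven_le.1.trans seven_le.2), card_seven_grps.1]
  · obtain ⟨a, ha, b, hb, hab⟩ := seven_nonabelian
    obtain ⟨a', rfl⟩ : ∃ a', φ a' = a := ⟨MulAut.conj g ⟨a, seven_le.2 (seven_le.1 ha)⟩, by simp [hφdef, mul_assoc]⟩
    obtain ⟨b', rfl⟩ : ∃ b', φ b' = b := ⟨MulAut.conj g ⟨b, seven_le.2 (seven_le.1 hb)⟩, by simp [hφdef, mul_assoc]⟩
    exact ⟨a', by rwa [hC, Subgroup.mem_comap], b', by rwa [hC, Subgroup.mem_comap], fun h => hab (by rw [← map_mul, ← map_mul, h])⟩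
  · intro n hn
    rw [hN, Subgroup.mem_comap] at hn
    have hd : φ n ∈ cgTrio.grp := mem_cgTrio_of_norm (hφm n) (normalizer_seven.mpr hn).2
    rw [← stdTrio.stab_eq, Subgroup.mem_inf, MulAction.mem_stabilizer_iff] at hd
    have e : (n : Equiv.Perm Cfsg.GolayPt) = g * φ n * (g : Equiv.Perm Cfsg.GolayPt)⁻¹ := by simp [hφdef, mul_assoc]
    rw [e, mul_smul, mul_smul, inv_smul_smul, hd.2]

end Cfsg.Agent.S5604
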