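import Cfsg.Statements.S5605
import Cfsg.Agent.Golay.ElementFix

set_option autoImplicit false
open scoped Pointwise
open Cfsg

namespace Cfsg.Agent.S5605

open Cfsg.Lib.Golay Cfsg.Lib.PermCert MulAction
open scoped Pointwise


/-- An involution of the group of the length-24 code with exactly 8 fixed points maps to themselves exactly 71 octads, exactly 99 trios and exactly 91 sextets. -/
theorem result (g : Equiv.Perm Cfsg.GolayPt) (hg : g ∈ Cfsg.M24) (h₂ : orderOf g = 2) (h₈ : (Finset.univ.filter fun p => g p = p).card = 8) : {o : Finset Cfsg.GolayPt | o ∈ Cfsg.octads ∧ g • o = o}.ncard = 71 ∧ {T : Finset (Finset Cfsg.GolayPt) | T ∈ Cfsg.trios ∧ g • T = T}.ncard = 99 ∧ {S : Finset (Finset Cfsg.GolayPt) | S ∈ Cfsg.sextets ∧ g • S = S}.ncard = 91 := by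
  obtain ⟨r, hr, ⟨e, -⟩ | ⟨-, h0⟩⟩ := involution_classes hg h₂
  · have hc := counts_octads; have ht := counts_trios; have hs := counts_sextets
    simp only [List.map_cons, List.map_nil, List.cons.injEq] at hc ht hs
    exact ⟨fixed_octads fvalid_reps.1 hr e hc.1, fixed_trios fvalid_reps.1 hr e ht.1, fixed_sextets fvalid_reps.1 hr e hs.1⟩
  · rw [fixCard, h₈] at h0
    simp at h0

end Cfsg.Agent.S5605
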