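import Cfsg.Statements.S5609
import Cfsg.Agent.Golay.OctTrio

set_option autoImplicit false
open scoped Pointwise
open Cfsg

namespace Cfsg.Agent.S5609

open Cfsg.Lib.Golay MulAction
open scoped Pointwise


/-- In the graph on the 759 octads of the length-24 code in which two octads are adjacent when they are disjoint, the graph is connected (of diameter 3) and two distinct octads are at distance 1, 2 or 3 exactly when they meet in 0, 4 or 2 points respectively. -/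
theorem result (o o' : Finset Cfsg.GolayPt) (ho : o ∈ Cfsg.octads) (ho' : o' ∈ Cfsg.octads) (hne : o ≠ o') : (Cfsg.blockGraph Cfsg.octads).Connected ∧ ((Cfsg.blockGraph Cfsg.octads).dist ⟨o, ho⟩ ⟨o', ho'⟩ = 1 ↔ (o ∩ o').card = 0) ∧ ((Cfsg.blockGraph Cfsg.octads).dist ⟨o, ho⟩ ⟨o', ho'⟩ = 2 ↔ (o ∩ o').card = 4) ∧ ((Cfsg.blockGraph Cfsg.octads).dist ⟨o, ho⟩ ⟨o', ho'⟩ = 3 ↔ (o ∩ o').card = 2) := by
  set G := Cfsg.blockGraph Cfsg.octads with hG
  have hadj : ∀ x y : Cfsg.octads, G.Adj x y ↔ ((x : Finset Cfsg.GolayPt) ∩ y).card = 0 := by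
    intro x y
    rw [hG, Cfsg.blockGraph, SimpleGraph.fromRel_adj, Finset.card_eq_zero, ← Finset.disjoint_iff_inter_eq_empty]
    refine ⟨fun ⟨_, h⟩ => h.elim id (fun h0 => h0.symm), fun h => ⟨fun e => ?_, Or.inl h⟩⟩
    subst e
    have h8 := card_octad x.2
    rw [disjoint_self.mp h] at h8
    simp at h8
  have main : ∀ x y : Cfsg.octads, x ≠ y →
      (((x : Finset Cfsg.GolayPt) ∩ y).card = 0 ∧ G.Adj x y) ∨
      (((x : Finset Cfsg.GolayPt) ∩ y).card = 4 ∧ ∃ n, G.Adj x n ∧ G.Adj n y) ∨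
      (((x : Finset Cfsg.GolayPt) ∩ y).card = 2 ∧ (∃ n m, G.Adj x n ∧ G.Adj n m ∧ G.Adj m y) ∧ ∀ n, ¬ (G.Adj x n ∧ G.Adj n y)) := by
    intro x y hxy
    rcases octad_pair_facts x.2 y.2 (fun e => hxy (Subtype.ext e)) with h | ⟨h, n, hn, h1, h2⟩ | ⟨h, ⟨n, hn, h1, h2⟩, hall⟩
    · exact Or.inl ⟨h, (hadj x y).mpr h⟩
    · exact Or.inr (Or.inl ⟨h, ⟨n, hn⟩, (hadj _ _).mpr h1, (hadj _ _).mpr h2⟩)
    · have hny : n ≠ (y : Finset Cfsg.GolayPt) := fun e => by
        rw [e, Finset.inter_self, card_octad y.2] at h2; omega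
      rcases octad_pair_facts hn y.2 hny with h' | ⟨-, m, hm, h3, h4⟩ | ⟨h', -⟩
      · omega
      · refine Or.inr (Or.inr ⟨h, ⟨⟨n, hn⟩, ⟨m, hm⟩, (hadj _ _).mpr h1, (hadj _ _).mpr h3, (hadj _ _).mpr h4⟩, ?_⟩)
        exact fun k ⟨hk1, hk2⟩ => hall k k.2 ((hadj _ _).mp hk1) ((hadj _ _).mp hk2)
      · omega
  have hconn : G.Connected := by
    haveI : Nonempty Cfsg.octads := ⟨⟨o, ho⟩⟩
    refine SimpleGraph.Connected.mk fun x y => ?_
    by_cases hxy : x = y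
    · exact hxy ▸ SimpleGraph.Reachable.refl x
    rcases main x y hxy with ⟨-, h⟩ | ⟨-, n, h1, h2⟩ | ⟨-, ⟨n, m, h1, h2, h3⟩, -⟩
    · exact h.reachable
    · exact h1.reachable.trans h2.reachable
    · exact h1.reachable.trans (h2.reachable.trans h3.reachable)
  set a : Cfsg.octads := ⟨o, ho⟩
  set b : Cfsg.octads := ⟨o', ho'⟩
  have hab : a ≠ b := fun e => hne (congrArg Subtype.val e)
  have hd0 : G.dist a b ≠ 0 := fun e => hab ((hconn a b).dist_eq_zero_iff.mp e)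
  have hd1 : G.dist a b = 1 ↔ G.Adj a b := SimpleGraph.dist_eq_one_iff_adj
  have key : ∀ (u v : Cfsg.octads) (w : G.Walk u v), w.length = 2 → ∃ n, G.Adj u n ∧ G.Adj n v := by
    intro u v w hw
    match w, hw with
    | .cons h1 (.cons h2 .nil), _ => exact ⟨_, h1, h2⟩
    | .cons _ (.cons _ (.cons _ _)), hw => simp at hw
  have hd2 : G.dist a b = 2 → ∃ n, G.Adj a n ∧ G.Adj n b := by
    intro e
    obtain ⟨w, hw⟩ := (hconn a b).exists_walk_length_eq_dist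
    rw [e] at hw
    exact key a b w hw
  have le2 : ∀ n, G.Adj a n → G.Adj n b → G.dist a b ≤ 2 := fun n h1 h2 =>
    SimpleGraph.dist_le (.cons h1 (.cons h2 .nil))
  have le3 : ∀ n m, G.Adj a n → G.Adj n m → G.Adj m b → G.dist a b ≤ 3 := fun n m h1 h2 h3 =>
    SimpleGraph.dist_le (.cons h1 (.cons h2 (.cons h3 .nil)))
  refine ⟨hconn, ?_⟩
  have hcard : ((a : Finset Cfsg.GolayPt) ∩ (b : Finset Cfsg.GolayPt)) = o ∩ o' := rfl
  rw [← hcard]
  rcases main a b hab with ⟨h, hA⟩ | ⟨h, n, h1, h2⟩ | ⟨h, ⟨n, m, h1, h2, h3⟩, hno⟩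
  · have := hd1.mpr hA
    omega
  · have h' : G.dist a b ≠ 1 := fun e => by
      have := (hadj a b).mp (hd1.mp e); omega
    have := le2 n h1 h2
    omega
  · have h' : G.dist a b ≠ 1 := fun e => by
      have := (hadj a b).mp (hd1.mp e); omega
    have h'' : G.dist a b ≠ 2 := fun e => by
      obtain ⟨k, hk⟩ := hd2 e; exact hno k hk
    have := le3 n m h1 h2 h3
    omega

end Cfsg.Agent.S5609
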