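import Cfsg.Agent.Golay.SubCheckOctSext
import Cfsg.Agent.Golay.SubCheckOctTrio
import Cfsg.Agent.Golay.StdObjects
import Mathlib
import Cfsg.Statements.S5610
-- import your own Cfsg.Agent.* helpers here

set_option autoImplicit false
open scoped Pointwise
open Cfsg

namespace Cfsg.Agent.S5610

open Cfsg.Lib.Golay

/-- The stabiliser of an octad in the group of the length-24 code has exactly three orbits on the 3795 trios, of sizes 15, 420 and 3360, and exactly three orbits on the 1771 sextets, of sizes 35, 840 and 896. -/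
theorem result (o : Finset Cfsg.GolayPt) (ho : o ∈ Cfsg.octads) : (∃ X₁ ∈ Cfsg.trios, ∃ X₂ ∈ Cfsg.trios, ∃ X₃ ∈ Cfsg.trios, (MulAction.orbit ↥(MulAction.stabilizer Cfsg.M24 o) X₁).ncard = 15 ∧ (MulAction.orbit ↥(MulAction.stabilizer Cfsg.M24 o) X₂).ncard = 420 ∧ (MulAction.orbit ↥(MulAction.stabilizer Cfsg.M24 o) X₃).ncard = 3360 ∧ Cfsg.trios = MulAction.orbit ↥(MulAction.stabilizer Cfsg.M24 o) X₁ ∪ MulAction.orbit ↥(MulAction.stabilizer Cfsg.M24 o) X₂ ∪ MulAction.orbit ↥(MulAction.stabilizer Cfsg.M24 o) X₃) ∧ (∃ Y₁ ∈ Cfsg.sextets, ∃ Y₂ ∈ Cfsg.sextets, ∃ Y₃ ∈ Cfsg.sextets, (MulAction.orbit ↥(MulAction.stabilizer Cfsg.M24 o) Y₁).ncard = 35 ∧ (MulAction.orbit ↥(MulAction.stabilizer Cfsg.M24 o) Y₂).ncard = 840 ∧ (MulAction.orbit ↥(MulAction.stabilizer Cfsg.M24 o) Y₃).ncard = 896 ∧ Cfsg.sextets = MulAction.orbit ↥(MulAction.stabilizer Cfsg.M24 o) Y₁ ∪ MulAction.orbit ↥(MulAction.stabilizer Cfsg.M24 o) Y₂ ∪ MulAction.orbit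 ↥(MulAction.stabilizer Cfsg.M24 o) Y₃) := by
  constructor
  · obtain ⟨ys, hys, hmem, hcov⟩ := stdOct.suborbit_reps stdTrio subsOctTrio_ok subsOctTrio_sizes (x := o) (octads_eq_orbit ▸ ho)
    simp only [← trios_eq_orbit] at hmem hcov
    rcases ys with _ | ⟨a, _ | ⟨b, _ | ⟨c, _ | _⟩⟩⟩ <;> simp at hys
    obtain ⟨ha, hb, hc⟩ := hys
    exact ⟨a, hmem a (by simp), b, hmem b (by simp), c, hmem c (by simp), ha, hb, hc, (Set.ext fun z => by rw [hcov z]; simp only [List.mem_cons, List.not_mem_nil, or_false, exists_eq_or_imp, exists_eq_left, Set.mem_union]; tauto)⟩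
  · obtain ⟨ys, hys, hmem, hcov⟩ := stdOct.suborbit_reps stdSext subsOctSext_ok subsOctSext_sizes (x := o) (octads_eq_orbit ▸ ho)
    simp only [← sextets_eq_orbit] at hmem hcov
    rcases ys with _ | ⟨a, _ | ⟨b, _ | ⟨c, _ | _⟩⟩⟩ <;> simp at hys
    obtain ⟨ha, hb, hc⟩ := hys
    exact ⟨a, hmem a (by simp), c, hmem c (by simp), b, hmem b (by simp), ha, hc, hb, (Set.ext fun z => by rw [hcov z]; simp only [List.mem_cons, List.not_mem_nil, or_false, exists_eq_or_imp, exists_eq_left, Set.mem_union]; tauto)⟩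

end Cfsg.Agent.S5610
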