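import Cfsg.Agent.Golay.SubCheckSextTrio
import Cfsg.Agent.Golay.SubCheckSextOct
import Cfsg.Agent.Golay.StdObjects
import Mathlib
import Cfsg.Statements.S5611
-- import your own Cfsg.Agent.* helpers here

set_option autoImplicit false
open scoped Pointwise
open Cfsg

namespace Cfsg.Agent.S5611

open Cfsg.Lib.Golay

/-- The stabiliser of a sextet in the group of the length-24 code has exactly three orbits on the 759 octads, of sizes 15, 360 and 384, and exactly four orbits on the 3795 trios, of sizes 15, 180, 720 and 2880. -/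
theorem result (S : Finset (Finset Cfsg.GolayPt)) (hS : S ∈ Cfsg.sextets) : (∃ X₁ ∈ Cfsg.octads, ∃ X₂ ∈ Cfsg.octads, ∃ X₃ ∈ Cfsg.octads, (MulAction.orbit ↥(MulAction.stabilizer Cfsg.M24 S) X₁).ncard = 15 ∧ (MulAction.orbit ↥(MulAction.stabilizer Cfsg.M24 S) X₂).ncard = 360 ∧ (MulAction.orbit ↥(MulAction.stabilizer Cfsg.M24 S) X₃).ncard = 384 ∧ Cfsg.octads = MulAction.orbit ↥(MulAction.stabilizer Cfsg.M24 S) X₁ ∪ MulAction.orbit ↥(MulAction.stabilizer Cfsg.M24 S) X₂ ∪ MulAction.orbit ↥(MulAction.stabilizer Cfsg.M24 S) X₃) ∧ (∃ Y₁ ∈ Cfsg.trios, ∃ Y₂ ∈ Cfsg.trios, ∃ Y₃ ∈ Cfsg.trios, ∃ Y₄ ∈ Cfsg.trios, (MulAction.orbit ↥(MulAction.stabilizer Cfsg.M24 S) Y₁).ncard = 15 ∧ (MulAction.orbit ↥(MulAction.stabilizer Cfsg.M24 S) Y₂).ncard = 180 ∧ (MulAction.orbit ↥(MulAction.stabilizer Cfsg.M24 S) Y₃).ncard = 720 ∧ (MulAction.orbit ↥(MulAction.stabilizer Cfsg.M24 S) Y₄).ncard = 2880 ∧ Cfsg.trios = MulAction.orbit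 ↥(MulAction.stabilizer Cfsg.M24 S) Y₁ ∪ MulAction.orbit ↥(MulAction.stabilizer Cfsg.M24 S) Y₂ ∪ MulAction.orbit ↥(MulAction.stabilizer Cfsg.M24 S) Y₃ ∪ MulAction.orbit ↥(MulAction.stabilizer Cfsg.M24 S) Y₄) := by
  constructor
  · obtain ⟨ys, hys, hmem, hcov⟩ := stdSext.suborbit_reps stdOct subsSextOct_ok subsSextOct_sizes (x := S) (sextets_eq_orbit ▸ hS)
    simp only [← octads_eq_orbit] at hmem hcov
    rcases ys with _ | ⟨a, _ | ⟨b, _ | ⟨c, _ | _⟩⟩⟩ <;> simp at hys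
    obtain ⟨ha, hb, hc⟩ := hys
    exact ⟨a, hmem a (by simp), c, hmem c (by simp), b, hmem b (by simp), ha, hc, hb, (Set.ext fun z => by rw [hcov z]; simp only [List.mem_cons, List.not_mem_nil, or_false, exists_eq_or_imp, exists_eq_left, Set.mem_union]; tauto)⟩
  · obtain ⟨ys, hys, hmem, hcov⟩ := stdSext.suborbit_reps stdTrio subsSextTrio_ok subsSextTrio_sizes (x := S) (sextets_eq_orbit ▸ hS)
    simp only [← trios_eq_orbit] at hmem hcov
    rcases ys with _ | ⟨a, _ | ⟨b, _ | ⟨c, _ | ⟨d, _ | _⟩⟩⟩⟩ <;> simp at hys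
    obtain ⟨ha, hb, hc, hd⟩ := hys
    exact ⟨d, hmem d (by simp), a, hmem a (by simp), b, hmem b (by simp), c, hmem c (by simp), hd, ha, hb, hc, (Set.ext fun z => by rw [hcov z]; simp only [List.mem_cons, List.not_mem_nil, or_false, exists_eq_or_imp, exists_eq_left, Set.mem_union]; tauto)⟩

end Cfsg.Agent.S5611
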