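import Cfsg.Agent.Golay.SubCheckTrioSext
import Cfsg.Agent.Golay.SubCheckTrioOct
import Cfsg.Agent.Golay.StdObjects
import Mathlib
import Cfsg.Statements.S5612
-- import your own Cfsg.Agent.* helpers here

set_option autoImplicit false
open scoped Pointwise
open Cfsg

namespace Cfsg.Agent.S5612

open Cfsg.Lib.Golay

/-- The stabiliser of a trio in the group of the length-24 code has exactly three orbits on the 759 octads, of sizes 3, 84 and 672, and exactly four orbits on the 1771 sextets, of sizes 7, 84, 336 and 1344. -/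
theorem result (T : Finset (Finset Cfsg.GolayPt)) (hT : T ∈ Cfsg.trios) : (∃ X₁ ∈ Cfsg.octads, ∃ X₂ ∈ Cfsg.octads, ∃ X₃ ∈ Cfsg.octads, (MulAction.orbit ↥(MulAction.stabilizer Cfsg.M24 T) X₁).ncard = 3 ∧ (MulAction.orbit ↥(MulAction.stabilizer Cfsg.M24 T) X₂).ncard = 84 ∧ (MulAction.orbit ↥(MulAction.stabilizer Cfsg.M24 T) X₃).ncard = 672 ∧ Cfsg.octads = MulAction.orbit ↥(MulAction.stabilizer Cfsg.M24 T) X₁ ∪ MulAction.orbit ↥(MulAction.stabilizer Cfsg.M24 T) X₂ ∪ MulAction.orbit ↥(MulAction.stabilizer Cfsg.M24 T) X₃) ∧ (∃ Y₁ ∈ Cfsg.sextets, ∃ Y₂ ∈ Cfsg.sextets, ∃ Y₃ ∈ Cfsg.sextets, ∃ Y₄ ∈ Cfsg.sextets, (MulAction.orbit ↥(MulAction.stabilizer Cfsg.M24 T) Y₁).ncard = 7 ∧ (MulAction.orbit ↥(MulAction.stabilizer Cfsg.M24 T) Y₂).ncard = 84 ∧ (MulAction.orbit ↥(MulAction.stabilizer Cfsg.M24 T) Y₃).ncard = 336 ∧ (MulAction.orbit ↥(MulAction.stabilizer Cfsg.M24 T) Y₄).ncard = 1344 ∧ Cfsg.sextets = MulAction.orbit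 ↥(MulAction.stabilizer Cfsg.M24 T) Y₁ ∪ MulAction.orbit ↥(MulAction.stabilizer Cfsg.M24 T) Y₂ ∪ MulAction.orbit ↥(MulAction.stabilizer Cfsg.M24 T) Y₃ ∪ MulAction.orbit ↥(MulAction.stabilizer Cfsg.M24 T) Y₄) := by
  constructor
  · obtain ⟨ys, hys, hmem, hcov⟩ := stdTrio.suborbit_reps stdOct subsTrioOct_ok subsTrioOct_sizes (x := T) (trios_eq_orbit ▸ hT)
    simp only [← octads_eq_orbit] at hmem hcov
    rcases ys with _ | ⟨a, _ | ⟨b, _ | ⟨c, _ | _⟩⟩⟩ <;> simp at hys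
    obtain ⟨ha, hb, hc⟩ := hys
    exact ⟨a, hmem a (by simp), c, hmem c (by simp), b, hmem b (by simp), ha, hc, hb, (Set.ext fun z => by rw [hcov z]; simp only [List.mem_cons, List.not_mem_nil, or_false, exists_eq_or_imp, exists_eq_left, Set.mem_union]; tauto)⟩
  · obtain ⟨ys, hys, hmem, hcov⟩ := stdTrio.suborbit_reps stdSext subsTrioSext_ok subsTrioSext_sizes (x := T) (trios_eq_orbit ▸ hT)
    simp only [← sextets_eq_orbit] at hmem hcov
    rcases ys with _ | ⟨a, _ | ⟨b, _ | ⟨c, _ | ⟨d, _ | _⟩⟩⟩⟩ <;> simp at hys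
    obtain ⟨ha, hb, hc, hd⟩ := hys
    exact ⟨d, hmem d (by simp), a, hmem a (by simp), c, hmem c (by simp), b, hmem b (by simp), hd, ha, hc, hb, (Set.ext fun z => by rw [hcov z]; simp only [List.mem_cons, List.not_mem_nil, or_false, exists_eq_or_imp, exists_eq_left, Set.mem_union]; tauto)⟩

end Cfsg.Agent.S5612
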