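import Cfsg.Statements.S5615
import Cfsg.Agent.Golay.OctTrio

set_option autoImplicit false
open scoped Pointwise
open Cfsg

namespace Cfsg.Agent.S5615

open Cfsg.Lib.Golay MulAction
open scoped Pointwise


/-- An octad of the length-24 code lies in exactly 15 trios; the stabiliser of the octad in the code's group acts doubly transitively on these 15 trios, and the kernel of this action is the pointwise stabiliser of the octad. -/
theorem result (o : Finset Cfsg.GolayPt) (ho : o ∈ Cfsg.octads) : {T : Finset (Finset Cfsg.GolayPt) | T ∈ Cfsg.trios ∧ o ∈ T}.ncard = 15 ∧ (∀ T₁ T₂ T₁' T₂' : Finset (Finset Cfsg.GolayPt), T₁ ∈ Cfsg.trios → T₂ ∈ Cfsg.trios → T₁' ∈ Cfsg.trios → T₂' ∈ Cfsg.trios → o ∈ T₁ → o ∈ T₂ → o ∈ T₁' → o ∈ T₂' → T₁ ≠ T₂ → T₁' ≠ T₂' → ∃ g ∈ Cfsg.M24, g • o = o ∧ g • T₁ = T₁' ∧ g • T₂ = T₂') ∧ ∀ g ∈ Cfsg.M24, g • o = o → ((∀ T ∈ Cfsg.trios, o ∈ T → g • T = T) ↔ ∀ p ∈ o, g p = p) := by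
  obtain ⟨⟨r, hr⟩, hro⟩ : o ∈ MulAction.orbit Cfsg.M24 (pts codeOct) := by rwa [← octads_eq_orbit]
  have hro : r • pts codeOct = o := hro
  subst hro
  have hmem : ∀ T, (T ∈ Cfsg.trios ∧ r • pts codeOct ∈ T) ↔ (r⁻¹ • T ∈ Cfsg.trios ∧ pts codeOct ∈ r⁻¹ • T) := by
    intro T
    refine and_congr ⟨fun h => smul_mem_trios (inv_mem hr) h, fun h => ?_⟩ ?_
    · simpa using smul_mem_trios hr h
    · rw [← Finset.inv_smul_mem_iff, inv_inv]
  have conjmem : ∀ g ∈ Cfsg.M24, r * g * r⁻¹ ∈ Cfsg.M24 := fun g hg => mul_mem (mul_mem hr hg) (inv_mem hr)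
  refine ⟨?_, ?_, ?_⟩
  · rw [← through_ncard]
    exact (ncard_smul_congr r fun T => by rw [hmem, inv_smul_smul]).symm
  · intro T₁ T₂ T₁' T₂' a b c d a' b' c' d' hne hne'
    obtain ⟨g, hg, hgo, h1, h2⟩ := through_two_transitive ((hmem T₁).mp ⟨a, a'⟩) ((hmem T₂).mp ⟨b, b'⟩)
      ((hmem T₁').mp ⟨c, c'⟩) ((hmem T₂').mp ⟨d, d'⟩) ((MulAction.injective _).ne hne) ((MulAction.injective _).ne hne')
    refine ⟨r * g * r⁻¹, conjmem g hg, ?_, ?_, ?_⟩
    · rw [mul_smul, mul_smul, inv_smul_smul, hgo]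
    · rw [mul_smul, mul_smul, h1, smul_inv_smul]
    · rw [mul_smul, mul_smul, h2, smul_inv_smul]
  · intro g hg hgo
    have hg' : r⁻¹ * g * r ∈ Cfsg.M24 := mul_mem (mul_mem (inv_mem hr) hg) hr
    have hgo' : (r⁻¹ * g * r) • pts codeOct = pts codeOct := by
      rw [mul_smul, mul_smul, hgo, inv_smul_smul]
    have hk := kernel_trios hg' hgo'
    constructor
    · intro h p hp
      have hq : r⁻¹ p ∈ pts codeOct := by
        have := (Finset.inv_smul_mem_iff).mpr hp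
        exact this
      have hTs : ∀ T ∈ Cfsg.trios, pts codeOct ∈ T → (r⁻¹ * g * r) • T = T := by
        intro T hT hoT
        obtain ⟨h1, h2⟩ := (hmem (r • T)).mpr (by rw [inv_smul_smul]; exact ⟨hT, hoT⟩)
        rw [mul_smul, mul_smul, h _ h1 h2, inv_smul_smul]
      have := hk.mp hTs _ hq
      simpa [Equiv.Perm.mul_apply, Equiv.symm_apply_eq] using this
    · intro h T hT hoT
      have hp : ∀ p ∈ pts codeOct, (r⁻¹ * g * r) p = p := by
        intro p hp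
        have hrp : r p ∈ r • pts codeOct := Finset.smul_mem_smul_finset hp
        simp [Equiv.Perm.mul_apply, h _ hrp]
      obtain ⟨h1, h2⟩ := (hmem T).mp ⟨hT, hoT⟩
      have := hk.mpr hp _ h1 h2
      rwa [mul_smul, mul_smul, smul_inv_smul, smul_left_cancel_iff] at this

end Cfsg.Agent.S5615
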