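import Cfsg.Agent.Golay.SubCheckDodPairSext
import Cfsg.Agent.Golay.StdObjects
import Mathlib
import Cfsg.Statements.S5617
-- import your own Cfsg.Agent.* helpers here

set_option autoImplicit false
open scoped Pointwise
open Cfsg

namespace Cfsg.Agent.S5617

open Cfsg.Lib.Golay

/-- The setwise stabiliser, in the group of the length-24 code, of a complementary pair of dodecads has exactly three orbits on the 1771 sextets, of sizes 396, 495 and 880. -/
theorem result (d : Finset Cfsg.GolayPt) (hd : d ∈ Cfsg.dodecads) : ∃ X₁ ∈ Cfsg.sextets, ∃ X₂ ∈ Cfsg.sextets, ∃ X₃ ∈ Cfsg.sextets, (MulAction.orbit ↥(MulAction.stabilizer Cfsg.M24 ({d, Finset.univ \ d} : Finset (Finset Cfsg.GolayPt))) X₁).ncard = 396 ∧ (MulAction.orbit ↥(MulAction.stabilizer Cfsg.M24 ({d, Finset.univ \ d} : Finset (Finset Cfsg.GolayPt))) X₂).ncard = 495 ∧ (MulAction.orbit ↥(MulAction.stabilizer Cfsg.M24 ({d, Finset.univ \ d} : Finset (Finset Cfsg.GolayPt))) X₃).ncard = 880 ∧ Cfsg.sextets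 = MulAction.orbit ↥(MulAction.stabilizer Cfsg.M24 ({d, Finset.univ \ d} : Finset (Finset Cfsg.GolayPt))) X₁ ∪ MulAction.orbit ↥(MulAction.stabilizer Cfsg.M24 ({d, Finset.univ \ d} : Finset (Finset Cfsg.GolayPt))) X₂ ∪ MulAction.orbit ↥(MulAction.stabilizer Cfsg.M24 ({d, Finset.univ \ d} : Finset (Finset Cfsg.GolayPt))) X₃ := by
  have hx : ({d, Finset.univ \ d} : Finset (Finset Cfsg.GolayPt)) ∈ MulAction.orbit Cfsg.M24 (famOf codeDodPair) := by
    rw [← Finset.compl_eq_univ_sdiff]; exact dodPair_mem_orbit hd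
  obtain ⟨ys, hys, hmem, hcov⟩ := stdDodPair.suborbit_reps stdSext subsDodPairSext_ok subsDodPairSext_sizes (x := ({d, Finset.univ \ d} : Finset (Finset Cfsg.GolayPt))) hx
  simp only [← sextets_eq_orbit] at hmem hcov
  rcases ys with _ | ⟨a, _ | ⟨b, _ | ⟨c, _ | _⟩⟩⟩ <;> simp at hys
  obtain ⟨ha, hb, hc⟩ := hys
  exact ⟨c, hmem c (by simp), a, hmem a (by simp), b, hmem b (by simp), hc, ha, hb, (Set.ext fun z => by rw [hcov z]; simp only [List.mem_cons, List.not_mem_nil, or_false, exists_eq_or_imp, exists_eq_left, Set.mem_union]; tauto)⟩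

end Cfsg.Agent.S5617
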