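import Cfsg.Agent.Golay.CodeFacts
import Mathlib
import Cfsg.Statements.S5622
-- import your own Cfsg.Agent.* helpers here

set_option autoImplicit false
open Cfsg

namespace Cfsg.Agent.S5622

/-- Let C be a self-dual binary code of length 24 with minimum weight at least 8 (a 12-dimensional subspace of the 24-dimensional space over the field with two elements, any two of whose words have dot product zero, with no non-zero word of weight below 8 — an abstract extended binary Golay code). Then the minimum weight of C is exactly 8, and the supports of the words of weight 8 (the octads) form a Steiner system S(5, 8, 24) on the 24 coordinates: every 5 coordinates lie in the support of exactly one word of weight 8. -/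
theorem result (C : Submodule (ZMod 2) (Fin 24 → ZMod 2)) (hdim : Module.finrank (ZMod 2) C = 12) (horth : ∀ v ∈ C, ∀ w ∈ C, ∑ i, v i * w i = 0) (hmin : ∀ w ∈ C, w ≠ 0 → 8 ≤ hammingNorm w) : (∃ w ∈ C, hammingNorm w = 8) ∧ Cfsg.IsSteinerSystem 5 8 (Cfsg.wordsOfWeight (C : Set (Fin 24 → ZMod 2)) 8) := by
  obtain ⟨e, he⟩ := Lib.Golay.exists_equiv_code (by simp) hdim horth hmin
  have hB : Cfsg.wordsOfWeight (C : Set (Fin 24 → ZMod 2)) 8 = {s | s.image e ∈ Cfsg.octads} := by
    ext s
    have h := he (Lib.Golay.ind (s.image e))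
    have hc : Lib.Golay.ind (s.image e) ∘ e = Lib.Golay.ind s := by
      funext a; simp [Lib.Golay.ind]
    rw [hc] at h
    simp only [Cfsg.octads, Cfsg.wordsOfWeight, Set.mem_setOf_eq, Lib.Golay.mem_supports_iff_ind,
      SetLike.mem_coe, h, Finset.card_image_of_injective _ e.injective]
  refine ⟨?_, hB ▸ Lib.Golay.isSteinerSystem_image Lib.Golay.octads_steiner e⟩
  obtain ⟨b, ⟨hb, -⟩, -⟩ := Lib.Golay.octads_steiner.2 (Finset.image e {0, 1, 2, 3, 4}) (by
    rw [Finset.card_image_of_injective _ e.injective]; decide)
  obtain ⟨⟨w, hw, rfl⟩, h8⟩ := hb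
  exact ⟨w ∘ e, (he w).mp hw, by rw [Lib.Golay.hammingNorm_comp, Lib.Golay.hammingNorm_eq, h8]⟩

end Cfsg.Agent.S5622
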