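import Cfsg.Statements.S5628
import Cfsg.Agent.Steiner.PlaneFour

set_option autoImplicit false
set_option linter.style.haveILetI false
open Cfsg Cfsg.Lib
open scoped Pointwise

namespace Cfsg.Agent.S5628

/-- In a projective plane of order 4 (a Steiner system S(2, 5, 21)), every permutation of the six points of a hyperoval (a 6-set met by no line in more than two points) is the restriction of exactly one automorphism of the plane. In particular the stabiliser of a hyperoval in the automorphism group is isomorphic to the symmetric group of degree 6 acting faithfully on the hyperoval. -/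
theorem result {α : Type*} [Fintype α] [DecidableEq α] (hα : Fintype.card α = 21) (L : Set (Finset α)) (hL : Cfsg.IsSteinerSystem 2 5 L) (H : Finset α) (hH : (H.card = 6 ∧ ∀ l ∈ L, (l ∩ H).card ≤ 2)) (σ : Equiv.Perm ↥H) : ∃! g : Equiv.Perm α, g ∈ Cfsg.setSystemAut L ∧ ∀ p : ↥H, g p = σ p := by
  classical
  obtain ⟨hH6, hHa⟩ := hH
  let e : ↥H ≃ Fin 6 := Fintype.equivFinOfCardEq (by rw [Fintype.card_coe, hH6])
  have hlab : ∀ τ : Equiv.Perm ↥H, PlaneFour.IsLabel L fun i => (τ (e.symm i) : α) := fun τ => by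
    refine ⟨fun i j hij => e.symm.injective (τ.injective (Subtype.ext hij)), ?_⟩
    have hi : Finset.univ.image (fun i => (τ (e.symm i) : α)) = H := by
      ext x
      simp only [Finset.mem_image, Finset.mem_univ, true_and]
      exact ⟨fun ⟨i, hi⟩ => hi ▸ (τ (e.symm i)).2, fun hx => ⟨e (τ.symm ⟨x, hx⟩), by simp⟩⟩
    rw [hi]; exact hHa
  obtain ⟨Φ, hΦi, hΦ⟩ := PlaneFour.exists_iso hα hL (hlab 1)
  obtain ⟨Ψ, hΨi, hΨ⟩ := PlaneFour.exists_iso hα hL (hlab σ)
  have hg : ∀ p : ↥H, (Φ.symm.trans Ψ) p = σ p := fun p => by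
    have h1 : Φ (Sum.inl (e p)) = (p : α) := (hΦi (e p)).trans (by simp)
    rw [Equiv.trans_apply, ← h1, Equiv.symm_apply_apply, hΨi, Equiv.symm_apply_apply]
  have hmem : (Φ.symm.trans Ψ : Equiv.Perm α) ∈ Cfsg.setSystemAut L := by
    rw [MulAction.mem_stabilizer_iff]
    show (fun b : Finset α => b.image (Φ.symm.trans Ψ)) '' L = L
    conv_rhs => rw [← hΨ]
    rw [← hΦ, Set.image_image]
    refine Set.image_congr' fun b => ?_
    rw [Finset.image_image]
    congr 1
    funext p
    simp
  refine ⟨Φ.symm.trans Ψ, ⟨hmem, hg⟩, fun g' hg' => ?_⟩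
  have h1 : (Φ.symm.trans Ψ)⁻¹ * g' = 1 :=
    PlaneFour.line_perm_unique hα hL (hlab 1) (mul_mem (inv_mem hmem) hg'.1) fun i => by
      rw [Equiv.Perm.mul_apply, hg'.2, ← hg]
      exact Equiv.symm_apply_apply _ _
  exact (inv_mul_eq_one.mp h1).symm

end Cfsg.Agent.S5628
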