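import Cfsg.Statements.S5632
import Mathlib
import Cfsg.Agent.Classical.Misc.NonMaximal

set_option autoImplicit false
open Cfsg

namespace Cfsg.Agent.S5632

/-- For a finite field F and subspaces 0 < W < U of F^n with dim W + dim U = n, the elements of SL_n(F) stabilising both W and U form a subgroup that is not maximal in SL_n(F): some subgroup lies strictly between it and SL_n(F). -/
theorem result {F : Type*} [Field F] [Fintype F] (n : ℕ) (W U : Submodule F (Fin n → F)) (hW0 : W ≠ ⊥) (hWU : W < U) (hdim : Module.finrank F W + Module.finrank F U = n) : ∃ K : Subgroup (Matrix.GeneralLinearGroup (Fin n) F), Cfsg.Geo.subspaceStabilizer W ⊓ Cfsg.Geo.subspaceStabilizer U ⊓ Cfsg.Geo.specialLinear (Fin n) F < K ∧ K < Cfsg.Geo.specialLinear (Fin n) F := by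
  have hU : U ≠ ⊤ := fun h => hW0 (Submodule.finrank_eq_zero.mp (by rw [h, finrank_top, Module.finrank_fin_fun] at hdim; omega))
  obtain ⟨u, hu, huW⟩ := SetLike.exists_of_lt hWU
  obtain ⟨φ, hφ, hφW⟩ := Cfsg.Lib.Classical.exists_dual_vanish huW
  obtain ⟨z, -, hz⟩ := SetLike.exists_of_lt (lt_top_iff_ne_top.mpr hU)
  refine Cfsg.Lib.Classical.exists_intermediate_subspace hW0 hWU.ne_top hφW hu hφ (v := z - φ z • u)
    (by rw [map_sub, map_smul, hφ, smul_eq_mul, mul_one, sub_self]) fun h => hz ?_
  have := U.add_mem h (U.smul_mem (φ z) hu)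
  rwa [sub_add_cancel] at this

end Cfsg.Agent.S5632
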