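import Cfsg.Statements.S5633
import Mathlib
import Cfsg.Agent.Classical.Misc.NonMaximal

set_option autoImplicit false
open Cfsg

namespace Cfsg.Agent.S5633

/-- For a finite field F and complementary non-zero subspaces W ⊕ U = F^n with dim W < dim U, the elements of SL_n(F) stabilising both W and U form a subgroup that is not maximal in SL_n(F): some subgroup lies strictly between it and SL_n(F). -/
theorem result {F : Type*} [Field F] [Fintype F] (n : ℕ) (W U : Submodule F (Fin n → F)) (hW0 : W ≠ ⊥) (hWU : W ⊓ U = ⊥) (hWU' : W ⊔ U = ⊤) (hdim : Module.finrank F W < Module.finrank F U) : ∃ K : Subgroup (Matrix.GeneralLinearGroup (Fin n) F), Cfsg.Geo.subspaceStabilizer W ⊓ Cfsg.Geo.subspaceStabilizer U ⊓ Cfsg.Geo.specialLinear (Fin n) F < K ∧ K < Cfsg.Geo.specialLinear (Fin n) F := by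
  have hU : U ≠ ⊥ := fun h => by rw [h, finrank_bot] at hdim; omega
  obtain ⟨u, hu, hu0⟩ := Submodule.exists_mem_ne_zero_of_ne_bot hU
  obtain ⟨w, hw, hw0⟩ := Submodule.exists_mem_ne_zero_of_ne_bot hW0
  have hne : ∀ x ∈ W, x ∈ U → x = 0 := fun x hx hx2 => (Submodule.mem_bot F).mp (hWU ▸ ⟨hx, hx2⟩)
  have huW : u ∉ W := fun h => hu0 (hne u h hu)
  obtain ⟨φ, hφ, hφW⟩ := Cfsg.Lib.Classical.exists_dual_vanish huW
  exact Cfsg.Lib.Classical.exists_intermediate_subspace hW0 (fun h => huW (h ▸ Submodule.mem_top)) hφW hu hφ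
    (hφW w hw) fun h => hw0 (hne w hw h)

end Cfsg.Agent.S5633
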