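import Cfsg.Statements.S5642
import Mathlib
import Cfsg.Agent.Classical.MaxBridge
import Cfsg.Agent.Classical.Transv.SympInSL

set_option autoImplicit false
open Cfsg

namespace Cfsg.Agent.S5642

/-- For a finite field F and n ≥ 13, let f be a non-degenerate symplectic form on F^n (so n is even). Then the elements of SL_n(F) that are similarities of f (f(gu, gv) = c f(u, v) for a non-zero scalar c depending on g) form a maximal subgroup of SL_n(F). -/
theorem result {F : Type*} [Field F] [Fintype F] (n : ℕ) (hn : 13 ≤ n) (f : (Fin n → F) → (Fin n → F) → F) (hf : Cfsg.Geo.IsSymplecticForm f) : Cfsg.Geo.IsMaximalIn (Cfsg.Geo.specialLinear (Fin n) F) (Cfsg.Geo.similarityGroup f ⊓ Cfsg.Geo.specialLinear (Fin n) F) := by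
  let B : LinearMap.BilinForm F (Fin n → F) := LinearMap.mk₂ F f hf.bilinear.add_left
    (fun c x v => hf.bilinear.smul_left c x v) hf.bilinear.add_right (fun c v x => hf.bilinear.smul_right c v x)
  have hA : B.IsAlt := hf.alternating
  have hB : B.Nondegenerate := by
    constructor
    · intro v hv
      by_contra hne
      obtain ⟨-, ⟨x, hx⟩⟩ := hf.nondegenerate v hne
      exact hx (hv x)
    · intro v hv
      by_contra hne
      obtain ⟨⟨x, hx⟩, -⟩ := hf.nondegenerate v hne
      exact hx (hv x)
  refine Cfsg.Lib.Classical.isMaximalIn_of_isCoatom_comap (Cfsg.Lib.Classical.slToGL (Fin n) F)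
    (Cfsg.Lib.Classical.range_slToGL (Fin n)) ?_
  have e : (Cfsg.Geo.similarityGroup f).comap (Cfsg.Lib.Classical.slToGL (Fin n) F) =
      Cfsg.Lib.Classical.slSimilitudes B := by
    ext g
    refine exists_congr fun c => forall_congr' fun x => forall_congr' fun y => ?_
    rw [Cfsg.Lib.Classical.slToGL_mulVec, Cfsg.Lib.Classical.slToGL_mulVec]
    rfl
  rw [e]
  exact Cfsg.Lib.Classical.isCoatom_slSimilitudes hA hB (by rw [Module.finrank_fin_fun]; omega)

end Cfsg.Agent.S5642
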