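import Cfsg.Statements.S5643
import Mathlib
import Cfsg.Agent.Classical.Unitary.InSL
import Cfsg.Agent.Classical.MaxBridge

set_option autoImplicit false
open Cfsg

namespace Cfsg.Agent.S5643

/-- For a finite field F and n ≥ 13, let σ be a field automorphism of F of order two and f a non-degenerate unitary form on F^n with respect to σ. Then the elements of SL_n(F) that are similarities of f form a maximal subgroup of SL_n(F). -/
theorem result {F : Type*} [Field F] [Fintype F] (n : ℕ) (hn : 13 ≤ n) (σ : F ≃+* F) (f : (Fin n → F) → (Fin n → F) → F) (hf : Cfsg.Geo.IsUnitaryForm σ f) : Cfsg.Geo.IsMaximalIn (Cfsg.Geo.specialLinear (Fin n) F) (Cfsg.Geo.similarityGroup f ⊓ Cfsg.Geo.specialLinear (Fin n) F) := by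
  let H : Cfsg.Lib.Classical.HermSpace F (Fin n → F) :=
    { σ := σ.toRingHom
      h := f
      conj := ⟨hf.involutive, by
        by_contra hc
        push Not at hc
        exact hf.ne_refl (RingEquiv.ext hc)⟩
      add_left := hf.add_left
      smul_left := hf.smul_left
      symm := hf.herm
      nondeg := fun v hv => by
        by_contra hne
        obtain ⟨⟨x, hx⟩, -⟩ := hf.nondegenerate v hne
        exact hx (hv x) }
  refine Cfsg.Lib.Classical.isMaximalIn_of_isCoatom_comap (Cfsg.Lib.Classical.slToGL (Fin n) F)
    (Cfsg.Lib.Classical.range_slToGL (Fin n)) ?_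
  have e : (Cfsg.Geo.similarityGroup f).comap (Cfsg.Lib.Classical.slToGL (Fin n) F) = H.slSimilitudes := by
    ext g
    refine exists_congr fun c => forall_congr' fun x => forall_congr' fun y => ?_
    change f ((Cfsg.Lib.Classical.slToGL (Fin n) F g).val.mulVec x) ((Cfsg.Lib.Classical.slToGL (Fin n) F g).val.mulVec y) = _ ↔ _
    rw [Cfsg.Lib.Classical.slToGL_mulVec, Cfsg.Lib.Classical.slToGL_mulVec]
  rw [e]
  exact H.isCoatom_slSimilitudes (by rw [Module.finrank_fin_fun]; omega)

end Cfsg.Agent.S5643
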