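import Cfsg.Statements.S5644
import Mathlib
import Cfsg.Agent.Classical.Orth.InSLMax
import Cfsg.Agent.Classical.MaxBridge

set_option autoImplicit false
open Cfsg

namespace Cfsg.Agent.S5644

/-- For a finite field F of odd order and n ≥ 13, let Q be a non-degenerate quadratic form on F^n (its polar form is non-degenerate). Then the elements of SL_n(F) that are similarities of Q (Q(gv) = c Q(v) for a non-zero scalar c depending on g) form a maximal subgroup of SL_n(F). -/
theorem result {F : Type*} [Field F] [Fintype F] (n : ℕ) (hn : 13 ≤ n) (hodd : Odd (Fintype.card F)) (Q : (Fin n → F) → F) (hQ : Cfsg.Geo.IsNondegenerateQuadraticForm Q) : Cfsg.Geo.IsMaximalIn (Cfsg.Geo.specialLinear (Fin n) F) (Cfsg.Geo.quadSimilarityGroup Q ⊓ Cfsg.Geo.specialLinear (Fin n) F) := by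
  classical
  obtain ⟨hsm, hb, hn'⟩ := hQ
  let B : LinearMap.BilinForm F (Fin n → F) := LinearMap.mk₂ F (QuadraticMap.polar Q) hb.add_left
    (fun c x v => hb.smul_left c x v) hb.add_right (fun c v x => hb.smul_right c v x)
  have hB : ∀ u v, B u v = Q (u + v) - Q u - Q v := fun u v => rfl
  have h2 : (2 : F) ≠ 0 := fun h => by
    haveI : CharP F 2 := CharTwo.of_one_ne_zero_of_two_eq_zero one_ne_zero h
    obtain ⟨m, -, hm⟩ := FiniteField.card F 2
    rw [hm] at hodd
    exact absurd hodd (by simp [Nat.even_pow, m.ne_zero])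
  have hdiag : ∀ v, B v v = 2 * Q v := fun v => by
    rw [hB, ← two_smul F v, hsm]; ring
  have S : Cfsg.Lib.Classical.SymSpace B :=
    { symm := fun u v => QuadraticMap.polar_comm Q u v
      nondeg := fun u hu => by
        by_contra hne
        obtain ⟨-, x, hx⟩ := hn' u hne
        exact hx (hu x)
      two := h2 }
  refine Cfsg.Lib.Classical.isMaximalIn_of_isCoatom_comap (Cfsg.Lib.Classical.slToGL (Fin n) F)
    (Cfsg.Lib.Classical.range_slToGL (Fin n)) ?_
  refine S.isCoatom_similitudes (by rw [Module.finrank_fin_fun]; omega) fun g => ?_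
  change (∃ c : Fˣ, ∀ v, Q ((Cfsg.Lib.Classical.slToGL (Fin n) F g).val.mulVec v) = c * Q v) ↔ _
  simp only [Cfsg.Lib.Classical.slToGL_mulVec]
  constructor
  · rintro ⟨c, hc⟩
    refine ⟨c, c.ne_zero, fun a b => ?_⟩
    rw [hB, hB, ← map_add, hc, hc, hc]
    ring
  · rintro ⟨c, hc0, hc⟩
    refine ⟨Units.mk0 c hc0, fun v => mul_left_cancel₀ h2 ?_⟩
    rw [← hdiag, hc, hdiag, Units.val_mk0]
    ring

end Cfsg.Agent.S5644
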