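import Cfsg.Statements.S5645
import Mathlib
import Cfsg.Agent.Classical.MaxBridge
import Cfsg.Agent.Classical.Symp.Maximal

set_option autoImplicit false
open Cfsg

namespace Cfsg.Agent.S5645

/-- For a finite field F and m ≥ 7, in the symplectic group Sp_2m(F) of the standard alternating form on F^(2m) (as a subgroup of GL_2m(F)), the stabiliser of any non-zero subspace on which the form vanishes identically is a maximal subgroup. -/
theorem result {F : Type*} [Field F] [Fintype F] (m : ℕ) (hm : 7 ≤ m) (W : Submodule F (Fin m ⊕ Fin m → F)) (hW0 : W ≠ ⊥) (hW : Cfsg.Geo.IsTotallySingularFor (Cfsg.sympForm m F) W) : Cfsg.Geo.IsMaximalIn (Cfsg.spGL m F) (Cfsg.Geo.subspaceStabilizer W ⊓ Cfsg.spGL m F) := by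
  refine Cfsg.Lib.Classical.isMaximalIn_of_isCoatom_comap (Cfsg.Lib.Classical.sympToGL m F)
    (Cfsg.Lib.Classical.range_sympToGL m) ?_
  have e : (Cfsg.Geo.subspaceStabilizer W).comap (Cfsg.Lib.Classical.sympToGL m F) =
      Cfsg.Lib.Classical.subStabilizer (Cfsg.Lib.Classical.sympBilin m F) W :=
    SetLike.ext fun g => Cfsg.Lib.Classical.sympToGL_mem_subspaceStabilizer g W
  rw [e]
  refine Cfsg.Lib.Classical.isCoatom_subStabilizer_isotropic (Cfsg.Lib.Classical.sympBilin_isAlt m F)
    (Cfsg.Lib.Classical.sympBilin_nondegenerate m F) hW0 ?_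
  intro w hw u hu
  change Cfsg.Lib.Classical.sympBilin m F u w = 0
  rw [Cfsg.Lib.Classical.sympBilin_eq_sympForm]
  exact hW u hu w hw

end Cfsg.Agent.S5645
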