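import Cfsg.Statements.S5646
import Mathlib
import Cfsg.Agent.Classical.MaxBridge
import Cfsg.Agent.Classical.Symp.Maximal

set_option autoImplicit false
open Cfsg

namespace Cfsg.Agent.S5646

/-- For a finite field F and m ≥ 7, in the symplectic group Sp_2m(F) of the standard alternating form on F^(2m), the stabiliser of any non-zero subspace W on which the form is non-degenerate and with dim W < m is a maximal subgroup. -/
theorem result {F : Type*} [Field F] [Fintype F] (m : ℕ) (hm : 7 ≤ m) (W : Submodule F (Fin m ⊕ Fin m → F)) (hW0 : W ≠ ⊥) (hW : Cfsg.Geo.IsNondegenerateOn (Cfsg.sympForm m F) W) (hdim : Module.finrank F W < m) : Cfsg.Geo.IsMaximalIn (Cfsg.spGL m F) (Cfsg.Geo.subspaceStabilizer W ⊓ Cfsg.spGL m F) := by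
  refine Cfsg.Lib.Classical.isMaximalIn_of_isCoatom_comap (Cfsg.Lib.Classical.sympToGL m F)
    (Cfsg.Lib.Classical.range_sympToGL m) ?_
  have e : (Cfsg.Geo.subspaceStabilizer W).comap (Cfsg.Lib.Classical.sympToGL m F) =
      Cfsg.Lib.Classical.subStabilizer (Cfsg.Lib.Classical.sympBilin m F) W :=
    SetLike.ext fun g => Cfsg.Lib.Classical.sympToGL_mem_subspaceStabilizer g W
  rw [e]
  refine Cfsg.Lib.Classical.isCoatom_subStabilizer_nondegenerate (Cfsg.Lib.Classical.sympBilin_isAlt m F)
    (Cfsg.Lib.Classical.sympBilin_nondegenerate m F) hW0 ?_ ?_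
  · refine LinearMap.BilinForm.nondegenerate_restrict_of_disjoint_orthogonal _
      (Cfsg.Lib.Classical.sympBilin_isAlt m F).isRefl ?_
    rw [Submodule.disjoint_def]
    intro w hw hwo
    by_contra hne
    obtain ⟨⟨x, hx, hxw⟩, -⟩ := hW w hw hne
    apply hxw
    rw [← Cfsg.Lib.Classical.sympBilin_eq_sympForm]
    exact hwo x hx
  · rw [Cfsg.Lib.Classical.finrank_sympSpace]; omega

end Cfsg.Agent.S5646
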