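import Cfsg.Statements.S5647
import Mathlib
import Cfsg.Agent.Classical.MaxBridge
import Cfsg.Agent.Classical.Symp.Wreath

set_option autoImplicit false
open Cfsg

namespace Cfsg.Agent.S5647

/-- For a finite field F with q elements and m ≥ 7, let D be a decomposition of F^(2m) into t ≥ 2 pairwise orthogonal subspaces of equal dimension k on each of which the standard alternating form is non-degenerate, spanning F^(2m). Unless k = 2 and q = 2, the elements of Sp_2m(F) permuting the members of D form a maximal subgroup of Sp_2m(F). -/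
theorem result {F : Type*} [Field F] [Fintype F] (m : ℕ) (hm : 7 ≤ m) {t : ℕ} (k : ℕ) (D : Fin t → Submodule F (Fin m ⊕ Fin m → F)) (hD : Cfsg.Geo.IsNondegenerateMDecomposition (Cfsg.sympForm m F) k D) (hex : ¬ (k = 2 ∧ Fintype.card F = 2)) : Cfsg.Geo.IsMaximalIn (Cfsg.spGL m F) (Cfsg.Geo.decompositionStabilizer D ⊓ Cfsg.spGL m F) := by
  have hA := Cfsg.Lib.Classical.sympBilin_isAlt m F
  have hB := Cfsg.Lib.Classical.sympBilin_nondegenerate m F
  have hd : Cfsg.Lib.Classical.SympDecomp (Cfsg.Lib.Classical.sympBilin m F) k D :=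
    { nondeg := fun i => by
        refine LinearMap.BilinForm.nondegenerate_restrict_of_disjoint_orthogonal _ hA.isRefl ?_
        rw [Submodule.disjoint_def]
        intro w hw hwo
        by_contra hne
        obtain ⟨⟨x, hx, hxw⟩, -⟩ := hD.nondegenerate i w hw hne
        apply hxw
        rw [← Cfsg.Lib.Classical.sympBilin_eq_sympForm]
        exact hwo x hx
      orth := fun i j hij v hv w hw => by
        change Cfsg.Lib.Classical.sympBilin m F w v = 0
        rw [Cfsg.Lib.Classical.sympBilin_eq_sympForm]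
        exact hD.orthogonal i j hij w hw v hv
      top := hD.decomp.iSup_eq_top
      finrank_eq := hD.decomp.finrank_eq
      pos := hD.decomp.pos }
  have hex' : ¬ (k = 2 ∧ Nat.card F = 2) := by rwa [Nat.card_eq_fintype_card]
  refine Cfsg.Lib.Classical.isMaximalIn_of_isCoatom_comap (Cfsg.Lib.Classical.sympToGL m F)
    (Cfsg.Lib.Classical.range_sympToGL m) ?_
  have hmem : ∀ g, g ∈ (Cfsg.Geo.decompositionStabilizer D).comap (Cfsg.Lib.Classical.sympToGL m F) ↔
      ∃ σ : Equiv.Perm (Fin t), ∀ i, (D i).map g.1.toLinearMap = D (σ i) :=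
    fun g => Cfsg.Lib.Classical.mem_decompositionStabilizer_iff D g.1
  set M := (Cfsg.Geo.decompositionStabilizer D).comap (Cfsg.Lib.Classical.sympToGL m F)
  have hblock : ∀ i, ∀ v ∈ D i, ∀ c, Cfsg.Lib.Classical.sympT hA v c ∈ M := by
    intro i v hv c
    rw [hmem]
    refine ⟨1, fun j => Submodule.eq_of_le_of_finrank_le ?_ ?_⟩
    · rintro _ ⟨x, hx, rfl⟩
      change (Cfsg.Lib.Classical.sympT hA v c).1 x ∈ D j
      rw [Cfsg.Lib.Classical.sympT_apply]
      rcases eq_or_ne j i with rfl | hji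
      · exact (D j).add_mem hx ((D j).smul_mem _ hv)
      · have h0 : Cfsg.Lib.Classical.sympBilin m F x v = 0 := hd.orth j i hji hv x hx
        rw [h0, mul_zero, zero_smul, add_zero]; exact hx
    · rw [LinearEquiv.finrank_map_eq, Equiv.Perm.one_apply]
  refine Cfsg.Lib.Classical.isCoatom_of_forall ?_ fun H hMH g hg hgM => ?_
  · intro htop
    let i : Fin t := ⟨0, by have := hD.decomp.two_le; omega⟩
    let j : Fin t := ⟨1, by have := hD.decomp.two_le; omega⟩
    have hij : i ≠ j := by simp [i, j]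
    obtain ⟨a, ha, ha0⟩ := hd.exists_ne_zero i
    obtain ⟨b, hb, hb0⟩ := hd.exists_ne_zero j
    obtain ⟨u, hu, hau⟩ := hd.exists_partner ha ha0
    obtain ⟨σ, hσ⟩ := (hmem (Cfsg.Lib.Classical.sympT hA (a + b) 1)).mp (htop ▸ Subgroup.mem_top _)
    have h1 : (Cfsg.Lib.Classical.sympT hA (a + b) 1).1 u ∈ D (σ i) :=
      hσ i ▸ Submodule.mem_map_of_mem hu
    rw [Cfsg.Lib.Classical.sympT_apply, one_mul] at h1
    have hua : Cfsg.Lib.Classical.sympBilin m F u a = -1 := by rw [← hA.neg_eq, hau]
    have hub : Cfsg.Lib.Classical.sympBilin m F u b = 0 := hd.orth i j hij hb u hu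
    rw [map_add, hua, hub, add_zero, neg_one_smul, neg_add, ← add_assoc] at h1
    by_cases hσi : σ i = i
    · have h2 := (hd.comp_ne hA (hσi.symm ▸ hij.symm : j ≠ σ i) h1)
      rw [map_add, map_add, map_neg, map_neg, hd.comp_ne hA hij.symm hu, hd.comp_ne hA hij.symm ha,
        hd.comp_self hA hb] at h2
      exact hb0 (by simpa using h2)
    · have h2 := hd.comp_ne hA (Ne.symm hσi) h1
      rw [map_add, map_add, map_neg, map_neg, hd.comp_self hA hu, hd.comp_self hA ha,
        hd.comp_ne hA hij hb] at h2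
      have h3 : u = a := by simpa [add_neg_eq_zero] using h2
      rw [h3, hA] at hau
      exact zero_ne_one hau
  · refine hd.eq_top hA hB hex' (fun i v hv c => hMH (hblock i v hv c)) (fun σ => ?_) hg
      (fun h => hgM ((hmem g).mpr h))
    obtain ⟨p, hp⟩ := hd.exists_perm_isom hA hB σ
    refine ⟨p, hMH ((hmem p).mpr ⟨σ, fun i => Submodule.eq_of_le_of_finrank_le ?_ ?_⟩), hp⟩
    · rintro _ ⟨x, hx, rfl⟩; exact hp i x hx
    · rw [LinearEquiv.finrank_map_eq, hd.finrank_eq, hd.finrank_eq]

end Cfsg.Agent.S5647
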