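import Cfsg.Statements.S5652
import Mathlib
import Cfsg.Agent.Classical.MaxBridge
import Cfsg.Agent.Classical.Symp.OrthMax

set_option autoImplicit false
open Cfsg

namespace Cfsg.Agent.S5652

/-- For a finite field F of characteristic two and m ≥ 7, let Q be a non-degenerate quadratic form on F^(2m) whose polar form is the standard alternating form. Then the elements of Sp_2m(F) that are similarities of Q (they are exactly the isometries of Q) form a maximal subgroup of Sp_2m(F). -/
theorem result {F : Type*} [Field F] [Fintype F] (m : ℕ) (hm : 7 ≤ m) (heven : ¬ Odd (Fintype.card F)) (Q : (Fin m ⊕ Fin m → F) → F) (hQ : Cfsg.Geo.IsNondegenerateQuadraticForm Q) (hpol : ∀ u v, QuadraticMap.polar Q u v = Cfsg.sympForm m F u v) : Cfsg.Geo.IsMaximalIn (Cfsg.spGL m F) (Cfsg.Geo.quadSimilarityGroup Q ⊓ Cfsg.spGL m F) := by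
  have hA := Cfsg.Lib.Classical.sympBilin_isAlt m F
  have hB := Cfsg.Lib.Classical.sympBilin_nondegenerate m F
  have hchar : ringChar F = 2 := by
    by_contra h
    exact heven (Nat.odd_iff.mpr (FiniteField.odd_card_of_char_ne_two h))
  have h2 : (2 : F) = 0 := by
    have := ringChar.Nat.cast_ringChar (R := F)
    rw [hchar] at this
    simpa using this
  have hsq : ∀ a : F, ∃ r : F, r ^ 2 = a := fun a => by
    obtain ⟨r, hr⟩ := FiniteField.isSquare_of_char_two hchar a
    exact ⟨r, by rw [hr, sq]⟩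
  have hQp : ∀ x y, Q (x + y) = Q x + Q y + Cfsg.Lib.Classical.sympBilin m F x y := fun x y => by
    rw [Cfsg.Lib.Classical.sympBilin_eq_sympForm, ← hpol, QuadraticMap.polar]
    ring
  have hd : 3 ≤ Module.finrank F (Fin m ⊕ Fin m → F) := by
    rw [Cfsg.Lib.Classical.finrank_sympSpace]; omega
  refine Cfsg.Lib.Classical.isMaximalIn_of_isCoatom_comap (Cfsg.Lib.Classical.sympToGL m F)
    (Cfsg.Lib.Classical.range_sympToGL m) ?_
  have hmem : ∀ g, g ∈ (Cfsg.Geo.quadSimilarityGroup Q).comap (Cfsg.Lib.Classical.sympToGL m F) ↔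
      ∀ x, Q (g.1 x) = Q x := by
    intro g
    change (∃ c : Fˣ, ∀ v, Q ((Cfsg.Lib.Classical.sympToGL m F g).val.mulVec v) = (c : F) * Q v) ↔ _
    simp only [Cfsg.Lib.Classical.sympToGL_mulVec]
    constructor
    · rintro ⟨c, hc⟩ x
      by_cases hc1 : (c : F) = 1
      · rw [hc, hc1, one_mul]
      exfalso
      have : Nontrivial (Fin m ⊕ Fin m → F) := Module.nontrivial_of_finrank_pos (R := F) (by omega)
      obtain ⟨v, hv⟩ := exists_ne (0 : Fin m ⊕ Fin m → F)
      obtain ⟨u, hu⟩ := Cfsg.Lib.Classical.exists_hyperbolic_partner hB hv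
      have h := hQp (g.1 v) (g.1 u)
      rw [← map_add, hc, hc, hc, g.2 v u, hQp, hu] at h
      apply hc1
      linear_combination h
    · intro h
      exact ⟨1, fun v => by rw [h, Units.val_one, one_mul]⟩
  refine Cfsg.Lib.Classical.isCoatom_of_forall ?_ fun H hMH g hg hgM => ?_
  · intro htop
    obtain ⟨g, hg⟩ := Cfsg.Lib.Classical.qMax_exists_not_isom h2 hsq hQ.smul hQp hA hB hd
    exact hg ((hmem g).mp (htop ▸ Subgroup.mem_top g))
  · exact Cfsg.Lib.Classical.qMax_eq_top h2 hsq hQ.smul hQp hA hB hd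
      (fun p hp => hMH ((hmem p).mpr hp)) hg (fun h => hgM ((hmem g).mpr h))

end Cfsg.Agent.S5652
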