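import Cfsg.Statements.S5655
import Mathlib
import Cfsg.Agent.Classical.Unitary.MaxMatrix
import Cfsg.Agent.Classical.Unitary.FrameMain

set_option autoImplicit false
open Cfsg

namespace Cfsg.Agent.S5655

open Cfsg.Lib.Classical

/-- Let F be the field with q² elements and n ≥ 13. Let D be a decomposition of F^n into t ≥ 2 pairwise orthogonal subspaces of equal dimension k, each non-degenerate for the standard unitary form, spanning F^n. Unless k = 2 and q = 2, the elements of SU_n(q) permuting the members of D form a maximal subgroup of SU_n(q). -/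
theorem result {F : Type*} [Field F] [Fintype F] (n q : ℕ) (hF : Fintype.card F = q ^ 2) (hn : 13 ≤ n) {t : ℕ} (k : ℕ) (D : Fin t → Submodule F (Fin n → F)) (hD : Cfsg.Geo.IsNondegenerateMDecomposition (Cfsg.hermForm n F q) k D) (hex : ¬ (k = 2 ∧ q = 2)) : Cfsg.Geo.IsMaximalIn (Cfsg.GU n F q ⊓ Cfsg.Geo.specialLinear (Fin n) F) (Cfsg.Geo.decompositionStabilizer D ⊓ (Cfsg.GU n F q ⊓ Cfsg.Geo.specialLinear (Fin n) F)) := by
  classical
  set H := stdHerm n hF with hH
  have hWD : ∀ i, H.NondegOn (D i) := fun i => stdHerm_nondegOn hF (hD.nondegenerate i)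
  have hbas : ∀ i, ∃ b : Module.Basis (Fin k) F (D i),
      ∀ x y, H.h (b x : Fin n → F) (b y) = if x = y then 1 else 0 := fun i => by
    obtain ⟨b, hb⟩ := (H.restrict _ (hWD i)).exists_orthonormal
    refine ⟨b.reindex (finCongr (hD.decomp.finrank_eq i)), fun x y => ?_⟩
    simp only [Module.Basis.reindex_apply]
    refine (hb _ _).trans ?_
    simp only [EmbeddingLike.apply_eq_iff_eq]
  choose bl hbl using hbas
  have hint : DirectSum.IsInternal D :=
    DirectSum.isInternal_submodule_iff_iSupIndep_and_iSup_eq_top D |>.mpr ⟨hD.decomp.indep, hD.decomp.iSup_eq_top⟩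
  let bs := (hint.collectedBasis bl).reindex (Equiv.sigmaEquivProd (Fin t) (Fin k))
  have hbs : ∀ p : Fin t × Fin k, bs p = (bl p.1 p.2 : Fin n → F) := fun p => by
    simp [bs, DirectSum.IsInternal.collectedBasis_coe, Module.Basis.reindex_apply]
  have horth : ∀ p r, H.h (bs p) (bs r) = if p = r then 1 else 0 := fun p r => by
    rw [hbs, hbs]
    rcases eq_or_ne p.1 r.1 with h | h
    · obtain ⟨i, x⟩ := p
      obtain ⟨j, y⟩ := r
      obtain rfl : i = j := h
      rw [hbl]
      simp
    · rw [if_neg (fun e => h (congrArg Prod.fst e)), stdHerm_h]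
      exact hD.orthogonal _ _ h _ (bl p.1 p.2).2 _ (bl r.1 r.2).2
  let B : UFrame H (Fin t × Fin k) := ⟨bs, horth⟩
  have hcard : Fintype.card (Fin t × Fin k) = n := by
    rw [← Module.finrank_eq_card_basis bs, Module.finrank_fin_fun]
  have hbD : ∀ p : Fin t × Fin k, B.b p ∈ D p.1 := fun p => by
    show bs p ∈ _
    rw [hbs]; exact (bl p.1 p.2).2
  have hcoD : ∀ i, ∀ x ∈ D i, ∀ p : Fin t × Fin k, p.1 ≠ i → B.co x p = 0 := fun i x hx p hp => by
    show H.h x (B.b p) = 0
    rw [stdHerm_h]
    exact hD.orthogonal _ _ (Ne.symm hp) x hx _ (hbD p)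
  have hblock : ∀ i, B.blockSub Prod.fst i = D i := fun i => by
    refine le_antisymm (Submodule.span_le.mpr ?_) fun x hx => (B.mem_blockSub Prod.fst).mpr fun p hp => hcoD i x hx p hp
    rintro _ ⟨p, hp, rfl⟩
    rw [Finset.mem_coe, Finset.mem_filter] at hp
    rw [← hp.2]; exact hbD p
  have ht := hD.decomp.two_le
  have hk := hD.decomp.pos
  have hmem : ∀ g : H.SIsom, g ∈ (Cfsg.Geo.decompositionStabilizer D).comap (sunitToGL hF) ↔
      ∃ σ : Equiv.Perm (Fin t), ∀ i, (D i).map g.1.1.toLinearMap = D (σ i) :=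
    fun g => mem_decompositionStabilizer_iff D g.1.1
  set M := (Cfsg.Geo.decompositionStabilizer D).comap (sunitToGL hF) with hMdef
  have hiff : ∀ g : H.SIsom, g ∈ M ↔ B.Mono Prod.fst g.1 := by
    intro g
    rw [hmem]
    constructor
    · rintro ⟨σ, hσ⟩ i j a c hij ha hc
      have key : ∀ i a, B.co (g.1.1 (B.b i)) a ≠ 0 → a.1 = σ i.1 := fun i a h => by
        by_contra hne
        refine h (hcoD (σ i.1) _ ?_ a hne)
        rw [← hσ]
        exact Submodule.mem_map_of_mem (hbD i)
      rw [key i a ha, key j c hc, hij]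
    · intro h
      have hex' : ∀ i, ∃ o, (D i).map g.1.1.toLinearMap = D o := fun i => by
        obtain ⟨a, ha⟩ : (B.supp (g.1.1 (B.b (i, ⟨0, hk⟩)))).Nonempty := by
          rw [Finset.nonempty_iff_ne_empty, ne_eq, UFrame.supp_eq_empty, LinearEquiv.map_eq_zero_iff]
          exact B.b.ne_zero _
        refine ⟨a.1, Submodule.eq_of_le_of_finrank_le ?_ ?_⟩
        · rw [← hblock, UFrame.blockSub, Submodule.map_span, Submodule.span_le]
          rintro _ ⟨_, ⟨p, hp, rfl⟩, rfl⟩
          rw [Finset.mem_coe, Finset.mem_filter] at hp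
          rw [SetLike.mem_coe, ← hblock, UFrame.mem_blockSub]
          intro r hr
          by_contra hne
          exact hr (h p (i, ⟨0, hk⟩) r a hp.2 hne (B.mem_supp.mp ha))
        · rw [LinearEquiv.finrank_map_eq, hD.decomp.finrank_eq, hD.decomp.finrank_eq]
      choose o ho using hex'
      have hinj : Function.Injective o := fun i j hij => by
        by_contra hne
        have he : D i = D j := Submodule.map_injective_of_injective g.1.1.injective ((ho i).trans (hij ▸ (ho j).symm))
        have hdis := hD.decomp.indep.pairwiseDisjoint hne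
        change Disjoint (D i) (D j) at hdis
        rw [← he, disjoint_self] at hdis
        have hr := hD.decomp.finrank_eq i
        rw [hdis, finrank_bot] at hr
        omega
      exact ⟨Equiv.ofBijective o (Finite.injective_iff_bijective.mp hinj), ho⟩
  refine isMaximalIn_of_isCoatom_comap (sunitToGL hF) (range_sunitToGL hF) ?_
  refine isCoatom_of_forall ?_ fun K hK g hg hgM => ?_
  · intro htop
    obtain ⟨g, hg⟩ := B.exists_not_mono Prod.fst (by omega)
      (i := (⟨0, by omega⟩, ⟨0, hk⟩)) (j := (⟨1, by omega⟩, ⟨0, hk⟩)) (by simp)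
    exact hg ((hiff g).mp (by rw [hMdef, htop]; exact Subgroup.mem_top g))
  have hq : H.q = q := stdHerm_q hF
  refine B.decomp_eq_top Prod.fst (fun g hg => hK ((hiff g).mpr hg)) (by omega) (fun _ _ => by omega) ?_ ?_ ?_ hg
    (fun h => hgM ((hiff g).mpr h))
  · rintro ⟨i, x⟩ ⟨j, y⟩ ⟨i', x'⟩ ⟨j', y'⟩ hij hij'
    let e₁ : Equiv.Perm (Fin t) := Equiv.swap i i'
    let e₂ : Equiv.Perm (Fin t) := Equiv.swap (e₁ j) j' * e₁
    have hi : e₂ i = i' := by
      have h1 : e₁ i = i' := Equiv.swap_apply_left _ _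
      have h2 : e₁ j ≠ i' := fun h => hij (e₁.injective (h1.trans h.symm))
      rw [Equiv.Perm.mul_apply, h1, Equiv.swap_apply_of_ne_of_ne h2.symm hij']
    have hj : e₂ j = j' := by rw [Equiv.Perm.mul_apply]; exact Equiv.swap_apply_left _ _
    let f : Fin t → Equiv.Perm (Fin k) := fun l =>
      if l = i then Equiv.swap x x' else if l = j then Equiv.swap y y' else 1
    refine ⟨(Equiv.prodCongrRight f).trans (e₂.prodCongr (Equiv.refl _)), fun a d h => ?_, ?_, ?_⟩
    · show e₂ a.1 = e₂ d.1
      rw [h]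
    · show (e₂ i, f i x) = (i', x')
      simp [f, hi]
    · show (e₂ j, f j y) = (j', y')
      simp [f, hj, Ne.symm hij]
  · rcases (by omega : k = 1 ∨ 2 ≤ k) with rfl | h2
    · exact Or.inl fun a c h => Prod.ext h (Subsingleton.elim _ _)
    · refine Or.inr fun p => ?_
      have : Nontrivial (Fin k) := Fin.nontrivial_iff_two_le.mpr h2
      obtain ⟨y, hy⟩ := exists_ne p.2
      exact ⟨(p.1, y), fun e => hy (congrArg Prod.snd e), rfl⟩
  · intro hq2
    rcases (by omega : k = 1 ∨ k = 2 ∨ 3 ≤ k) with rfl | rfl | h3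
    · exact Or.inl fun a c h => Prod.ext h (Subsingleton.elim _ _)
    · exact absurd ⟨rfl, hq ▸ hq2⟩ hex
    · refine Or.inr fun p => ?_
      have hc : 1 < (({p.2} : Finset (Fin k))ᶜ).card := by
        rw [Finset.card_compl, Finset.card_singleton, Fintype.card_fin]; omega
      obtain ⟨x, hx, y, hy, hxy⟩ := Finset.one_lt_card.mp hc
      rw [Finset.mem_compl, Finset.mem_singleton] at hx hy
      exact ⟨(p.1, x), (p.1, y), fun e => hx (congrArg Prod.snd e), fun e => hy (congrArg Prod.snd e),
        fun e => hxy (congrArg Prod.snd e), rfl, rfl⟩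

end Cfsg.Agent.S5655
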