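import Cfsg.Statements.S5673
import Cfsg.Agent.Classical.Aschbacher.OrthOdd

set_option autoImplicit false
open Cfsg Cfsg.Lib.Classical.Aschbacher Cfsg.Lib.Classical.Refl
open scoped Matrix

namespace Cfsg.Agent.S5673

/-- Subgroup structure of the odd-dimensional orthogonal groups. Let F be a finite field of odd order and m ≥ 3, let Q be the standard quadratic form x₀² + Σ x_i y_i on F^(2m+1), and let Ω be the commutator subgroup of its isometry group, viewed inside GL_(2m+1)(F). Let H be a subgroup of Ω whose product with the scalar matrices in Ω is not all of Ω. Then either H is contained in a member of one of the geometric classes of subgroups of the isometry group (with the conditions built into InOrthogonalOddClass), or H is in the residual class: modulo scalars it is almost simple, and the perfect preimage of its socle acts absolutely irreducibly, is realisable over no proper subfield, and fixes no non-degenerate unitary form. -/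
theorem result {F : Type*} [Field F] [Fintype F] (hodd : Odd (Fintype.card F)) (m : ℕ) (hm : 3 ≤ m) (H : Subgroup (Matrix.GeneralLinearGroup (Unit ⊕ (Fin m ⊕ Fin m)) F)) (hH : H ≤ Cfsg.Geo.omegaGL (Cfsg.quadFormOdd m F)) (hproper : H ⊔ (Cfsg.Geo.scalars (Unit ⊕ (Fin m ⊕ Fin m)) F ⊓ Cfsg.Geo.omegaGL (Cfsg.quadFormOdd m F)) ≠ Cfsg.Geo.omegaGL (Cfsg.quadFormOdd m F)) : (∃ M : Subgroup (Matrix.GeneralLinearGroup (Unit ⊕ (Fin m ⊕ Fin m)) F), Cfsg.Geo.InOrthogonalOddClass m F M ∧ H ≤ M) ∨ Cfsg.Geo.InOrthogonalResidualClass H := by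
  classical
  have h2 : (2 : F) ≠ 0 := Cfsg.Lib.Classical.Refl.two_ne_zero_of_odd hodd
  have hcard : Fintype.card (Unit ⊕ (Fin m ⊕ Fin m)) = 2 * m + 1 := by simp; omega
  have hiso : ∀ g ∈ H, ∀ x, oddForm m F ((g : Matrix _ _ F) *ᵥ x) = oddForm m F x := fun g hg =>
    Cfsg.Lib.Classical.PrimeDim.Orth.omega_preserves' (oddForm m F) (by rw [oddForm_coe]; exact hH hg)
  have hI : H ≤ Cfsg.isometryGroup F (Cfsg.quadFormOdd m F) := fun g hg x _ => by
    rw [← oddForm_coe]; exact hiso g hg x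
  rcases orth_structure (oddForm m F) (oddForm_nondegenerate h2 m) hcard h2 hiso
    (Cfsg.Lib.Classical.PrimeDim.Orth.oddForm_disc h2 m) (by omega) with ⟨M, hM, hle⟩ | h
  · left
    unfold Cfsg.Geo.InOrthogonalOddClass
    rw [← oddForm_coe]
    rw [← oddForm_coe] at hI
    refine ⟨M ⊓ Cfsg.isometryGroup F (⇑(oddForm m F)), ?_, le_inf hle hI⟩
    cases hM with
    | singular W h0 hs => exact Or.inl ⟨W, h0, hs, rfl⟩
    | nondeg W h0 h1 hn => exact Or.inr (Or.inl ⟨W, h0, h1, hn, rfl⟩)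
    | decomp t k D hk hmul hD => exact Or.inr (Or.inr (Or.inl ⟨t, k, D, hk, hD, rfl⟩))
    | frame t D hp hmul hD => exact Or.inr (Or.inr (Or.inr (Or.inl ⟨t, D, hp, hD, rfl⟩)))
    | field r K hr hdvd hne hK hs =>
      exact Or.inr (Or.inr (Or.inr (Or.inr (Or.inl ⟨r, K, hr, by rwa [hcard] at hne, hK, hs, rfl⟩))))
    | tensor n₁ n₂ e P f₁ f₂ h3 h12 hmul h1 h2 hs =>
      exact Or.inr (Or.inr (Or.inr (Or.inr (Or.inr (Or.inl ⟨n₁, n₂, e, P, f₁, f₂, h3, h12, h1, h2, hs, rfl⟩)))))
    | subfield F₀ r P hr hc hs =>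
      exact Or.inr (Or.inr (Or.inr (Or.inr (Or.inr (Or.inr (Or.inl ⟨F₀, r, P, hr, hc, hs, rfl⟩))))))
    | wreath k t e P f₁ h3 ht hex hmul h1 hs =>
      exact Or.inr (Or.inr (Or.inr (Or.inr (Or.inr (Or.inr (Or.inr ⟨k, t, e, P, f₁, h3, ht, hex, h1, hs, rfl⟩))))))
  · exact Or.inr h

end Cfsg.Agent.S5673
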