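import Cfsg.Statements.S5675
import Cfsg.Agent.Classical.Orth.HalfPlus
import Cfsg.Agent.Classical.Orth.StdForms
import Mathlib

set_option autoImplicit false
open Cfsg

namespace Cfsg.Agent.S5675

/-- Let F be a finite field of odd order q, m ≥ 6, Q the standard quadratic form on F^(2m+1) and Ω the commutator subgroup of its isometry group. Let W be a non-zero subspace of even dimension on which the polar form of Q is non-degenerate; exclude the case q = 3, dim W = 2 with Q vanishing on some line of W (a plus-type plane). Then the elements of Ω stabilising W (equivalently, stabilising its orthogonal complement, of odd dimension) form a maximal subgroup of Ω. -/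
theorem result {F : Type*} [Field F] [Fintype F] (hodd : Odd (Fintype.card F)) (m : ℕ) (hm : 6 ≤ m) (W : Submodule F (Unit ⊕ (Fin m ⊕ Fin m) → F)) (hW0 : W ≠ ⊥) (hev : Even (Module.finrank F W)) (hW : Cfsg.Geo.IsNondegenerateOn (QuadraticMap.polar (Cfsg.quadFormOdd m F)) W) (hex : ¬ (Fintype.card F = 3 ∧ Module.finrank F W = 2 ∧ Cfsg.Geo.IsPlusTypeOn (Cfsg.quadFormOdd m F) W)) : Cfsg.Geo.IsMaximalIn (Cfsg.Geo.omegaGL (Cfsg.quadFormOdd m F)) (Cfsg.Geo.subspaceStabilizer W ⊓ Cfsg.Geo.omegaGL (Cfsg.quadFormOdd m F)) := by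
  have h2 : (2 : F) ≠ 0 := Ring.two_ne_zero fun h => by
    have := FiniteField.even_card_of_char_two h
    rw [Nat.odd_iff] at hodd
    omega
  have hQ := Cfsg.Lib.Classical.Refl.oddForm_nondegenerate (F := F) h2 m
  rw [← Cfsg.Lib.Classical.Refl.oddForm_coe] at hW hex ⊢
  set P := Cfsg.Lib.Classical.Refl.oddForm m F
  obtain ⟨hc, -⟩ := Cfsg.Lib.Classical.Refl.nondeg_perp P hQ hW
  have hsum := Submodule.finrank_add_eq_of_isCompl hc
  have hn : Fintype.card (Unit ⊕ (Fin m ⊕ Fin m)) = 2 * m + 1 := by simp; omega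
  rw [Module.finrank_fintype_fun_eq_card, hn] at hsum
  obtain ⟨r, hr⟩ := hev
  refine Cfsg.Lib.Classical.Refl.nondeg_maximal P hQ (by omega) hW hW0 ?_ (fun h => absurd h (by omega)) ?_
  · intro h
    rw [h, finrank_top, Module.finrank_fintype_fun_eq_card, hn] at hr
    omega
  · rintro X hX ⟨hq, hd, s, hs, hs0, hQs⟩
    rcases hX with rfl | rfl
    · refine hex ⟨?_, hd, Submodule.span F {s}, (Submodule.span_singleton_le_iff_mem s _).mpr hs,
        fun w hw => ?_, by rw [finrank_span_singleton hs0, hd]⟩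
      · have h1 : 2 ≤ Fintype.card F := Fintype.one_lt_card
        rw [Nat.odd_iff] at hodd
        omega
      · obtain ⟨c, rfl⟩ := Submodule.mem_span_singleton.mp hw
        rw [QuadraticMap.map_smul, hQs, smul_zero]
    · omega

end Cfsg.Agent.S5675
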