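import Cfsg.Statements.S5677
import Cfsg.Agent.Classical.Orth.DecompMax
import Cfsg.Agent.Classical.Orth.StdForms
import Mathlib
import Mathlib

set_option autoImplicit false
open Cfsg

namespace Cfsg.Agent.S5677

/-- Let F be a finite field of odd order q, m ≥ 6, Q the standard quadratic form on F^(2m+1) and Ω the commutator subgroup of its isometry group. Let D be a decomposition of F^(2m+1) into t ≥ 2 pairwise orthogonal, pairwise Q-isometric subspaces of equal dimension k > 1 on which the polar form is non-degenerate. Unless q = 3 and k = 3, the elements of Ω permuting the members of D form a maximal subgroup of Ω. -/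
theorem result {F : Type*} [Field F] [Fintype F] (hodd : Odd (Fintype.card F)) (m : ℕ) (hm : 6 ≤ m) {t : ℕ} (k : ℕ) (hk : 1 < k) (D : Fin t → Submodule F (Unit ⊕ (Fin m ⊕ Fin m) → F)) (hD : Cfsg.Geo.IsOrthogonalMDecomposition (Cfsg.quadFormOdd m F) k D) (hex : ¬ (Fintype.card F = 3 ∧ k = 3)) : Cfsg.Geo.IsMaximalIn (Cfsg.Geo.omegaGL (Cfsg.quadFormOdd m F)) (Cfsg.Geo.decompositionStabilizer D ⊓ Cfsg.Geo.omegaGL (Cfsg.quadFormOdd m F)) := by
  classical
  have h2 : (2 : F) ≠ 0 := Ring.two_ne_zero fun h => by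
    have := FiniteField.even_card_of_char_two h
    rw [Nat.odd_iff] at hodd
    omega
  have hQ := Cfsg.Lib.Classical.Refl.oddForm_nondegenerate (F := F) h2 m
  rw [← Cfsg.Lib.Classical.Refl.oddForm_coe] at hD ⊢
  set P := Cfsg.Lib.Classical.Refl.oddForm m F
  have hd := hD.decomp.decomp
  have hint := DirectSum.isInternal_submodule_of_iSupIndep_of_iSup_eq_top hd.indep hd.iSup_eq_top
  let b := fun i => Module.finBasisOfFinrankEq F (D i) (hd.finrank_eq i)
  have hcard := Module.finrank_eq_card_basis (hint.collectedBasis b)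
  have hn : Fintype.card (Unit ⊕ (Fin m ⊕ Fin m)) = 2 * m + 1 := by simp; omega
  rw [Module.finrank_fintype_fun_eq_card, hn] at hcard
  simp only [Fintype.card_sigma, Fintype.card_fin, Finset.sum_const, Finset.card_univ, smul_eq_mul] at hcard
  have hot : Odd t := by
    exact (Nat.odd_mul.mp (show Odd (t * k) from ⟨m, hcard.symm⟩)).1
  have hok : Odd k := by
    exact (Nat.odd_mul.mp (show Odd (t * k) from ⟨m, hcard.symm⟩)).2
  obtain ⟨a, ha⟩ := hot
  obtain ⟨c, hc⟩ := hok
  have h2t := hd.two_le
  refine Cfsg.Lib.Classical.Refl.decomposition_maximal ⟨hQ, h2, hD, by omega, by omega, ?_⟩ (by omega)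
  by_contra hcon
  have := Fintype.one_lt_card (α := F)
  rw [Nat.odd_iff] at hodd
  exact hex ⟨by omega, by omega⟩

end Cfsg.Agent.S5677
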