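import Cfsg.Statements.S5680
import Cfsg.Agent.Classical.ExtFieldOrth.Bridge
import Cfsg.Agent.Classical.Orth.StdForms

set_option autoImplicit false
open Cfsg

namespace Cfsg.Agent.S5680

/-- Let F be a finite field of odd order, m ≥ 6, Q the standard quadratic form on F^(2m+1) and Ω the commutator subgroup of its isometry group. Let K be a subfield of the algebra of (2m+1) × (2m+1) matrices over F containing the scalars, of prime degree r over F with r ≠ 2m + 1, whose elements are self-adjoint for the polar form of Q. Then the elements of Ω normalising K form a maximal subgroup of Ω. -/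
theorem result {F : Type*} [Field F] [Fintype F] (hodd : Odd (Fintype.card F)) (m : ℕ) (hm : 6 ≤ m) (r : ℕ) (hr : r.Prime) (hrn : 2 * m + 1 ≠ r) (K : Subalgebra F (Matrix (Unit ⊕ (Fin m ⊕ Fin m)) (Unit ⊕ (Fin m ⊕ Fin m)) F)) (hK : Cfsg.Geo.IsFieldSubalgebra r K) (hsa : Cfsg.Geo.IsSelfAdjointFor (QuadraticMap.polar (Cfsg.quadFormOdd m F)) K) : Cfsg.Geo.IsMaximalIn (Cfsg.Geo.omegaGL (Cfsg.quadFormOdd m F)) (Cfsg.Geo.subalgebraNormalizer K ⊓ Cfsg.Geo.omegaGL (Cfsg.quadFormOdd m F)) := by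
  classical
  have h2 : (2 : F) ≠ 0 := by
    refine Ring.two_ne_zero fun h => ?_
    have h' : Fintype.card F % 2 = 0 := FiniteField.even_card_iff_char_two.mp h
    rw [Nat.odd_iff] at hodd
    omega
  rw [← Cfsg.Lib.Classical.Refl.oddForm_coe] at hsa ⊢
  refine Cfsg.Lib.Classical.ExtFieldOrth.maximal hodd _ (Cfsg.Lib.Classical.Refl.oddForm_nondegenerate h2 m) hr hK hsa
    fun d hd => ?_
  have hc : Fintype.card (Unit ⊕ (Fin m ⊕ Fin m)) = 2 * m + 1 := by
    simp only [Fintype.card_sum, Fintype.card_unit, Fintype.card_fin]; omega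
  rw [hc] at hd
  have hro : Odd r ∧ Odd d := Nat.odd_mul.mp (hd ▸ odd_two_mul_add_one m)
  have hd1 : d ≠ 1 := fun h => hrn (by rw [← hd, h, mul_one])
  obtain ⟨⟨i, hi⟩, ⟨j, hj⟩⟩ := hro
  exact ⟨by omega, fun h => by omega⟩

end Cfsg.Agent.S5680
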