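import Cfsg.Statements.S5684
import Cfsg.Agent.Classical.OrthPow.Main

set_option autoImplicit false
open Cfsg

namespace Cfsg.Agent.S5684

/-- Let F be a finite field of odd order q, m ≥ 6, Q the standard quadratic form on F^(2m+1) and Ω the commutator subgroup of its isometry group. Suppose the polar form of Q is similar, through a change of basis P and a bijection of index sets e, to the t-fold tensor power (t ≥ 2) of a non-degenerate symmetric bilinear form f₁ on F^k with k ≥ 3 and (q, k) ≠ (3, 3). Then the elements of Ω in the stabiliser of this decomposition form a maximal subgroup of Ω. -/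
theorem result {F : Type*} [Field F] [Fintype F] (hodd : Odd (Fintype.card F)) (m : ℕ) (hm : 6 ≤ m) (k t : ℕ) (hk : 3 ≤ k) (ht : 2 ≤ t) (hex : ¬ (Fintype.card F = 3 ∧ k = 3)) (e : (Unit ⊕ (Fin m ⊕ Fin m)) ≃ (Fin t → Fin k)) (P : Matrix.GeneralLinearGroup (Unit ⊕ (Fin m ⊕ Fin m)) F) (f₁ : (Fin k → F) → (Fin k → F) → F) (hf₁ : Cfsg.Geo.IsSymmetricForm f₁) (hT : Cfsg.Geo.IsTensorPowerFormStructure id (QuadraticMap.polar (Cfsg.quadFormOdd m F)) f₁ e P) : Cfsg.Geo.IsMaximalIn (Cfsg.Geo.omegaGL (Cfsg.quadFormOdd m F)) (Cfsg.Geo.tensorWreathSubgroup k t e P ⊓ Cfsg.Geo.omegaGL (Cfsg.quadFormOdd m F)) := by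
  have h2 : (2 : F) ≠ 0 := fun h => by
    obtain ⟨k, hk⟩ := hodd
    have := FiniteField.cast_card_eq_zero F
    rw [hk, Nat.cast_add, Nat.cast_mul, Nat.cast_two, h, zero_mul, zero_add, Nat.cast_one] at this
    exact one_ne_zero this
  refine Cfsg.Lib.Classical.OrthPow.isMaximalIn_power (Cfsg.quadFormOdd m F) (fun v => ?_) h2 hk ht e P hf₁ hT
    (fun h hq => hex ⟨hq, h⟩) (fun h4 => ?_)
  · have hs : ∀ w : Unit ⊕ (Fin m ⊕ Fin m) → F, Cfsg.quadFormOdd m F (w + w) = 4 * Cfsg.quadFormOdd m F w := fun w => by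
      simp only [Cfsg.quadFormOdd, Pi.add_apply, mul_add, Finset.mul_sum]
      congr 1
      · ring
      · exact Finset.sum_congr rfl fun i _ => by ring
    rw [QuadraticMap.polar, hs]
    ring
  · exfalso
    have hcard : k ^ t = 2 * m + 1 := by
      have := Fintype.card_congr e
      simp only [Fintype.card_sum, Fintype.card_fin, Fintype.card_unit, Fintype.card_fun] at this
      omega
    have he : Even (k ^ t) := Nat.even_pow.mpr ⟨⟨2, h4⟩, by omega⟩
    rw [hcard] at he
    exact Nat.not_even_two_mul_add_one m he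

end Cfsg.Agent.S5684
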