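import Cfsg.Statements.S5687
import Cfsg.Agent.Classical.Orth.ParabolicMax
import Cfsg.Agent.Classical.Orth.StdForms
import Mathlib

set_option autoImplicit false
open Cfsg

namespace Cfsg.Agent.S5687

/-- Let F be a finite field with q elements, n ≥ 13 even, Q a non-degenerate quadratic form on F^n of minus type (no subspace of dimension n/2 is totally singular), and Ω the commutator subgroup of the isometry group of Q, viewed inside GL_n(F). The elements of Ω stabilising a non-zero subspace on which Q vanishes form a maximal subgroup of Ω. -/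
theorem result {F : Type*} [Field F] [Fintype F] {n : ℕ} (hn : 13 ≤ n) (heven : Even n) (Q : (Fin n → F) → F) (hQ : Cfsg.Geo.IsNondegenerateQuadraticForm Q) (hminus : ¬ Cfsg.Geo.IsPlusTypeOn Q ⊤) (W : Submodule F (Fin n → F)) (hW0 : W ≠ ⊥) (hW : Cfsg.Geo.IsTotallySingularQuad Q W) : Cfsg.Geo.IsMaximalIn (Cfsg.Geo.omegaGL Q) (Cfsg.Geo.subspaceStabilizer W ⊓ Cfsg.Geo.omegaGL Q) := by
  obtain ⟨P, rfl, hP⟩ := Cfsg.Lib.Classical.Refl.exists_form hQ
  refine Cfsg.Lib.Classical.Refl.parabolic_maximal P hP (by rw [Fintype.card_fin]; omega) hW0 hW ?_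
  by_cases hdim : n = 2 * Module.finrank F W + 2
  swap
  · exact Or.inr (by rw [Fintype.card_fin]; exact hdim)
  left
  intro x hx hx0
  by_contra hxW
  refine hminus ⟨W ⊔ Submodule.span F {x}, le_top, ?_, ?_⟩
  · intro v hv
    obtain ⟨w, hw, c, hc, rfl⟩ := Submodule.mem_sup.mp hv
    obtain ⟨a, rfl⟩ := Submodule.mem_span_singleton.mp hc
    rw [QuadraticMap.map_add (f := P), hW w hw, QuadraticMap.map_smul, hx0, QuadraticMap.polar_smul_right,
      (Cfsg.Lib.Classical.HypQuad.mem_perp P).mp hx w hw]
    simp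
  · rw [finrank_top, Module.finrank_fin_fun]
    have hdis : W ⊓ Submodule.span F {x} = ⊥ := by
      rw [Submodule.eq_bot_iff]
      rintro v ⟨hvW, hvx⟩
      obtain ⟨a, rfl⟩ := Submodule.mem_span_singleton.mp hvx
      rcases eq_or_ne a 0 with rfl | ha
      · rw [zero_smul]
      · exact absurd ((W.smul_mem_iff ha).mp hvW) hxW
    have h := Submodule.finrank_sup_add_finrank_inf_eq W (Submodule.span F {x})
    rw [hdis, finrank_bot, finrank_span_singleton (fun h0 => hxW (by rw [h0]; exact W.zero_mem))] at h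
    omega

end Cfsg.Agent.S5687
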