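import Cfsg.Statements.S5688
import Cfsg.Agent.Classical.Orth.HalfPlus
import Cfsg.Agent.Classical.Orth.StdForms
import Mathlib

set_option autoImplicit false
open Cfsg

namespace Cfsg.Agent.S5688

/-- Let F be a finite field with q elements, n ≥ 13 even, Q a non-degenerate quadratic form on F^n of plus type (some subspace of dimension n/2 is totally singular), and Ω the commutator subgroup of the isometry group of Q, viewed inside GL_n(F). Let W be a non-zero proper subspace with dim W ≠ n/2 on which the polar form of Q is non-degenerate. Exclude the case q ≤ 3 in which W, or its orthogonal complement, is a plane containing a line on which Q vanishes. Then the elements of Ω stabilising W form a maximal subgroup of Ω. -/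
theorem result {F : Type*} [Field F] [Fintype F] {n : ℕ} (hn : 13 ≤ n) (heven : Even n) (Q : (Fin n → F) → F) (hQ : Cfsg.Geo.IsNondegenerateQuadraticForm Q) (hplus : Cfsg.Geo.IsPlusTypeOn Q ⊤) (W : Submodule F (Fin n → F)) (hW0 : W ≠ ⊥) (hW1 : W ≠ ⊤) (hdim : 2 * Module.finrank F W ≠ n) (hW : Cfsg.Geo.IsNondegenerateOn (QuadraticMap.polar Q) W) (hex : ¬ (Fintype.card F ≤ 3 ∧ (∃ U : Submodule F (Fin n → F), Module.finrank F U = 2 ∧ Cfsg.Geo.IsNondegenerateOn (QuadraticMap.polar Q) U ∧ Cfsg.Geo.IsPlusTypeOn Q U ∧ (U = W ∨ (Cfsg.Geo.AreOrthogonalFor (QuadraticMap.polar Q) U W ∧ Module.finrank F U + Module.finrank F W = n))))) : Cfsg.Geo.IsMaximalIn (Cfsg.Geo.omegaGL Q) (Cfsg.Geo.subspaceStabilizer W ⊓ Cfsg.Geo.omegaGL Q) := by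
  obtain ⟨P, rfl, hP⟩ := Cfsg.Lib.Classical.Refl.exists_form hQ
  have hex' : ∀ X, (X = W ∨ X = Cfsg.Lib.Classical.HypQuad.perp P W) →
      ¬ (Fintype.card F ≤ 3 ∧ Module.finrank F X = 2 ∧ ∃ s ∈ X, s ≠ 0 ∧ P s = 0) := by
    rintro X hX ⟨hq, hd, s, hs, hs0, hQs⟩
    obtain ⟨hc, hU⟩ := Cfsg.Lib.Classical.Refl.nondeg_perp P hP hW
    have hpl : Cfsg.Geo.IsPlusTypeOn (⇑P) X := ⟨Submodule.span F {s}, (Submodule.span_singleton_le_iff_mem s X).mpr hs,
      fun w hw => by
        obtain ⟨c, rfl⟩ := Submodule.mem_span_singleton.mp hw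
        rw [QuadraticMap.map_smul, hQs, smul_zero],
      by rw [finrank_span_singleton hs0, hd]⟩
    refine hex ⟨hq, X, hd, ?_, hpl, ?_⟩
    · rcases hX with rfl | rfl
      exacts [hW, hU]
    · rcases hX with rfl | rfl
      · exact Or.inl rfl
      · refine Or.inr ⟨fun u hu w hw => ?_, ?_⟩
        · rw [QuadraticMap.polar_comm]
          exact (Cfsg.Lib.Classical.HypQuad.mem_perp P).mp hu w hw
        · have h := Submodule.finrank_add_eq_of_isCompl hc
          rw [Module.finrank_fin_fun] at h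
          omega
  exact Cfsg.Lib.Classical.Refl.nondeg_maximal P hP (by rw [Fintype.card_fin]; omega) hW hW0 hW1
    (fun h => absurd (by rwa [Fintype.card_fin] at h) hdim) hex'

end Cfsg.Agent.S5688
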