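import Cfsg.Statements.S5699
import Cfsg.Agent.Classical.Orth.FamilyOvergroups
import Cfsg.Agent.Classical.Orth.NondegMax
import Mathlib
import Mathlib

set_option autoImplicit false
open Cfsg

namespace Cfsg.Agent.S5699

/-- Let F be a finite field with q elements, n ≥ 13 even, Q a non-degenerate quadratic form on F^n (of either type), and Ω the commutator subgroup of the isometry group of Q, viewed inside GL_n(F). Let D be a decomposition of F^n into two orthogonal subspaces of odd dimension n/2 on which the polar form is non-degenerate and which are not Q-isometric to each other. Then the elements of Ω permuting (necessarily fixing) the two subspaces form a maximal subgroup of Ω. -/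
theorem result {F : Type*} [Field F] [Fintype F] {n : ℕ} (hn : 13 ≤ n) (heven : Even n) (Q : (Fin n → F) → F) (hQ : Cfsg.Geo.IsNondegenerateQuadraticForm Q) (k : ℕ) (hk : 2 * k = n) (hko : Odd k) (D : Fin 2 → Submodule F (Fin n → F)) (hD : Cfsg.Geo.IsNondegenerateMDecomposition (QuadraticMap.polar Q) k D) (hni : ¬ Cfsg.Geo.AreIsometricFor Q (D 0) (D 1)) : Cfsg.Geo.IsMaximalIn (Cfsg.Geo.omegaGL Q) (Cfsg.Geo.decompositionStabilizer D ⊓ Cfsg.Geo.omegaGL Q) := by
  classical
  obtain ⟨P, rfl, hP⟩ := Cfsg.Lib.Classical.Refl.exists_form hQ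
  have hperp : Cfsg.Lib.Classical.HypQuad.perp P (D 0) = D 1 := by
    have hle : D 1 ≤ Cfsg.Lib.Classical.HypQuad.perp P (D 0) := fun y hy =>
      (Cfsg.Lib.Classical.HypQuad.mem_perp P).mpr fun x hx => hD.orthogonal 0 1 (by decide) x hx y hy
    obtain ⟨hc, -⟩ := Cfsg.Lib.Classical.Refl.nondeg_perp P hP (hD.nondegenerate 0)
    have h := Submodule.finrank_add_eq_of_isCompl hc
    rw [Module.finrank_fin_fun, hD.decomp.finrank_eq] at h
    exact (Submodule.eq_of_le_of_finrank_le hle (by rw [hD.decomp.finrank_eq]; omega)).symm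
  have hnomap : ∀ g : Cfsg.isometryGroup F (⇑P),
      (D 0).map (Matrix.toLin' (Cfsg.Lib.Classical.Refl.mat P g)) ≠ D 1 := by
    intro g hg
    let e : (Fin n → F) ≃ₗ[F] (Fin n → F) :=
      Matrix.toLinearEquiv' (Cfsg.Lib.Classical.Refl.mat P g) (g : GL (Fin n) F).invertible
    refine hni ⟨(e.submoduleMap (D 0)).trans (LinearEquiv.ofEq _ _ hg), fun w => ?_⟩
    exact (Cfsg.Lib.Classical.Refl.mem_iff P).mp g.2 w
  have heq : Cfsg.Geo.decompositionStabilizer D ⊓ Cfsg.Geo.omegaGL (⇑P) =
      Cfsg.Geo.subspaceStabilizer (D 0) ⊓ Cfsg.Geo.omegaGL (⇑P) := by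
    ext x
    constructor
    · rintro ⟨⟨σ, hσ⟩, hO⟩
      refine ⟨(Cfsg.Lib.Classical.Refl.mem_subspaceStabilizer_iff _ _).mpr ?_, hO⟩
      obtain ⟨g, -, rfl⟩ := (Cfsg.Lib.Classical.Refl.mem_omegaGL P x).mp hO
      have h0 : σ 0 = 0 := by
        by_contra h
        exact hnomap g ((hσ 0).trans (congrArg D (Fin.eq_one_of_ne_zero _ h)))
      rw [hσ 0, h0]
    · intro hx
      have h1 := hperp ▸ (Cfsg.Lib.Classical.Refl.stabilizer_perp P hP (D 0)).symm ▸ hx
      refine ⟨⟨1, fun i => ?_⟩, hx.2⟩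
      fin_cases i
      · exact (Cfsg.Lib.Classical.Refl.mem_subspaceStabilizer_iff _ _).mp hx.1
      · exact (Cfsg.Lib.Classical.Refl.mem_subspaceStabilizer_iff _ _).mp h1.1
  rw [heq]
  have hd : Module.finrank F (D 0) = k := hD.decomp.finrank_eq 0
  refine Cfsg.Lib.Classical.Refl.nondeg_maximal P hP (by rw [Fintype.card_fin]; omega) (hD.nondegenerate 0)
    (fun h => by rw [h, finrank_bot] at hd; omega)
    (fun h => by rw [h, finrank_top, Module.finrank_fin_fun] at hd; omega)
    (fun _ g => by rw [hperp]; exact hnomap g) ?_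
  rintro X (rfl | rfl) ⟨-, h2, -⟩
  · omega
  · rw [hperp, hD.decomp.finrank_eq] at h2; omega

end Cfsg.Agent.S5699
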