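import Cfsg.Statements.S5701
import Cfsg.Agent.Classical.ExtFieldOrth.Bridge

set_option autoImplicit false
open Cfsg

namespace Cfsg.Agent.S5701

/-- Let F be a finite field with q elements, n ≥ 13 even, Q a non-degenerate quadratic form on F^n (of either type), and Ω the commutator subgroup of the isometry group of Q, viewed inside GL_n(F). Suppose q is odd. Let K be a subfield of the algebra of n × n matrices over F containing the scalars, of prime degree r over F with n/r ≥ 3, whose elements are self-adjoint for the polar form of Q. Then the elements of Ω normalising K form a maximal subgroup of Ω. -/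
theorem result {F : Type*} [Field F] [Fintype F] {n : ℕ} (hn : 13 ≤ n) (heven : Even n) (Q : (Fin n → F) → F) (hQ : Cfsg.Geo.IsNondegenerateQuadraticForm Q) (hodd : Odd (Fintype.card F)) (r : ℕ) (hr : r.Prime) (hnr : 3 * r ≤ n) (K : Subalgebra F (Matrix (Fin n) (Fin n) F)) (hK : Cfsg.Geo.IsFieldSubalgebra r K) (hsa : Cfsg.Geo.IsSelfAdjointFor (QuadraticMap.polar Q) K) : Cfsg.Geo.IsMaximalIn (Cfsg.Geo.omegaGL Q) (Cfsg.Geo.subalgebraNormalizer K ⊓ Cfsg.Geo.omegaGL Q) := by
  classical
  obtain ⟨P, rfl, hP⟩ := Cfsg.Lib.Classical.Refl.exists_form hQ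
  have : Nonempty (Fin n) := ⟨⟨0, by omega⟩⟩
  refine Cfsg.Lib.Classical.ExtFieldOrth.maximal hodd P hP hr hK hsa fun d hd => ?_
  rw [Fintype.card_fin] at hd
  have h2 := hr.two_le
  have h3 : 3 ≤ d := by
    by_contra h
    have h' : r * d ≤ r * 2 := Nat.mul_le_mul_left r (by omega)
    omega
  refine ⟨h3, fun h => ?_⟩
  subst h; omega

end Cfsg.Agent.S5701
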