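import Cfsg.Statements.S5707
import Cfsg.Agent.Classical.SpinOvergroup.Bridge
import Cfsg.Agent.Classical.Orth.FamilyOvergroups
-- import your own Cfsg.Agent.* helpers here

set_option autoImplicit false
open Cfsg

namespace Cfsg.Agent.S5707

/-- Let F be a finite field with q elements, n ≥ 13 even, Q a non-degenerate quadratic form on F^n of plus type (some subspace of dimension n/2 is totally singular), and Ω the commutator subgroup of the isometry group of Q, viewed inside GL_n(F). Suppose q is even and that, through P and e, the polar form of Q is similar to the t-fold tensor power (t ≥ 2) of a non-degenerate symplectic form f₁ on F^k with k ≤ 4 and (q, k) ≠ (2, 2), Q vanishing on the images of all pure tensors. Then the elements of Ω in the stabiliser of this decomposition form a subgroup that is not maximal: some subgroup lies strictly between it and Ω. -/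
theorem result {F : Type*} [Field F] [Fintype F] {n : ℕ} (hn : 13 ≤ n) (heven : Even n) (Q : (Fin n → F) → F) (hQ : Cfsg.Geo.IsNondegenerateQuadraticForm Q) (hplus : Cfsg.Geo.IsPlusTypeOn Q ⊤) (hchar : ¬ Odd (Fintype.card F)) (k t : ℕ) (ht : 2 ≤ t) (hk : k ≤ 4) (hex1 : ¬ (Fintype.card F = 2 ∧ k = 2)) (e : (Fin n) ≃ (Fin t → Fin k)) (P : Matrix.GeneralLinearGroup (Fin n) F) (f₁ : (Fin k → F) → (Fin k → F) → F) (hf₁ : Cfsg.Geo.IsSymplecticForm f₁) (hT : Cfsg.Geo.IsTensorPowerFormStructure id (QuadraticMap.polar Q) f₁ e P) (hpure : (∀ xs : Fin t → (Fin k → F), Q (Matrix.mulVec (P : Matrix (Fin n) (Fin n) F) ((fun a : Fin t → Fin k => ∏ i, xs i (a i)) ∘ e)) = 0)) : ∃ K : Subgroup (Matrix.GeneralLinearGroup (Fin n) F), Cfsg.Geo.tensorWreathSubgroup k t e P ⊓ Cfsg.Geo.omegaGL Q < K ∧ K < Cfsg.Geo.omegaGL Q := by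
  classical
  obtain ⟨Qf, rfl, hQn⟩ := Cfsg.Lib.Classical.Refl.exists_form hQ
  have h2 : (2 : F) = 0 := by
    haveI hp : Fact (ringChar F).Prime := ⟨CharP.char_is_prime F (ringChar F)⟩
    obtain ⟨r, -, hr⟩ := FiniteField.card F (ringChar F)
    have h := CharP.cast_eq_zero F (ringChar F)
    have h2c : ringChar F = 2 := by
      by_contra hne
      exact hchar (hr ▸ (hp.out.odd_of_ne_two hne).pow)
    rw [h2c] at h
    exact_mod_cast h
  have hcard : k ^ t = n := by
    have := Fintype.card_congr e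
    simp only [Fintype.card_fun, Fintype.card_fin] at this
    exact this.symm
  have hk0 : k ≠ 0 := fun h => by subst h; rw [zero_pow (by omega)] at hcard; omega
  obtain ⟨hk24, G, M, hG, ⟨D⟩, hM⟩ := Cfsg.Lib.Classical.SpinOver.exists_factor_data h2 hk0 hk hf₁
  have htk : 3 ≤ t ∨ k = 4 := by
    rcases hk24 with rfl | rfl
    · left
      by_contra h
      have := Nat.pow_le_pow_right (show 0 < 2 by norm_num) (show t ≤ 2 by omega)
      omega
    · exact Or.inr rfl
  -- coordinates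
  let Φ₀ : Matrix (Fin n) (Fin t → Fin k) F := (P : Matrix (Fin n) (Fin n) F).submatrix id e.symm
  let Ψ₀ : Matrix (Fin t → Fin k) (Fin n) F :=
    ((P⁻¹ : GL (Fin n) F) : Matrix (Fin n) (Fin n) F).submatrix e.symm id
  let T : Matrix (Fin t → Fin k) (Fin t → Fin k) F :=
    Cfsg.Lib.Classical.Aschbacher.piKron (d := fun _ => k) fun _ => (M : Matrix (Fin k) (Fin k) F)
  let T' : Matrix (Fin t → Fin k) (Fin t → Fin k) F :=
    Cfsg.Lib.Classical.Aschbacher.piKron (d := fun _ => k) fun _ => ((M⁻¹ : GL (Fin k) F) : Matrix (Fin k) (Fin k) F)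
  have hTT : T * T' = 1 := by
    rw [Cfsg.Lib.Classical.Aschbacher.piKron_mul, ← Cfsg.Lib.Classical.Aschbacher.piKron_one (F := F) (fun _ : Fin t => k)]
    congr 1
    funext i
    exact Units.mul_inv M
  have hT'T : T' * T = 1 := by
    rw [Cfsg.Lib.Classical.Aschbacher.piKron_mul, ← Cfsg.Lib.Classical.Aschbacher.piKron_one (F := F) (fun _ : Fin t => k)]
    congr 1
    funext i
    exact Units.inv_mul M
  have h0l : Φ₀ * Ψ₀ = 1 := by
    rw [Matrix.submatrix_mul_equiv, ← Units.val_mul, mul_inv_cancel, Units.val_one, Matrix.submatrix_id_id]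
  have h0r : Ψ₀ * Φ₀ = 1 := by
    rw [← Matrix.submatrix_mul ((P⁻¹ : GL (Fin n) F) : Matrix (Fin n) (Fin n) F) (P : Matrix (Fin n) (Fin n) F)
      e.symm id e.symm Function.bijective_id, ← Units.val_mul, inv_mul_cancel, Units.val_one,
      Matrix.submatrix_one_equiv]
  let Φ := Φ₀ * T
  let Ψ := T' * Ψ₀
  have hc : Cfsg.Lib.Classical.Aschbacher.Coords Φ Ψ := by
    refine ⟨?_, ?_⟩
    · show Φ₀ * T * (T' * Ψ₀) = 1
      rw [Matrix.mul_assoc, ← Matrix.mul_assoc T, hTT, Matrix.one_mul, h0l]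
    · show T' * Ψ₀ * (Φ₀ * T) = 1
      rw [Matrix.mul_assoc, ← Matrix.mul_assoc Ψ₀, h0r, Matrix.one_mul, hT'T]
  have hΦ₀ : ∀ x : (Fin t → Fin k) → F, Φ₀.mulVec x = (P : Matrix (Fin n) (Fin n) F).mulVec (x ∘ e) := by
    intro x
    funext a
    show ∑ b, (P : Matrix (Fin n) (Fin n) F) a (e.symm b) * x b = ∑ c, (P : Matrix (Fin n) (Fin n) F) a c * x (e c)
    exact Fintype.sum_equiv e.symm _ _ fun b => by simp
  obtain ⟨c, hc0, hT⟩ := hT
  refine Cfsg.Lib.Classical.SpinOver.exists_strictly_between h2 (by simpa using hn) Qf hQn ht htk hG D hc hc0 ?_ ?_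
    (Cfsg.Geo.tensorWreathSubgroup k t e P ⊓ Cfsg.Geo.omegaGL ⇑Qf) inf_le_right ?_
  · intro x y
    show QuadraticMap.polar (⇑Qf) ((Φ₀ * T).mulVec x) ((Φ₀ * T).mulVec y) = _
    rw [← Matrix.mulVec_mulVec, ← Matrix.mulVec_mulVec, hΦ₀, hΦ₀, hT]
    congr 1
    have e1 : ∀ u v : (Fin t → Fin k) → F, ∑ a, ∑ b, u a * (∏ i, Cfsg.Geo.gramMatrix f₁ (a i) (b i)) * id (v b) =
        dotProduct u ((Cfsg.Lib.Classical.SpinOver.gramK t (Cfsg.Geo.gramMatrix f₁)).mulVec v) := fun u v => by
      simp only [dotProduct, Matrix.mulVec, Finset.mul_sum, id_eq]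
      exact Finset.sum_congr rfl fun a _ => Finset.sum_congr rfl fun b _ => by
        rw [mul_assoc]; rfl
    rw [e1, ← Matrix.vecMul_transpose, ← Matrix.dotProduct_mulVec, Matrix.mulVec_mulVec, Matrix.mulVec_mulVec,
      Cfsg.Lib.Classical.Aschbacher.piKron_transpose, Cfsg.Lib.Classical.Aschbacher.piKron_mul,
      Cfsg.Lib.Classical.Aschbacher.piKron_mul]
    congr 2
    exact congrArg _ (funext fun i => hM)
  · intro xs
    show Qf ((Φ₀ * T).mulVec _) = 0
    rw [← Matrix.mulVec_mulVec, Cfsg.Lib.Classical.SpinOver.piKron_pure, hΦ₀]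
    exact hpure _
  · intro h hh
    obtain ⟨σ, a, ha⟩ := Cfsg.Lib.Classical.Aschbacher.exists_isWreath_of_mem e P h hh.1
    refine ⟨σ, fun i => M⁻¹ * a i * M, ?_⟩
    have e0 : Ψ₀ * (h : Matrix (Fin n) (Fin n) F) * Φ₀ = Cfsg.Lib.Classical.Aschbacher.inCoords e P h := by
      rw [Cfsg.Lib.Classical.Aschbacher.inCoords, Units.val_mul, Units.val_mul]
      ext i j
      simp [Ψ₀, Φ₀, Matrix.mul_apply]
    calc T' * Ψ₀ * (h : Matrix (Fin n) (Fin n) F) * (Φ₀ * T) =
          T' * (Ψ₀ * (h : Matrix (Fin n) (Fin n) F) * Φ₀) * T := by simp only [Matrix.mul_assoc]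
      _ = _ := by
        rw [e0, ha, ← Matrix.mul_assoc T']
        have : T' * Cfsg.Lib.Classical.Aschbacher.permMat F σ = Cfsg.Lib.Classical.Aschbacher.permMat F σ * T' := by
          rw [Cfsg.Lib.Classical.Aschbacher.permMat_piKron]
        rw [this, Matrix.mul_assoc, Matrix.mul_assoc, Cfsg.Lib.Classical.Aschbacher.piKron_mul,
          Cfsg.Lib.Classical.Aschbacher.piKron_mul]
        congr 2
        funext i
        simp [Pi.mul_apply, mul_assoc]

end Cfsg.Agent.S5707
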