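import Cfsg.Statements.S5708
import Cfsg.Agent.Classical.OrthPow.Main

set_option autoImplicit false
open Cfsg

namespace Cfsg.Agent.S5708

/-- Let F be a finite field with q elements, n ≥ 13 even, Q a non-degenerate quadratic form on F^n of plus type (some subspace of dimension n/2 is totally singular), and Ω the commutator subgroup of the isometry group of Q, viewed inside GL_n(F). Suppose q is odd and that, through a change of basis P and a bijection of index sets e, the polar form of Q is similar to the t-fold tensor power (t ≥ 2) of a non-degenerate symmetric bilinear form f₁ on F^k with k even, where either k ≥ 6 and f₁ has a totally isotropic subspace of dimension k/2 (plus type), or k ≥ 4 and it has none (minus type). Then the elements of Ω in the stabiliser of this decomposition form a maximal subgroup of Ω. -/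
theorem result {F : Type*} [Field F] [Fintype F] {n : ℕ} (hn : 13 ≤ n) (heven : Even n) (Q : (Fin n → F) → F) (hQ : Cfsg.Geo.IsNondegenerateQuadraticForm Q) (hplus : Cfsg.Geo.IsPlusTypeOn Q ⊤) (hodd : Odd (Fintype.card F)) (k t : ℕ) (ht : 2 ≤ t) (hke : Even k) (e : (Fin n) ≃ (Fin t → Fin k)) (P : Matrix.GeneralLinearGroup (Fin n) F) (f₁ : (Fin k → F) → (Fin k → F) → F) (hf₁ : Cfsg.Geo.IsSymmetricForm f₁) (hsize : (6 ≤ k ∧ Cfsg.Geo.IsPlusTypeOn (fun v : Fin k → F => f₁ v v) ⊤) ∨ (4 ≤ k ∧ ¬ Cfsg.Geo.IsPlusTypeOn (fun v : Fin k → F => f₁ v v) ⊤)) (hT : Cfsg.Geo.IsTensorPowerFormStructure id (QuadraticMap.polar Q) f₁ e P) : Cfsg.Geo.IsMaximalIn (Cfsg.Geo.omegaGL Q) (Cfsg.Geo.tensorWreathSubgroup k t e P ⊓ Cfsg.Geo.omegaGL Q) := by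
  have h2 : (2 : F) ≠ 0 := fun h => by
    obtain ⟨k, hk⟩ := hodd
    have := FiniteField.cast_card_eq_zero F
    rw [hk, Nat.cast_add, Nat.cast_mul, Nat.cast_two, h, zero_mul, zero_add, Nat.cast_one] at this
    exact one_ne_zero this
  have hhalf : ∀ v, QuadraticMap.polar Q v v = 2 * Q v := fun v => by
    rw [QuadraticMap.polar, show v + v = (2 : F) • v from (two_smul F v).symm, hQ.smul]
    ring
  have hk4 : 4 ≤ k := by rcases hsize with h | h <;> omega
  refine Cfsg.Lib.Classical.OrthPow.isMaximalIn_power Q hhalf h2 (by omega) ht e P hf₁ hT (fun h => absurd h (by omega))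
    (fun h4 x u hx hu hxu hli => ?_)
  rcases hsize with h | ⟨-, hm⟩
  · omega
  refine hm ⟨Submodule.span F (Set.range ![x, u]), le_top, fun w hw => ?_, ?_⟩
  · obtain ⟨c, rfl⟩ := (Submodule.mem_span_range_iff_exists_fun F).mp hw
    have hb₂ := hf₁.bilinear
    simp [Fin.sum_univ_two, hb₂.add_left, hb₂.add_right, hb₂.smul_left, hb₂.smul_right, hx, hu, hxu, hf₁.symm u x]
  · rw [finrank_span_eq_card hli, finrank_top, Module.finrank_pi, Fintype.card_fin, Fintype.card_fin, h4]

end Cfsg.Agent.S5708
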