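import Cfsg.Statements.S5709
import Cfsg.Agent.Classical.TensorOrth.Transfer

set_option autoImplicit false
open Cfsg

namespace Cfsg.Agent.S5709

/-- Let F be a finite field with q elements, n ≥ 13 even, Q a non-degenerate quadratic form on F^n of minus type (no subspace of dimension n/2 is totally singular), and Ω the commutator subgroup of the isometry group of Q, viewed inside GL_n(F). Suppose q is odd and that, through a change of basis P and a bijection of index sets e, the polar form of Q is similar to the tensor product of non-degenerate symmetric bilinear forms f₁ on F^(n₁), n₁ odd and at least 3, and f₂ on F^(n₂), n₂ even and at least 4 with no totally isotropic subspace of dimension n₂/2 (minus type). Unless q = 3 and n₁ = 3, the elements of Ω in the stabiliser of this tensor decomposition form a maximal subgroup of Ω. -/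
theorem result {F : Type*} [Field F] [Fintype F] {n : ℕ} (hn : 13 ≤ n) (heven : Even n) (Q : (Fin n → F) → F) (hQ : Cfsg.Geo.IsNondegenerateQuadraticForm Q) (hminus : ¬ Cfsg.Geo.IsPlusTypeOn Q ⊤) (hodd : Odd (Fintype.card F)) (n₁ n₂ : ℕ) (h1 : 3 ≤ n₁) (h1o : Odd n₁) (h2 : 4 ≤ n₂) (h2e : Even n₂) (hex : ¬ (Fintype.card F = 3 ∧ n₁ = 3)) (e : (Fin n) ≃ Fin n₁ × Fin n₂) (P : Matrix.GeneralLinearGroup (Fin n) F) (f₁ : (Fin n₁ → F) → (Fin n₁ → F) → F) (f₂ : (Fin n₂ → F) → (Fin n₂ → F) → F) (hf₁ : Cfsg.Geo.IsSymmetricForm f₁) (hf₂ : Cfsg.Geo.IsSymmetricForm f₂) (hf₂m : ¬ Cfsg.Geo.IsPlusTypeOn (fun v : Fin n₂ → F => f₂ v v) ⊤) (hT : Cfsg.Geo.IsTensorFormStructure id (QuadraticMap.polar Q) f₁ f₂ e P) : Cfsg.Geo.IsMaximalIn (Cfsg.Geo.omegaGL Q) (Cfsg.Geo.tensorProductSubgroup n₁ n₂ e P ⊓ Cfsg.Geo.omegaGL Q) := by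
  have h2' : (2 : F) ≠ 0 := fun h => by
    obtain ⟨k, hk⟩ := hodd
    have := FiniteField.cast_card_eq_zero F
    rw [hk, Nat.cast_add, Nat.cast_mul, Nat.cast_two, h, zero_mul, zero_add, Nat.cast_one] at this
    exact one_ne_zero this
  have hhalf : ∀ v, QuadraticMap.polar Q v v = 2 * Q v := fun v => by
    rw [QuadraticMap.polar, show v + v = (2 : F) • v from (two_smul F v).symm, hQ.smul]
    ring
  have hcard : n₁ * n₂ = n := by simpa using (Fintype.card_congr e).symm
  obtain ⟨a, ha⟩ := h1o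
  obtain ⟨b, hb⟩ := h2e
  rcases Nat.lt_or_gt_of_ne (show n₁ ≠ n₂ by omega) with h12 | h12
  · have h5 : 5 ≤ n₂ := by
      by_contra hh
      have hle : n₁ * n₂ ≤ 3 * 4 := Nat.mul_le_mul (by omega) (by omega)
      omega
    exact Cfsg.Lib.Classical.TensorOrth.isMaximalIn_first Q hhalf e P hf₁ hf₂ hT h2' h1 (by omega) h12
      (fun h => absurd h (by omega))
      (fun h => absurd h (by omega)) (fun h hq => hex ⟨hq, h⟩)
  · refine Cfsg.Lib.Classical.TensorOrth.isMaximalIn_second Q hhalf e P hf₁ hf₂ hT h2' (by omega) (by omega) h12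
      (fun h4 x u hx hu hxu hli => hf₂m ?_) (fun h => absurd h (by omega))
    refine ⟨Submodule.span F (Set.range ![x, u]), le_top, fun w hw => ?_, ?_⟩
    · obtain ⟨c, rfl⟩ := (Submodule.mem_span_range_iff_exists_fun F).mp hw
      have hb₂ := hf₂.bilinear
      simp [Fin.sum_univ_two, hb₂.add_left, hb₂.add_right, hb₂.smul_left, hb₂.smul_right, hx, hu, hxu,
        hf₂.symm u x]
    · rw [finrank_span_eq_card hli, finrank_top, Module.finrank_pi, Fintype.card_fin, Fintype.card_fin, h4]

end Cfsg.Agent.S5709
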