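import Cfsg.Statements.S5712
import Cfsg.Agent.Classical.Symp.LargeRad.Top
import Cfsg.Agent.Classical.Symp.LargeRad.Radical
import Cfsg.Agent.Classical.Symp.LargeRad.Matrices
import Cfsg.Agent.Components.Cores

set_option autoImplicit false
set_option linter.style.haveILetI false
open Cfsg

namespace Cfsg.Agent.S5712

/-- Let F be a finite field of characteristic two, n ≥ 2, V = F^{2n} with the non-degenerate alternating form f(u, v) = Σ (u_i v_{n+i} + u_{n+i} v_i), and G the group of invertible matrices preserving f. Let a ≠ 0 be a vector, H its stabilizer in G, and X a subgroup of O₂(H) of order |F|^{2n−2} no element of which is a transvection (no element g has g − 1 of rank one). If L is a subgroup of G containing X that acts irreducibly on V (no proper non-zero L-invariant subspace), then L = G, or, for some quadratic form Q on V whose polar form is f, L is the isometry group of Q or its subgroup of the isometries g for which g − 1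 has even rank, or |F| = 2, n = 2 and L is isomorphic to the alternating group of degree 6 or to the symmetric group of degree 5. -/
theorem result {F : Type*} [Field F] [Fintype F] [CharP F 2] {n : ℕ} (hn : 2 ≤ n) (a : (Fin n ⊕ Fin n → F)) (ha : a ≠ 0)
    (X : Subgroup (GL (Fin n ⊕ Fin n) F)) (hXG : X ≤ Cfsg.preserving (Units.coeHom (Matrix (Fin n ⊕ Fin n) (Fin n ⊕ Fin n) F)) (fun u v : (Fin n ⊕ Fin n → F) => ∑ i : Fin n, (u (Sum.inl i) * v (Sum.inr i) + u (Sum.inr i) * v (Sum.inl i))))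
    (hXO : ∀ H : Subgroup (GL (Fin n ⊕ Fin n) F),
      (∀ g : GL (Fin n ⊕ Fin n) F, g ∈ H ↔ (g ∈ Cfsg.preserving (Units.coeHom (Matrix (Fin n ⊕ Fin n) (Fin n ⊕ Fin n) F)) (fun u v : (Fin n ⊕ Fin n → F) => ∑ i : Fin n, (u (Sum.inl i) * v (Sum.inr i) + u (Sum.inr i) * v (Sum.inl i))) ∧ Matrix.mulVec (g : Matrix (Fin n ⊕ Fin n) (Fin n ⊕ Fin n) F) a = a)) →
      X ≤ (Cfsg.pCore 2 ↥H).map H.subtype)
    (hcard : Nat.card ↥X = Fintype.card F ^ (2 * n - 2))
    (hntv : ∀ x ∈ X, ((x : Matrix (Fin n ⊕ Fin n) (Fin n ⊕ Fin n) F) - 1).rank ≠ 1)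
    (L : Subgroup (GL (Fin n ⊕ Fin n) F)) (hXL : X ≤ L) (hLG : L ≤ Cfsg.preserving (Units.coeHom (Matrix (Fin n ⊕ Fin n) (Fin n ⊕ Fin n) F)) (fun u v : (Fin n ⊕ Fin n → F) => ∑ i : Fin n, (u (Sum.inl i) * v (Sum.inr i) + u (Sum.inr i) * v (Sum.inl i))))
    (hirr : ∀ W : Submodule F (Fin n ⊕ Fin n → F), (∀ g ∈ L, ∀ w ∈ W, Matrix.mulVec (g : Matrix (Fin n ⊕ Fin n) (Fin n ⊕ Fin n) F) w ∈ W) → W = ⊥ ∨ W = ⊤) :
    L = Cfsg.preserving (Units.coeHom (Matrix (Fin n ⊕ Fin n) (Fin n ⊕ Fin n) F)) (fun u v : (Fin n ⊕ Fin n → F) => ∑ i : Fin n, (u (Sum.inl i) * v (Sum.inr i) + u (Sum.inr i) * v (Sum.inl i))) ∨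
    (∃ Q : QuadraticForm F (Fin n ⊕ Fin n → F), (∀ u v, QuadraticMap.polar ⇑Q u v = (fun u v : (Fin n ⊕ Fin n → F) => ∑ i : Fin n, (u (Sum.inl i) * v (Sum.inr i) + u (Sum.inr i) * v (Sum.inl i))) u v) ∧
      (L = Cfsg.isometryGroup F ⇑Q ∨
        ∀ g : GL (Fin n ⊕ Fin n) F, g ∈ L ↔ (g ∈ Cfsg.isometryGroup F ⇑Q ∧ Even ((g : Matrix (Fin n ⊕ Fin n) (Fin n ⊕ Fin n) F) - 1).rank))) ∨
    (Fintype.card F = 2 ∧ n = 2 ∧ (Nonempty (↥L ≃* ↥(alternatingGroup (Fin 6))) ∨ Nonempty (↥L ≃* Equiv.Perm (Fin 5)))) := by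
  classical
  have h2 : (2 : F) = 0 := CharTwo.two_eq_zero
  open Cfsg.Lib.Classical Cfsg.Lib.Classical.LargeRad in
  exact by
    have hsq : ∀ x : F, ∃ r : F, r ^ 2 = x := fun x => by
      obtain ⟨r, hr⟩ := FiniteField.isSquare_of_char_two (ringChar.eq F 2) x
      exact ⟨r, by rw [hr, sq]⟩
    set ρ := sympToGL n F with hρ
    have hrange := preserving_eq_range (F := F) (m := n) h2
    rw [hrange] at hXG hLG ⊢
    have hA := sympBilin_isAlt n F
    have hB := sympBilin_nondegenerate n F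
    have hd : 4 ≤ Module.finrank F (Fin n ⊕ Fin n → F) := by rw [finrank_sympSpace]; omega
    have hρinj : Function.Injective ρ := fun g h hgh => BilinIsom.ext' fun x => by
      rw [← sympToGL_mulVec, ← sympToGL_mulVec h x, ← hρ, hgh]
    have hcond : ∀ g : GL (Fin n ⊕ Fin n) F,
        (g ∈ Cfsg.preserving (Units.coeHom (Matrix (Fin n ⊕ Fin n) (Fin n ⊕ Fin n) F))
          (fun u v : (Fin n ⊕ Fin n → F) => ∑ i : Fin n, (u (Sum.inl i) * v (Sum.inr i) + u (Sum.inr i) * v (Sum.inl i)))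
          ∧ Matrix.mulVec (g : Matrix (Fin n ⊕ Fin n) (Fin n ⊕ Fin n) F) a = a) ↔
        (g ∈ ρ.range ∧ Matrix.mulVec (g : Matrix (Fin n ⊕ Fin n) (Fin n ⊕ Fin n) F) a = a) := fun g => by
      rw [hrange]
    let H : Subgroup (GL (Fin n ⊕ Fin n) F) :=
      { carrier := {g | g ∈ ρ.range ∧ Matrix.mulVec (g : Matrix (Fin n ⊕ Fin n) (Fin n ⊕ Fin n) F) a = a}
        one_mem' := ⟨one_mem _, by rw [Units.val_one, Matrix.one_mulVec]⟩
        mul_mem' := fun {g h} hg hh => ⟨mul_mem hg.1 hh.1, by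
          rw [Units.val_mul, ← Matrix.mulVec_mulVec, hh.2, hg.2]⟩
        inv_mem' := fun {g} hg => ⟨inv_mem hg.1, by
          conv_lhs => rw [← hg.2, Matrix.mulVec_mulVec, ← Units.val_mul, inv_mul_cancel, Units.val_one,
            Matrix.one_mulVec]⟩ }
    have hXP := hXO H (fun g => (hcond g).symm)
    set P := (Cfsg.pCore 2 ↥H).map H.subtype with hPdef
    have hP : IsPGroup 2 P := (Cfsg.Lib.Components.isPGroup_pCore 2).map _
    have hPH : P ≤ H := Subgroup.map_subtype_le _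
    set L' := L.comap ρ with hL'
    have hmv : ∀ (g : BilinIsom (sympBilin n F)) x,
        (ρ g : Matrix (Fin n ⊕ Fin n) (Fin n ⊕ Fin n) F).mulVec x = g.1 x := sympToGL_mulVec
    have hU : HasU hA (X.comap ρ) a := by
      refine hasU_of_large h2 hA hB hd ha (X.comap ρ) (P.comap ρ) (Subgroup.comap_mono hXP)
        (hP.comap_of_injective ρ hρinj) (fun g hg => by rw [← hmv]; exact (hPH hg).2) ?_ ?_ ?_
      · intro z haz c g hg
        have ht : ρ (sympT hA z c) ∈ H := ⟨⟨_, rfl⟩, by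
          rw [hmv, sympT_apply, haz, mul_zero, zero_smul, add_zero]⟩
        haveI := Cfsg.Lib.Components.pCore_normal' (G := ↥H) 2
        obtain ⟨y, hy, hyg⟩ := hg
        show ρ (sympT hA z c * g * (sympT hA z c)⁻¹) ∈ P
        refine ⟨⟨_, ht⟩ * y * ⟨_, ht⟩⁻¹, Subgroup.Normal.conj_mem inferInstance y hy _, ?_⟩
        rw [map_mul, map_mul, map_inv, map_mul, map_mul, map_inv, hyg]
        rfl
      · rw [← Nat.card_congr ((X.comap ρ).equivMapOfInjective ρ hρinj).symm.toEquiv,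
          Subgroup.map_comap_eq, inf_eq_right.mpr hXG, hcard, finrank_sympSpace, Nat.card_eq_fintype_card]
      · intro c hc
        by_contra hc0
        exact hntv _ hc (rank_sympT hA ha hc0)
    have hUL : HasU hA L' a := fun w hw => by
      obtain ⟨c, hc⟩ := hU w hw
      exact ⟨c, hXL hc⟩
    have hirr' : ∀ W : Submodule F (Fin n ⊕ Fin n → F),
        (∀ g ∈ L', ∀ w ∈ W, (g : BilinIsom (sympBilin n F)).1 w ∈ W) → W = ⊥ ∨ W = ⊤ := fun W hW =>
      hirr W fun g hg w hw => by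
        obtain ⟨g', rfl⟩ := hLG hg
        rw [hmv]; exact hW g' hg w hw
    have hLmap : L'.map ρ = L := by rw [hL', Subgroup.map_comap_eq, inf_eq_right.mpr hLG]
    rcases classify h2 hA hB hd hsq hirr' ha hUL with h | ⟨O, a', e', D, hC, ha', he', hae⟩ | ⟨hq, h4, h60, hlt⟩
    · left
      rw [← hLmap, h, ← MonoidHom.range_eq_map]
    · right; left
      obtain ⟨Q, hQ, hL⟩ := conclude_cons h2 hn L hLG D hC ha' he' hae
      exact ⟨Q, fun u v => (hQ u v).trans (sum_eq_sympBilin h2 u v).symm, hL⟩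
    · rw [finrank_sympSpace] at h4
      obtain rfl : n = 2 := by omega
      rw [Nat.card_eq_fintype_card] at hq
      rcases conclude_small hq L' h60 hlt with h | h
      · left
        rw [← hLmap, h, ← MonoidHom.range_eq_map]
      · right; right
        have e : ↥L' ≃* ↥L := (L'.equivMapOfInjective ρ hρinj).trans (MulEquiv.subgroupCongr hLmap)
        exact ⟨hq, rfl, h.imp (fun ⟨f⟩ => ⟨e.symm.trans f⟩) (fun ⟨f⟩ => ⟨e.symm.trans f⟩)⟩

end Cfsg.Agent.S5712
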