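import Cfsg.Statements.S5713
import Cfsg.Agent.Classical.Perm.MinimalDegree
import Mathlib

set_option autoImplicit false
open Cfsg

namespace Cfsg.Agent.S5713

/-- A classification-free minimal-degree bound. Let G be a finite group acting faithfully and primitively on a finite set Ω with n elements, and suppose that the image of G in the symmetric group on Ω does not contain the alternating group on Ω. Then every non-identity element of G moves at least (√n − 1)/2 points of Ω, that is, it fixes at most n − (√n − 1)/2 points. -/
theorem result {G Ω : Type*} [Group G] [Finite G] [MulAction G Ω] [FaithfulSMul G Ω] [Fintype Ω] [DecidableEq Ω]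
    (hprim : MulAction.IsPreprimitive G Ω)
    (hA : ¬ alternatingGroup Ω ≤ (MulAction.toPermHom G Ω).range)
    (g : G) (hg : g ≠ 1) :
    (Real.sqrt (Fintype.card Ω) - 1) / 2 ≤ (Fintype.card Ω : ℝ) - Nat.card (MulAction.fixedBy Ω g) := by
  classical
  have hb := Cfsg.Lib.Classical.MinDeg.moved_bound hprim hA g hg
  set S := Finset.univ.filter fun a : Ω => g • a ≠ a with hS
  have hfix : (Nat.card (MulAction.fixedBy Ω g) : ℝ) + S.card = Fintype.card Ω := by
    have e : Nat.card (MulAction.fixedBy Ω g) = (Finset.univ.filter fun a : Ω => g • a = a).card := by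
      rw [Nat.card_eq_fintype_card, ← Fintype.card_subtype]
      exact Fintype.card_congr (Equiv.refl _)
    rw [e, hS]
    exact_mod_cast Finset.card_filter_add_card_filter_not (s := (Finset.univ : Finset Ω)) (fun a => g • a = a)
  have h : Real.sqrt (Fintype.card Ω) ≤ 2 * (S.card : ℝ) + 1 := by
    rw [Real.sqrt_le_iff]
    exact ⟨by positivity, by exact_mod_cast hb⟩
  linarith

end Cfsg.Agent.S5713
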