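import Cfsg.Statements.S5720
import Cfsg.Agent.FixSixth.Main

set_option autoImplicit false
open Cfsg

namespace Cfsg.Agent.S5720

open scoped TensorProduct

/-- The fixed space does not grow under an extension of the field. -/
theorem finrank_ker_baseChange_le {K V : Type*} [Field K] [AddCommGroup V] [Module K V] [FiniteDimensional K V]
    (L : Type*) [Field L] [Algebra K L] (f : V →ₗ[K] V) :
    Module.finrank L ↥(LinearMap.ker (f.baseChange L)) ≤ Module.finrank K ↥(LinearMap.ker f) := by
  have h : f.baseChange L = ((LinearMap.range f).subtype.baseChange L).comp (f.rangeRestrict.baseChange L) := by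
    rw [← LinearMap.baseChange_comp]
    rfl
  have h1 : Function.Injective ((LinearMap.range f).subtype.baseChange L) := by
    rw [LinearMap.baseChange_eq_ltensor]
    exact Module.Flat.lTensor_preserves_injective_linearMap _ (Submodule.subtype_injective _)
  have h2 : Function.Surjective (f.rangeRestrict.baseChange L) := by
    rw [LinearMap.baseChange_eq_ltensor]
    exact LinearMap.lTensor_surjective _ f.surjective_rangeRestrict
  have hrange : Module.finrank L ↥(LinearMap.range (f.baseChange L)) = Module.finrank K ↥(LinearMap.range f) := by
    rw [h, LinearMap.range_comp, LinearMap.range_eq_top.2 h2, Submodule.map_top,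
      LinearMap.finrank_range_of_inj h1, Module.finrank_baseChange]
  have e1 := LinearMap.finrank_range_add_finrank_ker (f.baseChange L)
  have e2 := LinearMap.finrank_range_add_finrank_ker f
  rw [Module.finrank_baseChange] at e1
  omega

/-- Let H be a finite group whose soluble radical (largest soluble normal subgroup) has index greater than 120. Then for every field K and every finite-dimensional K-linear representation of H on a space V there is a non-identity element h of H whose fixed-point subspace on V has dimension at least (dim V)/6. -/
theorem result {H : Type*} [Group H] [Finite H] (hR : 120 < (Cfsg.solvableRadical H).index)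
    {K V : Type*} [Field K] [AddCommGroup V] [Module K V] [FiniteDimensional K V] (ρ : Representation K H V) :
    ∃ h : H, h ≠ 1 ∧ (Module.finrank K V : ℚ) / 6 ≤ Module.finrank K (LinearMap.ker (ρ h - 1)) := by
  let L := AlgebraicClosure K
  let σ : Representation L H (L ⊗[K] V) :=
    { toFun := fun g => (ρ g).baseChange L
      map_one' := by rw [map_one]; exact LinearMap.baseChange_one K V
      map_mul' := fun a b => by rw [map_mul]; exact LinearMap.baseChange_mul _ _ }
  obtain ⟨h, hh, hle⟩ := Cfsg.Lib.FixSixth.exists_fix_sixth hR σ
  refine ⟨h, hh, ?_⟩
  have e : σ h - 1 = (ρ h - 1).baseChange L := by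
    rw [LinearMap.baseChange_sub, LinearMap.baseChange_one K V]
    rfl
  have h6 : Module.finrank K V ≤ 6 * Module.finrank K ↥(LinearMap.ker (ρ h - 1)) := by
    rw [Cfsg.Lib.FixSixth.fixDim, e, Module.finrank_baseChange] at hle
    exact hle.trans (Nat.mul_le_mul_left 6 (finrank_ker_baseChange_le L (ρ h - 1)))
  rw [div_le_iff₀ (by norm_num : (0 : ℚ) < 6)]
  calc (Module.finrank K V : ℚ) ≤ ((6 * Module.finrank K ↥(LinearMap.ker (ρ h - 1)) : ℕ) : ℚ) := by exact_mod_cast h6
    _ = _ := by push_cast; ring

end Cfsg.Agent.S5720
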