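import Cfsg.Statements.S5726
import Mathlib

set_option autoImplicit false
open Cfsg

namespace Cfsg.Agent.S5726

/-- If a finite group acts faithfully and transitively on a set with p^k elements, p a prime and k ≥ 1, then some element of order p fixes no point. -/
theorem result {G Ω : Type*} [Group G] [Finite G] [MulAction G Ω] [FaithfulSMul G Ω] [Fintype Ω] (htr : MulAction.IsPretransitive G Ω)
    (p k : ℕ) (hp : p.Prime) (hk : 1 ≤ k) (hΩ : Fintype.card Ω = p ^ k) :
    ∃ g : G, orderOf g = p ∧ ∀ ω : Ω, g • ω ≠ ω := by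
  classical
  haveI := Fact.mk hp
  haveI hne : Nonempty Ω := Fintype.card_pos_iff.mp (hΩ ▸ pow_pos hp.pos k)
  obtain ⟨ω₀⟩ := hne
  obtain ⟨P⟩ : Nonempty (Sylow p G) := inferInstance
  have hidx : (MulAction.stabilizer G ω₀).index = p ^ k := by
    rw [MulAction.index_stabilizer_of_transitive, Nat.card_eq_fintype_card, hΩ]
  have hcop : Nat.Coprime p (P : Subgroup G).index := (hp.coprime_iff_not_dvd).mpr P.not_dvd_index
  set S := MulAction.stabilizer G ω₀ with hS
  have htrans : ∀ ω, ∃ g ∈ (P : Subgroup G), g • ω₀ = ω := by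
    have h1 : (P : Subgroup G).index * S.index ∣ (S ⊓ (P : Subgroup G)).index := by
      refine Nat.Coprime.mul_dvd_of_dvd_of_dvd ?_ (Subgroup.index_dvd_of_le inf_le_right)
        (Subgroup.index_dvd_of_le inf_le_left)
      rw [hidx]
      exact (Nat.Coprime.pow_left _ hcop).symm
    rw [← Subgroup.relIndex_mul_index (inf_le_right : S ⊓ (P : Subgroup G) ≤ P),
      Subgroup.inf_relIndex_right, mul_comm (S.relIndex _)] at h1
    have h2 := Nat.dvd_of_mul_dvd_mul_left (Nat.pos_of_ne_zero Subgroup.index_ne_zero_of_finite) h1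
    rw [hidx] at h2
    have hstab : MulAction.stabilizer (P : Subgroup G) ω₀ = S.subgroupOf (P : Subgroup G) := rfl
    have h3 : (MulAction.stabilizer (P : Subgroup G) ω₀).index = (MulAction.orbit (P : Subgroup G) ω₀).ncard :=
      MulAction.index_stabilizer _ _
    rw [hstab] at h3
    change S.relIndex (P : Subgroup G) = _ at h3
    have h4 : 0 < (MulAction.orbit (P : Subgroup G) ω₀).ncard :=
      (Set.ncard_pos (Set.toFinite _)).mpr (MulAction.nonempty_orbit _)
    have h5 := Nat.le_of_dvd (by omega) h2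
    have h6 : MulAction.orbit (P : Subgroup G) ω₀ = Set.univ := by
      apply Set.eq_of_subset_of_ncard_le (Set.subset_univ _)
      rw [Set.ncard_univ, Nat.card_eq_fintype_card, hΩ]
      omega
    intro ω
    obtain ⟨g, hg⟩ : ω ∈ MulAction.orbit (P : Subgroup G) ω₀ := h6 ▸ Set.mem_univ ω
    exact ⟨g, g.2, hg⟩
  haveI : Nontrivial (P : Subgroup G) := by
    by_contra hnt
    rw [Subgroup.nontrivial_iff_ne_bot, not_not] at hnt
    have h1 : 1 < Fintype.card Ω := hΩ ▸ Nat.one_lt_pow (by omega) hp.one_lt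
    obtain ⟨ω, hω⟩ := Fintype.exists_ne_of_one_lt_card h1 ω₀
    obtain ⟨g, hg, hgω⟩ := htrans ω
    rw [hnt, Subgroup.mem_bot] at hg
    exact hω (by rw [← hgω, hg, one_smul])
  haveI : Nontrivial (Subgroup.center (P : Subgroup G)) := P.isPGroup'.center_nontrivial
  have hdvd : p ∣ Nat.card (Subgroup.center (P : Subgroup G)) := by
    obtain ⟨j, hj⟩ := IsPGroup.iff_card.mp (P.isPGroup'.to_subgroup (Subgroup.center (P : Subgroup G)))
    rcases Nat.eq_zero_or_pos j with h | h
    · rw [h, pow_zero] at hj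
      exact absurd hj (Nat.ne_of_gt Finite.one_lt_card)
    · exact hj ▸ dvd_pow_self p (by omega)
  obtain ⟨z, hz⟩ := exists_prime_orderOf_dvd_card' p hdvd
  have hord : orderOf ((z : (P : Subgroup G)) : G) = p := by
    rw [Subgroup.orderOf_coe, Subgroup.orderOf_coe, hz]
  refine ⟨((z : (P : Subgroup G)) : G), hord, fun ω hω => ?_⟩
  have hfix : ∀ ω' : Ω, ((z : (P : Subgroup G)) : G) • ω' = ω' := by
    intro (ω' : Ω)
    obtain ⟨g₁, hg₁, hgω₁⟩ := htrans ω
    obtain ⟨g₂, hg₂, hgω₂⟩ := htrans ω'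
    have hcomm : ∀ g ∈ (P : Subgroup G), ((z : (P : Subgroup G)) : G) * g = g * ((z : (P : Subgroup G)) : G) :=
      fun g hg => congrArg Subtype.val (Subgroup.mem_center_iff.mp z.2 ⟨g, hg⟩).symm
    have e : ω' = (g₂ * g₁⁻¹) • ω := by rw [mul_smul, ← hgω₁, inv_smul_smul, hgω₂]
    rw [e, ← mul_smul, hcomm _ (mul_mem hg₂ (inv_mem hg₁)), mul_smul, hω]
  have : ((z : (P : Subgroup G)) : G) = 1 := FaithfulSMul.eq_of_smul_eq_smul fun a : Ω => by
    rw [hfix a, one_smul]
  rw [this, orderOf_one] at hord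
  exact hp.one_lt.ne hord

end Cfsg.Agent.S5726
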