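import Cfsg.Statements.S5729
import Mathlib

set_option autoImplicit false
open Cfsg

namespace Cfsg.Agent.S5729

/-- Let a finite group G act faithfully and transitively on a set with n ≥ 3 points. Then either G is a Frobenius permutation group (Frobenius as a permutation group: transitive, some non-identity element fixes a point, and no non-identity element fixes two points) of order n(n − 1) and exactly |G|/n of its elements are derangements (fix no point), or the number of derangements is greater than |G|/n. -/
theorem result {G Ω : Type*} [Group G] [Finite G] [MulAction G Ω] [FaithfulSMul G Ω] [Fintype Ω] (htr : MulAction.IsPretransitive G Ω) (hn : 3 ≤ Fintype.card Ω) :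
    ((MulAction.IsPretransitive G Ω ∧ (∃ g : G, g ≠ 1 ∧ ∃ ω : Ω, g • ω = ω) ∧ ∀ g : G, g ≠ 1 → Nat.card (MulAction.fixedBy Ω g) ≤ 1) ∧ Nat.card G = Fintype.card Ω * (Fintype.card Ω - 1) ∧ Fintype.card Ω * Nat.card {g : G // ∀ ω : Ω, g • ω ≠ ω} = Nat.card G) ∨
    Nat.card G < Fintype.card Ω * Nat.card {g : G // ∀ ω : Ω, g • ω ≠ ω} := by
  classical
  letI : Fintype G := Fintype.ofFinite G
  haveI := htr
  set n := Fintype.card Ω with hn'
  set f : G → ℕ := fun g => Fintype.card (MulAction.fixedBy Ω g) with hf
  have hne : Nonempty Ω := Fintype.card_pos_iff.mp (by omega)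
  have hfone : f 1 = n := by
    simp only [f, n]
    exact (set_fintype_card_eq_univ_iff _).mpr (MulAction.fixedBy_one_eq_univ Ω G)
  have hfle : ∀ g, f g ≤ n := fun g => set_fintype_card_le_univ _
  have hflt : ∀ g, g ≠ 1 → f g < n := fun g hg => by
    refine lt_of_le_of_ne (hfle g) fun e => hg (eq_of_smul_eq_smul fun ω : Ω => ?_)
    rw [one_smul]
    have : ω ∈ MulAction.fixedBy Ω g := (set_fintype_card_eq_univ_iff _).mp e ▸ Set.mem_univ ω
    exact this
  have hder : ∀ g, f g = 0 ↔ ∀ ω : Ω, g • ω ≠ ω := fun g => by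
    rw [hf, Fintype.card_eq_zero_iff]
    exact ⟨fun h ω e => h.false ⟨ω, e⟩, fun h => ⟨fun x => h x.1 x.2⟩⟩
  -- orbit counts
  have h1 : ∑ g, f g = Fintype.card G := by
    letI : Fintype (MulAction.orbitRel.Quotient G Ω) := Fintype.ofFinite _
    have h := MulAction.sum_card_fixedBy_eq_card_orbits_mul_card_group G Ω
    haveI : Subsingleton (MulAction.orbitRel.Quotient G Ω) := MulAction.pretransitive_iff_subsingleton_quotient G Ω |>.mp htr
    have e : Fintype.card (MulAction.orbitRel.Quotient G Ω) = 1 :=
      le_antisymm (Fintype.card_le_one_iff_subsingleton.mpr ‹_›) (Fintype.card_pos_iff.mpr ⟨Quotient.mk _ hne.some⟩)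
    rw [e, one_mul] at h
    exact h
  have h2 : 2 * Fintype.card G ≤ ∑ g, f g * f g := by
    letI : Fintype (MulAction.orbitRel.Quotient G (Ω × Ω)) := Fintype.ofFinite _
    have h := MulAction.sum_card_fixedBy_eq_card_orbits_mul_card_group G (Ω × Ω)
    obtain ⟨a, b, hab⟩ := Fintype.exists_pair_of_one_lt_card (show 1 < Fintype.card Ω by omega)
    have e : 2 ≤ Fintype.card (MulAction.orbitRel.Quotient G (Ω × Ω)) :=
      Fintype.one_lt_card_iff.mpr ⟨Quotient.mk _ (a, a), Quotient.mk _ (a, b), fun h => hab (by
        obtain ⟨g, hg⟩ := Quotient.exact h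
        simp only [Prod.smul_mk, Prod.mk.injEq] at hg
        have := hg.1.trans hg.2.symm
        exact MulAction.injective g this)⟩
    calc 2 * Fintype.card G ≤ Fintype.card (MulAction.orbitRel.Quotient G (Ω × Ω)) * Fintype.card G :=
          Nat.mul_le_mul_right _ e
      _ = ∑ g, f g * f g := by
          rw [← h]
          refine Finset.sum_congr rfl fun g _ => ?_
          rw [hf, ← Fintype.card_prod]
          exact Fintype.card_congr
            { toFun := fun x => (⟨x.1.1, congrArg Prod.fst x.2⟩, ⟨x.1.2, congrArg Prod.snd x.2⟩)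
              invFun := fun y => ⟨(y.1.1, y.2.1), Prod.ext y.1.2 y.2.2⟩
              left_inv := fun _ => rfl
              right_inv := fun _ => rfl }
  set D := Finset.univ.filter (fun g : G => f g = 0) with hD
  have hDc : Nat.card {g : G // ∀ ω : Ω, g • ω ≠ ω} = D.card := by
    rw [Nat.card_eq_fintype_card, Fintype.card_subtype, hD]
    exact congrArg Finset.card (Finset.filter_congr fun g _ => (hder g).symm)
  -- the products (f-1)(n-f)
  set t : G → ℤ := fun g => if f g = 0 then 0 else ((f g : ℤ) - 1) * ((n : ℤ) - f g) with ht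
  have ht0 : ∀ g, 0 ≤ t g := fun g => by
    rw [ht]; dsimp only
    split_ifs with h
    · exact le_rfl
    · exact mul_nonneg (by have := Nat.pos_of_ne_zero h; omega) (by have := hfle g; omega)
  have hsum : (∑ g, t g) = (n + 1 : ℤ) * ∑ g, (f g : ℤ) - ∑ g, ((f g * f g : ℕ) : ℤ) -
      (n : ℤ) * Fintype.card G + (n : ℤ) * D.card := by
    have e : ∀ g, t g = (n + 1 : ℤ) * (f g : ℤ) - ((f g * f g : ℕ) : ℤ) - (n : ℤ) * 1 +
        (n : ℤ) * (if f g = 0 then 1 else 0) := fun g => by
      rw [ht]; dsimp only
      push_cast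
      split_ifs with h
      · rw [h]; simp
      · ring
    simp only [e, Finset.sum_add_distrib, Finset.sum_sub_distrib, ← Finset.mul_sum, Finset.sum_boole,
      Finset.sum_const, Finset.card_univ, nsmul_eq_mul, mul_one, hD]
    ring
  have h1' : (∑ g, (f g : ℤ)) = Fintype.card G := by exact_mod_cast h1
  have h2' : 2 * (Fintype.card G : ℤ) ≤ ∑ g, ((f g * f g : ℕ) : ℤ) := by exact_mod_cast h2
  rw [h1'] at hsum
  have hpos := Finset.sum_nonneg fun g (_ : g ∈ Finset.univ) => ht0 g
  rw [hDc, Nat.card_eq_fintype_card]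
  rcases lt_or_ge (Fintype.card G) (n * D.card) with hlt | hge
  · exact Or.inr hlt
  left
  have hge' : (n : ℤ) * D.card ≤ Fintype.card G := by exact_mod_cast hge
  have hzero : ∑ g, t g = 0 := by linarith
  have heq : (n : ℤ) * D.card = Fintype.card G := by linarith
  have hfr : ∀ g, g ≠ 1 → f g ≤ 1 := fun g hg => by
    by_contra h
    push Not at h
    have h0 := (Finset.sum_eq_zero_iff_of_nonneg fun g _ => ht0 g).mp hzero g (Finset.mem_univ g)
    rw [ht] at h0; dsimp only at h0
    rw [if_neg (by omega), mul_eq_zero] at h0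
    have := hflt g hg
    omega
  have hsplit : n + Fintype.card G = Fintype.card G + 1 + D.card := by
    have e : ∀ g, f g + (if f g = 0 then 1 else 0) = if g = 1 then n else 1 := fun g => by
      by_cases hg : g = 1
      · subst hg; rw [if_pos rfl, hfone, if_neg (by omega), add_zero]
      · rw [if_neg hg]
        have := hfr g hg
        split_ifs with h <;> omega
    have h := Finset.sum_congr (s₁ := (Finset.univ : Finset G)) rfl fun g _ => e g
    rw [Finset.sum_add_distrib, h1, Finset.sum_boole, Nat.cast_id, ← hD,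
      ← Finset.add_sum_erase _ _ (Finset.mem_univ (1 : G)), if_pos rfl,
      Finset.sum_congr rfl fun g hg => if_neg (Finset.ne_of_mem_erase hg), Finset.sum_const, smul_eq_mul, mul_one,
      Finset.card_erase_of_mem (Finset.mem_univ _), Finset.card_univ] at h
    have := Fintype.card_pos (α := G)
    omega
  have hDn : D.card = n - 1 := by omega
  have hG : Fintype.card G = n * (n - 1) := by rw [← hDn]; exact_mod_cast heq.symm
  refine ⟨⟨htr, ?_, fun g hg => ?_⟩, hG, by rw [← hDn] at hG; exact hG.symm⟩
  · by_contra hc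
    push Not at hc
    have hD' : D = Finset.univ.erase 1 := by
      ext g
      rw [hD, Finset.mem_filter, Finset.mem_erase, hder]
      constructor
      · rintro ⟨-, h⟩
        exact ⟨fun e => h hne.some (by rw [e, one_smul]), Finset.mem_univ g⟩
      · rintro ⟨h, -⟩
        exact ⟨Finset.mem_univ g, hc g h⟩
    rw [hD', Finset.card_erase_of_mem (Finset.mem_univ _), Finset.card_univ, hG] at hDn
    have : 2 * n ≤ n * (n - 1) := by rw [mul_comm 2]; exact Nat.mul_le_mul_left n (by omega)
    omega
  · rw [Nat.card_eq_fintype_card]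
    exact hfr g hg

end Cfsg.Agent.S5729
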