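import Cfsg.Statements.S5730
import Cfsg.Agent.Derange.TwoTrans

set_option autoImplicit false
open Cfsg Cfsg.Lib.Derange MulAction

namespace Cfsg.Agent.S5730

/-- Let a finite group G act faithfully and transitively on a set with n ≥ 7 points. Then either G is a Frobenius permutation group (Frobenius as a permutation group: transitive, some non-identity element fixes a point, and no non-identity element fixes two points) of order n(n − 1)/a with a ∈ {1, 2}, in which case exactly a|G|/n of its elements are derangements, or the number of derangements is at least 2|G|/n. (Equality does occur: PSL₃(2) acting on the 7 points of the Fano plane has exactly 2|G|/7 derangements.) -/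
theorem result {G Ω : Type*} [Group G] [Finite G] [MulAction G Ω] [FaithfulSMul G Ω] [Fintype Ω] (htr : MulAction.IsPretransitive G Ω) (hn : 7 ≤ Fintype.card Ω) :
    (∃ a : ℕ, (a = 1 ∨ a = 2) ∧ (MulAction.IsPretransitive G Ω ∧ (∃ g : G, g ≠ 1 ∧ ∃ ω : Ω, g • ω = ω) ∧ ∀ g : G, g ≠ 1 → Nat.card (MulAction.fixedBy Ω g) ≤ 1) ∧ a * Nat.card G = Fintype.card Ω * (Fintype.card Ω - 1) ∧ Fintype.card Ω * Nat.card {g : G // ∀ ω : Ω, g • ω ≠ ω} = a * Nat.card G) ∨
    2 * Nat.card G ≤ Fintype.card Ω * Nat.card {g : G // ∀ ω : Ω, g • ω ≠ ω} := by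
  classical
  have : Fintype G := Fintype.ofFinite G
  have : Nontrivial Ω := Fintype.one_lt_card_iff_nontrivial.mp (by omega)
  by_cases h2 : Two G Ω
  swap
  · exact Or.inr (two_mul_le_of_not_two htr h2)
  obtain ⟨a, b, hab⟩ := exists_pair_ne Ω
  rcases Nat.lt_or_ge (Nat.card (st2 a b : Subgroup G)) 2 with h1 | h1
  swap
  · exact Or.inr (two_trans_bound hn h2 hab h1)
  left
  have hone : Nat.card (st2 a b : Subgroup G) = 1 := by
    have : 0 < Nat.card (st2 a b : Subgroup G) := Nat.card_pos
    omega
  have hbot : ∀ x y : Ω, x ≠ y → (st2 x y : Subgroup G) = ⊥ := fun x y hxy =>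
    Subgroup.card_eq_one.mp ((card_st2_eq h2 hab hxy).trans hone)
  have hG : Nat.card G = Fintype.card Ω * (Fintype.card Ω - 1) := by
    rw [card_G_two h2 hab, hone, mul_one]
  refine ⟨1, Or.inl rfl, ⟨htr, ?_, ?_⟩, by rw [one_mul, hG], ?_⟩
  · have hst : 1 < Nat.card (stabilizer G a) := by
      have := card_G_eq htr a
      rw [hG] at this
      have := Nat.eq_of_mul_eq_mul_left (by omega) this
      omega
    haveI := Finite.one_lt_card_iff_nontrivial.mp hst
    obtain ⟨g, hg⟩ := exists_ne (1 : stabilizer G a)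
    exact ⟨g, fun he => hg (Subtype.ext he), a, g.2⟩
  · intro g hg
    rw [Nat.card_eq_fintype_card, Fintype.card_le_one_iff]
    rintro ⟨x, hx⟩ ⟨y, hy⟩
    by_contra hne
    have hxy : x ≠ y := fun he => hne (Subtype.ext he)
    have hmem : g ∈ (st2 x y : Subgroup G) := mem_st2.mpr ⟨hx, hy⟩
    rw [hbot x y hxy] at hmem
    exact hg (Subgroup.mem_bot.mp hmem)
  · have hn1 : 1 ≤ Fintype.card Ω := by omega
    have hrec : recip Ω (st2 a b : Subgroup G) = 1 / (Fintype.card Ω : ℚ) := by
      rw [recip, hbot a b hab, Finset.sum_eq_single_of_mem (1 : G) (by simp)]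
      · rw [fx_one]
      · intro c hc hc'
        simp only [Finset.mem_filter, Finset.mem_univ, true_and, Subgroup.mem_bot] at hc
        exact absurd hc hc'
    have hd := dn_two h2 hab
    rw [hrec] at hd
    have key : ((Fintype.card Ω * dn G Ω : ℕ) : ℚ) = ((1 * Nat.card G : ℕ) : ℚ) := by
      rw [hG]
      push_cast [hn1]
      rw [hd]
      field_simp
    exact_mod_cast key

end Cfsg.Agent.S5730
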