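import Cfsg.Statements.S5742
import Cfsg.Agent.TwFi.Classes
import Cfsg.Agent.FiPres.Aut

set_option autoImplicit false
open Cfsg

namespace Cfsg.Agent.S5742

/-- The simple group ²E₆(2) (the twisted group of type E₆ over the field with 4 elements) contains at least three pairwise non-conjugate subgroups isomorphic to the Fischer group Fi₂₂. -/
theorem result {K : Type*} [Field K] [Fintype K] (hK : Fintype.card K = 4) :
    ∃ H : Fin 3 → Subgroup (Cfsg.Lie.twistedE6 K 2),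
      (∀ i, Cfsg.Spor.IsoFi22 (H i)) ∧
      (∀ i j, i ≠ j → ∀ g : (Cfsg.Lie.twistedE6 K 2), (H i).map (MulAut.conj g).toMonoidHom ≠ H j) := by
  obtain ⟨σ⟩ := Cfsg.Lib.TwFi.exists_hom hK
  exact Cfsg.Lib.TwFi.three_classes hK σ (Cfsg.Lib.TwFi.fiGL σ) (Cfsg.Lib.TwFi.fiGL_injective σ)
    (Cfsg.Lib.TwFi.fiGL_mem σ) (fun k _ h9 => ⟨_, Cfsg.Lib.TwFi.fiGL_im σ h9⟩)
    (Cfsg.Lib.TwFi.sqInner_of_card Cfsg.Lib.FiPres.card_out)

end Cfsg.Agent.S5742
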