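import Cfsg.Statements.S5743
import Cfsg.Agent.Chev.TwF4.Classes
-- import your own Cfsg.Agent.* helpers here

set_option autoImplicit false
open Cfsg

namespace Cfsg.Agent.S5743

/-- The simple group ²E₆(2) (the twisted group of type E₆ over the field with 4 elements) contains at least three pairwise non-conjugate subgroups isomorphic to the Chevalley group F₄(2). -/
theorem result {K : Type*} [Field K] [Fintype K] (hK : Fintype.card K = 4) :
    ∃ H : Fin 3 → Subgroup (Cfsg.Lie.twistedE6 K 2),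
      (∀ i, Nonempty ((H i) ≃* Cfsg.Lie.chevF4.group (ZMod 2))) ∧
      (∀ i j, i ≠ j → ∀ g : (Cfsg.Lie.twistedE6 K 2), (H i).map (MulAut.conj g).toMonoidHom ≠ H j) := by
  haveI : CharP K 2 := by
    obtain ⟨p, hp⟩ := CharP.exists K
    haveI := hp
    obtain ⟨n, hp', hn⟩ := FiniteField.card K p
    have h2 : p ∣ 2 ^ 2 := by
      rw [show (2 : ℕ) ^ 2 = 4 from rfl, ← hK, hn]
      exact dvd_pow_self p n.ne_zero
    obtain rfl : p = 2 := (Nat.prime_dvd_prime_iff_eq hp' Nat.prime_two).1 (hp'.dvd_of_dvd_pow h2)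
    exact hp
  obtain ⟨X, hX⟩ := Cfsg.Lib.Chev.E6.exists_tw (K := K) (q := 2) Nat.prime_two.isPrimePow (by rw [hK]; norm_num)
  have hG := Cfsg.Lib.Chev.E6.G1_eq X
  rw [hX] at hG
  rw [← hG]
  have h3 : Nat.card ↥(Cfsg.Lib.Chev.E6.dCls X).range = 3 := by
    rw [Cfsg.Lib.Chev.E6.card_dCls X, hX]; decide
  haveI : Finite ↥(Cfsg.Lib.Chev.E6.dCls X).range := Nat.finite_of_card_ne_zero (by omega)
  let e : Fin 3 ≃ ↥(Cfsg.Lib.Chev.E6.dCls X).range :=
    (Finite.equivFinOfCardEq h3).symm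
  choose c hc using fun i => (e i).2
  refine ⟨fun i => (Cfsg.Lib.TwF4.H0 X).map (X.dAut Cfsg.Lib.Chev.E6.okc (c i)).toMonoidHom, fun i => ?_,
    fun i j hij g he => hij (e.injective (Subtype.ext ?_))⟩
  · obtain ⟨ψ⟩ := Cfsg.Lib.TwF4.H0_equiv X
    exact ⟨((Cfsg.Lib.TwF4.H0 X).equivMapOfInjective _
      (X.dAut Cfsg.Lib.Chev.E6.okc (c i)).injective).symm.trans ψ⟩
  · rw [← hc i, ← hc j]
    exact Cfsg.Lib.TwF4.dCls_eq X hK he

end Cfsg.Agent.S5743
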