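import Cfsg.Statements.S5744
import Cfsg.Agent.TwFi.Classes
import Cfsg.Agent.FiPres.OrthImage
import Cfsg.Agent.S2604

set_option autoImplicit false
open Cfsg

namespace Cfsg.Agent.S5744

/-- The simple group ²E₆(2) (the twisted group of type E₆ over the field with 4 elements) contains at least three pairwise non-conjugate subgroups isomorphic to the orthogonal group Ω₇(3) (the commutator subgroup of the isometry group of x₀² + x₁y₁ + x₂y₂ + x₃y₃ over the field with 3 elements). -/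
theorem result {K : Type*} [Field K] [Fintype K] (hK : Fintype.card K = 4) :
    ∃ H : Fin 3 → Subgroup (Cfsg.Lie.twistedE6 K 2),
      (∀ i, Nonempty ((H i) ≃* Cfsg.Omega (ZMod 3) (Cfsg.quadFormOdd 3 (ZMod 3)))) ∧
      (∀ i j, i ≠ j → ∀ g : (Cfsg.Lie.twistedE6 K 2), (H i).map (MulAut.conj g).toMonoidHom ≠ H j) := by
  obtain ⟨σ⟩ := Cfsg.Lib.TwFi.exists_hom hK
  let L : List ℕ := [1, 2, 3, 4, 5, 6, 7, 8]
  have hO : Nonempty (Cfsg.Lib.CosetCert.lgp Cfsg.Lib.FiPres.im10 L ≃*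
      Cfsg.Omega (ZMod 3) (Cfsg.quadFormOdd 3 (ZMod 3))) := by
    rw [← Cfsg.Lib.FiPres.Qf_coe]
    exact ⟨(MulEquiv.ofBijective _ Cfsg.Lib.FiPres.toK_bijective).symm.trans
      (MulEquiv.ofBijective _ Cfsg.Lib.FiPres.toOm_bijective)⟩
  obtain ⟨eO⟩ := hO
  obtain ⟨eP⟩ : Nonempty (Cfsg.Lib.CosetCert.lgp Cfsg.Lib.FiPres.im10 L ≃*
      Cfsg.POmega (ZMod 3) (Cfsg.quadFormOdd 3 (ZMod 3))) := Cfsg.Lib.FiPres.iso_k
  have hout : Nat.card (Cfsg.Out (Cfsg.POmega (ZMod 3) (Cfsg.quadFormOdd 3 (ZMod 3)))) = 2 := by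
    haveI : Fact (Nat.Prime 3) := ⟨Nat.prime_three⟩
    obtain ⟨e⟩ := Cfsg.Agent.S2604.result (F := ZMod 3) (p := 3) (f := 1) (m := 3) le_rfl (by simp) (by norm_num) le_rfl
    rw [Nat.card_congr e.toEquiv, Nat.card_congr Multiplicative.toAdd, Nat.card_prod, Nat.card_zmod, Nat.card_zmod]
  obtain ⟨H, hH, hne⟩ := Cfsg.Lib.TwFi.three_classes hK σ
    ((Cfsg.Lib.TwFi.fiGL σ).comp (Cfsg.Lib.CosetCert.lgp Cfsg.Lib.FiPres.im10 L).subtype)
    ((Cfsg.Lib.TwFi.fiGL_injective σ).comp Subtype.val_injective)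
    (fun x => Cfsg.Lib.TwFi.fiGL_mem σ _)
    (fun k h1 h9 => ⟨⟨Cfsg.Lib.FiPres.im10 k, Cfsg.Lib.CosetCert.lgp_mem Cfsg.Lib.FiPres.im10
      (show k ∈ L by simp only [L, List.mem_cons, List.mem_nil_iff, or_false]; omega)⟩,
      (congrArg _ (Cfsg.Lib.FiPres.im10_low h9)).trans (Cfsg.Lib.TwFi.fiGL_im σ h9)⟩)
    ((Cfsg.Lib.TwFi.sqInner_of_card hout).of_equiv eP)
  exact ⟨H, fun i => (hH i).map fun e => e.trans eO, hne⟩

end Cfsg.Agent.S5744
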