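import Cfsg.Statements.S5746
import Cfsg.Agent.SuzPres.JTwoIso
import Cfsg.Agent.SuzPres.JTwoLocal

set_option autoImplicit false
open Cfsg

namespace Cfsg.Agent.S5746

/-- The Chevalley group G₂(4) (over the field with 4 elements) has a maximal subgroup H isomorphic to the Hall–Janko group J₂ such that for every x outside H the intersection H ∩ xHx⁻¹ is a maximal subgroup of H; that is, the action of G₂(4) on the cosets of H is extremely primitive. -/
theorem result {F : Type*} [Field F] [Fintype F] (hF : Fintype.card F = 4) :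
    ∃ H : Subgroup (Cfsg.Lie.chevG2.group F), IsCoatom H ∧ Cfsg.Spor.IsoJ2 H ∧
      ∀ x : Cfsg.Lie.chevG2.group F, x ∉ H → IsCoatom ((H ⊓ H.map (MulAut.conj x).toMonoidHom).subgroupOf H) := by
  let e : Cfsg.Lib.PrimeGraph.KQuad ≃+* F := FiniteField.ringEquivOfCardEq (Cfsg.Lib.PrimeGraph.KQuad.card_eq.trans hF.symm)
  let i : ↥(Cfsg.Lib.SuzPres.first 6) ≃* ↥(Cfsg.Lie.chevG2.group F) := Cfsg.Lib.SuzPres.sixIso.trans
    ((Subgroup.equivMapOfInjective _ (Matrix.GeneralLinearGroup.map (n := Cfsg.Lie.chevG2.Idx) e.toRingHom) (fun a b h =>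
      Units.ext (Matrix.map_injective (f := e.toRingHom) e.injective (congrArg Units.val h)))).trans
      (MulEquiv.subgroupCongr (Cfsg.Lib.Chev.Ok.map_group Cfsg.Lib.Chev.G2.ok e)))
  set A := (Cfsg.Lib.SuzPres.first 5).subgroupOf (Cfsg.Lib.SuzPres.first 6) with hA
  refine ⟨A.map i.toMonoidHom, (i.mapSubgroup.isCoatom_iff A).2 Cfsg.Lib.SuzPres.JTwo.maximal_five, ?_, fun y hy => ?_⟩
  · obtain ⟨j⟩ := Cfsg.Lib.SuzPres.JTwo.first_five_iso
    exact ⟨((A.equivMapOfInjective i.toMonoidHom i.injective).symm.trans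
      (Subgroup.subgroupOfEquivOfLe Cfsg.Lib.SuzPres.JTwo.five_le_six)).trans j⟩
  obtain ⟨x, rfl⟩ := i.surjective y
  have hx : x ∉ A := fun h => hy ⟨x, h, rfl⟩
  let f := A.equivMapOfInjective i.toMonoidHom i.injective
  have h1 : A.map i.toMonoidHom ⊓ (A.map i.toMonoidHom).map (MulAut.conj (i x)).toMonoidHom =
      (A ⊓ A.map (MulAut.conj x).toMonoidHom).map i.toMonoidHom := by
    rw [Subgroup.map_inf _ _ _ i.injective, Subgroup.map_map, Subgroup.map_map]
    congr 2
    exact MonoidHom.ext fun z => by simp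
  have h2 : ((A ⊓ A.map (MulAut.conj x).toMonoidHom).map i.toMonoidHom).subgroupOf (A.map i.toMonoidHom) =
      ((A ⊓ A.map (MulAut.conj x).toMonoidHom).subgroupOf A).map f.toMonoidHom := by
    ext w
    obtain ⟨z, rfl⟩ := f.surjective w
    rw [Subgroup.mem_map_equiv, f.symm_apply_apply, Subgroup.mem_subgroupOf, Subgroup.mem_subgroupOf]
    exact Subgroup.mem_map_iff_mem i.injective
  rw [h1, h2]
  exact (f.mapSubgroup.isCoatom_iff _).2 (Cfsg.Lib.SuzPres.JTwo.intersection_maximal x hx)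

end Cfsg.Agent.S5746
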