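import Cfsg.Statements.S5747
import Mathlib
import Cfsg.Agent.Classical.Misc.Ibis

set_option autoImplicit false
open Cfsg

namespace Cfsg.Agent.S5747

/-- Let a finite group G act on a finite set Ω. An irredundant base is a sequence of points ω₁, …, ω_t whose pointwise stabiliser is trivial and in which each ω_i is moved by some element fixing ω₁, …, ω_{i−1}. Then all irredundant bases have the same length if and only if every reordering of an irredundant base is again an irredundant base. -/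
theorem result {G Ω : Type*} [Group G] [Finite G] [MulAction G Ω] [Fintype Ω] :
    (∀ (t t' : ℕ) (f : Fin t → Ω) (f' : Fin t' → Ω), ((∀ g : G, (∀ i : Fin t, g • f i = f i) → g = 1) ∧ ∀ i : Fin t, ∃ g : G, (∀ j : Fin t, j < i → g • f j = f j) ∧ g • f i ≠ f i) → ((∀ g : G, (∀ i : Fin t', g • f' i = f' i) → g = 1) ∧ ∀ i : Fin t', ∃ g : G, (∀ j : Fin t', j < i → g • f' j = f' j) ∧ g • f' i ≠ f' i) → t = t') ↔
    (∀ (t : ℕ) (f : Fin t → Ω) (σ : Equiv.Perm (Fin t)), ((∀ g : G, (∀ i : Fin t, g • f i = f i) → g = 1) ∧ ∀ i : Fin t, ∃ g : G, (∀ j : Fin t, j < i → g • f j = f j) ∧ g • f i ≠ f i) → ((∀ g : G, (∀ i : Fin t, g • (f ∘ σ) i = (f ∘ σ) i) → g = 1) ∧ ∀ i : Fin t, ∃ g : G, (∀ j : Fin t, j < i → g • (f ∘ σ) j = (f ∘ σ) j) ∧ g • (f ∘ σ) i ≠ (f ∘ σ) i)) := by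
  have h := Cfsg.Lib.Classical.Ibis.ibis_iff (G := G) (Ω := Ω)
  simp only [Cfsg.Lib.Classical.Ibis.Reorder, Cfsg.Lib.Classical.Ibis.IsBase, Cfsg.Lib.Classical.Ibis.IsIrr,
    Subgroup.mem_top, true_and, forall_true_left] at h
  constructor
  · intro hl t f σ hf
    exact ⟨fun g hg => hf.1 g fun i => by simpa using hg (σ.symm i), h.mp hl t f σ hf.1 hf.2⟩
  · intro hr
    exact h.mpr fun t f σ hb hi => (hr t f σ ⟨hb, hi⟩).2

end Cfsg.Agent.S5747
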