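import Cfsg.Statements.S5751
import Cfsg.Agent.Chev.CoreChainE8Main
-- import your own Cfsg.Agent.* helpers here

set_option autoImplicit false
open Cfsg

namespace Cfsg.Agent.S5751

/-- An extremal example for iterated cores of conjugate maximal subgroups: there exist a finite group G and two distinct conjugate maximal subgroups M₁, M₂ of G, with M₁ having trivial core in G, such that, if we define two descending sequences of subgroups by A₀ = M₁, B₀ = M₂ and, for every i, A_{i+1} = the core in M₁ of A_i ∩ B_i and B_{i+1} = the core in M₂ of A_i ∩ B_i (the core in M of a subgroup Y ≤ M is the largest normal subgroup of M contained in Y), the subgroup A₆ is trivial while A₅ is not (so the index 6 cannot be lowered to 5). (One example is a maximal parabolic subgroup of the Chevalley group of type E₈ over a finite field and a suitable conjugate of it.) -/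
theorem result :
    ∃ (G : Type) (_ : Group G) (_ : Finite G) (M₁ M₂ : Subgroup G) (g : G) (A B : ℕ → Subgroup G),
      IsCoatom M₁ ∧ M₂ = M₁.map (MulAut.conj g).toMonoidHom ∧ M₁ ≠ M₂ ∧ M₁.normalCore = ⊥ ∧ A 0 = M₁ ∧ B 0 = M₂ ∧
      (∀ i, A (i + 1) = ((A i ⊓ B i).subgroupOf M₁).normalCore.map M₁.subtype) ∧
      (∀ i, B (i + 1) = ((A i ⊓ B i).subgroupOf M₂).normalCore.map M₂.subtype) ∧ A 6 = ⊥ ∧ A 5 ≠ ⊥ := by
  classical
  open Cfsg.Lib.Chev.E8Core in
  refine ⟨G8, inferInstance, inferInstance, M1, M1.map (MulAut.conj g8).toMonoidHom, g8,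
    fun i => (seq M1 (M1.map (MulAut.conj g8).toMonoidHom) i).1,
    fun i => (seq M1 (M1.map (MulAut.conj g8).toMonoidHom) i).2,
    isCoatom_M1, rfl, ?_, ?_, rfl, rfl, fun i => rfl, fun i => rfl, seqA_six, seqA_five⟩
  · intro h
    have hfix : ∀ i x, x ∈ Cfsg.Lib.Chev.E8Core.M1 → x ∈ Cfsg.Lib.Chev.E8Core.seqA
        Cfsg.Lib.Chev.E8Core.M1 Cfsg.Lib.Chev.E8Core.g8 i := by
      intro i
      induction i with
      | zero => exact fun x hx => hx
      | succ i ih =>
        intro x hx
        refine (Cfsg.Lib.Chev.E8Core.mem_seqA_succ _ _ Cfsg.Lib.Chev.E8Core.g8_sq).2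
          ⟨hx, fun p hp => ?_⟩
        have hx' := mul_mem (mul_mem hp hx) (inv_mem hp)
        refine ⟨ih _ hx', ih _ ?_⟩
        rw [h] at hx'
        obtain ⟨y, hy, e⟩ := hx'
        rw [← e]
        simpa [mul_assoc] using hy
    apply Cfsg.Lib.Chev.E8Core.seqA_five
    refine eq_bot_iff.2 fun x hx => ?_
    rw [← Cfsg.Lib.Chev.E8Core.seqA_six]
    exact hfix 6 x ((Cfsg.Lib.Chev.E8Core.seq_spec _ _ Cfsg.Lib.Chev.E8Core.g8_sq 5).1 hx)
  · refine eq_bot_iff.2 fun x hx => ?_
    rw [← Cfsg.Lib.Chev.E8Core.seqA_six]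
    have hcore : ∀ i, ∀ y ∈ Cfsg.Lib.Chev.E8Core.M1.normalCore, y ∈ Cfsg.Lib.Chev.E8Core.seqA
        Cfsg.Lib.Chev.E8Core.M1 Cfsg.Lib.Chev.E8Core.g8 i := by
      intro i
      induction i with
      | zero => exact fun y hy => Subgroup.normalCore_le _ hy
      | succ i ih =>
        intro y hy
        refine (Cfsg.Lib.Chev.E8Core.mem_seqA_succ _ _ Cfsg.Lib.Chev.E8Core.g8_sq).2
          ⟨Subgroup.normalCore_le _ hy, fun p hp => ?_⟩
        have h1 := (Subgroup.normalCore_normal _).conj_mem y hy p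
        have h2 := (Subgroup.normalCore_normal _).conj_mem _ h1 Cfsg.Lib.Chev.E8Core.g8⁻¹
        rw [inv_inv] at h2
        exact ⟨ih _ h1, ih _ h2⟩
    exact hcore 6 x hx

end Cfsg.Agent.S5751
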