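import Cfsg.Statements.S5752
import Cfsg.Agent.Components.Misc.ThompsonWielandt

set_option autoImplicit false
set_option linter.style.haveILetI false
open Cfsg

namespace Cfsg.Agent.S5752

/-- A form of the Thompson–Wielandt Theorem on primitive permutation groups. Let G be a finite group and M₁, M₂ two distinct conjugate maximal subgroups of G with trivial core in G; define two descending sequences of subgroups by A₀ = M₁, B₀ = M₂ and, for every i, A_{i+1} = the core in M₁ of A_i ∩ B_i and B_{i+1} = the core in M₂ of A_i ∩ B_i (the core in M of a subgroup Y ≤ M is the largest normal subgroup of M contained in Y). If A₂ and B₂ are both non-trivial, then for some prime p the subgroup generated by A₂ and B₂ is a p-group, and for each j the generalized Fitting subgroups of M_j and of its first core (A₁, resp. B₁) are their largest normal p-subgroups. -/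
theorem result {G : Type*} [Group G] [Finite G] (M₁ M₂ : Subgroup G) (hmax : IsCoatom M₁) (g : G)
    (hconj : M₂ = M₁.map (MulAut.conj g).toMonoidHom) (hne : M₁ ≠ M₂) (hcore : M₁.normalCore = ⊥)
    (A B : ℕ → Subgroup G) (hA0 : A 0 = M₁) (hB0 : B 0 = M₂)
    (hA : ∀ i, A (i + 1) = ((A i ⊓ B i).subgroupOf M₁).normalCore.map M₁.subtype)
    (hB : ∀ i, B (i + 1) = ((A i ⊓ B i).subgroupOf M₂).normalCore.map M₂.subtype) (hA2 : A 2 ≠ ⊥) (hB2 : B 2 ≠ ⊥) :
    ∃ p : ℕ, p.Prime ∧ IsPGroup p ↥(A 2 ⊔ B 2) ∧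
      Cfsg.generalizedFittingSubgroup ↥M₁ = Cfsg.pCore p ↥M₁ ∧ Cfsg.generalizedFittingSubgroup ↥(A 1) = Cfsg.pCore p ↥(A 1) ∧
      Cfsg.generalizedFittingSubgroup ↥M₂ = Cfsg.pCore p ↥M₂ ∧ Cfsg.generalizedFittingSubgroup ↥(B 1) = Cfsg.pCore p ↥(B 1) := by
  classical
  have hM2co : IsCoatom M₂ ∧ M₂.normalCore = ⊥ := by
    set e : G ≃* G := MulAut.conj g
    have himg : M₂ = M₁.map e.toMonoidHom := hconj
    constructor
    · rw [himg]
      exact (e.mapSubgroup.isCoatom_iff M₁).mpr hmax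
    · rw [eq_bot_iff]
      intro x hx
      have hx' : g⁻¹ * x * g ∈ M₁.normalCore := fun h => by
        have := hx (g * h * g⁻¹)
        rw [himg] at this
        obtain ⟨y, hy, hyx⟩ := this
        have he : y = h * (g⁻¹ * x * g) * h⁻¹ := by
          have hy' : g * y * g⁻¹ = g * h * g⁻¹ * x * (g * h * g⁻¹)⁻¹ := hyx
          calc y = g⁻¹ * (g * y * g⁻¹) * g := by group
            _ = _ := by rw [hy']; group
        rw [← he]; exact hy
      rw [hcore, Subgroup.mem_bot] at hx'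
      rw [Subgroup.mem_bot]
      calc x = g * (g⁻¹ * x * g) * g⁻¹ := by group
        _ = 1 := by rw [hx']; group
  have hnorm : ∀ M : Subgroup G, IsCoatom M → M.normalCore = ⊥ → ∀ X : Subgroup G, X ≠ ⊥ → X ≤ M →
      M ≤ Subgroup.normalizer (X : Set G) → Subgroup.normalizer (X : Set G) = M := by
    intro M hM hMc X hX hXM hn
    rcases hM.le_iff.mp hn with h | h
    · haveI : X.Normal := Subgroup.normalizer_eq_top_iff.mp h
      exact absurd (le_bot_iff.mp (hMc ▸ Subgroup.normal_le_normalCore.mpr hXM)) hX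
    · exact h
  have S : Cfsg.Lib.ThompsonWielandt.Setting M₁ M₂ :=
    ⟨hnorm M₁ hmax hcore, hnorm M₂ hM2co.1 hM2co.2, ⟨g, hconj⟩, hne⟩
  have hA1 : A 1 = Cfsg.Lib.ThompsonWielandt.firstCore M₁ M₂ := by rw [hA 0, hA0, hB0]; rfl
  have hB1 : B 1 = Cfsg.Lib.ThompsonWielandt.firstCore M₂ M₁ := by
    rw [hB 0, hA0, hB0, inf_comm]; rfl
  have eA : A 2 = Cfsg.Lib.ThompsonWielandt.secondCore M₁ M₂ := by rw [hA 1, hA1, hB1]; rfl
  have eB : B 2 = Cfsg.Lib.ThompsonWielandt.secondCore M₂ M₁ := by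
    rw [hB 1, hA1, hB1, inf_comm]; rfl
  rw [eA] at hA2
  rw [eB] at hB2
  obtain ⟨p, hp, hPA, hPB, hF1, hF2⟩ := S.main hA2 hB2
  haveI := Fact.mk hp
  refine ⟨p, hp, ?_, hF1, ?_, hF2, ?_⟩
  · rw [eA, eB]
    exact hPA.to_sup_of_normal_left' hPB ((Cfsg.Lib.ThompsonWielandt.secondCore_symm_le.trans
      (Cfsg.Lib.ThompsonWielandt.kern_le_left _ _)).trans (Cfsg.Lib.ThompsonWielandt.le_normalizer_kern _ _))
  all_goals
    refine Cfsg.Lib.Components.charP_iff_genFitting.mp ?_
  · rw [hA1]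
    refine Cfsg.Lib.Components.charP_congr (Subgroup.subgroupOfEquivOfLe
      (Cfsg.Lib.ThompsonWielandt.kern_le_left _ _)) ?_
    exact Cfsg.Lib.Components.charP_subnormal (Cfsg.Lib.Components.charP_iff_genFitting.mpr hF1)
      (Subgroup.normal_subgroupOf_of_le_normalizer (Cfsg.Lib.ThompsonWielandt.le_normalizer_kern _ _)).isSubnormal
  · rw [hB1]
    refine Cfsg.Lib.Components.charP_congr (Subgroup.subgroupOfEquivOfLe
      (Cfsg.Lib.ThompsonWielandt.kern_le_left _ _)) ?_
    exact Cfsg.Lib.Components.charP_subnormal (Cfsg.Lib.Components.charP_iff_genFitting.mpr hF2)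
      (Subgroup.normal_subgroupOf_of_le_normalizer (Cfsg.Lib.ThompsonWielandt.le_normalizer_kern _ _)).isSubnormal

end Cfsg.Agent.S5752
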