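import Cfsg.Statements.S5754
import Mathlib

set_option autoImplicit false
open Cfsg

namespace Cfsg.Agent.S5754

open QuadraticMap in
/-- Move one further vector by a reflection. -/
theorem exists_move {F V : Type*} [Field F] [AddCommGroup V] [Module F V] (Q : QuadraticForm F V)
    (hQ : Q.Anisotropic) (a b : V) (h : Q a = Q b) :
    ∃ r : Q.IsometryEquiv Q, r a = b ∧ ∀ w, Q (w - a) = Q (w - b) → r w = w := by
  by_cases hab : a = b
  · exact ⟨QuadraticMap.IsometryEquiv.refl Q, hab, fun w _ => rfl⟩
  set v := a - b with hv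
  have hv0 : Q v ≠ 0 := fun h0 => hab (sub_eq_zero.mp (hQ v h0))
  set f : V →ₗ[F] F := -(Q v)⁻¹ • (Q.polarBilin.flip v) with hf
  have hfx : ∀ x, f x = -((Q v)⁻¹ * polar Q x v) := fun x => by simp [hf]
  have hvv : f v = -2 := by
    rw [hfx, QuadraticMap.polar_self, two_nsmul]
    field_simp
    ring
  let r : V ≃ₗ[F] V := Module.reflection (f := -f) (x := v) (by simp [hvv])
  have hr : ∀ x, r x = x - ((Q v)⁻¹ * polar Q x v) • v := fun x => by
    simp [r, Module.reflection_apply, hfx]
  have hiso : ∀ x, Q (r x) = Q x := fun x => by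
    rw [hr, sub_eq_add_neg, ← neg_smul, QuadraticMap.map_add (⇑Q), QuadraticMap.map_smul,
      QuadraticMap.polar_smul_right, smul_eq_mul, smul_eq_mul]
    field_simp
    ring
  refine ⟨⟨r, hiso⟩, ?_, fun w hw => ?_⟩
  · change r a = b
    have : polar Q a v = Q v := by
      have e1 := QuadraticMap.map_add (⇑Q) a (-v)
      rw [Q.map_neg, QuadraticMap.polar_neg_right, ← sub_eq_add_neg, hv, sub_sub_cancel] at e1
      linear_combination e1 + h
    rw [hr, this, inv_mul_cancel₀ hv0, one_smul, hv, sub_sub_cancel]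
  · change r w = w
    have : polar Q w v = 0 := by
      have e1 := QuadraticMap.map_add (⇑Q) w (-a)
      have e2 := QuadraticMap.map_add (⇑Q) w (-b)
      rw [Q.map_neg, QuadraticMap.polar_neg_right, ← sub_eq_add_neg] at e1 e2
      rw [hv, QuadraticMap.polar_sub_right]
      linear_combination e1 - e2 - hw + h
    rw [hr, this, mul_zero, zero_smul, sub_zero]

theorem exists_all {F V : Type*} [Field F] [AddCommGroup V] [Module F V] (Q : QuadraticForm F V)
    (hQ : Q.Anisotropic) {ι : Type*} [DecidableEq ι] (z z' : ι → V) (h0 : ∀ i, Q (z i) = Q (z' i))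
    (h : ∀ i j, Q (z i - z j) = Q (z' i - z' j)) (s : Finset ι) :
    ∃ φ : Q.IsometryEquiv Q, ∀ i ∈ s, φ (z i) = z' i := by
  induction s using Finset.induction with
  | empty => exact ⟨QuadraticMap.IsometryEquiv.refl Q, fun i hi => absurd hi (Finset.notMem_empty i)⟩
  | insert i s hi ih =>
    obtain ⟨φ, hφ⟩ := ih
    obtain ⟨r, hr, hfix⟩ := exists_move Q hQ (φ (z i)) (z' i) (by rw [φ.map_app, h0])
    refine ⟨φ.trans r, fun j hj => ?_⟩
    change r (φ (z j)) = z' j
    rcases Finset.mem_insert.mp hj with rfl | hj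
    · exact hr
    rw [hfix _ ?_, hφ j hj]
    calc Q (φ (z j) - φ (z i)) = Q (z j - z i) := by rw [← φ.map_app (z j - z i)]; congr 1; exact (map_sub φ.toLinearEquiv _ _).symm
      _ = Q (φ (z j) - z' i) := by rw [hφ j hj, h]

/-- Let V be a finite-dimensional vector space over a finite field F carrying an anisotropic quadratic form Q (Q(v) = 0 only for v = 0). Then the group of all maps v ↦ φ(v) + c, with φ an isometry of Q and c ∈ V, acts on V as a binary permutation group: given n ≥ 2 and two n-tuples u, u' of vectors such that every pair of corresponding entries of u is carried to that of u' by such a map, one such map carries u to u'. -/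
theorem result {F V : Type*} [Field F] [Finite F] [AddCommGroup V] [Module F V] [Module.Finite F V]
    (Q : QuadraticForm F V) (hQ : Q.Anisotropic) (n : ℕ) (hn : 2 ≤ n) (u u' : Fin n → V)
    (h2 : ∀ i j : Fin n, i ≠ j → ∃ (φ : Q.IsometryEquiv Q) (c : V), φ (u i) + c = u' i ∧ φ (u j) + c = u' j) :
    ∃ (φ : Q.IsometryEquiv Q) (c : V), ∀ i, φ (u i) + c = u' i := by
  classical
  let o : Fin n := ⟨0, by omega⟩
  have key : ∀ i j, Q (u i - u j) = Q (u' i - u' j) := by
    intro i j
    by_cases hij : i = j
    · subst hij; rw [sub_self, sub_self]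
    obtain ⟨φ, c, hi, hj⟩ := h2 i j hij
    rw [← hi, ← hj, add_sub_add_right_eq_sub, ← φ.map_app (u i - u j)]
    congr 1
    exact map_sub φ.toLinearEquiv _ _
  obtain ⟨φ, hφ⟩ := exists_all Q hQ (fun i => u i - u o) (fun i => u' i - u' o) (fun i => key i o)
    (fun i j => by rw [sub_sub_sub_cancel_right, sub_sub_sub_cancel_right, key]) Finset.univ
  refine ⟨φ, u' o - φ (u o), fun i => ?_⟩
  have := hφ i (Finset.mem_univ i)
  change φ.toLinearEquiv (u i - u o) = _ at this
  rw [map_sub] at this
  change φ (u i) - φ (u o) = _ at this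
  rw [add_sub, sub_eq_iff_eq_add]
  linear_combination (norm := abel) this

end Cfsg.Agent.S5754
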