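import Cfsg.Statements.S5776
import Cfsg.Agent.MitchellThree.Residual.Outcome
import Cfsg.Agent.MitchellThree.Residual.ElationCase
import Cfsg.Agent.MitchellThree.Residual.Even.Main

set_option autoImplicit false
open Cfsg
open scoped Matrix

namespace Cfsg.Agent.S5776

/-- The maximal subgroups of SL_3(q) in the residual class. Let F be a finite field with q elements of characteristic p, and let H be a maximal subgroup of SL_3(F) lying in the residual class of the linear case. Then the perfect socle preimage P of H (the subgroup given by the residual-class conditions) satisfies one of: P modulo scalars is isomorphic to the simple group of order 168 (written here as PSL_3(2)) and q = p with p ≠ 2 and p ≡ 1, 2 or 4 mod 7; or P modulo scalars is isomorphic to the alternating group A_6 and either q = p with p ≡ 1 or 4 mod 15, or q = p² with p ≡ 2 or 3 mod 5 and p ≠ 3. -/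
theorem result {F : Type*} [Field F] [Fintype F] (H : Subgroup (Matrix.GeneralLinearGroup (Fin 3) F)) (hH : Cfsg.Geo.IsMaximalIn (Cfsg.Geo.specialLinear (Fin 3) F) H) (hS : Cfsg.Geo.InLinearResidualClass H) :
    ∃ (P : Subgroup (Matrix.GeneralLinearGroup (Fin 3) F)) (p : ℕ), Cfsg.Geo.IsResidualCore H P ∧ p.Prime ∧ CharP F p ∧
    ((Nonempty ((P ⧸ (Cfsg.Geo.scalars (Fin 3) F).subgroupOf P) ≃* Matrix.ProjectiveSpecialLinearGroup (Fin 3) (ZMod 2)) ∧
        Fintype.card F = p ∧ p ≠ 2 ∧ (p % 7 = 1 ∨ p % 7 = 2 ∨ p % 7 = 4)) ∨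
     (Nonempty ((P ⧸ (Cfsg.Geo.scalars (Fin 3) F).subgroupOf P) ≃* alternatingGroup (Fin 6)) ∧
        ((Fintype.card F = p ∧ (p % 15 = 1 ∨ p % 15 = 4)) ∨ (Fintype.card F = p ^ 2 ∧ p ≠ 3 ∧ (p % 5 = 2 ∨ p % 5 = 3))))) := by
  classical
  obtain ⟨P, hP, hQ, -, hnu⟩ := hS
  have C := Cfsg.Lib.MitchellThree.Residual.core_of_residual hP
  have hnr := C.not_real_of_no_quad hQ
  obtain ⟨p, hp⟩ := CharP.exists F
  haveI : Fact p.Prime := ⟨CharP.char_is_prime F p⟩
  have key : (P = Cfsg.Geo.specialLinear (Fin 3) F ∨ ∃ (Q : GL (Fin 3) F) (m : ℕ), Fintype.card F = m ^ 2 ∧ 2 ≤ m ∧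
        Cfsg.Lib.MitchellThree.Elation.conjG Q P = Cfsg.GU 3 F m ⊓ Cfsg.Geo.specialLinear (Fin 3) F) ∨
      Cfsg.Lib.MitchellThree.Residual.OddTypes p P := by
    by_cases hp2 : p = 2
    · subst hp2
      exact C.transvection_or_small_two
    · rcases C.transvection_or_small hp2 with ⟨x, φ, hx, hφ, h⟩ | h
      · exact Or.inl (C.of_transvection (Ring.two_ne_zero (by rw [ringChar.eq F p]; exact hp2)) hx hφ h)
      · exact Or.inr h
  rcases key with (e | ⟨Q, m, hm, -, e⟩) | hT
  · exact absurd (e ▸ hP.le) (not_le_of_gt hH.1)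
  · refine absurd ⟨RingEquiv.ofBijective (Cfsg.Lib.Classical.powConj hm)
      (Finite.injective_iff_bijective.1 (Cfsg.Lib.Classical.powConj hm).injective),
      fun v w => Cfsg.hermForm 3 F m ((Q : Matrix (Fin 3) (Fin 3) F) *ᵥ v) ((Q : Matrix (Fin 3) (Fin 3) F) *ᵥ w),
      ?_, ?_⟩ hnu
    · obtain ⟨hinv, a, ha⟩ := Cfsg.Lib.Classical.powConj_isConj hm
      constructor
      · exact fun h => ha (RingEquiv.congr_fun h a)
      · exact hinv
      · intro x y v
        simp [Matrix.mulVec_add, ← Cfsg.Lib.Classical.stdHerm_h hm, (Cfsg.Lib.Classical.stdHerm 3 hm).add_left]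
      · intro c x v
        simp [Matrix.mulVec_smul, ← Cfsg.Lib.Classical.stdHerm_h hm, (Cfsg.Lib.Classical.stdHerm 3 hm).smul_left]
      · intro v w
        simp only [← Cfsg.Lib.Classical.stdHerm_h hm]
        exact (Cfsg.Lib.Classical.stdHerm 3 hm).symm _ _
      · intro v hv
        have hsurj : ∀ z, ∃ w, (Q : Matrix (Fin 3) (Fin 3) F) *ᵥ w = z := fun z => ⟨((Q⁻¹ : GL (Fin 3) F) : Matrix (Fin 3) (Fin 3) F) *ᵥ z, by
          rw [Matrix.mulVec_mulVec, Units.mul_inv, Matrix.one_mulVec]⟩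
        have hne : (Q : Matrix (Fin 3) (Fin 3) F) *ᵥ v ≠ 0 := fun h => hv (by
          have := congrArg (((Q⁻¹ : GL (Fin 3) F) : Matrix (Fin 3) (Fin 3) F) *ᵥ ·) h
          simpa [Matrix.mulVec_mulVec] using this)
        constructor
        · by_contra! h
          refine hne ((Cfsg.Lib.Classical.stdHerm 3 hm).nondeg _ fun z => ?_)
          obtain ⟨w, rfl⟩ := hsurj z
          rw [Cfsg.Lib.Classical.stdHerm_h]
          exact h w
        · by_contra! h
          refine hne ((Cfsg.Lib.Classical.stdHerm 3 hm).nondeg _ fun z => ?_)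
          obtain ⟨w, rfl⟩ := hsurj z
          rw [(Cfsg.Lib.Classical.stdHerm 3 hm).symm, Cfsg.Lib.Classical.stdHerm_h, h w, map_zero]
    · rintro _ ⟨g, hg, rfl⟩ u v
      have hmem : Q * g * Q⁻¹ ∈ Cfsg.Lib.MitchellThree.Elation.conjG Q P := ⟨g, hg, rfl⟩
      rw [e] at hmem
      have := hmem.1 ((Q : Matrix (Fin 3) (Fin 3) F) *ᵥ u) ((Q : Matrix (Fin 3) (Fin 3) F) *ᵥ v)
      simpa [Matrix.mulVec_mulVec, mul_assoc] using this
  · refine ⟨P, p, hP, Fact.out, hp, ?_⟩
    rcases C.linear_outcome hT hnr hnu with ⟨h1, h2, h3⟩ | h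
    · refine Or.inl ⟨h1, h2, ?_, h3⟩
      rintro rfl
      exact absurd (hH.1.trans_le le_top) (not_lt_of_ge (Cfsg.Lib.MitchellThree.Residual.Core.eq_top_two h2 h1 ▸ hP.le))
    · exact Or.inr h

end Cfsg.Agent.S5776
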