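import Cfsg.Statements.S5778
import Cfsg.Agent.Classical.PrimeDim.ThreeSmallSinger

set_option autoImplicit false
open Cfsg

namespace Cfsg.Agent.S5778

theorem zmod_three : ∀ x : ZMod 3, x = 0 ∨ x = 1 ∨ x = 2 := by decide

theorem two_three : (2 : ZMod 3) ^ 2 = 1 ∧ (2 : ZMod 3) ≠ 1 := by decide

/-- Every maximal subgroup of SU_3(q), q ≥ 3, is of one of the listed geometric types or lies in the residual class. Let F be the field with q² elements, f the standard unitary form Σ u_i v_i^q on F^3, and H a maximal subgroup of SU_3(q) (the determinant-one isometries of f, inside GL_3(F)). Then H is the intersection with SU_3(q) of one of: the stabiliser of a non-zero subspace on which f vanishes; the stabiliser of a non-degenerate 1-space; for q ≠ 5, the stabiliser of a decomposition into three mutually orthogonal non-degenerate 1-spaces; for q ≠ 3, 5, the normaliser of an adjoint-closed degree-3 subfield of the matrix algebra;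 a subfield group of odd prime index whose F₀-structure carries f; for q odd, q ≥ 7, a subfield group of index 2 whose F₀-structure carries f; for q = p ≡ 2 mod 3 prime with p ≥ 11, the normaliser of an absolutely irreducible subgroup of order 27 with centre of order 3, exponent 3 and all characteristic abelian subgroups cyclic, contained in the similarity group of f — or else H lies in the residual class of the unitary case. -/
theorem result {F : Type*} [Field F] [Fintype F] (q : ℕ) (hF : Fintype.card F = q ^ 2) (hq : 3 ≤ q) (H : Subgroup (Matrix.GeneralLinearGroup (Fin 3) F)) (hH : Cfsg.Geo.IsMaximalIn (Cfsg.GU 3 F q ⊓ Cfsg.Geo.specialLinear (Fin 3) F) H) :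
    (∃ W : Submodule F (Fin 3 → F), W ≠ ⊥ ∧ Cfsg.Geo.IsTotallySingularFor (Cfsg.hermForm 3 F q) W ∧ H = Cfsg.Geo.subspaceStabilizer W ⊓ (Cfsg.GU 3 F q ⊓ Cfsg.Geo.specialLinear (Fin 3) F)) ∨
    (∃ W : Submodule F (Fin 3 → F), W ≠ ⊥ ∧ Cfsg.Geo.IsNondegenerateOn (Cfsg.hermForm 3 F q) W ∧ 2 * Module.finrank F W < 3 ∧ H = Cfsg.Geo.subspaceStabilizer W ⊓ (Cfsg.GU 3 F q ⊓ Cfsg.Geo.specialLinear (Fin 3) F)) ∨
    (q ≠ 5 ∧ ∃ D : Fin 3 → Submodule F (Fin 3 → F), Cfsg.Geo.IsNondegenerateMDecomposition (Cfsg.hermForm 3 F q) 1 D ∧ H = Cfsg.Geo.decompositionStabilizer D ⊓ (Cfsg.GU 3 F q ⊓ Cfsg.Geo.specialLinear (Fin 3) F)) ∨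
    (q ≠ 3 ∧ q ≠ 5 ∧ ∃ K : Subalgebra F (Matrix (Fin 3) (Fin 3) F), Cfsg.Geo.IsFieldSubalgebra 3 K ∧ Cfsg.Geo.IsAdjointClosedFor (Cfsg.hermForm 3 F q) K ∧ H = Cfsg.Geo.subalgebraNormalizer K ⊓ (Cfsg.GU 3 F q ⊓ Cfsg.Geo.specialLinear (Fin 3) F)) ∨
    (∃ (F₀ : Subfield F) (r : ℕ) (P : Matrix.GeneralLinearGroup (Fin 3) F), r.Prime ∧ Odd r ∧ Fintype.card F = Nat.card F₀ ^ r ∧ Cfsg.Geo.IsFormRationalStructure (Cfsg.hermForm 3 F q) F₀ 1 P ∧ H = Cfsg.Geo.subfieldSubgroup F₀ P ⊓ (Cfsg.GU 3 F q ⊓ Cfsg.Geo.specialLinear (Fin 3) F)) ∨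
    (Odd q ∧ 7 ≤ q ∧ ∃ (F₀ : Subfield F) (P : Matrix.GeneralLinearGroup (Fin 3) F), Fintype.card F = Nat.card F₀ ^ 2 ∧ Cfsg.Geo.IsFormRationalStructure (Cfsg.hermForm 3 F q) F₀ 1 P ∧ H = Cfsg.Geo.subfieldSubgroup F₀ P ⊓ (Cfsg.GU 3 F q ⊓ Cfsg.Geo.specialLinear (Fin 3) F)) ∨
    (∃ (p : ℕ) (R : Subgroup (Matrix.GeneralLinearGroup (Fin 3) F)), p.Prime ∧ q = p ∧ p % 3 = 2 ∧ 11 ≤ p ∧ Cfsg.Geo.IsSymplecticTypeGroup 3 R ∧ Cfsg.Geo.ActsAbsolutelyIrreducibly (Cfsg.Geo.matrixSet R) ∧ R ≤ Cfsg.Geo.similarityGroup (Cfsg.hermForm 3 F q) ∧ Nat.card R = 27 ∧ Nat.card (Subgroup.center R) = 3 ∧ H = Cfsg.Geo.subgroupNormalizer R ⊓ (Cfsg.GU 3 F q ⊓ Cfsg.Geo.specialLinear (Fin 3) F)) ∨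
    Cfsg.Geo.InUnitaryResidualClass H := by
  classical
  haveI : Nontrivial F := inferInstance
  have key := Cfsg.Lib.Classical.PrimeDim.unitary_cases (n := 3) hF (by norm_num) le_rfl (Or.inl hq) hH
  rcases key with h | h | ⟨D, hD, he⟩ | ⟨K, hK, hadj, he⟩ | h | ⟨hodd, F₀, P, hc, hrat, he⟩ |
    ⟨p, m, R, hp, hchar, hm, hord, hsymp, hai, hRU, hRsim, hR, hcen, he⟩ | h
  · exact Or.inl h
  · exact Or.inr (Or.inl h)
  · refine Or.inr (Or.inr (Or.inl ⟨fun e => ?_, D, hD, he⟩))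
    subst e
    obtain ⟨s, C⟩ := Cfsg.Lib.Classical.PrimeDim.ThreeSmall.exists_ctx (Or.inr rfl) hF
    exact Cfsg.Lib.Classical.PrimeDim.ThreeSmall.frame_false C hH hD (he.le.trans inf_le_left)
  · refine Or.inr (Or.inr (Or.inr (Or.inl ⟨fun e => ?_, fun e => ?_, K, hK, hadj, he⟩)))
    · subst e
      obtain ⟨s, C⟩ := Cfsg.Lib.Classical.PrimeDim.ThreeSmall.exists_ctx (Or.inl rfl) hF
      exact Cfsg.Lib.Classical.PrimeDim.ThreeSmall.field_false_three C hH hK hadj (he.le.trans inf_le_left)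
    · subst e
      obtain ⟨s, C⟩ := Cfsg.Lib.Classical.PrimeDim.ThreeSmall.exists_ctx (Or.inr rfl) hF
      exact Cfsg.Lib.Classical.PrimeDim.ThreeSmall.field_false_five C hH hK hadj (he.le.trans inf_le_left)
  · exact Or.inr (Or.inr (Or.inr (Or.inr (Or.inl h))))
  · rcases (show q = 3 ∨ q = 5 ∨ 7 ≤ q by obtain ⟨j, rfl⟩ := hodd; omega) with e | e | e
    · subst e
      obtain ⟨s, C⟩ := Cfsg.Lib.Classical.PrimeDim.ThreeSmall.exists_ctx (Or.inl rfl) hF
      exact Or.inr (Or.inr (Or.inl ⟨by norm_num,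
        Cfsg.Lib.Classical.PrimeDim.ThreeSmall.three_frame C hH hc hrat (he.le.trans inf_le_left)⟩))
    · subst e
      obtain ⟨s, C⟩ := Cfsg.Lib.Classical.PrimeDim.ThreeSmall.exists_ctx (Or.inr rfl) hF
      exact (Cfsg.Lib.Classical.PrimeDim.ThreeSmall.five_false C hH hc hrat (he.le.trans inf_le_left)).elim
    · exact Or.inr (Or.inr (Or.inr (Or.inr (Or.inr (Or.inl ⟨hodd, e, F₀, P, hc, hrat, he⟩)))))
  · have h2 := zmod_three (p : ZMod 3)
    have h3 : m = 1 ∧ p % 3 = 2 := by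
      rcases h2 with h2 | h2 | h2
      · rw [h2, orderOf_zero] at hord
        exfalso
        have : m = 0 := by omega
        rw [this, pow_zero] at hm; omega
      · rw [h2, orderOf_one] at hord
        omega
      · rw [h2, orderOf_eq_prime (p := 2) two_three.1 two_three.2] at hord
        refine ⟨by omega, ?_⟩
        have := (ZMod.natCast_eq_natCast_iff' p 2 3).mp (by exact_mod_cast h2)
        omega
    obtain ⟨rfl, hp3⟩ := h3
    rw [pow_one] at hm
    subst hm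
    rcases (show q = 5 ∨ 11 ≤ q by
      have : ∀ r, r < 11 → r.Prime → r % 3 = 2 → r = 2 ∨ r = 5 := by decide
      by_contra hc
      push Not at hc
      rcases this q (by omega) hp hp3 with e | e <;> omega) with e | e
    · subst e
      obtain ⟨s, C⟩ := Cfsg.Lib.Classical.PrimeDim.ThreeSmall.exists_ctx (Or.inr rfl) hF
      exact (Cfsg.Lib.Classical.PrimeDim.ThreeSmall.heis_false C hH hsymp hRU (hR.trans (by norm_num)) hcen
        (he.le.trans inf_le_left)).elim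
    · exact Or.inr (Or.inr (Or.inr (Or.inr (Or.inr (Or.inr (Or.inl
        ⟨q, R, hp, rfl, hp3, e, hsymp, hai, hRsim, hR.trans (by norm_num), hcen, he⟩))))))
  · exact Or.inr (Or.inr (Or.inr (Or.inr (Or.inr (Or.inr (Or.inr h))))))

end Cfsg.Agent.S5778
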