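import Cfsg.Statements.S5779
import Cfsg.Agent.MitchellThree.Residual.Outcome
import Cfsg.Agent.MitchellThree.Residual.ElationCase
import Cfsg.Agent.MitchellThree.Residual.Even.Main
import Cfsg.Agent.MitchellThree.Residual.SevenFive.Main

set_option autoImplicit false
open Cfsg

namespace Cfsg.Agent.S5779

/-- The maximal subgroups of SU_3(q), q ≥ 3, in the residual class. Let F be the field with q² elements and H a maximal subgroup of SU_3(q) (determinant-one isometries of the standard unitary form on F^3) lying in the residual class of the unitary case. Then q = p is prime and the perfect socle preimage P of H satisfies one of: P modulo scalars is isomorphic to the simple group of order 168 (written PSL_3(2)) and p ≡ 3, 5 or 6 mod 7 with p ≠ 5; or P modulo scalars is isomorphic to A_6 and either p ≡ 11 or 14 mod 15 or p = 5; or P modulo scalars is isomorphic to A_7 and p = 5. -/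
theorem result {F : Type*} [Field F] [Fintype F] (q : ℕ) (hF : Fintype.card F = q ^ 2) (hq : 3 ≤ q) (H : Subgroup (Matrix.GeneralLinearGroup (Fin 3) F)) (hH : Cfsg.Geo.IsMaximalIn (Cfsg.GU 3 F q ⊓ Cfsg.Geo.specialLinear (Fin 3) F) H) (hS : Cfsg.Geo.InUnitaryResidualClass H) :
    ∃ P : Subgroup (Matrix.GeneralLinearGroup (Fin 3) F), Cfsg.Geo.IsResidualCore H P ∧ q.Prime ∧
    ((Nonempty ((P ⧸ (Cfsg.Geo.scalars (Fin 3) F).subgroupOf P) ≃* Matrix.ProjectiveSpecialLinearGroup (Fin 3) (ZMod 2)) ∧ q ≠ 5 ∧ (q % 7 = 3 ∨ q % 7 = 5 ∨ q % 7 = 6)) ∨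
     (Nonempty ((P ⧸ (Cfsg.Geo.scalars (Fin 3) F).subgroupOf P) ≃* alternatingGroup (Fin 6)) ∧ (q % 15 = 11 ∨ q % 15 = 14 ∨ q = 5)) ∨
     (Nonempty ((P ⧸ (Cfsg.Geo.scalars (Fin 3) F).subgroupOf P) ≃* alternatingGroup (Fin 7)) ∧ q = 5)) := by
  classical
  obtain ⟨P, hP, hQ, -⟩ := hS
  have C := Cfsg.Lib.MitchellThree.Residual.core_of_residual hP
  have hnr := C.not_real_of_no_quad hQ
  obtain ⟨p, hp⟩ := CharP.exists F
  haveI : Fact p.Prime := ⟨CharP.char_is_prime F p⟩
  have key : (P = Cfsg.Geo.specialLinear (Fin 3) F ∨ ∃ (Q : GL (Fin 3) F) (m : ℕ), Fintype.card F = m ^ 2 ∧ 2 ≤ m ∧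
        Cfsg.Lib.MitchellThree.Elation.conjG Q P = Cfsg.GU 3 F m ⊓ Cfsg.Geo.specialLinear (Fin 3) F) ∨
      Cfsg.Lib.MitchellThree.Residual.OddTypes p P := by
    by_cases hp2 : p = 2
    · subst hp2
      exact C.transvection_or_small_two
    · rcases C.transvection_or_small hp2 with ⟨x, φ, hx, hφ, h⟩ | h
      · exact Or.inl (C.of_transvection (Ring.two_ne_zero (by rw [ringChar.eq F p]; exact hp2)) hx hφ h)
      · exact Or.inr h
  have hPU : P ≤ Cfsg.GU 3 F q ⊓ Cfsg.Geo.specialLinear (Fin 3) F := hP.le.trans hH.1.le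
  rcases key with (e | ⟨Q, m, hm, -, e⟩) | hT
  · exfalso
    let g : GL (Fin 3) F := Matrix.GeneralLinearGroup.mkOfDetNeZero !![1, 1, 0; 0, 1, 0; 0, 0, 1] (by
      simp [Matrix.det_fin_three])
    have hg : g ∈ P := e ▸ MonoidHom.mem_ker.2 (Units.ext (by simp [g, Matrix.det_fin_three]))
    have h := (hPU hg).1 (Pi.single 0 1) (Pi.single 1 1)
    simp [Cfsg.hermForm, g, Fin.sum_univ_three, zero_pow (show q ≠ 0 by omega)] at h
  · exfalso
    obtain rfl : q = m := Nat.pow_left_injective two_ne_zero (hF.symm.trans hm)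
    have hcard := Nat.card_congr (P.equivMapOfInjective (MulAut.conj Q).toMonoidHom (MulEquiv.injective _)).toEquiv
    have he : P = Cfsg.GU 3 F q ⊓ Cfsg.Geo.specialLinear (Fin 3) F :=
      Subgroup.eq_of_le_of_card_ge hPU (le_of_eq ((congrArg (fun X : Subgroup _ => Nat.card X) e).symm.trans hcard.symm))
    exact not_le_of_gt hH.1 (he ▸ hP.le)
  · obtain ⟨hqp, h⟩ := C.unitary_outcome hT hF (hPU.trans inf_le_left) hnr
    refine ⟨P, hP, hqp ▸ Fact.out, ?_⟩
    rcases h with ⟨h1, h2⟩ | h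
    · refine Or.inl ⟨h1, ?_, h2⟩
      rintro rfl
      exact C.not_maximal_seven_five hP hF hH h1
    · exact Or.inr h

end Cfsg.Agent.S5779
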