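import Cfsg.Statements.S5886
import Cfsg.Agent.Classical.ExtField.Extras
import Cfsg.Agent.Classical.Linear.RankOne

set_option autoImplicit false
open Cfsg

namespace Cfsg.Agent.S5886

open Matrix Module Cfsg.Lib.Classical.ExtField


theorem maximal_of_field {F : Type*} [Field F] [Fintype F] {n : ℕ} [NeZero n]
    {K : Subalgebra F (Matrix (Fin n) (Fin n) F)} {L : Type*} [Field L] [Algebra F L]
    [Module L (Fin n → F)] (hfd : FiniteDimensional F L) (hT : IsScalarTower F L (Fin n → F)) (ι : L → Matrix (Fin n) (Fin n) F)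
    (hι : ∀ (a : L) (z : Fin n → F), a • z = ι a *ᵥ z) (hmemι : ∀ a, ι a ∈ K) (hsurj : ∀ k ∈ K, ∃ a, ι a = k)
    (hr : (finrank F L).Prime) (hlt : finrank F L < n) :
    IsCoatom (Cfsg.Geo.subalgebraNormalizer K) ∧
      Cfsg.Geo.IsMaximalIn (Cfsg.Geo.specialLinear (Fin n) F)
        (Cfsg.Geo.subalgebraNormalizer K ⊓ Cfsg.Geo.specialLinear (Fin n) F) := by
  classical
  have hm : 2 ≤ finrank L (Fin n → F) := by
    have h := finrank_mul_finrank F L (Fin n → F)
    rw [finrank_fin_fun] at h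
    by_contra hh
    have : finrank L (Fin n → F) ≤ 1 := by omega
    nlinarith
  let e : GL (Fin n) F ≃* ((Fin n → F) ≃ₗ[F] (Fin n → F)) :=
    Matrix.GeneralLinearGroup.toLin.trans (LinearMap.GeneralLinearGroup.generalLinearEquiv F (Fin n → F))
  have he : ∀ (g : GL (Fin n) F) z, e g z = (g : Matrix (Fin n) (Fin n) F) *ᵥ z := fun g z => rfl
  have hdet : ∀ g : GL (Fin n) F, LinearEquiv.det (e g) = Matrix.GeneralLinearGroup.det g := fun g => by
    refine Units.ext ?_
    rw [LinearEquiv.coe_det, Matrix.GeneralLinearGroup.val_det_apply]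
    exact LinearMap.det_toLin' (g : Matrix (Fin n) (Fin n) F)
  have hconj : ∀ g : GL (Fin n) F, Semi L (e g) → ∀ k ∈ K,
      (g : Matrix (Fin n) (Fin n) F) * k * ((g⁻¹ : GL (Fin n) F) : Matrix (Fin n) (Fin n) F) ∈ K := by
    intro g hg k hk
    obtain ⟨a, rfl⟩ := hsurj k hk
    obtain ⟨b, hb⟩ := hg a
    have h : (g : Matrix (Fin n) (Fin n) F) * ι a = ι b * g := by
      refine Matrix.toLin'.injective (LinearMap.ext fun z => ?_)
      have := hb z
      rw [hι, hι, he, he, mulVec_mulVec, mulVec_mulVec] at this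
      simpa using this
    rw [h, mul_assoc, ← Units.val_mul, mul_inv_cancel, Units.val_one, mul_one]
    exact hmemι b
  have hsemi : ∀ g : GL (Fin n) F, g ∈ Cfsg.Geo.subalgebraNormalizer K ↔ Semi L (e g) := by
    intro g
    constructor
    · intro hg a
      obtain ⟨b, hb⟩ := hsurj _ ((hg (ι a)).mp (hmemι a))
      refine ⟨b, fun z => ?_⟩
      rw [hι, hι, hb, he, he, mulVec_mulVec, mulVec_mulVec, mul_assoc _ _ (g : Matrix (Fin n) (Fin n) F),
        ← Units.val_mul, inv_mul_cancel, Units.val_one, mul_one]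
    · intro hg k
      refine ⟨hconj g hg k, fun h => ?_⟩
      have h' := hconj g⁻¹ (by rw [map_inv]; exact hg.inv) _ h
      rw [inv_inv] at h'
      simpa [← mul_assoc, mul_assoc _ _ (g : Matrix (Fin n) (Fin n) F), ← Units.val_mul] using h'
  have hmain : ∀ M : Subgroup (GL (Fin n) F),
      (∀ g ∈ Cfsg.Geo.subalgebraNormalizer K, ∀ h ∈ M,
        Matrix.GeneralLinearGroup.det h = Matrix.GeneralLinearGroup.det g → g ∈ M) →
      (∃ g ∈ M, g ∉ Cfsg.Geo.subalgebraNormalizer K) → Cfsg.Geo.specialLinear (Fin n) F ≤ M := by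
    intro M hN ⟨g₀, hg₀, hg₀N⟩
    have hO : Over L (M.map e.toMonoidHom) := by
      refine ⟨hr, hm, fun g hg h hh hd => ?_, e g₀, ⟨g₀, hg₀, rfl⟩, fun h =>
        hg₀N ((hsemi g₀).mpr h)⟩
      obtain ⟨h', hh', rfl⟩ := hh
      obtain ⟨g', rfl⟩ := e.surjective g
      refine ⟨g', hN g' ((hsemi g').mpr hg) h' hh' ?_, rfl⟩
      rw [← hdet, ← hdet]
      exact hd
    refine Cfsg.Lib.Classical.LinOne.specialLinear_le fun i j hij c => ?_
    obtain ⟨g, ⟨g', hg', rfl⟩, hgz⟩ := hO.exists_transvection (Pi.single i c) (LinearMap.proj j)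
      (by simp [Pi.single_eq_of_ne' hij])
    refine ⟨g', hg', Matrix.toLin'.injective (LinearMap.ext fun z => ?_)⟩
    rw [Matrix.toLin'_apply, Matrix.toLin'_apply, Cfsg.Lib.Classical.LinOne.one_mulVec', single_dotProduct, one_mul]
    exact (he g' z).symm.trans (hgz z)
  obtain ⟨g₁, hg₁d, hg₁⟩ : ∃ g ∈ Cfsg.Geo.specialLinear (Fin n) F, g ∉ Cfsg.Geo.subalgebraNormalizer K := by
    obtain ⟨g, hgd, hg⟩ := exists_not_semi (F := F) (L := L) (V := Fin n → F) hr.two_le hm
    obtain ⟨g', rfl⟩ := e.surjective g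
    exact ⟨g', MonoidHom.mem_ker.mpr (by rw [← hdet, hgd]), fun h => hg ((hsemi g').mp h)⟩
  refine ⟨⟨fun h => hg₁ (h ▸ Subgroup.mem_top g₁), fun M hM => ?_⟩, ?_, fun M hM1 hM2 => ?_⟩
  · have hSL := hmain M (fun g hg _ _ _ => hM.le hg) (SetLike.exists_of_lt hM)
    refine eq_top_iff.mpr fun g _ => ?_
    obtain ⟨x, hx⟩ := exists_ne (0 : Fin n → F)
    obtain ⟨P, hP, hPd⟩ := exists_semi_det (L := L) hx (Matrix.GeneralLinearGroup.det g)
    obtain ⟨P', rfl⟩ := e.surjective P
    have h1 : g * P'⁻¹ ∈ M := hSL (MonoidHom.mem_ker.mpr (by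
      rw [map_mul, map_inv, ← hdet P', hPd, mul_inv_cancel]))
    have := M.mul_mem h1 (hM.le ((hsemi P').mpr hP))
    rwa [inv_mul_cancel_right] at this
  · exact lt_of_le_of_ne inf_le_right fun h => hg₁ (h.ge hg₁d).1
  · by_cases hex : ∃ g ∈ M, g ∉ Cfsg.Geo.subalgebraNormalizer K
    · refine Or.inr (le_antisymm hM2 (hmain M (fun g hg h hh hd => hM1 ⟨hg, ?_⟩) hex))
      exact MonoidHom.mem_ker.mpr (hd.symm.trans (MonoidHom.mem_ker.mp (hM2 hh)))
    · exact Or.inl (le_antisymm (fun g hg => ⟨by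
        by_contra h
        exact hex ⟨g, hg, h⟩, hM2 hg⟩) hM1)


/-- Let F be a finite field, n a positive integer and r a prime that divides n with r < n. Let K be a subalgebra of the algebra of n × n matrices over F which is a field of degree r over F (commutative, every non-zero element invertible, of dimension r over F; it contains the scalars). Then the normaliser N of K in GL_n(F) — the invertible F-linear maps that are semilinear over the field K, a group of type ΓL_{n/r}(F_{q^r}) for |F| = q — is a maximal subgroup of GL_n(F), and N ∩ SL_n(F) is a maximal subgroup of SL_n(F). No lower bound on n is assumed. -/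
theorem result {F : Type*} [Field F]
    [Fintype F] (n r : ℕ) (hr : r.Prime) (hrn : r ∣ n) (hlt : r < n) (K : Subalgebra F (Matrix (Fin n) (Fin n) F))
    (hK : Cfsg.Geo.IsFieldSubalgebra r K) :
    IsCoatom (Cfsg.Geo.subalgebraNormalizer K) ∧
      Cfsg.Geo.IsMaximalIn (Cfsg.Geo.specialLinear (Fin n) F)
        (Cfsg.Geo.subalgebraNormalizer K ⊓ Cfsg.Geo.specialLinear (Fin n) F) := by
  classical
  have hn : NeZero n := ⟨by have := hr.pos; omega⟩
  have hfield : IsField K :=
    ⟨⟨0, 1, fun h => by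
      have h' := congrFun (congrFun (congrArg Subtype.val h) 0) 0
      simp at h'⟩, fun a b => Subtype.ext (hK.comm a a.2 b b.2), fun {a} ha => by
      obtain ⟨b, hb, hab⟩ := hK.inv a a.2 (fun h => ha (Subtype.ext h))
      exact ⟨⟨b, hb⟩, Subtype.ext hab⟩⟩
  let : Field K := hfield.toField
  let : Module K (Fin n → F) :=
    Module.compHom (Fin n → F) ((Matrix.toLinAlgEquiv'.toAlgHom.comp K.val).toRingHom)
  have hsmul : ∀ (k : K) (z : Fin n → F), k • z = (k : Matrix (Fin n) (Fin n) F) *ᵥ z := fun k z => rfl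
  have hT : IsScalarTower F K (Fin n → F) :=
    ⟨fun l k z => by rw [hsmul, hsmul, SetLike.val_smul, smul_mulVec]⟩
  have hrk : finrank F K = r := hK.finrank_eq
  have hfd : FiniteDimensional F K := .of_finrank_pos (by rw [hrk]; exact hr.pos)
  exact maximal_of_field (L := K) hfd hT (fun k => (k : Matrix (Fin n) (Fin n) F)) hsmul (fun k => k.2)
    (fun k hk => ⟨⟨k, hk⟩, rfl⟩) (hrk ▸ hr) (hrk ▸ hlt)

end Cfsg.Agent.S5886
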