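import Cfsg.Statements.S5784
import Cfsg.Agent.Classical.Aschbacher.UnitFourPair
import Cfsg.Agent.Classical.Aschbacher.UnitFourFrame

set_option autoImplicit false
open Cfsg

namespace Cfsg.Agent.S5784

/-- Every maximal subgroup of SU_4(q) is of one of the listed geometric types or lies in the residual class. Let F be the field with q² elements, f the standard unitary form Σ u_i v_i^q on F^4, and H a maximal subgroup of SU_4(q) (inside GL_4(F)). Then H is the intersection with SU_4(q) of one of: the stabiliser of a non-zero subspace on which f vanishes; the stabiliser of a non-degenerate 1-space; for q ≠ 3, the stabiliser of a decomposition into four mutually orthogonal non-degenerate 1-spaces; for q ≥ 3, of a decomposition into two orthogonal non-degenerate 2-spaces; for q ≥ 4, of a decomposition into two totally isotropic 2-spaces; a subfield group of odd prime index whose F₀-structure carries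 f; a subfield group of index 2 whose F₀-structure carries ζ f, vanishing on pairs (u, u), for some non-zero ζ with ζ + ζ^q = 0; for q odd, a subfield group of index 2 whose F₀-structure carries f; for q = p ≡ 3 mod 4 prime, the normaliser of an absolutely irreducible symplectic-type 2-group of exponent 4, order 64 and centre of order 4 inside the similarity group of f — or else H lies in the residual class of the unitary case. -/
theorem result {F : Type*} [Field F] [Fintype F] (q : ℕ) (hF : Fintype.card F = q ^ 2) (H : Subgroup (Matrix.GeneralLinearGroup (Fin 4) F)) (hH : Cfsg.Geo.IsMaximalIn (Cfsg.GU 4 F q ⊓ Cfsg.Geo.specialLinear (Fin 4) F) H) :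
    (∃ W : Submodule F (Fin 4 → F), W ≠ ⊥ ∧ Cfsg.Geo.IsTotallySingularFor (Cfsg.hermForm 4 F q) W ∧ H = Cfsg.Geo.subspaceStabilizer W ⊓ (Cfsg.GU 4 F q ⊓ Cfsg.Geo.specialLinear (Fin 4) F)) ∨
    (∃ W : Submodule F (Fin 4 → F), W ≠ ⊥ ∧ Cfsg.Geo.IsNondegenerateOn (Cfsg.hermForm 4 F q) W ∧ 2 * Module.finrank F W < 4 ∧ H = Cfsg.Geo.subspaceStabilizer W ⊓ (Cfsg.GU 4 F q ⊓ Cfsg.Geo.specialLinear (Fin 4) F)) ∨
    (q ≠ 3 ∧ ∃ D : Fin 4 → Submodule F (Fin 4 → F), Cfsg.Geo.IsNondegenerateMDecomposition (Cfsg.hermForm 4 F q) 1 D ∧ H = Cfsg.Geo.decompositionStabilizer D ⊓ (Cfsg.GU 4 F q ⊓ Cfsg.Geo.specialLinear (Fin 4) F)) ∨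
    (3 ≤ q ∧ ∃ D : Fin 2 → Submodule F (Fin 4 → F), Cfsg.Geo.IsNondegenerateMDecomposition (Cfsg.hermForm 4 F q) 2 D ∧ H = Cfsg.Geo.decompositionStabilizer D ⊓ (Cfsg.GU 4 F q ⊓ Cfsg.Geo.specialLinear (Fin 4) F)) ∨
    (4 ≤ q ∧ ∃ D : Fin 2 → Submodule F (Fin 4 → F), Cfsg.Geo.IsMDecomposition 2 D ∧ (∀ i, Cfsg.Geo.IsTotallySingularFor (Cfsg.hermForm 4 F q) (D i)) ∧ H = Cfsg.Geo.decompositionStabilizer D ⊓ (Cfsg.GU 4 F q ⊓ Cfsg.Geo.specialLinear (Fin 4) F)) ∨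
    (∃ (F₀ : Subfield F) (r : ℕ) (P : Matrix.GeneralLinearGroup (Fin 4) F), r.Prime ∧ Odd r ∧ Fintype.card F = Nat.card F₀ ^ r ∧ Cfsg.Geo.IsFormRationalStructure (Cfsg.hermForm 4 F q) F₀ 1 P ∧ H = Cfsg.Geo.subfieldSubgroup F₀ P ⊓ (Cfsg.GU 4 F q ⊓ Cfsg.Geo.specialLinear (Fin 4) F)) ∨
    (∃ (F₀ : Subfield F) (P : Matrix.GeneralLinearGroup (Fin 4) F) (ζ : F), Fintype.card F = Nat.card F₀ ^ 2 ∧ ζ ≠ 0 ∧ ζ + ζ ^ q = 0 ∧ Cfsg.Geo.IsFormRationalStructure (Cfsg.hermForm 4 F q) F₀ ζ P ∧ (∀ u : Fin 4 → F, (∀ i, u i ∈ F₀) → (Cfsg.hermForm 4 F q) (Matrix.mulVec (P : Matrix (Fin 4) (Fin 4) F) u) (Matrix.mulVec (P : Matrix (Fin 4) (Fin 4) F) u) = 0) ∧ H = Cfsg.Geo.subfieldSubgroup F₀ P ⊓ (Cfsg.GU 4 F q ⊓ Cfsg.Geo.specialLinear (Fin 4) F)) ∨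
    (Odd q ∧ ∃ (F₀ : Subfield F) (P : Matrix.GeneralLinearGroup (Fin 4) F), Fintype.card F = Nat.card F₀ ^ 2 ∧ Cfsg.Geo.IsFormRationalStructure (Cfsg.hermForm 4 F q) F₀ 1 P ∧ H = Cfsg.Geo.subfieldSubgroup F₀ P ⊓ (Cfsg.GU 4 F q ⊓ Cfsg.Geo.specialLinear (Fin 4) F)) ∨
    (∃ (p : ℕ) (R : Subgroup (Matrix.GeneralLinearGroup (Fin 4) F)), p.Prime ∧ q = p ∧ p % 4 = 3 ∧ Cfsg.Geo.IsSymplecticTypeGroup 2 R ∧ Cfsg.Geo.ActsAbsolutelyIrreducibly (Cfsg.Geo.matrixSet R) ∧ R ≤ Cfsg.Geo.similarityGroup (Cfsg.hermForm 4 F q) ∧ Nat.card R = 64 ∧ Nat.card (Subgroup.center R) = 4 ∧ H = Cfsg.Geo.subgroupNormalizer R ⊓ (Cfsg.GU 4 F q ⊓ Cfsg.Geo.specialLinear (Fin 4) F)) ∨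
    Cfsg.Geo.InUnitaryResidualClass H := by
  classical
  have h := Cfsg.Lib.Classical.Aschbacher.su_types hF le_rfl hH
  cases h with
  | singular W h0 hs hH' => exact Or.inl (⟨W, h0, hs, hH'⟩)
  | nondeg W h0 hn hd hH' => exact Or.inr (Or.inl (⟨W, h0, hn, hd, hH'⟩))
  | decomp t k D ht hmul hq hD hH' =>
    have hk : k ≤ 2 := by nlinarith
    interval_cases k
    · omega
    · obtain rfl : t = 4 := by omega
      by_cases h3 : q = 3
      · subst h3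
        haveI : CharP F 3 := by
          obtain ⟨p, f, hp, hc, -, hcard⟩ := Cfsg.Lib.Classical.PrimeDim.exists_char_card F
          rw [Nat.card_eq_fintype_card, hF] at hcard
          have : p ∣ 3 ^ 2 := hcard ▸ dvd_pow_self p (by rintro rfl; norm_num at hcard)
          rwa [(Nat.prime_dvd_prime_iff_eq hp Nat.prime_three).mp (hp.dvd_of_dvd_pow this)] at hc
        obtain ⟨R, hR, ha, hs, hc, hz, hle⟩ :=
          Cfsg.Lib.Classical.Aschbacher.sympType_of_frame_four hF rfl hH.1.le hD (hH'.le.trans inf_le_left)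
        have hm : Cfsg.Geo.IsMinimalFieldFor (Nat.card (Subgroup.center R)) 3 2 F := by
          refine ⟨Nat.prime_three, inferInstance, hF, by rw [hz]; norm_num, fun d h0 h2 => ?_⟩
          obtain rfl : d = 1 := by omega
          rw [hz]; norm_num
        have hm' : Cfsg.Lib.Classical.Aschbacher.UMember 4 F 3 (Cfsg.Geo.subgroupNormalizer R) :=
          .sympType 2 R 3 2 2 hR ha hs (by norm_num) hm (Or.inr ⟨rfl, rfl, hz, by rw [hc]; norm_num⟩) (by norm_num)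
        exact Or.inr (Or.inr (Or.inr (Or.inr (Or.inr (Or.inr (Or.inr (Or.inr (Or.inl (⟨3, R, Nat.prime_three, rfl, rfl, hR, ha, hs, hc, hz, Cfsg.Lib.Classical.PrimeDim.eq_inf_of_maximal hH hle (hm'.not_le hF le_rfl)⟩)))))))))
      · exact Or.inr (Or.inr (Or.inl (⟨h3, D, hD, hH'⟩)))
    · obtain rfl : t = 2 := by omega
      exact Or.inr (Or.inr (Or.inr (Or.inl (⟨hq rfl, D, hD, hH'⟩))))
  | pair k D hk hD hs hH' =>
    obtain rfl : k = 2 := by omega
    by_cases h4 : 4 ≤ q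
    · exact Or.inr (Or.inr (Or.inr (Or.inr (Or.inl (⟨h4, D, hD, hs, hH'⟩)))))
    obtain ⟨F₀, P, ζ, hc, hζ0, hζ, hs', halt, hle⟩ :=
      Cfsg.Lib.Classical.Aschbacher.subfield_of_pair_four hF (by omega) hH.1.le hD hs (hH'.le.trans inf_le_left)
    have hm' : Cfsg.Lib.Classical.Aschbacher.UMember 4 F q (Cfsg.Geo.subfieldSubgroup F₀ P) :=
      .subfieldSymp F₀ P ζ (by decide) hc hζ0 hζ hs' halt
    exact Or.inr (Or.inr (Or.inr (Or.inr (Or.inr (Or.inr (Or.inl (⟨F₀, P, ζ, hc, hζ0, hζ, hs', halt, Cfsg.Lib.Classical.PrimeDim.eq_inf_of_maximal hH hle (hm'.not_le hF le_rfl)⟩)))))))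
  | subfieldOdd F₀ r P hr ho hc hs hH' => exact Or.inr (Or.inr (Or.inr (Or.inr (Or.inr (Or.inl (⟨F₀, r, P, hr, ho, hc, hs, hH'⟩))))))
  | subfieldOrth F₀ P hq hc hs hH' => exact Or.inr (Or.inr (Or.inr (Or.inr (Or.inr (Or.inr (Or.inr (Or.inl (⟨hq, F₀, P, hc, hs, hH'⟩))))))))
  | subfieldSymp F₀ P ζ hn hc hζ0 hζ hs halt hH' => exact Or.inr (Or.inr (Or.inr (Or.inr (Or.inr (Or.inr (Or.inl (⟨F₀, P, ζ, hc, hζ0, hζ, hs, halt, hH'⟩)))))))
  | sympType r R p k hp hR ha hs hk h2 h3 hH' =>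
    have hr2 : r = 2 := ((Nat.prime_dvd_prime_iff_eq Nat.prime_two hR.prime).mp (Nat.prime_two.dvd_of_dvd_pow (hk ▸ (by norm_num : 2 ∣ 4)))).symm
    subst hr2
    obtain rfl : k = 2 := (Nat.pow_right_injective le_rfl (show (2:ℕ) ^ k = 2 ^ 2 by omega))
    obtain ⟨hq, hp4, hz, hc⟩ := h2 rfl
    exact Or.inr (Or.inr (Or.inr (Or.inr (Or.inr (Or.inr (Or.inr (Or.inr (Or.inl (⟨p, R, hp, hq, hp4, hR, ha, hs, by rw [hc]; norm_num, hz, hH'⟩)))))))))
  | field r K hr ho hrn hK hs hH' =>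
    have hr' : r ≤ 4 := Nat.le_of_dvd (by norm_num) hrn
    interval_cases r <;> (exfalso; revert hr ho hrn; norm_num [Nat.odd_iff])
  | tensor n₁ n₂ e P f₁ f₂ h2 h12 hmul hq hf₁ hf₂ hs hH' =>
    exfalso
    nlinarith
  | wreath k t e P f₁ h3 ht hex hmul hf₁ hs hH' =>
    exfalso
    have h1 := Nat.pow_le_pow_left h3 t
    have h2 := Nat.pow_le_pow_right (show 0 < 3 by norm_num) ht
    omega
  | residual h => exact Or.inr (Or.inr (Or.inr (Or.inr (Or.inr (Or.inr (Or.inr (Or.inr (Or.inr (h)))))))))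

end Cfsg.Agent.S5784
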