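import Cfsg.Statements.S5787
import Cfsg.Agent.Classical.Aschbacher.SympFourUnit
-- import your own Cfsg.Agent.* helpers here

set_option autoImplicit false
open Cfsg

namespace Cfsg.Agent.S5787

/-- Every maximal subgroup of Sp_4(q), q odd, is of one of the listed geometric types or lies in the residual class. Let F be a finite field of odd order q, f the standard alternating form on F^4 (coordinates Fin 2 ⊕ Fin 2), and H a maximal subgroup of the isometry group Sp_4(F) (inside GL_4(F)). Then H is the intersection with Sp_4(F) of one of: the stabiliser of a non-zero totally isotropic subspace; the stabiliser of a decomposition into two orthogonal non-degenerate 2-spaces; for q ≥ 5, of a decomposition into two totally isotropic 2-spaces; the normaliser of a degree-2 subfield K of the matrix algebra, self-adjoint with f(k v, v) = 0; for q ≥ 5, the normaliser of a degree-2 subfield closed under adjoints but not self-adjoint;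 a subfield group whose F₀-structure carries a non-zero multiple of f, |F| = |F₀|^r with r prime; for q = p prime, the normaliser of an absolutely irreducible symplectic-type 2-group of exponent 4, order 32, centre of order 2 and minus type inside the similarity group of f — or else H lies in the residual class of the symplectic case. -/
theorem result {F : Type*} [Field F] [Fintype F] (hodd : Odd (Fintype.card F)) (H : Subgroup (Matrix.GeneralLinearGroup (Fin 2 ⊕ Fin 2) F)) (hH : Cfsg.Geo.IsMaximalIn (Cfsg.spGL 2 F) H) :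
    (∃ W : Submodule F (Fin 2 ⊕ Fin 2 → F), W ≠ ⊥ ∧ Cfsg.Geo.IsTotallySingularFor (Cfsg.sympForm 2 F) W ∧ H = Cfsg.Geo.subspaceStabilizer W ⊓ Cfsg.spGL 2 F) ∨
    (∃ D : Fin 2 → Submodule F (Fin 2 ⊕ Fin 2 → F), Cfsg.Geo.IsNondegenerateMDecomposition (Cfsg.sympForm 2 F) 2 D ∧ H = Cfsg.Geo.decompositionStabilizer D ⊓ Cfsg.spGL 2 F) ∨
    (5 ≤ Fintype.card F ∧ ∃ D : Fin 2 → Submodule F (Fin 2 ⊕ Fin 2 → F), Cfsg.Geo.IsMDecomposition 2 D ∧ (∀ i, Cfsg.Geo.IsTotallySingularFor (Cfsg.sympForm 2 F) (D i)) ∧ H = Cfsg.Geo.decompositionStabilizer D ⊓ Cfsg.spGL 2 F) ∨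
    (∃ K : Subalgebra F (Matrix (Fin 2 ⊕ Fin 2) (Fin 2 ⊕ Fin 2) F), Cfsg.Geo.IsFieldSubalgebra 2 K ∧ Cfsg.Geo.IsSelfAdjointFor (Cfsg.sympForm 2 F) K ∧ (∀ k ∈ K, ∀ v : (Fin 2 ⊕ Fin 2 → F), (Cfsg.sympForm 2 F) (Matrix.mulVec k v) v = 0) ∧ H = Cfsg.Geo.subalgebraNormalizer K ⊓ Cfsg.spGL 2 F) ∨
    (5 ≤ Fintype.card F ∧ ∃ K : Subalgebra F (Matrix (Fin 2 ⊕ Fin 2) (Fin 2 ⊕ Fin 2) F), Cfsg.Geo.IsFieldSubalgebra 2 K ∧ Cfsg.Geo.IsAdjointClosedFor (Cfsg.sympForm 2 F) K ∧ ¬ Cfsg.Geo.IsSelfAdjointFor (Cfsg.sympForm 2 F) K ∧ H = Cfsg.Geo.subalgebraNormalizer K ⊓ Cfsg.spGL 2 F) ∨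
    (∃ (F₀ : Subfield F) (r : ℕ) (P : Matrix.GeneralLinearGroup (Fin 2 ⊕ Fin 2) F) (ζ : F), r.Prime ∧ Fintype.card F = Nat.card F₀ ^ r ∧ ζ ≠ 0 ∧ Cfsg.Geo.IsFormRationalStructure (Cfsg.sympForm 2 F) F₀ ζ P ∧ H = Cfsg.Geo.subfieldSubgroup F₀ P ⊓ Cfsg.spGL 2 F) ∨
    (∃ (p : ℕ) (R : Subgroup (Matrix.GeneralLinearGroup (Fin 2 ⊕ Fin 2) F)), p.Prime ∧ Fintype.card F = p ∧ Cfsg.Geo.IsSymplecticTypeGroup 2 R ∧ Cfsg.Geo.ActsAbsolutelyIrreducibly (Cfsg.Geo.matrixSet R) ∧ R ≤ Cfsg.Geo.similarityGroup (Cfsg.sympForm 2 F) ∧ Nat.card R = 32 ∧ Nat.card (Subgroup.center R) = 2 ∧ Cfsg.Geo.IsOfMinusType 2 R ∧ H = Cfsg.Geo.subgroupNormalizer R ⊓ Cfsg.spGL 2 F) ∨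
    Cfsg.Geo.InSymplecticResidualClass H := by
  classical
  have h5 : Fintype.card F ≠ 3 → 5 ≤ Fintype.card F := fun hne => by
    have := (Fintype.one_lt_card : 1 < Fintype.card F)
    obtain ⟨j, hj⟩ := hodd
    omega
  cases Cfsg.Lib.Classical.Aschbacher.sp_types (m := 2) (by norm_num) hH with
  | singular W h0 hs hH' => exact Or.inl (⟨W, h0, hs, hH'⟩)
  | nondeg W h0 hn hd hev hH' =>
    exfalso
    obtain ⟨j, hj⟩ := hev
    exact h0 (Submodule.finrank_eq_zero.mp (by omega))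
  | decomp t k D ht hmul hke hk2 hq hD hH' =>
    obtain rfl : k = 2 := by
      have : k ≤ 2 := by nlinarith
      omega
    obtain rfl : t = 2 := by omega
    exact Or.inr (Or.inl (⟨D, hD, hH'⟩))
  | pair D ho hD hs hH' =>
    by_cases h3 : Fintype.card F = 3
    · obtain ⟨K, hK, hsa, ha, hle⟩ := Cfsg.Lib.Classical.Aschbacher.field_of_pair h3 hH.1.le hD hs (hH'.le.trans inf_le_left)
      refine Or.inr (Or.inr (Or.inr (Or.inl (⟨K, hK, hsa, ha, ?_⟩))))
      exact Cfsg.Lib.Classical.PrimeDim.eq_inf_of_maximal hH hle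
        ((Cfsg.Lib.Classical.Aschbacher.SpMember.field 2 K Nat.prime_two dvd_rfl hK hsa ha).not_le le_rfl)
    · exact Or.inr (Or.inr (Or.inl (⟨h5 h3, D, hD, hs, hH'⟩)))
  | field r K hr hrm hK hs ha hH' =>
    obtain rfl := (Nat.prime_dvd_prime_iff_eq hr Nat.prime_two).mp hrm
    exact Or.inr (Or.inr (Or.inr (Or.inl (⟨K, hK, hs, ha, hH'⟩))))
  | unitField K ho hK hs hns hH' =>
    by_cases h3 : Fintype.card F = 3
    · exact Or.inr (Or.inr (Or.inr (Or.inr (Or.inr (Or.inr (Or.inl (Cfsg.Lib.Classical.Aschbacher.sympType_of_unitField h3 hH hK hs hns (hH'.le.trans inf_le_left))))))))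
    · exact Or.inr (Or.inr (Or.inr (Or.inr (Or.inl (⟨h5 h3, K, hK, hs, hns, hH'⟩)))))
  | tensor n₁ n₂ e P f₁ f₂ ho h1e h12 h3 hmul hq h1 h2 hs hH' =>
    exfalso; nlinarith
  | subfield F₀ r P ζ hr hc hζ hs hH' => exact Or.inr (Or.inr (Or.inr (Or.inr (Or.inr (Or.inl (⟨F₀, r, P, ζ, hr, hc, hζ, hs, hH'⟩))))))
  | sympType R p k hR ha hs hp ho hc hcard hz hm hk hH' =>
    obtain rfl : k = 2 := Nat.pow_right_injective (le_refl 2) (hk.symm.trans (by norm_num))
    exact Or.inr (Or.inr (Or.inr (Or.inr (Or.inr (Or.inr (Or.inl (⟨p, R, hp, hc, hR, ha, hs, hcard.trans (by norm_num), hz, hm, hH'⟩)))))))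
  | wreath k t e P f₁ ho hto h3 hk2 hke hpow hq h1 hs hH' =>
    exfalso
    have hb := Nat.pow_le_pow_right (show 0 < k by omega) h3
    have := Nat.pow_le_pow_left hk2 3
    omega
  | quadratic Q he hQ hp hH' => exact absurd hodd he
  | residual h => exact Or.inr (Or.inr (Or.inr (Or.inr (Or.inr (Or.inr (Or.inr (h)))))))

end Cfsg.Agent.S5787
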