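import Cfsg.Statements.S5796
import Cfsg.Agent.Classical.PrimeDim.SingerTwo
import Mathlib

set_option autoImplicit false
open Cfsg

namespace Cfsg.Agent.S5796

/-- Every maximal subgroup of SU_5(q) is of one of the listed geometric types or lies in the residual class. Let F be the field with q² elements (characteristic p), f the standard unitary form Σ u_i v_i^q on F^5, and H a maximal subgroup of SU_5(q) (inside GL_5(F)). Then H is the intersection with SU_5(q) of one of: the stabiliser of a non-zero totally isotropic subspace; the stabiliser of a non-degenerate 1-space or 2-space; the stabiliser of a decomposition into five mutually orthogonal non-degenerate 1-spaces; for q ≥ 3, the normaliser of an adjoint-closed degree-5 subfield of the matrix algebra; a subfield group of odd prime index whose F₀-structure carries f; for q odd, a subfield group of index 2 whose F₀-structure carries f; for q = p ≡ 4 mod 5 or q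 = p² with p ≡ 2, 3 mod 5, the normaliser of an absolutely irreducible 5-group of exponent 5, order 125 and centre of order 5 with all characteristic abelian subgroups cyclic inside the similarity group of f — or else H lies in the residual class of the unitary case. -/
theorem result {F : Type*} [Field F] [Fintype F] (q : ℕ) (hF : Fintype.card F = q ^ 2) (H : Subgroup (Matrix.GeneralLinearGroup (Fin 5) F)) (hH : Cfsg.Geo.IsMaximalIn (Cfsg.GU 5 F q ⊓ Cfsg.Geo.specialLinear (Fin 5) F) H) :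
    (∃ W : Submodule F (Fin 5 → F), W ≠ ⊥ ∧ Cfsg.Geo.IsTotallySingularFor (Cfsg.hermForm 5 F q) W ∧ H = Cfsg.Geo.subspaceStabilizer W ⊓ (Cfsg.GU 5 F q ⊓ Cfsg.Geo.specialLinear (Fin 5) F)) ∨
    (∃ W : Submodule F (Fin 5 → F), W ≠ ⊥ ∧ Cfsg.Geo.IsNondegenerateOn (Cfsg.hermForm 5 F q) W ∧ 2 * Module.finrank F W < 5 ∧ H = Cfsg.Geo.subspaceStabilizer W ⊓ (Cfsg.GU 5 F q ⊓ Cfsg.Geo.specialLinear (Fin 5) F)) ∨
    (∃ D : Fin 5 → Submodule F (Fin 5 → F), Cfsg.Geo.IsNondegenerateMDecomposition (Cfsg.hermForm 5 F q) 1 D ∧ H = Cfsg.Geo.decompositionStabilizer D ⊓ (Cfsg.GU 5 F q ⊓ Cfsg.Geo.specialLinear (Fin 5) F)) ∨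
    (3 ≤ q ∧ ∃ K : Subalgebra F (Matrix (Fin 5) (Fin 5) F), Cfsg.Geo.IsFieldSubalgebra 5 K ∧ Cfsg.Geo.IsAdjointClosedFor (Cfsg.hermForm 5 F q) K ∧ H = Cfsg.Geo.subalgebraNormalizer K ⊓ (Cfsg.GU 5 F q ⊓ Cfsg.Geo.specialLinear (Fin 5) F)) ∨
    (∃ (F₀ : Subfield F) (r : ℕ) (P : Matrix.GeneralLinearGroup (Fin 5) F), r.Prime ∧ Odd r ∧ Fintype.card F = Nat.card F₀ ^ r ∧ Cfsg.Geo.IsFormRationalStructure (Cfsg.hermForm 5 F q) F₀ 1 P ∧ H = Cfsg.Geo.subfieldSubgroup F₀ P ⊓ (Cfsg.GU 5 F q ⊓ Cfsg.Geo.specialLinear (Fin 5) F)) ∨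
    (Odd q ∧ ∃ (F₀ : Subfield F) (P : Matrix.GeneralLinearGroup (Fin 5) F), Fintype.card F = Nat.card F₀ ^ 2 ∧ Cfsg.Geo.IsFormRationalStructure (Cfsg.hermForm 5 F q) F₀ 1 P ∧ H = Cfsg.Geo.subfieldSubgroup F₀ P ⊓ (Cfsg.GU 5 F q ⊓ Cfsg.Geo.specialLinear (Fin 5) F)) ∨
    (∃ (p : ℕ) (R : Subgroup (Matrix.GeneralLinearGroup (Fin 5) F)), p.Prime ∧ CharP F p ∧ ((q = p ∧ p % 5 = 4) ∨ (q = p ^ 2 ∧ (p % 5 = 2 ∨ p % 5 = 3))) ∧ Cfsg.Geo.IsSymplecticTypeGroup 5 R ∧ Cfsg.Geo.ActsAbsolutelyIrreducibly (Cfsg.Geo.matrixSet R) ∧ R ≤ Cfsg.Geo.similarityGroup (Cfsg.hermForm 5 F q) ∧ Nat.card R = 125 ∧ Nat.card (Subgroup.center R) = 5 ∧ H = Cfsg.Geo.subgroupNormalizer R ⊓ (Cfsg.GU 5 F q ⊓ Cfsg.Geo.specialLinear (Fin 5) F)) ∨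
    Cfsg.Geo.InUnitaryResidualClass H := by
  rcases Cfsg.Lib.Classical.PrimeDim.unitary_cases (n := 5) hF (by norm_num) (by norm_num) (Or.inr (by norm_num)) hH with
    h | h | h | ⟨K, hK, hadj, hHK⟩ | h | h | ⟨p, m, R, hp, hchar, hq, hord, hS, hA, hG, hsim, hc, hz, hHR⟩ | h
  · exact Or.inl h
  · exact Or.inr (Or.inl h)
  · exact Or.inr (Or.inr (Or.inl h))
  · rcases Nat.lt_or_ge q 3 with hq | hq
    · exfalso
      have h2 : q = 2 := by have := Cfsg.Lib.Classical.PrimeDim.two_le_q hF; omega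
      subst h2
      exact Cfsg.Lib.Classical.PrimeDim.SingerTwo.not_maximal hF hH hK hadj (hHK.le.trans inf_le_left)
    · exact Or.inr (Or.inr (Or.inr (Or.inl ⟨hq, K, hK, hadj, hHK⟩)))
  · exact Or.inr (Or.inr (Or.inr (Or.inr (Or.inl h))))
  · exact Or.inr (Or.inr (Or.inr (Or.inr (Or.inr (Or.inl h)))))
  · refine Or.inr (Or.inr (Or.inr (Or.inr (Or.inr (Or.inr (Or.inl ⟨p, R, hp, hchar, ?_, hS, hA, hsim, by rw [hc]; norm_num, hz, hHR⟩))))))
    have key1 : ∀ r : ℕ, r < 5 → ((r : ZMod 5) ^ (2 * 1) = 1) → ((r : ZMod 5) ≠ 1) → r = 4 := by decide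
    have key2 : ∀ r : ℕ, r < 5 → ((r : ZMod 5) ^ (2 * 2) = 1) → ((r : ZMod 5) ^ 2 ≠ 1) → r = 2 ∨ r = 3 := by decide
    haveI : Fact (Nat.Prime 5) := ⟨by norm_num⟩
    have hm0 : m ≠ 0 := fun e => by
      have h1 := Cfsg.Lib.Classical.PrimeDim.two_le_q hF
      rw [hq, e, pow_zero] at h1
      omega
    have hp0 : (p : ZMod 5) ≠ 0 := fun e => by
      rw [e, orderOf_zero] at hord
      omega
    have hd : 2 * m ∣ 5 - 1 := hord ▸ ZMod.orderOf_dvd_card_sub_one hp0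
    have hm : m = 1 ∨ m = 2 := by
      have := Nat.le_of_dvd (by norm_num) hd
      omega
    have hlt : p % 5 < 5 := Nat.mod_lt _ (by norm_num)
    rw [show (p : ZMod 5) = ((p % 5 : ℕ) : ZMod 5) from (ZMod.natCast_mod p 5).symm] at hord
    have h1 := pow_orderOf_eq_one (((p % 5 : ℕ)) : ZMod 5)
    rw [hord] at h1
    rcases hm with rfl | rfl
    · left
      refine ⟨by rw [hq, pow_one], ?_⟩
      have h2 : (((p % 5 : ℕ)) : ZMod 5) ≠ 1 := fun e => by rw [e, orderOf_one] at hord; omega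
      exact key1 _ hlt h1 h2
    · right
      refine ⟨hq, ?_⟩
      have h2 : (((p % 5 : ℕ)) : ZMod 5) ^ 2 ≠ 1 := fun e => by
        have h3 := orderOf_dvd_of_pow_eq_one e
        rw [hord] at h3
        have := Nat.le_of_dvd (by norm_num) h3
        omega
      exact key2 _ hlt h1 h2
  · exact Or.inr (Or.inr (Or.inr (Or.inr (Or.inr (Or.inr (Or.inr h))))))

end Cfsg.Agent.S5796
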