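import Cfsg.Statements.S5802
import Cfsg.Agent.Classical.Aschbacher.UnitSixField
import Cfsg.Agent.Classical.Aschbacher.UnitSixFrame

set_option autoImplicit false
open Cfsg

namespace Cfsg.Agent.S5802

/-- Every maximal subgroup of SU_6(q) is of one of the listed geometric types or lies in the residual class. Let F be the field with q² elements, f the standard unitary form Σ u_i v_i^q on F^6, and H a maximal subgroup of SU_6(q) (inside GL_6(F)). Then H is the intersection with SU_6(q) of one of: the stabiliser of a non-zero totally isotropic subspace; the stabiliser of a non-degenerate 1- or 2-space; for q ≥ 3, the stabiliser of a decomposition into six mutually orthogonal non-degenerate 1-spaces; for q ≥ 3, of a decomposition into three mutually orthogonal non-degenerate 2-spaces; of a decomposition into two orthogonal non-degenerate 3-spaces; of a decomposition into two totally isotropic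 3-spaces; for q ≥ 3, the normaliser of an adjoint-closed degree-3 subfield of the matrix algebra; for q ≥ 3, the stabiliser of a tensor decomposition of f into unitary forms on F^2 and F^3; a subfield group of odd prime index whose F₀-structure carries f; a subfield group of index 2 and symplectic type; for q odd, a subfield group of index 2 and orthogonal type — or else H lies in the residual class of the unitary case. -/
theorem result {F : Type*} [Field F] [Fintype F] (q : ℕ) (hF : Fintype.card F = q ^ 2) (H : Subgroup (Matrix.GeneralLinearGroup (Fin 6) F)) (hH : Cfsg.Geo.IsMaximalIn (Cfsg.GU 6 F q ⊓ Cfsg.Geo.specialLinear (Fin 6) F) H) :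
    (∃ W : Submodule F (Fin 6 → F), W ≠ ⊥ ∧ Cfsg.Geo.IsTotallySingularFor (Cfsg.hermForm 6 F q) W ∧ H = Cfsg.Geo.subspaceStabilizer W ⊓ (Cfsg.GU 6 F q ⊓ Cfsg.Geo.specialLinear (Fin 6) F)) ∨
    (∃ W : Submodule F (Fin 6 → F), W ≠ ⊥ ∧ Cfsg.Geo.IsNondegenerateOn (Cfsg.hermForm 6 F q) W ∧ 2 * Module.finrank F W < 6 ∧ H = Cfsg.Geo.subspaceStabilizer W ⊓ (Cfsg.GU 6 F q ⊓ Cfsg.Geo.specialLinear (Fin 6) F)) ∨
    (3 ≤ q ∧ ∃ D : Fin 6 → Submodule F (Fin 6 → F), Cfsg.Geo.IsNondegenerateMDecomposition (Cfsg.hermForm 6 F q) 1 D ∧ H = Cfsg.Geo.decompositionStabilizer D ⊓ (Cfsg.GU 6 F q ⊓ Cfsg.Geo.specialLinear (Fin 6) F)) ∨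
    (3 ≤ q ∧ ∃ D : Fin 3 → Submodule F (Fin 6 → F), Cfsg.Geo.IsNondegenerateMDecomposition (Cfsg.hermForm 6 F q) 2 D ∧ H = Cfsg.Geo.decompositionStabilizer D ⊓ (Cfsg.GU 6 F q ⊓ Cfsg.Geo.specialLinear (Fin 6) F)) ∨
    (∃ D : Fin 2 → Submodule F (Fin 6 → F), Cfsg.Geo.IsNondegenerateMDecomposition (Cfsg.hermForm 6 F q) 3 D ∧ H = Cfsg.Geo.decompositionStabilizer D ⊓ (Cfsg.GU 6 F q ⊓ Cfsg.Geo.specialLinear (Fin 6) F)) ∨
    (∃ D : Fin 2 → Submodule F (Fin 6 → F), Cfsg.Geo.IsMDecomposition 3 D ∧ (∀ i, Cfsg.Geo.IsTotallySingularFor (Cfsg.hermForm 6 F q) (D i)) ∧ H = Cfsg.Geo.decompositionStabilizer D ⊓ (Cfsg.GU 6 F q ⊓ Cfsg.Geo.specialLinear (Fin 6) F)) ∨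
    (3 ≤ q ∧ ∃ K : Subalgebra F (Matrix (Fin 6) (Fin 6) F), Cfsg.Geo.IsFieldSubalgebra 3 K ∧ Cfsg.Geo.IsAdjointClosedFor (Cfsg.hermForm 6 F q) K ∧ H = Cfsg.Geo.subalgebraNormalizer K ⊓ (Cfsg.GU 6 F q ⊓ Cfsg.Geo.specialLinear (Fin 6) F)) ∨
    (3 ≤ q ∧ ∃ (e : Fin 6 ≃ Fin 2 × Fin 3) (P : Matrix.GeneralLinearGroup (Fin 6) F) (f₁ : (Fin 2 → F) → (Fin 2 → F) → F) (f₂ : (Fin 3 → F) → (Fin 3 → F) → F), Cfsg.Geo.IsUnitaryFormPow q f₁ ∧ Cfsg.Geo.IsUnitaryFormPow q f₂ ∧ Cfsg.Geo.IsTensorFormStructure (fun x : F => x ^ q) (Cfsg.hermForm 6 F q) f₁ f₂ e P ∧ H = Cfsg.Geo.tensorProductSubgroup 2 3 e P ⊓ (Cfsg.GU 6 F q ⊓ Cfsg.Geo.specialLinear (Fin 6) F)) ∨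
    (∃ (F₀ : Subfield F) (r : ℕ) (P : Matrix.GeneralLinearGroup (Fin 6) F), r.Prime ∧ Odd r ∧ Fintype.card F = Nat.card F₀ ^ r ∧ Cfsg.Geo.IsFormRationalStructure (Cfsg.hermForm 6 F q) F₀ 1 P ∧ H = Cfsg.Geo.subfieldSubgroup F₀ P ⊓ (Cfsg.GU 6 F q ⊓ Cfsg.Geo.specialLinear (Fin 6) F)) ∨
    (∃ (F₀ : Subfield F) (P : Matrix.GeneralLinearGroup (Fin 6) F) (ζ : F), Fintype.card F = Nat.card F₀ ^ 2 ∧ ζ ≠ 0 ∧ ζ + ζ ^ q = 0 ∧ Cfsg.Geo.IsFormRationalStructure (Cfsg.hermForm 6 F q) F₀ ζ P ∧ (∀ u : Fin 6 → F, (∀ i, u i ∈ F₀) → (Cfsg.hermForm 6 F q) (Matrix.mulVec (P : Matrix (Fin 6) (Fin 6) F) u) (Matrix.mulVec (P : Matrix (Fin 6) (Fin 6) F) u) = 0) ∧ H = Cfsg.Geo.subfieldSubgroup F₀ P ⊓ (Cfsg.GU 6 F q ⊓ Cfsg.Geo.specialLinear (Fin 6) F)) ∨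
    (Odd q ∧ ∃ (F₀ : Subfield F) (P : Matrix.GeneralLinearGroup (Fin 6) F), Fintype.card F = Nat.card F₀ ^ 2 ∧ Cfsg.Geo.IsFormRationalStructure (Cfsg.hermForm 6 F q) F₀ 1 P ∧ H = Cfsg.Geo.subfieldSubgroup F₀ P ⊓ (Cfsg.GU 6 F q ⊓ Cfsg.Geo.specialLinear (Fin 6) F)) ∨
    Cfsg.Geo.InUnitaryResidualClass H := by
  classical
  have h := Cfsg.Lib.Classical.Aschbacher.su_types hF (by norm_num) hH
  have h2q := Cfsg.Lib.Classical.PrimeDim.two_le_q hF
  cases h with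
  | singular W h0 hs hH' => exact Or.inl (⟨W, h0, hs, hH'⟩)
  | nondeg W h0 hn hd hH' => exact Or.inr (Or.inl (⟨W, h0, hn, hd, hH'⟩))
  | decomp t k D ht hmul hq hD hH' =>
    have hk : k ≤ 3 := by nlinarith
    interval_cases k
    · omega
    · obtain rfl : t = 6 := by omega
      by_cases h3 : 3 ≤ q
      · exact Or.inr (Or.inr (Or.inl (⟨h3, D, hD, hH'⟩)))
      · exact (Cfsg.Lib.Classical.Aschbacher.frame_six_not_maximal hF (by omega) hH hD (hH'.le.trans inf_le_left)).elim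
    · obtain rfl : t = 3 := by omega
      exact Or.inr (Or.inr (Or.inr (Or.inl (⟨hq rfl, D, hD, hH'⟩))))
    · obtain rfl : t = 2 := by omega
      exact Or.inr (Or.inr (Or.inr (Or.inr (Or.inl (⟨D, hD, hH'⟩)))))
  | pair k D hk hD hs hH' =>
    obtain rfl : k = 3 := by omega
    exact Or.inr (Or.inr (Or.inr (Or.inr (Or.inr (Or.inl (⟨D, hD, hs, hH'⟩))))))
  | subfieldOdd F₀ r P hr ho hc hs hH' => exact Or.inr (Or.inr (Or.inr (Or.inr (Or.inr (Or.inr (Or.inr (Or.inr (Or.inl (⟨F₀, r, P, hr, ho, hc, hs, hH'⟩)))))))))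
  | subfieldOrth F₀ P hq hc hs hH' => exact Or.inr (Or.inr (Or.inr (Or.inr (Or.inr (Or.inr (Or.inr (Or.inr (Or.inr (Or.inr (Or.inl (⟨hq, F₀, P, hc, hs, hH'⟩)))))))))))
  | subfieldSymp F₀ P ζ hn hc hζ0 hζ hs halt hH' => exact Or.inr (Or.inr (Or.inr (Or.inr (Or.inr (Or.inr (Or.inr (Or.inr (Or.inr (Or.inl (⟨F₀, P, ζ, hc, hζ0, hζ, hs, halt, hH'⟩))))))))))
  | sympType r R p k hp hR ha hs hk h2 h3 hH' =>
    exfalso
    have e2 : r = 2 := ((Nat.prime_dvd_prime_iff_eq Nat.prime_two hR.prime).mp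
      (Nat.prime_two.dvd_of_dvd_pow (hk ▸ (by norm_num : 2 ∣ 6)))).symm
    have e3 : r = 3 := ((Nat.prime_dvd_prime_iff_eq Nat.prime_three hR.prime).mp
      (Nat.prime_three.dvd_of_dvd_pow (hk ▸ (by norm_num : 3 ∣ 6)))).symm
    omega
  | field r K hr ho hrn hK hs hH' =>
    obtain rfl : r = 3 := by
      have hr' : r ≤ 6 := Nat.le_of_dvd (by norm_num) hrn
      interval_cases r <;> first | rfl | (exfalso; revert hr ho hrn; norm_num [Nat.odd_iff])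
    by_cases h3 : 3 ≤ q
    · exact Or.inr (Or.inr (Or.inr (Or.inr (Or.inr (Or.inr (Or.inl (⟨h3, K, hK, hs, hH'⟩)))))))
    obtain rfl : q = 2 := by omega
    obtain ⟨F₀, P, hc, hs', halt, hle⟩ :=
      Cfsg.Lib.Classical.Aschbacher.subfield_of_field_six hF rfl hH.1.le hK hs (hH'.le.trans inf_le_left)
    have hζ : (1 : F) + 1 ^ 2 = 0 := by
      have h4 : ((Fintype.card F : ℕ) : F) = 0 := Nat.cast_card_eq_zero F
      rw [hF] at h4
      rw [one_pow, one_add_one_eq_two]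
      have h22 : (2 : F) * 2 = 0 := by rw [← h4]; norm_num
      exact (mul_self_eq_zero.mp h22)
    have hm' : Cfsg.Lib.Classical.Aschbacher.UMember 6 F 2 (Cfsg.Geo.subfieldSubgroup F₀ P) :=
      .subfieldSymp F₀ P 1 (by decide) hc one_ne_zero hζ hs' halt
    exact Or.inr (Or.inr (Or.inr (Or.inr (Or.inr (Or.inr (Or.inr (Or.inr (Or.inr (Or.inl (⟨F₀, P, 1, hc, one_ne_zero, hζ, hs', halt, Cfsg.Lib.Classical.PrimeDim.eq_inf_of_maximal hH hle (hm'.not_le hF (by norm_num))⟩))))))))))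
  | tensor n₁ n₂ e P f₁ f₂ h2 h12 hmul hq hf₁ hf₂ hs hH' =>
    obtain rfl : n₁ = 2 := by nlinarith
    obtain rfl : n₂ = 3 := by omega
    exact Or.inr (Or.inr (Or.inr (Or.inr (Or.inr (Or.inr (Or.inr (Or.inl (⟨hq rfl, e, P, f₁, f₂, hf₁, hf₂, hs, hH'⟩))))))))
  | wreath k t e P f₁ h3 ht hex hmul hf₁ hs hH' =>
    exfalso
    have h1 := Nat.pow_le_pow_left h3 t
    have h2 := Nat.pow_le_pow_right (show 0 < 3 by norm_num) ht
    omega
  | residual h => exact Or.inr (Or.inr (Or.inr (Or.inr (Or.inr (Or.inr (Or.inr (Or.inr (Or.inr (Or.inr (Or.inr (h)))))))))))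

end Cfsg.Agent.S5802
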