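import Cfsg.Statements.S5813
import Cfsg.Agent.Classical.Orth.HalfPlus
import Cfsg.Agent.Classical.Orth.NondegFour
import Cfsg.Agent.Classical.Orth.ParabolicMax
import Cfsg.Agent.Classical.Orth.SubfieldMax
import Cfsg.Agent.Classical.Orth.Frame.Main
import Cfsg.Agent.Classical.Orth.StdForms
-- import your own Cfsg.Agent.* helpers here

set_option autoImplicit false
open Cfsg

namespace Cfsg.Agent.S5813

/-- Maximal subgroups of Ω_7(q) of geometric type, q odd. Let F be a finite field of odd order q, Q the standard quadratic form x₀² + Σ x_i y_i on F^7 (coordinates Unit ⊕ (Fin 3 ⊕ Fin 3)), and Ω = Ω_7(q) the commutator subgroup of its isometry group, inside GL_7(F). Each of the following, intersected with Ω, is a maximal subgroup of Ω: (1) the stabiliser of any non-zero subspace on which Q vanishes identically (totally singular 1-, 2- and 3-spaces); (2) the stabiliser of any non-zero even-dimensional subspace W on which the polar form of Q is non-degenerate (equivalently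 of its odd-dimensional orthogonal complement), except when q = 3 and W is a 2-space containing a non-zero singular vector (a plus-type plane); (3) for q = p prime, the stabiliser of any decomposition of F^7 into seven pairwise orthogonal, pairwise Q-isometric non-degenerate 1-spaces; (4) every subfield group for a subfield F₀ with |F| = |F₀|^r, r prime, whose F₀-structure carries Q. -/
theorem result {F : Type*} [Field F] [Fintype F] (hodd : Odd (Fintype.card F)) :
    (∀ W : Submodule F (Unit ⊕ (Fin 3 ⊕ Fin 3) → F), W ≠ ⊥ → Cfsg.Geo.IsTotallySingularQuad (Cfsg.quadFormOdd 3 F) W → Cfsg.Geo.IsMaximalIn (Cfsg.Geo.omegaGL (Cfsg.quadFormOdd 3 F)) (Cfsg.Geo.subspaceStabilizer W ⊓ Cfsg.Geo.omegaGL (Cfsg.quadFormOdd 3 F))) ∧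
    (∀ W : Submodule F (Unit ⊕ (Fin 3 ⊕ Fin 3) → F), W ≠ ⊥ → Even (Module.finrank F W) → Cfsg.Geo.IsNondegenerateOn (QuadraticMap.polar (Cfsg.quadFormOdd 3 F)) W → ¬ (Fintype.card F = 3 ∧ Module.finrank F W = 2 ∧ Cfsg.Geo.IsPlusTypeOn (Cfsg.quadFormOdd 3 F) W) → Cfsg.Geo.IsMaximalIn (Cfsg.Geo.omegaGL (Cfsg.quadFormOdd 3 F)) (Cfsg.Geo.subspaceStabilizer W ⊓ Cfsg.Geo.omegaGL (Cfsg.quadFormOdd 3 F))) ∧
    ((Fintype.card F).Prime → ∀ D : Fin 7 → Submodule F (Unit ⊕ (Fin 3 ⊕ Fin 3) → F), Cfsg.Geo.IsOrthogonalMDecomposition (Cfsg.quadFormOdd 3 F) 1 D → Cfsg.Geo.IsMaximalIn (Cfsg.Geo.omegaGL (Cfsg.quadFormOdd 3 F)) (Cfsg.Geo.decompositionStabilizer D ⊓ Cfsg.Geo.omegaGL (Cfsg.quadFormOdd 3 F))) ∧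
    (∀ (F₀ : Subfield F) (r : ℕ) (P : Matrix.GeneralLinearGroup (Unit ⊕ (Fin 3 ⊕ Fin 3)) F), r.Prime → Fintype.card F = Nat.card F₀ ^ r → Cfsg.Geo.IsQuadFormRationalStructure (Cfsg.quadFormOdd 3 F) F₀ P → Cfsg.Geo.IsMaximalIn (Cfsg.Geo.omegaGL (Cfsg.quadFormOdd 3 F)) (Cfsg.Geo.subfieldSubgroup F₀ P ⊓ Cfsg.Geo.omegaGL (Cfsg.quadFormOdd 3 F))) := by
  classical
  have h2 : (2 : F) ≠ 0 := Ring.two_ne_zero fun h => by
    have := FiniteField.even_card_of_char_two h
    rw [Nat.odd_iff] at hodd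
    omega
  have hQ := Cfsg.Lib.Classical.Refl.oddForm_nondegenerate (F := F) h2 3
  rw [← Cfsg.Lib.Classical.Refl.oddForm_coe]
  set P := Cfsg.Lib.Classical.Refl.oddForm 3 F
  refine ⟨fun W hW0 hW => ?_, fun W hW0 hev hW hex => ?_, fun hp D hD => ?_, fun F₀ r M hr hcard hM => ?_⟩
  · exact Cfsg.Lib.Classical.Refl.parabolic_maximal P hQ (by simp) hW0 hW (Or.inr (by simp; omega))
  · obtain ⟨hc, -⟩ := Cfsg.Lib.Classical.Refl.nondeg_perp P hQ hW
    have hsum := Submodule.finrank_add_eq_of_isCompl hc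
    have hn : Fintype.card (Unit ⊕ (Fin 3 ⊕ Fin 3)) = 7 := by simp
    rw [Module.finrank_fintype_fun_eq_card, hn] at hsum
    obtain ⟨r, hr⟩ := hev
    refine Cfsg.Lib.Classical.Refl.nondeg_maximal_four P hQ h2 (by omega) hW hW0 ?_ (fun h => absurd h (by omega)) ?_
    · intro h
      rw [h, finrank_top, Module.finrank_fintype_fun_eq_card, hn] at hr
      omega
    · rintro X hX ⟨hq, hd, s, hs, hs0, hQs⟩
      rcases hX with rfl | rfl
      · refine hex ⟨?_, hd, Submodule.span F {s}, (Submodule.span_singleton_le_iff_mem s _).mpr hs,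
          fun w hw => ?_, by rw [finrank_span_singleton hs0, hd]⟩
        · have h1 : 2 ≤ Fintype.card F := Fintype.one_lt_card
          rw [Nat.odd_iff] at hodd
          omega
        · obtain ⟨c, rfl⟩ := Submodule.mem_span_singleton.mp hw
          rw [QuadraticMap.map_smul, hQs, smul_zero]
      · omega
  · exact Cfsg.Lib.Classical.OFr.frame_maximal_odd h2 hp (by simp) (by simp; decide) hD
  · exact Cfsg.Lib.Classical.Refl.subfield_maximal' hQ (by simp) (Or.inr h2) F₀ hr hcard M one_ne_zero (by simpa using hM)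

end Cfsg.Agent.S5813
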