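import Cfsg.Statements.S5825
import Cfsg.Agent.Classical.Orth.HalfPlus
import Cfsg.Agent.Classical.Orth.ParabolicMax
import Cfsg.Agent.Classical.Orth.PointMax
import Cfsg.Agent.Classical.Orth.SubfieldMax
import Cfsg.Agent.Classical.Orth.ListsAux
import Cfsg.Agent.Classical.Orth.NondegFour
import Cfsg.Agent.Classical.OrthElusive.Bridge
import Cfsg.Agent.Classical.ExtFieldOrth.Bridge
-- import your own Cfsg.Agent.* helpers here

set_option autoImplicit false
open Cfsg

namespace Cfsg.Agent.S5825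

/-- Maximal subgroups of Ω_8^-(q) of geometric type (any q). Let F be a finite field with q elements, Q a non-degenerate quadratic form on F^8 (non-degenerate polar form) of minus type (Witt index 3: no totally singular 4-space), and Ω = Ω_8^-(q) the commutator subgroup of the isometry group of Q, inside GL_8(F). Each of the following, intersected with Ω, is a maximal subgroup of Ω: (1) the stabiliser of any non-zero subspace on which Q vanishes identically (totally singular 1-, 2- and 3-spaces); (2) for q odd, the stabiliser of any proper subspace of odd dimension (1, 3, 5 or 7) on which the polar form of Q is non-degenerate; (3) the stabiliser of any non-degenerate 2-space of minus type (containing no non-zero singular vector); (4) for q ≥ 4, the stabiliser of any non-degenerate 2-space of plus type (containing a non-zero singular vector); (5) the stabiliser of any non-degenerate 4-space (its orthogonal complement is then a non-degenerate 4-space of the opposite type); (6)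 for q even, the stabiliser of the 1-space spanned by any non-singular vector v (Q(v) ≠ 0); (7) for q odd, the normaliser of any degree-2 subfield K of the matrix algebra whose elements are self-adjoint for the polar form of Q (Q is then the trace of a quadratic form over K); (8) every subfield group for a subfield F₀ of odd prime index r in F whose F₀-structure carries a non-zero scalar multiple of Q. -/
theorem result {F : Type*} [Field F] [Fintype F] (Q : (Fin 8 → F) → F) (hQ : Cfsg.Geo.IsNondegenerateQuadraticForm Q) (hminus : ¬ Cfsg.Geo.IsPlusTypeOn Q ⊤) :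
    (∀ W : Submodule F (Fin 8 → F), W ≠ ⊥ → Cfsg.Geo.IsTotallySingularQuad Q W → Cfsg.Geo.IsMaximalIn (Cfsg.Geo.omegaGL Q) (Cfsg.Geo.subspaceStabilizer W ⊓ Cfsg.Geo.omegaGL Q)) ∧
    (Odd (Fintype.card F) → ∀ W : Submodule F (Fin 8 → F), W ≠ ⊥ → W ≠ ⊤ → Odd (Module.finrank F W) → Cfsg.Geo.IsNondegenerateOn (QuadraticMap.polar Q) W → Cfsg.Geo.IsMaximalIn (Cfsg.Geo.omegaGL Q) (Cfsg.Geo.subspaceStabilizer W ⊓ Cfsg.Geo.omegaGL Q)) ∧
    (∀ W : Submodule F (Fin 8 → F), Module.finrank F W = 2 → Cfsg.Geo.IsNondegenerateOn (QuadraticMap.polar Q) W → ¬ Cfsg.Geo.IsPlusTypeOn Q W → Cfsg.Geo.IsMaximalIn (Cfsg.Geo.omegaGL Q) (Cfsg.Geo.subspaceStabilizer W ⊓ Cfsg.Geo.omegaGL Q)) ∧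
    (4 ≤ Fintype.card F → ∀ W : Submodule F (Fin 8 → F), Module.finrank F W = 2 → Cfsg.Geo.IsNondegenerateOn (QuadraticMap.polar Q) W → Cfsg.Geo.IsPlusTypeOn Q W → Cfsg.Geo.IsMaximalIn (Cfsg.Geo.omegaGL Q) (Cfsg.Geo.subspaceStabilizer W ⊓ Cfsg.Geo.omegaGL Q)) ∧
    (∀ W : Submodule F (Fin 8 → F), Module.finrank F W = 4 → Cfsg.Geo.IsNondegenerateOn (QuadraticMap.polar Q) W → Cfsg.Geo.IsMaximalIn (Cfsg.Geo.omegaGL Q) (Cfsg.Geo.subspaceStabilizer W ⊓ Cfsg.Geo.omegaGL Q)) ∧
    (¬ Odd (Fintype.card F) → ∀ v : (Fin 8 → F), Q v ≠ 0 → Cfsg.Geo.IsMaximalIn (Cfsg.Geo.omegaGL Q) (Cfsg.Geo.subspaceStabilizer (Submodule.span F {v}) ⊓ Cfsg.Geo.omegaGL Q)) ∧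
    (Odd (Fintype.card F) → ∀ K : Subalgebra F (Matrix (Fin 8) (Fin 8) F), Cfsg.Geo.IsFieldSubalgebra 2 K → Cfsg.Geo.IsSelfAdjointFor (QuadraticMap.polar Q) K → Cfsg.Geo.IsMaximalIn (Cfsg.Geo.omegaGL Q) (Cfsg.Geo.subalgebraNormalizer K ⊓ Cfsg.Geo.omegaGL Q)) ∧
    (∀ (F₀ : Subfield F) (r : ℕ) (P : Matrix.GeneralLinearGroup (Fin 8) F) (ζ : F), r.Prime → Odd r → Fintype.card F = Nat.card F₀ ^ r → ζ ≠ 0 → Cfsg.Geo.IsQuadFormRationalStructure (fun v : Fin 8 → F => ζ * Q v) F₀ P → Cfsg.Geo.IsMaximalIn (Cfsg.Geo.omegaGL Q) (Cfsg.Geo.subfieldSubgroup F₀ P ⊓ Cfsg.Geo.omegaGL Q)) := by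
  classical
  obtain ⟨P, rfl, hP⟩ := Cfsg.Lib.Classical.Refl.exists_form hQ
  have hn : Fintype.card (Fin 8) = 8 := Fintype.card_fin 8
  have hperp : ∀ W, Cfsg.Geo.IsNondegenerateOn (QuadraticMap.polar (⇑P)) W →
      Module.finrank F W + Module.finrank F ↥(Cfsg.Lib.Classical.HypQuad.perp P W) = 8 := fun W hW => by
    rw [Submodule.finrank_add_eq_of_isCompl (Cfsg.Lib.Classical.Refl.nondeg_perp P hP hW).1,
      Module.finrank_fin_fun]
  have hnd : ∀ W : Submodule F (Fin 8 → F), 1 ≤ Module.finrank F W → Module.finrank F W ≤ 7 →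
      Module.finrank F W ≠ 6 →
      Cfsg.Geo.IsNondegenerateOn (QuadraticMap.polar (⇑P)) W →
      2 * Module.finrank F W ≠ 8 →
      (Module.finrank F W = 2 → 4 ≤ Fintype.card F ∨ ¬ Cfsg.Geo.IsPlusTypeOn (⇑P) W) →
      Cfsg.Geo.IsMaximalIn (Cfsg.Geo.omegaGL (⇑P)) (Cfsg.Geo.subspaceStabilizer W ⊓ Cfsg.Geo.omegaGL (⇑P)) := by
    intro W h1 h7 h6 hW hne h2
    have hsum := hperp W hW
    have hmap : ∀ (X : Submodule F (Fin 8 → F)) (g : Cfsg.isometryGroup F (⇑P)),
        Module.finrank F (X.map (Matrix.toLin' (Cfsg.Lib.Classical.Refl.mat P g))) = Module.finrank F X := fun X g =>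
      LinearEquiv.finrank_map_eq (Matrix.toLinearEquiv' (Cfsg.Lib.Classical.Refl.mat P g)
        (g : GL (Fin 8) F).invertible) X
    obtain ⟨hc, hU⟩ := Cfsg.Lib.Classical.Refl.nondeg_perp P hP hW
    by_cases hle : Module.finrank F W ≤ Module.finrank F ↥(Cfsg.Lib.Classical.HypQuad.perp P W)
    · refine Cfsg.Lib.Classical.Refl.nondeg_maximal_core P hP hW (fun h => by rw [h, finrank_bot] at h1; omega)
        (by omega) hle (fun g hg => ?_) ?_
      · have := hmap W g
        rw [hg] at this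
        omega
      · rintro ⟨hq, hd, s, hs, hs0, hQs⟩
        refine (h2 hd).elim (fun h => by omega) fun h => h ⟨Submodule.span F {s},
          (Submodule.span_singleton_le_iff_mem s _).mpr hs, fun w hw => ?_, by rw [finrank_span_singleton hs0, hd]⟩
        obtain ⟨c, rfl⟩ := Submodule.mem_span_singleton.mp hw
        rw [QuadraticMap.map_smul, hQs, smul_zero]
    · rw [← Cfsg.Lib.Classical.Refl.stabilizer_perp P hP W]
      refine Cfsg.Lib.Classical.Refl.nondeg_maximal_core P hP hU (fun h0 => ?_)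
        (by rw [Cfsg.Lib.Classical.Refl.perp_perp P hP]; omega)
        (by rw [Cfsg.Lib.Classical.Refl.perp_perp P hP]; omega) (fun g hg => ?_) (fun h => by omega)
      · rw [h0, finrank_bot] at hsum; omega
      · rw [Cfsg.Lib.Classical.Refl.perp_perp P hP] at hg
        have := hmap (Cfsg.Lib.Classical.HypQuad.perp P W) g
        rw [hg] at this
        omega
  refine ⟨fun W hW0 hW => ?_, fun _ W hW0 hW1 hodd hW => ?_, fun W hd hW hm => ?_, fun hq W hd hW _ => ?_,
    fun W hd hW => ?_, fun _ v hv => ?_, fun hodd K hK hsa => ?_, fun F₀ r M ζ hr _ hcard hζ hM => ?_⟩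
  · refine Cfsg.Lib.Classical.Refl.parabolic_maximal P hP (by omega) hW0 hW ?_
    by_cases hdim : 8 = 2 * Module.finrank F W + 2
    swap
    · exact Or.inr (by rw [hn]; exact hdim)
    left
    intro x hx hx0
    by_contra hxW
    refine hminus ⟨W ⊔ Submodule.span F {x}, le_top, ?_, ?_⟩
    · intro v hv
      obtain ⟨w, hw, c, hc, rfl⟩ := Submodule.mem_sup.mp hv
      obtain ⟨a, rfl⟩ := Submodule.mem_span_singleton.mp hc
      rw [QuadraticMap.map_add (f := P), hW w hw, QuadraticMap.map_smul, hx0, QuadraticMap.polar_smul_right,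
        (Cfsg.Lib.Classical.HypQuad.mem_perp P).mp hx w hw]
      simp
    · rw [finrank_top, Module.finrank_fin_fun]
      have hdis : W ⊓ Submodule.span F {x} = ⊥ := by
        rw [Submodule.eq_bot_iff]
        rintro v ⟨hvW, hvx⟩
        obtain ⟨a, rfl⟩ := Submodule.mem_span_singleton.mp hvx
        rcases eq_or_ne a 0 with rfl | ha
        · rw [zero_smul]
        · exact absurd ((W.smul_mem_iff ha).mp hvW) hxW
      have h := Submodule.finrank_sup_add_finrank_inf_eq W (Submodule.span F {x})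
      rw [hdis, finrank_bot, finrank_span_singleton (fun h0 => hxW (by rw [h0]; exact W.zero_mem))] at h
      omega
  · obtain ⟨k, hk⟩ := hodd
    have hle := Submodule.finrank_le W
    rw [Module.finrank_fin_fun] at hle
    exact hnd W (by omega) (by omega) (by omega) hW (by omega) (fun h => by omega)
  · exact hnd W (by omega) (by omega) (by omega) hW (by omega) (fun _ => Or.inr hm)
  · exact hnd W (by omega) (by omega) (by omega) hW (by omega) (fun _ => Or.inl hq)
  · obtain ⟨hc, hU⟩ := Cfsg.Lib.Classical.Refl.nondeg_perp P hP hW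
    have hd' : Module.finrank F ↥(Cfsg.Lib.Classical.HypQuad.perp P W) = 4 := by
      have := hperp W hW
      omega
    have hne : ∀ X : Submodule F (Fin 8 → F), Module.finrank F X = 4 → Cfsg.Geo.IsNondegenerateOn (QuadraticMap.polar (⇑P)) X →
        ∀ g : Cfsg.isometryGroup F (⇑P),
        X.map (Matrix.toLin' (Cfsg.Lib.Classical.Refl.mat P g)) ≠ Cfsg.Lib.Classical.HypQuad.perp P X :=
      fun X hX hXn g hg =>
        hminus (Cfsg.Lib.Classical.Refl.half_plus P hP hXn (r := 2) (by omega) (by omega) g hg)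
    -- exactly one half contains a totally singular plane
    have htop : ∀ U : Submodule F (Fin 8 → F), Cfsg.Lib.OrthEl.Plus P U → U ≠ ⊤ := fun U hU e =>
      hminus (e ▸ hU)
    have horth : Cfsg.Lib.OrthEl.Orth P W (Cfsg.Lib.Classical.HypQuad.perp P W) := fun a ha b hb =>
      (Cfsg.Lib.Classical.HypQuad.mem_perp P).mp hb a ha
    have hplane : ∀ X : Submodule F (Fin 8 → F), Module.finrank F X = 4 →
        (Cfsg.Lib.Classical.Refl.Plane P X ↔ Cfsg.Lib.OrthEl.Plus P X) := fun X hX =>
      ⟨fun ⟨T, hT, hTd, hts⟩ => ⟨T, hT, hts, by omega⟩, fun ⟨T, hT, hts, hTd⟩ => ⟨T, hT, by omega, hts⟩⟩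
    by_cases hpl : Cfsg.Lib.Classical.Refl.Plane P (Cfsg.Lib.Classical.HypQuad.perp P W)
    · refine Cfsg.Lib.Classical.Refl.nondeg_maximal_core_four P hP hW
        (fun h => by rw [h, finrank_bot] at hd; omega) ?_ (by omega) (by omega) (by omega) (hne W hd hW)
        (fun h => by omega)
      rcases ne_or_eq (2 : F) 0 with h2 | h2
      · exact Or.inl h2
      refine Or.inr ⟨h2, hd', hd, hpl, fun hp => ?_⟩
      exact htop _ (Cfsg.Lib.OrthEl.plus_sup_plus (Cfsg.Lib.OrthEl.isND_iff.mp hW) horth ((hplane W hd).mp hp)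
        ((hplane _ hd').mp hpl)) hc.sup_eq_top
    · rw [← Cfsg.Lib.Classical.Refl.stabilizer_perp P hP W]
      refine Cfsg.Lib.Classical.Refl.nondeg_maximal_core_four P hP hU
        (fun h => by rw [h, finrank_bot] at hd'; omega) ?_ (by omega)
        (by rw [Cfsg.Lib.Classical.Refl.perp_perp P hP]; omega)
        (by rw [Cfsg.Lib.Classical.Refl.perp_perp P hP]; omega) (hne _ hd' hU) (fun h => by omega)
      rcases ne_or_eq (2 : F) 0 with h2 | h2
      · exact Or.inl h2
      rw [Cfsg.Lib.Classical.Refl.perp_perp P hP]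
      refine Or.inr ⟨h2, hd, hd', ?_, hpl⟩
      by_contra hp
      exact htop _ (Cfsg.Lib.OrthEl.minus_sup_minus (Cfsg.Lib.OrthEl.isND_iff.mp hW)
        (Cfsg.Lib.OrthEl.isND_iff.mp hU) horth (by rw [hd]; decide) (by rw [hd']; decide)
        (fun h => hp ((hplane W hd).mpr h)) (fun h => hpl ((hplane _ hd').mpr h))) hc.sup_eq_top
  · exact Cfsg.Lib.Classical.Refl.point_maximal P hP (by omega) hv
  · exact Cfsg.Lib.Classical.ExtFieldOrth.maximal hodd P hP Nat.prime_two hK hsa fun d hd => by omega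
  · exact Cfsg.Lib.Classical.Refl.subfield_maximal hP (by omega) F₀ hr hcard M hζ hM

end Cfsg.Agent.S5825
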