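import Cfsg.Statements.S5829
import Cfsg.Agent.Classical.Aschbacher.LinearMax

set_option autoImplicit false
open Cfsg

namespace Cfsg.Agent.S5829

/-- Every maximal subgroup of SL_9(q) is of one of the listed geometric types or lies in the residual class. Let F be a finite field with q elements (p its characteristic) and H a maximal subgroup of SL_9(F) (inside GL_9(F)). Then H is the intersection with SL_9(F) of one of: the stabiliser of a proper non-zero subspace; for q ≥ 5, the stabiliser of a decomposition into 9 independent 1-spaces; the stabiliser of a decomposition into 3 independent 3-spaces; the normaliser of a degree-3 subfield of the matrix algebra; a subfield group for a subfield F₀ with |F| = |F₀|^r, r prime; for q = p prime with p ≡ 1 mod 3, the normaliser of an absolutely irreducible 3-subgroup R of exponent 3 and order 3^(1+2m) with centre of order 3, all of whose characteristic abelian subgroups are cyclic, F being the smallest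 field of characteristic p containing the cube roots of unity (here R is extraspecial of order 3^5); the stabiliser of a tensor decomposition into 2 factors of dimension 3; for q odd, the similarity group of a non-degenerate quadratic form; the similarity group of a non-degenerate unitary form — or else H lies in the residual class of the linear case (modulo scalars H is almost simple, with absolutely irreducible perfect socle preimage realisable over no proper subfield and fixing no non-degenerate quadratic, symplectic or unitary form). -/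
theorem result {F : Type*} [Field F] [Fintype F] (H : Subgroup (Matrix.GeneralLinearGroup (Fin 9) F)) (hH : Cfsg.Geo.IsMaximalIn (Cfsg.Geo.specialLinear (Fin 9) F) H) :
    (∃ W : Submodule F (Fin 9 → F), W ≠ ⊥ ∧ W ≠ ⊤ ∧ H = Cfsg.Geo.subspaceStabilizer W ⊓ Cfsg.Geo.specialLinear (Fin 9) F) ∨
    (5 ≤ Fintype.card F ∧ ∃ D : Fin 9 → Submodule F (Fin 9 → F), Cfsg.Geo.IsMDecomposition 1 D ∧ H = Cfsg.Geo.decompositionStabilizer D ⊓ Cfsg.Geo.specialLinear (Fin 9) F) ∨
    (∃ D : Fin 3 → Submodule F (Fin 9 → F), Cfsg.Geo.IsMDecomposition 3 D ∧ H = Cfsg.Geo.decompositionStabilizer D ⊓ Cfsg.Geo.specialLinear (Fin 9) F) ∨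
    (∃ K : Subalgebra F (Matrix (Fin 9) (Fin 9) F), Cfsg.Geo.IsFieldSubalgebra 3 K ∧ H = Cfsg.Geo.subalgebraNormalizer K ⊓ Cfsg.Geo.specialLinear (Fin 9) F) ∨
    (∃ (F₀ : Subfield F) (r : ℕ) (P : Matrix.GeneralLinearGroup (Fin 9) F), r.Prime ∧ Fintype.card F = Nat.card F₀ ^ r ∧ H = Cfsg.Geo.subfieldSubgroup F₀ P ⊓ Cfsg.Geo.specialLinear (Fin 9) F) ∨
    ((∃ p : ℕ, p.Prime ∧ Fintype.card F = p ∧ (p % 3 = 1)) ∧ ∃ R : Subgroup (Matrix.GeneralLinearGroup (Fin 9) F), Cfsg.Geo.IsLinearSymplecticTypeData 3 R ∧ H = Cfsg.Geo.subgroupNormalizer R ⊓ Cfsg.Geo.specialLinear (Fin 9) F) ∨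
    (∃ (e : Fin 9 ≃ (Fin 2 → Fin 3)) (P : Matrix.GeneralLinearGroup (Fin 9) F), H = Cfsg.Geo.tensorWreathSubgroup 3 2 e P ⊓ Cfsg.Geo.specialLinear (Fin 9) F) ∨
    (Odd (Fintype.card F) ∧ ∃ Q : (Fin 9 → F) → F, Cfsg.Geo.IsNondegenerateQuadraticForm Q ∧ H = Cfsg.Geo.quadSimilarityGroup Q ⊓ Cfsg.Geo.specialLinear (Fin 9) F) ∨
    (∃ (σ : F ≃+* F) (f : (Fin 9 → F) → (Fin 9 → F) → F), Cfsg.Geo.IsUnitaryForm σ f ∧ H = Cfsg.Geo.similarityGroup f ⊓ Cfsg.Geo.specialLinear (Fin 9) F) ∨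
    Cfsg.Geo.InLinearResidualClass H := by
  rcases Cfsg.Lib.Classical.Aschbacher.maximal_type (n := 9) (by norm_num) hH with ⟨W, h0, h1, hM⟩ | ⟨t, m, D, ht, hmul, hl, hp, hD, hM⟩ |
    ⟨r, K, hr, hdvd, hK, hM⟩ | ⟨n₁, n₂, e, P, h1, h12, hmul, hq, hM⟩ | ⟨F₀, r, P, hr, hc, hM⟩ |
    ⟨r, k, R, hr, hk, hR, hM⟩ | ⟨m, t, e, P, hm, ht, hpow, hM⟩ | ⟨f, hf, he, hM⟩ | ⟨σ, f, hf, hM⟩ |
    ⟨Q, ho, hQ, hM⟩ | hres
  · exact (Or.inl ⟨W, h0, h1, hM⟩)
  · obtain ⟨rfl, rfl⟩ | ⟨rfl, rfl⟩ : (t = 3 ∧ m = 3) ∨ (t = 9 ∧ m = 1) := by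
      have h1 : t ∣ 9 := ⟨m, hmul.symm⟩
      have h2 := Nat.le_of_dvd (by norm_num) h1
      interval_cases t <;> omega
    · exact (Or.inr (Or.inr (Or.inl ⟨D, hD, hM⟩)))
    · exact (Or.inr (Or.inl ⟨(hl rfl).1, D, hD, hM⟩))
  · obtain rfl : r = 3 := by
      have h2 := Nat.le_of_dvd (by norm_num) hdvd
      have h3 := hr.two_le
      interval_cases r <;> first | omega | (exfalso; revert hr; norm_num)
    · exact (Or.inr (Or.inr (Or.inr (Or.inl ⟨K, hK, hM⟩))))
  · exfalso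
    have h3 : n₁ ∣ 9 := ⟨n₂, hmul.symm⟩
    have h4 := Nat.le_of_dvd (by norm_num) h3
    interval_cases n₁ <;> omega
  · exact (Or.inr (Or.inr (Or.inr (Or.inr (Or.inl ⟨F₀, r, P, hr, hc, hM⟩)))))
  · obtain rfl : r = 3 := (Nat.prime_dvd_prime_iff_eq hr Nat.prime_three).mp
      (hr.dvd_of_dvd_pow (show r ∣ 3 ^ 2 from by
        rcases Nat.eq_zero_or_pos k with rfl | hk0
        · norm_num at hk
        · exact (dvd_pow_self r hk0.ne').trans (by rw [← hk]; norm_num)))
    exact (Or.inr (Or.inr (Or.inr (Or.inr (Or.inr (Or.inl ⟨Cfsg.Lib.Classical.Aschbacher.symplecticType_three hR, R, hR, hM⟩))))))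
  · have h3 : 3 ^ t ≤ 9 := hpow ▸ Nat.pow_le_pow_left hm t
    have ht4 : t < 3 := (Nat.pow_lt_pow_iff_right (show 1 < 3 by norm_num)).mp (lt_of_le_of_lt h3 (by norm_num))
    obtain rfl : t = 2 := by omega
    have hm4 : m ≤ 3 := by nlinarith
    obtain rfl : m = 3 := by omega
    exact (Or.inr (Or.inr (Or.inr (Or.inr (Or.inr (Or.inr (Or.inl ⟨e, P, hM⟩)))))))
  · exact absurd he (by decide)
  · exact (Or.inr (Or.inr (Or.inr (Or.inr (Or.inr (Or.inr (Or.inr (Or.inr (Or.inl ⟨σ, f, hf, hM⟩)))))))))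
  · exact (Or.inr (Or.inr (Or.inr (Or.inr (Or.inr (Or.inr (Or.inr (Or.inl ⟨ho, Q, hQ, hM⟩))))))))
  · exact (Or.inr (Or.inr (Or.inr (Or.inr (Or.inr (Or.inr (Or.inr (Or.inr (Or.inr hres)))))))))

end Cfsg.Agent.S5829
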