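import Cfsg.Statements.S5834
import Cfsg.Agent.Classical.Orth.NondegFour
import Cfsg.Agent.Classical.Orth.ParabolicMax
import Cfsg.Agent.Classical.Orth.SubfieldMax
import Cfsg.Agent.Classical.Orth.Frame.Main
import Cfsg.Agent.Classical.Orth.StdForms
import Cfsg.Agent.Classical.Orth.DecompGen.Main
import Cfsg.Agent.Classical.ExtFieldOrth.Bridge
import Cfsg.Agent.Classical.TensorOrth.SqMain

set_option autoImplicit false
open Cfsg

namespace Cfsg.Agent.S5834

/-- Maximal subgroups of Ω_9(q) of geometric type, q odd. Let F be a finite field of odd order q, Q the standard quadratic form x₀² + Σ x_i y_i on F^9 (coordinates Unit ⊕ (Fin 4 ⊕ Fin 4)), and Ω = Ω_9(q) the commutator subgroup of its isometry group, inside GL_9(F). Each of the following, intersected with Ω, is a maximal subgroup of Ω: (1) the stabiliser of any non-zero subspace on which Q vanishes identically (totally singular 1- to 4-spaces); (2) the stabiliser of any non-zero even-dimensional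 subspace W (dimension 2, 4, 6 or 8) on which the polar form of Q is non-degenerate (equivalently of its odd-dimensional orthogonal complement), except when q = 3 and W is a 2-space containing a non-zero singular vector (a plus-type plane); (3) for q = p prime, the stabiliser of any decomposition of F^9 into nine pairwise orthogonal, pairwise Q-isometric non-degenerate 1-spaces; (4) for q ≥ 5, the stabiliser of any decomposition of F^9 into three pairwise orthogonal, pairwise Q-isometric non-degenerate 3-spaces; (5) the normaliser of any degree-3 subfield K of the matrix algebra whose elements are self-adjoint for the polar form of Q (Q is then the trace of a quadratic form over K); (6) every subfield group for a subfield F₀ with |F| = |F₀|^r, r prime, whose F₀-structure carries Q; (7) for q ≥ 5, the stabiliser of any decomposition of the polar form of Q as the tensor square of a non-degenerate symmetric bilinear form on F^3 up to a scalar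 (tensor-wreath subgroup). -/
theorem result {F : Type*} [Field F] [Fintype F] (hodd : Odd (Fintype.card F)) :
    (∀ W : Submodule F (Unit ⊕ (Fin 4 ⊕ Fin 4) → F), W ≠ ⊥ → Cfsg.Geo.IsTotallySingularQuad (Cfsg.quadFormOdd 4 F) W → Cfsg.Geo.IsMaximalIn (Cfsg.Geo.omegaGL (Cfsg.quadFormOdd 4 F)) (Cfsg.Geo.subspaceStabilizer W ⊓ Cfsg.Geo.omegaGL (Cfsg.quadFormOdd 4 F))) ∧
    (∀ W : Submodule F (Unit ⊕ (Fin 4 ⊕ Fin 4) → F), W ≠ ⊥ → Even (Module.finrank F W) → Cfsg.Geo.IsNondegenerateOn (QuadraticMap.polar (Cfsg.quadFormOdd 4 F)) W → ¬ (Fintype.card F = 3 ∧ Module.finrank F W = 2 ∧ Cfsg.Geo.IsPlusTypeOn (Cfsg.quadFormOdd 4 F) W) → Cfsg.Geo.IsMaximalIn (Cfsg.Geo.omegaGL (Cfsg.quadFormOdd 4 F)) (Cfsg.Geo.subspaceStabilizer W ⊓ Cfsg.Geo.omegaGL (Cfsg.quadFormOdd 4 F))) ∧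
    ((Fintype.card F).Prime → ∀ D : Fin 9 → Submodule F (Unit ⊕ (Fin 4 ⊕ Fin 4) → F), Cfsg.Geo.IsOrthogonalMDecomposition (Cfsg.quadFormOdd 4 F) 1 D → Cfsg.Geo.IsMaximalIn (Cfsg.Geo.omegaGL (Cfsg.quadFormOdd 4 F)) (Cfsg.Geo.decompositionStabilizer D ⊓ Cfsg.Geo.omegaGL (Cfsg.quadFormOdd 4 F))) ∧
    (5 ≤ Fintype.card F → ∀ D : Fin 3 → Submodule F (Unit ⊕ (Fin 4 ⊕ Fin 4) → F), Cfsg.Geo.IsOrthogonalMDecomposition (Cfsg.quadFormOdd 4 F) 3 D → Cfsg.Geo.IsMaximalIn (Cfsg.Geo.omegaGL (Cfsg.quadFormOdd 4 F)) (Cfsg.Geo.decompositionStabilizer D ⊓ Cfsg.Geo.omegaGL (Cfsg.quadFormOdd 4 F))) ∧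
    (∀ K : Subalgebra F (Matrix (Unit ⊕ (Fin 4 ⊕ Fin 4)) (Unit ⊕ (Fin 4 ⊕ Fin 4)) F), Cfsg.Geo.IsFieldSubalgebra 3 K → Cfsg.Geo.IsSelfAdjointFor (QuadraticMap.polar (Cfsg.quadFormOdd 4 F)) K → Cfsg.Geo.IsMaximalIn (Cfsg.Geo.omegaGL (Cfsg.quadFormOdd 4 F)) (Cfsg.Geo.subalgebraNormalizer K ⊓ Cfsg.Geo.omegaGL (Cfsg.quadFormOdd 4 F))) ∧
    (∀ (F₀ : Subfield F) (r : ℕ) (P : Matrix.GeneralLinearGroup (Unit ⊕ (Fin 4 ⊕ Fin 4)) F), r.Prime → Fintype.card F = Nat.card F₀ ^ r → Cfsg.Geo.IsQuadFormRationalStructure (Cfsg.quadFormOdd 4 F) F₀ P → Cfsg.Geo.IsMaximalIn (Cfsg.Geo.omegaGL (Cfsg.quadFormOdd 4 F)) (Cfsg.Geo.subfieldSubgroup F₀ P ⊓ Cfsg.Geo.omegaGL (Cfsg.quadFormOdd 4 F))) ∧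
    (5 ≤ Fintype.card F → ∀ (e : (Unit ⊕ (Fin 4 ⊕ Fin 4)) ≃ (Fin 2 → Fin 3)) (P : Matrix.GeneralLinearGroup (Unit ⊕ (Fin 4 ⊕ Fin 4)) F) (f₁ : (Fin 3 → F) → (Fin 3 → F) → F), Cfsg.Geo.IsSymmetricForm f₁ → Cfsg.Geo.IsTensorPowerFormStructure id (QuadraticMap.polar (Cfsg.quadFormOdd 4 F)) f₁ e P → Cfsg.Geo.IsMaximalIn (Cfsg.Geo.omegaGL (Cfsg.quadFormOdd 4 F)) (Cfsg.Geo.tensorWreathSubgroup 3 2 e P ⊓ Cfsg.Geo.omegaGL (Cfsg.quadFormOdd 4 F))) := by
  classical
  have h2 : (2 : F) ≠ 0 := Ring.two_ne_zero fun h => by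
    have := FiniteField.even_card_of_char_two h
    rw [Nat.odd_iff] at hodd
    omega
  have hQ := Cfsg.Lib.Classical.Refl.oddForm_nondegenerate (F := F) h2 4
  rw [← Cfsg.Lib.Classical.Refl.oddForm_coe]
  set P := Cfsg.Lib.Classical.Refl.oddForm 4 F
  have hn : Fintype.card (Unit ⊕ (Fin 4 ⊕ Fin 4)) = 9 := by simp
  refine ⟨fun W hW0 hW => ?_, fun W hW0 hev hW hex => ?_, fun hp D hD => ?_, fun hq D hD => ?_,
    fun K hK hsa => ?_, fun F₀ r M hr hcard hM => ?_, fun hq e M f₁ hf₁ hT => ?_⟩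
  · exact Cfsg.Lib.Classical.Refl.parabolic_maximal P hQ (by simp) hW0 hW (Or.inr (by simp; omega))
  · obtain ⟨hc, -⟩ := Cfsg.Lib.Classical.Refl.nondeg_perp P hQ hW
    have hsum := Submodule.finrank_add_eq_of_isCompl hc
    rw [Module.finrank_fintype_fun_eq_card, hn] at hsum
    obtain ⟨r, hr⟩ := hev
    refine Cfsg.Lib.Classical.Refl.nondeg_maximal_four P hQ h2 (by omega) hW hW0 ?_ (fun h => absurd h (by omega)) ?_
    · intro h
      rw [h, finrank_top, Module.finrank_fintype_fun_eq_card, hn] at hr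
      omega
    · rintro X hX ⟨hq, hd, s, hs, hs0, hQs⟩
      rcases hX with rfl | rfl
      · refine hex ⟨?_, hd, Submodule.span F {s}, (Submodule.span_singleton_le_iff_mem s _).mpr hs,
          fun w hw => ?_, by rw [finrank_span_singleton hs0, hd]⟩
        · have h1 : 2 ≤ Fintype.card F := Fintype.one_lt_card
          rw [Nat.odd_iff] at hodd
          omega
        · obtain ⟨c, rfl⟩ := Submodule.mem_span_singleton.mp hw
          rw [QuadraticMap.map_smul, hQs, smul_zero]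
      · omega
  · exact Cfsg.Lib.Classical.OFr.frame_maximal_odd h2 hp (by simp) (by simp; decide) hD
  · exact Cfsg.Lib.Classical.DecompGen.maximal_of_exclusions hQ hn.ge (by norm_num) (by norm_num) hD
      (fun _ => hodd) (by norm_num) (fun _ => by omega) (by norm_num) (by norm_num)
  · exact Cfsg.Lib.Classical.ExtFieldOrth.maximal hodd P hQ Nat.prime_three hK hsa
      fun d hd => by rw [hn] at hd; omega
  · exact Cfsg.Lib.Classical.Refl.subfield_maximal' hQ (by simp) (Or.inr h2) F₀ hr hcard M one_ne_zero (by simpa using hM)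
  · refine Cfsg.Lib.Classical.TensorOrth.isMaximalIn_square_three _ (fun v => ?_) e M hf₁ hT h2 hq
    rw [QuadraticMap.polar_self]
    simp [two_mul, two_smul]

end Cfsg.Agent.S5834
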