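import Cfsg.Statements.S5846
import Cfsg.Agent.Classical.Orth.HalfPlus
import Cfsg.Agent.Classical.Orth.ParabolicMax
import Cfsg.Agent.Classical.Orth.PointMax
import Cfsg.Agent.Classical.Orth.SubfieldMax
import Cfsg.Agent.Classical.Orth.OverfieldMax
import Cfsg.Agent.Classical.Orth.ListsAux
import Cfsg.Agent.Classical.Orth.DecompGen.Main
import Cfsg.Agent.Classical.Orth.Frame.Main
import Cfsg.Agent.Classical.Orth.StdForms
import Cfsg.Agent.Classical.ExtFieldOrth.Bridge

set_option autoImplicit false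
open Cfsg

namespace Cfsg.Agent.S5846

/-- Maximal subgroups of Ω_10^+(q) of geometric type (any q). Let F be a finite field with q elements (characteristic p), Q a non-degenerate quadratic form on F^10 (non-degenerate polar form) of plus type (Witt index 5: some totally singular 5-space), and Ω = Ω_10^+(q) the commutator subgroup of the isometry group of Q, inside GL_10(F). Each of the following, intersected with Ω, is a maximal subgroup of Ω: (1) the stabiliser of any non-zero subspace on which Q vanishes identically other than those of dimension 4 (totally singular subspaces, dimensions 1, 2, 3 and 5); (2) for q odd, the stabiliser of any proper subspace of odd dimension other than 5 on which the polar form of Q is non-degenerate; (3) the stabiliser of any non-degenerate 2-space of minus type (containing no non-zero singular vector); (4) for q ≥ 4, the stabiliser of any non-degenerate 2-space of plus type (containing a non-zero singular vector); (5) the stabiliser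 of any non-degenerate 4-space (either type); (6) for q even, the stabiliser of the 1-space spanned by any non-singular vector v (Q(v) ≠ 0); (7) for q = p prime with p ≡ 1 mod 4, the stabiliser of any decomposition of F^10 into 10 pairwise orthogonal, pairwise Q-isometric non-degenerate 1-spaces; (8) for q ≥ 7, the stabiliser of any decomposition of F^10 into 5 pairwise orthogonal, pairwise Q-isometric non-degenerate 2-spaces; (9) for q ≡ 1 mod 4, the stabiliser of any decomposition of F^10 into 2 pairwise orthogonal, pairwise Q-isometric non-degenerate 5-spaces; (10) for q ≡ 3 mod 4, the stabiliser of any decomposition of F^10 into two orthogonal non-degenerate 5-spaces that are not Q-isometric; (11) for q odd, the normaliser of any degree-2 subfield K of the matrix algebra whose elements are self-adjoint for the polar form of Q (Q is then the trace of a quadratic form over K); (12) every subfield group for a subfield F₀ with |F| = |F₀|^r, r prime, whose F₀-structure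 carries a non-zero scalar multiple of Q. -/
theorem result {F : Type*} [Field F] [Fintype F] (Q : (Fin 10 → F) → F) (hQ : Cfsg.Geo.IsNondegenerateQuadraticForm Q) (hplus : Cfsg.Geo.IsPlusTypeOn Q ⊤) :
    (∀ W : Submodule F (Fin 10 → F), W ≠ ⊥ → Cfsg.Geo.IsTotallySingularQuad Q W → Module.finrank F W ≠ 4 → Cfsg.Geo.IsMaximalIn (Cfsg.Geo.omegaGL Q) (Cfsg.Geo.subspaceStabilizer W ⊓ Cfsg.Geo.omegaGL Q)) ∧
    (Odd (Fintype.card F) → ∀ W : Submodule F (Fin 10 → F), W ≠ ⊥ → W ≠ ⊤ → Odd (Module.finrank F W) → 2 * Module.finrank F W ≠ 10 → Cfsg.Geo.IsNondegenerateOn (QuadraticMap.polar Q) W → Cfsg.Geo.IsMaximalIn (Cfsg.Geo.omegaGL Q) (Cfsg.Geo.subspaceStabilizer W ⊓ Cfsg.Geo.omegaGL Q)) ∧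
    (∀ W : Submodule F (Fin 10 → F), Module.finrank F W = 2 → Cfsg.Geo.IsNondegenerateOn (QuadraticMap.polar Q) W → ¬ Cfsg.Geo.IsPlusTypeOn Q W → Cfsg.Geo.IsMaximalIn (Cfsg.Geo.omegaGL Q) (Cfsg.Geo.subspaceStabilizer W ⊓ Cfsg.Geo.omegaGL Q)) ∧
    (4 ≤ Fintype.card F → ∀ W : Submodule F (Fin 10 → F), Module.finrank F W = 2 → Cfsg.Geo.IsNondegenerateOn (QuadraticMap.polar Q) W → Cfsg.Geo.IsPlusTypeOn Q W → Cfsg.Geo.IsMaximalIn (Cfsg.Geo.omegaGL Q) (Cfsg.Geo.subspaceStabilizer W ⊓ Cfsg.Geo.omegaGL Q)) ∧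
    (∀ W : Submodule F (Fin 10 → F), Module.finrank F W = 4 → Cfsg.Geo.IsNondegenerateOn (QuadraticMap.polar Q) W → Cfsg.Geo.IsMaximalIn (Cfsg.Geo.omegaGL Q) (Cfsg.Geo.subspaceStabilizer W ⊓ Cfsg.Geo.omegaGL Q)) ∧
    (¬ Odd (Fintype.card F) → ∀ v : (Fin 10 → F), Q v ≠ 0 → Cfsg.Geo.IsMaximalIn (Cfsg.Geo.omegaGL Q) (Cfsg.Geo.subspaceStabilizer (Submodule.span F {v}) ⊓ Cfsg.Geo.omegaGL Q)) ∧
    ((∃ p : ℕ, p.Prime ∧ Fintype.card F = p ∧ (p % 4 = 1)) → ∀ D : Fin 10 → Submodule F (Fin 10 → F), Cfsg.Geo.IsOrthogonalMDecomposition Q 1 D → Cfsg.Geo.IsMaximalIn (Cfsg.Geo.omegaGL Q) (Cfsg.Geo.decompositionStabilizer D ⊓ Cfsg.Geo.omegaGL Q)) ∧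
    (7 ≤ Fintype.card F → ∀ D : Fin 5 → Submodule F (Fin 10 → F), Cfsg.Geo.IsOrthogonalMDecomposition Q 2 D → Cfsg.Geo.IsMaximalIn (Cfsg.Geo.omegaGL Q) (Cfsg.Geo.decompositionStabilizer D ⊓ Cfsg.Geo.omegaGL Q)) ∧
    (Fintype.card F % 4 = 1 → ∀ D : Fin 2 → Submodule F (Fin 10 → F), Cfsg.Geo.IsOrthogonalMDecomposition Q 5 D → Cfsg.Geo.IsMaximalIn (Cfsg.Geo.omegaGL Q) (Cfsg.Geo.decompositionStabilizer D ⊓ Cfsg.Geo.omegaGL Q)) ∧
    (Fintype.card F % 4 = 3 → ∀ D : Fin 2 → Submodule F (Fin 10 → F), Cfsg.Geo.IsNondegenerateMDecomposition (QuadraticMap.polar Q) 5 D → ¬ Cfsg.Geo.AreIsometricFor Q (D 0) (D 1) → Cfsg.Geo.IsMaximalIn (Cfsg.Geo.omegaGL Q) (Cfsg.Geo.decompositionStabilizer D ⊓ Cfsg.Geo.omegaGL Q)) ∧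
    (Odd (Fintype.card F) → ∀ K : Subalgebra F (Matrix (Fin 10) (Fin 10) F), Cfsg.Geo.IsFieldSubalgebra 2 K → Cfsg.Geo.IsSelfAdjointFor (QuadraticMap.polar Q) K → Cfsg.Geo.IsMaximalIn (Cfsg.Geo.omegaGL Q) (Cfsg.Geo.subalgebraNormalizer K ⊓ Cfsg.Geo.omegaGL Q)) ∧
    (∀ (F₀ : Subfield F) (r : ℕ) (P : Matrix.GeneralLinearGroup (Fin 10) F) (ζ : F), r.Prime → Fintype.card F = Nat.card F₀ ^ r → ζ ≠ 0 → Cfsg.Geo.IsQuadFormRationalStructure (fun v : Fin 10 → F => ζ * Q v) F₀ P → Cfsg.Geo.IsMaximalIn (Cfsg.Geo.omegaGL Q) (Cfsg.Geo.subfieldSubgroup F₀ P ⊓ Cfsg.Geo.omegaGL Q)) := by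
  classical
  obtain ⟨P, rfl, hP⟩ := Cfsg.Lib.Classical.Refl.exists_form hQ
  have hn : Fintype.card (Fin 10) = 10 := Fintype.card_fin 10
  have hperp : ∀ W, Cfsg.Geo.IsNondegenerateOn (QuadraticMap.polar (⇑P)) W →
      Module.finrank F W + Module.finrank F ↥(Cfsg.Lib.Classical.HypQuad.perp P W) = 10 := fun W hW => by
    rw [Submodule.finrank_add_eq_of_isCompl (Cfsg.Lib.Classical.Refl.nondeg_perp P hP hW).1,
      Module.finrank_fin_fun]
  have hnd : ∀ W : Submodule F (Fin 10 → F), 1 ≤ Module.finrank F W → Module.finrank F W ≤ 9 →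
      Module.finrank F W ≠ 5 → Module.finrank F W ≠ 8 →
      Cfsg.Geo.IsNondegenerateOn (QuadraticMap.polar (⇑P)) W →
      (Module.finrank F W = 2 → 4 ≤ Fintype.card F ∨ ¬ Cfsg.Geo.IsPlusTypeOn (⇑P) W) →
      Cfsg.Geo.IsMaximalIn (Cfsg.Geo.omegaGL (⇑P)) (Cfsg.Geo.subspaceStabilizer W ⊓ Cfsg.Geo.omegaGL (⇑P)) := by
    intro W h1 h9 h5 h8 hW h2
    refine Cfsg.Lib.Classical.Refl.nondeg_maximal P hP (by omega) hW
      (fun h => by rw [h, finrank_bot] at h1; omega)
      (fun h => by rw [h, finrank_top, Module.finrank_fin_fun] at h9; omega) (fun h => absurd h (by omega)) ?_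
    rintro X hX ⟨hq, hd, s, hs, hs0, hQs⟩
    rcases hX with rfl | rfl
    · refine (h2 hd).elim (fun h => by omega) fun h => h ⟨Submodule.span F {s},
        (Submodule.span_singleton_le_iff_mem s _).mpr hs, fun w hw => ?_, by rw [finrank_span_singleton hs0, hd]⟩
      obtain ⟨c, rfl⟩ := Submodule.mem_span_singleton.mp hw
      rw [QuadraticMap.map_smul, hQs, smul_zero]
    · have := hperp W hW
      omega
  have hodd_of : ∀ r, Fintype.card F % 4 = r → (r = 1 ∨ r = 3) → Odd (Fintype.card F) := fun r h hr => by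
    rw [Nat.odd_iff]; omega
  have hframe : ∀ {D : Fin 10 → Submodule F (Fin 10 → F)}, (∃ p : ℕ, p.Prime ∧ Fintype.card F = p ∧ Odd p) →
      Cfsg.Geo.IsOrthogonalMDecomposition (⇑P) 1 D →
      Cfsg.Geo.IsMaximalIn (Cfsg.Geo.omegaGL (⇑P)) (Cfsg.Geo.decompositionStabilizer D ⊓ Cfsg.Geo.omegaGL (⇑P)) := by
    rintro D ⟨p, hpp, hpc, hpo⟩ hD
    have h2 : (2 : F) ≠ 0 := Ring.two_ne_zero fun h => by
      have := FiniteField.even_card_of_char_two h
      have := Nat.odd_iff.mp hpo
      omega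
    exact Cfsg.Lib.Classical.OFr.frame_maximal h2 (hpc ▸ hpp) (by omega) hD
  refine ⟨fun W hW0 hW hdim => ?_, fun _ W hW0 hW1 hodd hne hW => ?_, fun W hd hW hm => ?_,
    fun hq W hd hW _ => ?_, fun W hd hW => ?_, fun _ v hv => ?_, fun hp D hD => ?_, fun hq D hD => ?_,
    fun hq D hD => ?_, fun hq D hD hni => ?_, fun hodd K hK hsa => ?_, fun F₀ r M ζ hr hcard hζ hM => ?_⟩
  · exact Cfsg.Lib.Classical.Refl.parabolic_maximal P hP (by omega) hW0 hW (Or.inr (by omega))
  · obtain ⟨k, hk⟩ := hodd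
    have hle := Submodule.finrank_le W
    rw [Module.finrank_fin_fun] at hle
    have : Module.finrank F W ≠ 10 := by omega
    exact hnd W (by omega) (by omega) (by omega) (by omega) hW (fun h => by omega)
  · exact hnd W (by omega) (by omega) (by omega) (by omega) hW (fun _ => Or.inr hm)
  · exact hnd W (by omega) (by omega) (by omega) (by omega) hW (fun _ => Or.inl hq)
  · exact hnd W (by omega) (by omega) (by omega) (by omega) hW (fun h => by omega)
  · exact Cfsg.Lib.Classical.Refl.point_maximal P hP (by omega) hv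
  · obtain ⟨p, hpp, hpc, hp4⟩ := hp
    exact hframe ⟨p, hpp, hpc, Nat.odd_iff.mpr (by omega)⟩ hD
  · exact Cfsg.Lib.Classical.DecompGen.maximal_of_exclusions hP (by omega) (by norm_num) le_rfl hD
      (fun h => absurd h (by decide)) (fun _ => by omega) (fun h => absurd h (by norm_num))
      (fun _ _ => by omega) (fun h => absurd h (by norm_num))
  · exact Cfsg.Lib.Classical.DecompGen.maximal_of_exclusions hP (by omega) le_rfl (by norm_num) hD
      (fun _ => hodd_of 1 hq (Or.inl rfl)) (fun h => absurd h (by norm_num)) (fun h => absurd h (by norm_num))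
      (fun h => absurd h (by norm_num)) (fun h => absurd h (by norm_num))
  · exact Cfsg.Lib.Classical.Refl.pairNonIso_maximal (by norm_num) (⇑P) hQ 5 rfl D hD hni
  · exact Cfsg.Lib.Classical.ExtFieldOrth.maximal hodd P hP Nat.prime_two hK hsa fun d hd => by omega
  · exact Cfsg.Lib.Classical.Refl.subfield_maximal hP (by omega) F₀ hr hcard M hζ hM

end Cfsg.Agent.S5846
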