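import Cfsg.Statements.S5856
import Cfsg.Agent.Classical.PrimeDim.UnitaryMain
import Mathlib

set_option autoImplicit false
open Cfsg

namespace Cfsg.Agent.S5856

/-- Every maximal subgroup of SU_11(q) is of one of the listed geometric types or lies in the residual class. Let F be the field with q² elements (characteristic p), f the standard unitary form Σ u_i v_i^q on F^11, and H a maximal subgroup of SU_11(q) (inside GL_11(F)). Then H is the intersection with SU_11(q) of one of: the stabiliser of a non-zero totally isotropic subspace; the stabiliser of a non-zero non-degenerate subspace W with 2 dim W < 11; the stabiliser of a decomposition into 11 mutually orthogonal non-degenerate 1-spaces; the normaliser of an adjoint-closed degree-11 subfield of the matrix algebra; a subfield group of odd prime index whose F₀-structure carries f; for q odd, a subfield group of index 2 whose F₀-structure carries f; for q = p with p ≡ 10 mod 11, or q = p⁵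 with p ≡ 2, 6, 7 or 8 mod 11, the normaliser of an absolutely irreducible 11-group of exponent 11, order 11³ and centre of order 11 with all characteristic abelian subgroups cyclic consisting of isometries of f — or else H lies in the residual class of the unitary case (modulo scalars H is almost simple, with absolutely irreducible perfect socle preimage realisable over no proper subfield and fixing no non-degenerate quadratic or symplectic form). -/
theorem result {F : Type*} [Field F] [Fintype F] (q : ℕ) (hF : Fintype.card F = q ^ 2) (H : Subgroup (Matrix.GeneralLinearGroup (Fin 11) F)) (hH : Cfsg.Geo.IsMaximalIn (Cfsg.GU 11 F q ⊓ Cfsg.Geo.specialLinear (Fin 11) F) H) :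
    (∃ W : Submodule F (Fin 11 → F), W ≠ ⊥ ∧ Cfsg.Geo.IsTotallySingularFor (Cfsg.hermForm 11 F q) W ∧ H = Cfsg.Geo.subspaceStabilizer W ⊓ (Cfsg.GU 11 F q ⊓ Cfsg.Geo.specialLinear (Fin 11) F)) ∨
    (∃ W : Submodule F (Fin 11 → F), W ≠ ⊥ ∧ Cfsg.Geo.IsNondegenerateOn (Cfsg.hermForm 11 F q) W ∧ 2 * Module.finrank F W < 11 ∧ H = Cfsg.Geo.subspaceStabilizer W ⊓ (Cfsg.GU 11 F q ⊓ Cfsg.Geo.specialLinear (Fin 11) F)) ∨
    (∃ D : Fin 11 → Submodule F (Fin 11 → F), Cfsg.Geo.IsNondegenerateMDecomposition (Cfsg.hermForm 11 F q) 1 D ∧ H = Cfsg.Geo.decompositionStabilizer D ⊓ (Cfsg.GU 11 F q ⊓ Cfsg.Geo.specialLinear (Fin 11) F)) ∨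
    (∃ K : Subalgebra F (Matrix (Fin 11) (Fin 11) F), Cfsg.Geo.IsFieldSubalgebra 11 K ∧ Cfsg.Geo.IsAdjointClosedFor (Cfsg.hermForm 11 F q) K ∧ H = Cfsg.Geo.subalgebraNormalizer K ⊓ (Cfsg.GU 11 F q ⊓ Cfsg.Geo.specialLinear (Fin 11) F)) ∨
    (∃ (F₀ : Subfield F) (r : ℕ) (P : Matrix.GeneralLinearGroup (Fin 11) F), r.Prime ∧ Odd r ∧ Fintype.card F = Nat.card F₀ ^ r ∧ Cfsg.Geo.IsFormRationalStructure (Cfsg.hermForm 11 F q) F₀ 1 P ∧ H = Cfsg.Geo.subfieldSubgroup F₀ P ⊓ (Cfsg.GU 11 F q ⊓ Cfsg.Geo.specialLinear (Fin 11) F)) ∨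
    (Odd q ∧ ∃ (F₀ : Subfield F) (P : Matrix.GeneralLinearGroup (Fin 11) F), Fintype.card F = Nat.card F₀ ^ 2 ∧ Cfsg.Geo.IsFormRationalStructure (Cfsg.hermForm 11 F q) F₀ 1 P ∧ H = Cfsg.Geo.subfieldSubgroup F₀ P ⊓ (Cfsg.GU 11 F q ⊓ Cfsg.Geo.specialLinear (Fin 11) F)) ∨
    (∃ (p : ℕ) (R : Subgroup (Matrix.GeneralLinearGroup (Fin 11) F)), p.Prime ∧ CharP F p ∧ ((q = p ∧ p % 11 = 10) ∨ (q = p ^ 5 ∧ (p % 11 = 2 ∨ p % 11 = 6 ∨ p % 11 = 7 ∨ p % 11 = 8))) ∧ Cfsg.Geo.IsSymplecticTypeGroup 11 R ∧ Cfsg.Geo.ActsAbsolutelyIrreducibly (Cfsg.Geo.matrixSet R) ∧ R ≤ Cfsg.GU 11 F q ∧ Nat.card R = 1331 ∧ Nat.card (Subgroup.center R) = 11 ∧ H = Cfsg.Geo.subgroupNormalizer R ⊓ (Cfsg.GU 11 F q ⊓ Cfsg.Geo.specialLinear (Fin 11) F)) ∨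
    Cfsg.Geo.InUnitaryResidualClass H := by
  rcases Cfsg.Lib.Classical.PrimeDim.unitary_cases (n := 11) hF (by norm_num) (by norm_num) (Or.inr (by norm_num)) hH with
    h | h | h | h | h | h | ⟨p, m, R, hp, hchar, hq, hord, hS, hA, hG, hsim, hc, hz, hHR⟩ | h
  · exact Or.inl h
  · exact Or.inr (Or.inl h)
  · exact Or.inr (Or.inr (Or.inl h))
  · exact Or.inr (Or.inr (Or.inr (Or.inl h)))
  · exact Or.inr (Or.inr (Or.inr (Or.inr (Or.inl h))))
  · exact Or.inr (Or.inr (Or.inr (Or.inr (Or.inr (Or.inl h)))))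
  · refine Or.inr (Or.inr (Or.inr (Or.inr (Or.inr (Or.inr (Or.inl ⟨p, R, hp, hchar, ?_, hS, hA, hG, by rw [hc]; norm_num, hz, hHR⟩))))))
    have key1 : ∀ r : ℕ, r < 11 → ((r : ZMod 11) ^ (2 * 1) = 1) → ((r : ZMod 11) ≠ 1) → r = 10 := by decide
    have key2 : ∀ r : ℕ, r < 11 → ((r : ZMod 11) ^ (2 * 5) = 1) → ((r : ZMod 11) ^ 2 ≠ 1) →
        ((r : ZMod 11) ^ 5 ≠ 1) → r = 2 ∨ r = 6 ∨ r = 7 ∨ r = 8 := by
      intro r hr
      interval_cases r <;> decide
    haveI : Fact (Nat.Prime 11) := ⟨by norm_num⟩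
    have hm0 : m ≠ 0 := fun e => by
      have h1 := Cfsg.Lib.Classical.PrimeDim.two_le_q hF
      rw [hq, e, pow_zero] at h1
      omega
    have hp0 : (p : ZMod 11) ≠ 0 := fun e => by
      rw [e, orderOf_zero] at hord
      omega
    have hd : 2 * m ∣ 11 - 1 := hord ▸ ZMod.orderOf_dvd_card_sub_one hp0
    have hm : m = 1 ∨ m = 5 := by
      have := Nat.le_of_dvd (by norm_num) hd
      have : m ≤ 6 := by omega
      interval_cases m <;> revert hd <;> decide
    have hlt : p % 11 < 11 := Nat.mod_lt _ (by norm_num)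
    rw [show (p : ZMod 11) = ((p % 11 : ℕ) : ZMod 11) from (ZMod.natCast_mod p 11).symm] at hord
    have h1 := pow_orderOf_eq_one (((p % 11 : ℕ)) : ZMod 11)
    rw [hord] at h1
    rcases hm with rfl | rfl
    · left
      refine ⟨by rw [hq, pow_one], ?_⟩
      have h2 : (((p % 11 : ℕ)) : ZMod 11) ≠ 1 := fun e => by rw [e, orderOf_one] at hord; omega
      exact key1 _ hlt h1 h2
    · right
      refine ⟨hq, ?_⟩
      have h2 : (((p % 11 : ℕ)) : ZMod 11) ^ 2 ≠ 1 := fun e => by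
        have h3 := orderOf_dvd_of_pow_eq_one e
        rw [hord] at h3
        have := Nat.le_of_dvd (by norm_num) h3
        omega
      have h4 : (((p % 11 : ℕ)) : ZMod 11) ^ 5 ≠ 1 := fun e => by
        have h3 := orderOf_dvd_of_pow_eq_one e
        rw [hord] at h3
        have := Nat.le_of_dvd (by norm_num) h3
        omega
      exact key2 _ hlt h1 h2 h4
  · exact Or.inr (Or.inr (Or.inr (Or.inr (Or.inr (Or.inr (Or.inr h))))))

end Cfsg.Agent.S5856
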