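import Cfsg.Statements.S5870
import Cfsg.Agent.Classical.Orth.HalfPlus
import Cfsg.Agent.Classical.Orth.ParabolicMax
import Cfsg.Agent.Classical.Orth.PointMax
import Cfsg.Agent.Classical.Orth.SubfieldMax
import Cfsg.Agent.Classical.Orth.OverfieldMax
import Cfsg.Agent.Classical.Orth.SingPairGeo
import Cfsg.Agent.Classical.Orth.DecompGen.Main
import Cfsg.Agent.Classical.Orth.Frame.Main
import Cfsg.Agent.Classical.Orth.StdForms
import Cfsg.Agent.Classical.ExtFieldOrth.Bridge
import Cfsg.Agent.Classical.TensorQ.Main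

set_option autoImplicit false
open Cfsg

namespace Cfsg.Agent.S5870

/-- Maximal subgroups of Ω_12^+(q) of geometric type (any q). Let F be a finite field with q elements (characteristic p), Q a non-degenerate quadratic form on F^12 (non-degenerate polar form) of plus type (Witt index 6: some totally singular 6-space), and Ω = Ω_12^+(q) the commutator subgroup of the isometry group of Q, inside GL_12(F). Each of the following, intersected with Ω, is a maximal subgroup of Ω: (1) the stabiliser of any non-zero subspace on which Q vanishes identically other than those of dimension 5 (totally singular subspaces, dimensions 1, 2, 3, 4 and 6); (2) for q odd, the stabiliser of any subspace of odd dimension on which the polar form of Q is non-degenerate; (3) the stabiliser of any non-degenerate 2-space of minus type (containing no non-zero singular vector); (4) for q ≥ 4, the stabiliser of any non-degenerate 2-space of plus type (containing a non-zero singular vector); (5) the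 stabiliser of any non-degenerate 4-space (either type); (6) for q even, the stabiliser of the 1-space spanned by any non-singular vector v (Q(v) ≠ 0); (7) for q = p an odd prime, the stabiliser of any decomposition of F^12 into 12 pairwise orthogonal, pairwise Q-isometric non-degenerate 1-spaces; (8) for q ≥ 7, the stabiliser of any decomposition of F^12 into 6 pairwise orthogonal, pairwise Q-isometric non-degenerate 2-spaces of plus type; (9) for q ≠ 3, the stabiliser of any decomposition of F^12 into 6 pairwise orthogonal, pairwise Q-isometric non-degenerate 2-spaces of minus type; (10) for q odd with q ≥ 5, the stabiliser of any decomposition of F^12 into 4 pairwise orthogonal, pairwise Q-isometric non-degenerate 3-spaces; (11) for q ≥ 3, the stabiliser of any decomposition of F^12 into 3 pairwise orthogonal, pairwise Q-isometric non-degenerate 4-spaces; (12) the stabiliser of any decomposition of F^12 into 2 pairwise orthogonal, pairwise Q-isometric non-degenerate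 6-spaces; (13) the stabiliser of any decomposition into two totally singular 6-spaces; (14) for q odd, the normaliser of any degree-2 subfield K of the matrix algebra whose elements are self-adjoint for the polar form of Q (Q is then the trace of a quadratic form over K); (15) for q odd, the normaliser of any degree-3 subfield K of the matrix algebra whose elements are self-adjoint for the polar form of Q (Q is then the trace of a quadratic form over K); (16) the normaliser of any degree-2 subfield K of the matrix algebra, closed under adjoints for the polar form but not self-adjoint, whose elements act as similarities of Q (so F^12 becomes a 6-dimensional space over K with a hermitian form, and the subgroup is of the type of the unitary group GU_6(q)); (17) for q ≥ 3, the stabiliser of any tensor decomposition F^12 = F^2 ⊗ F^6 in which the polar form of Q is (alternating form) ⊗ (alternating form) up to a scalar and Q vanishes on all pure tensors; (18) every subfield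 group for a subfield F₀ with |F| = |F₀|^r, r prime, whose F₀-structure carries a non-zero scalar multiple of Q. -/
theorem result {F : Type*} [Field F] [Fintype F] (Q : (Fin 12 → F) → F) (hQ : Cfsg.Geo.IsNondegenerateQuadraticForm Q) (hplus : Cfsg.Geo.IsPlusTypeOn Q ⊤) :
    (∀ W : Submodule F (Fin 12 → F), W ≠ ⊥ → Cfsg.Geo.IsTotallySingularQuad Q W → Module.finrank F W ≠ 5 → Cfsg.Geo.IsMaximalIn (Cfsg.Geo.omegaGL Q) (Cfsg.Geo.subspaceStabilizer W ⊓ Cfsg.Geo.omegaGL Q)) ∧
    (Odd (Fintype.card F) → ∀ W : Submodule F (Fin 12 → F), W ≠ ⊥ → W ≠ ⊤ → Odd (Module.finrank F W) → 2 * Module.finrank F W ≠ 12 → Cfsg.Geo.IsNondegenerateOn (QuadraticMap.polar Q) W → Cfsg.Geo.IsMaximalIn (Cfsg.Geo.omegaGL Q) (Cfsg.Geo.subspaceStabilizer W ⊓ Cfsg.Geo.omegaGL Q)) ∧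
    (∀ W : Submodule F (Fin 12 → F), Module.finrank F W = 2 → Cfsg.Geo.IsNondegenerateOn (QuadraticMap.polar Q) W → ¬ Cfsg.Geo.IsPlusTypeOn Q W → Cfsg.Geo.IsMaximalIn (Cfsg.Geo.omegaGL Q) (Cfsg.Geo.subspaceStabilizer W ⊓ Cfsg.Geo.omegaGL Q)) ∧
    (4 ≤ Fintype.card F → ∀ W : Submodule F (Fin 12 → F), Module.finrank F W = 2 → Cfsg.Geo.IsNondegenerateOn (QuadraticMap.polar Q) W → Cfsg.Geo.IsPlusTypeOn Q W → Cfsg.Geo.IsMaximalIn (Cfsg.Geo.omegaGL Q) (Cfsg.Geo.subspaceStabilizer W ⊓ Cfsg.Geo.omegaGL Q)) ∧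
    (∀ W : Submodule F (Fin 12 → F), Module.finrank F W = 4 → Cfsg.Geo.IsNondegenerateOn (QuadraticMap.polar Q) W → Cfsg.Geo.IsMaximalIn (Cfsg.Geo.omegaGL Q) (Cfsg.Geo.subspaceStabilizer W ⊓ Cfsg.Geo.omegaGL Q)) ∧
    (¬ Odd (Fintype.card F) → ∀ v : (Fin 12 → F), Q v ≠ 0 → Cfsg.Geo.IsMaximalIn (Cfsg.Geo.omegaGL Q) (Cfsg.Geo.subspaceStabilizer (Submodule.span F {v}) ⊓ Cfsg.Geo.omegaGL Q)) ∧
    ((∃ p : ℕ, p.Prime ∧ Odd p ∧ Fintype.card F = p) → ∀ D : Fin 12 → Submodule F (Fin 12 → F), Cfsg.Geo.IsOrthogonalMDecomposition Q 1 D → Cfsg.Geo.IsMaximalIn (Cfsg.Geo.omegaGL Q) (Cfsg.Geo.decompositionStabilizer D ⊓ Cfsg.Geo.omegaGL Q)) ∧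
    (7 ≤ Fintype.card F → ∀ D : Fin 6 → Submodule F (Fin 12 → F), Cfsg.Geo.IsOrthogonalMDecomposition Q 2 D → (∀ i, Cfsg.Geo.IsPlusTypeOn Q (D i)) → Cfsg.Geo.IsMaximalIn (Cfsg.Geo.omegaGL Q) (Cfsg.Geo.decompositionStabilizer D ⊓ Cfsg.Geo.omegaGL Q)) ∧
    (Fintype.card F ≠ 3 → ∀ D : Fin 6 → Submodule F (Fin 12 → F), Cfsg.Geo.IsOrthogonalMDecomposition Q 2 D → (∀ i, ¬ Cfsg.Geo.IsPlusTypeOn Q (D i)) → Cfsg.Geo.IsMaximalIn (Cfsg.Geo.omegaGL Q) (Cfsg.Geo.decompositionStabilizer D ⊓ Cfsg.Geo.omegaGL Q)) ∧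
    (Odd (Fintype.card F) ∧ 5 ≤ Fintype.card F → ∀ D : Fin 4 → Submodule F (Fin 12 → F), Cfsg.Geo.IsOrthogonalMDecomposition Q 3 D → Cfsg.Geo.IsMaximalIn (Cfsg.Geo.omegaGL Q) (Cfsg.Geo.decompositionStabilizer D ⊓ Cfsg.Geo.omegaGL Q)) ∧
    (3 ≤ Fintype.card F → ∀ D : Fin 3 → Submodule F (Fin 12 → F), Cfsg.Geo.IsOrthogonalMDecomposition Q 4 D → Cfsg.Geo.IsMaximalIn (Cfsg.Geo.omegaGL Q) (Cfsg.Geo.decompositionStabilizer D ⊓ Cfsg.Geo.omegaGL Q)) ∧
    (∀ D : Fin 2 → Submodule F (Fin 12 → F), Cfsg.Geo.IsOrthogonalMDecomposition Q 6 D → Cfsg.Geo.IsMaximalIn (Cfsg.Geo.omegaGL Q) (Cfsg.Geo.decompositionStabilizer D ⊓ Cfsg.Geo.omegaGL Q)) ∧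
    (∀ D : Fin 2 → Submodule F (Fin 12 → F), Cfsg.Geo.IsMDecomposition 6 D → (∀ i, Cfsg.Geo.IsTotallySingularQuad Q (D i)) → Cfsg.Geo.IsMaximalIn (Cfsg.Geo.omegaGL Q) (Cfsg.Geo.decompositionStabilizer D ⊓ Cfsg.Geo.omegaGL Q)) ∧
    (Odd (Fintype.card F) → ∀ K : Subalgebra F (Matrix (Fin 12) (Fin 12) F), Cfsg.Geo.IsFieldSubalgebra 2 K → Cfsg.Geo.IsSelfAdjointFor (QuadraticMap.polar Q) K → Cfsg.Geo.IsMaximalIn (Cfsg.Geo.omegaGL Q) (Cfsg.Geo.subalgebraNormalizer K ⊓ Cfsg.Geo.omegaGL Q)) ∧
    (Odd (Fintype.card F) → ∀ K : Subalgebra F (Matrix (Fin 12) (Fin 12) F), Cfsg.Geo.IsFieldSubalgebra 3 K → Cfsg.Geo.IsSelfAdjointFor (QuadraticMap.polar Q) K → Cfsg.Geo.IsMaximalIn (Cfsg.Geo.omegaGL Q) (Cfsg.Geo.subalgebraNormalizer K ⊓ Cfsg.Geo.omegaGL Q)) ∧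
    (∀ K : Subalgebra F (Matrix (Fin 12) (Fin 12) F), Cfsg.Geo.IsFieldSubalgebra 2 K → Cfsg.Geo.IsAdjointClosedFor (QuadraticMap.polar Q) K → ¬ Cfsg.Geo.IsSelfAdjointFor (QuadraticMap.polar Q) K → (∀ k ∈ K, ∃ c : F, ∀ v : (Fin 12 → F), Q (Matrix.mulVec k v) = c * Q v) → Cfsg.Geo.IsMaximalIn (Cfsg.Geo.omegaGL Q) (Cfsg.Geo.subalgebraNormalizer K ⊓ Cfsg.Geo.omegaGL Q)) ∧
    (3 ≤ Fintype.card F → ∀ (e : Fin 12 ≃ Fin 2 × Fin 6) (P : Matrix.GeneralLinearGroup (Fin 12) F) (f₁ : (Fin 2 → F) → (Fin 2 → F) → F) (f₂ : (Fin 6 → F) → (Fin 6 → F) → F), Cfsg.Geo.IsSymplecticForm f₁ → Cfsg.Geo.IsSymplecticForm f₂ → Cfsg.Geo.IsTensorFormStructure id (QuadraticMap.polar Q) f₁ f₂ e P → (∀ (x₁ : Fin 2 → F) (x₂ : Fin 6 → F), Q (Matrix.mulVec (P : Matrix (Fin 12) (Fin 12) F) ((fun a : Fin 2 × Fin 6 => x₁ a.1 * x₂ a.2) ∘ e)) = 0) → Cfsg.Geo.IsMaximalIn (Cfsg.Geo.omegaGL Q) (Cfsg.Geo.tensorProductSubgroup 2 6 e P ⊓ Cfsg.Geo.omegaGL Q)) ∧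
    (∀ (F₀ : Subfield F) (r : ℕ) (P : Matrix.GeneralLinearGroup (Fin 12) F) (ζ : F), r.Prime → Fintype.card F = Nat.card F₀ ^ r → ζ ≠ 0 → Cfsg.Geo.IsQuadFormRationalStructure (fun v : Fin 12 → F => ζ * Q v) F₀ P → Cfsg.Geo.IsMaximalIn (Cfsg.Geo.omegaGL Q) (Cfsg.Geo.subfieldSubgroup F₀ P ⊓ Cfsg.Geo.omegaGL Q)) := by
  classical
  obtain ⟨P, rfl, hP⟩ := Cfsg.Lib.Classical.Refl.exists_form hQ
  have hn : Fintype.card (Fin 12) = 12 := Fintype.card_fin 12
  have hperp : ∀ W, Cfsg.Geo.IsNondegenerateOn (QuadraticMap.polar (⇑P)) W →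
      Module.finrank F W + Module.finrank F ↥(Cfsg.Lib.Classical.HypQuad.perp P W) = 12 := fun W hW => by
    rw [Submodule.finrank_add_eq_of_isCompl (Cfsg.Lib.Classical.Refl.nondeg_perp P hP hW).1,
      Module.finrank_fin_fun]
  have hnd : ∀ W : Submodule F (Fin 12 → F), 1 ≤ Module.finrank F W → Module.finrank F W ≤ 11 →
      Module.finrank F W ≠ 6 →
      Cfsg.Geo.IsNondegenerateOn (QuadraticMap.polar (⇑P)) W →
      (Module.finrank F W = 2 → 4 ≤ Fintype.card F ∨ ¬ Cfsg.Geo.IsPlusTypeOn (⇑P) W) →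
      Module.finrank F W ≠ 10 →
      Cfsg.Geo.IsMaximalIn (Cfsg.Geo.omegaGL (⇑P)) (Cfsg.Geo.subspaceStabilizer W ⊓ Cfsg.Geo.omegaGL (⇑P)) := by
    intro W h1 h11 h6 hW h2 h10
    refine Cfsg.Lib.Classical.Refl.nondeg_maximal P hP (by omega) hW
      (fun h => by rw [h, finrank_bot] at h1; omega)
      (fun h => by rw [h, finrank_top, Module.finrank_fin_fun] at h11; omega) (fun h => absurd h (by omega)) ?_
    rintro X hX ⟨hq, hd, s, hs, hs0, hQs⟩
    rcases hX with rfl | rfl
    · refine (h2 hd).elim (fun h => by omega) fun h => h ⟨Submodule.span F {s},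
        (Submodule.span_singleton_le_iff_mem s _).mpr hs, fun w hw => ?_, by rw [finrank_span_singleton hs0, hd]⟩
      obtain ⟨c, rfl⟩ := Submodule.mem_span_singleton.mp hw
      rw [QuadraticMap.map_smul, hQs, smul_zero]
    · have := hperp W hW
      omega
  refine ⟨fun W hW0 hW hdim => ?_, fun _ W hW0 hW1 hodd hne hW => ?_, fun W hd hW hm => ?_,
    fun hq W hd hW _ => ?_, fun W hd hW => ?_, fun _ v hv => ?_, fun hp D hD => ?_, fun hq D hD _ => ?_,
    fun hq D hD hDm => ?_, fun hq D hD => ?_, fun hq D hD => ?_, fun D hD => ?_, fun D hD hts => ?_,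
    fun hodd K hK hsa => ?_, fun hodd K hK hsa => ?_, fun K hK hac hnsa hsc => ?_,
    fun hq e M f₁ f₂ hf₁ hf₂ hT hpure => ?_, fun F₀ r M ζ hr hcard hζ hM => ?_⟩
  · exact Cfsg.Lib.Classical.Refl.parabolic_maximal P hP (by omega) hW0 hW (Or.inr (by omega))
  · obtain ⟨k, hk⟩ := hodd
    have hle := Submodule.finrank_le W
    rw [Module.finrank_fin_fun] at hle
    exact hnd W (by omega) (by omega) (by omega) hW (fun h => by omega) (by omega)
  · exact hnd W (by omega) (by omega) (by omega) hW (fun _ => Or.inr hm) (by omega)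
  · exact hnd W (by omega) (by omega) (by omega) hW (fun _ => Or.inl hq) (by omega)
  · exact hnd W (by omega) (by omega) (by omega) hW (fun h => by omega) (by omega)
  · exact Cfsg.Lib.Classical.Refl.point_maximal P hP (by omega) hv
  · obtain ⟨p, hpp, hpo, hpc⟩ := hp
    have h2 : (2 : F) ≠ 0 := Ring.two_ne_zero fun h => by
      have := FiniteField.even_card_of_char_two h
      have := Nat.odd_iff.mp hpo
      omega
    exact Cfsg.Lib.Classical.OFr.frame_maximal h2 (hpc ▸ hpp) (by omega) hD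
  · exact Cfsg.Lib.Classical.DecompGen.maximal_of_exclusions hP (by omega) (by norm_num) le_rfl hD
      (fun h => absurd h (by decide)) (fun _ => by omega) (fun h => absurd h (by norm_num))
      (fun _ _ => by omega) (fun h => absurd h (by norm_num))
  · exact Cfsg.Lib.Classical.DecompGen.maximal_of_exclusions hP (by omega) (by norm_num) le_rfl hD
      (fun h => absurd h (by decide)) (fun _ => hq) (fun h => absurd h (by norm_num))
      (fun _ hp => absurd (hp 0) (hDm 0)) (fun h => absurd h (by norm_num))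
  · exact Cfsg.Lib.Classical.DecompGen.maximal_of_exclusions hP (by omega) (by norm_num) (by norm_num) hD
      (fun _ => hq.1) (fun h => absurd h (by norm_num)) (fun _ => by omega) (fun h => absurd h (by norm_num))
      (fun h => absurd h (by norm_num))
  · exact Cfsg.Lib.Classical.DecompGen.maximal_of_exclusions hP (by omega) (by norm_num) (by norm_num) hD
      (fun h => absurd h (by decide)) (fun h => absurd h (by norm_num)) (fun h => absurd h (by norm_num))
      (fun h => absurd h (by norm_num)) (fun _ h => absurd h (by omega))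
  · exact Cfsg.Lib.Classical.DecompGen.maximal_of_exclusions hP (by omega) le_rfl (by norm_num) hD
      (fun h => absurd h (by decide)) (fun h => absurd h (by norm_num)) (fun h => absurd h (by norm_num))
      (fun h => absurd h (by norm_num)) (fun h => absurd h (by norm_num))
  · exact Cfsg.Lib.Classical.Refl.singPair_maximal (⇑P) hQ rfl (by norm_num) (by decide) D hD hts
  · exact Cfsg.Lib.Classical.ExtFieldOrth.maximal hodd P hP Nat.prime_two hK hsa fun d hd => by omega
  · exact Cfsg.Lib.Classical.ExtFieldOrth.maximal hodd P hP Nat.prime_three hK hsa fun d hd => by omega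
  · exact Cfsg.Lib.Classical.Refl.overfield_maximal hP (by omega) K hK hac hnsa hsc
  · refine Cfsg.Lib.Classical.TensorQ.isMaximalIn_symp (Or.inr ⟨le_rfl, by norm_num⟩) hQ (by norm_num)
      (fun _ => ?_) e M f₁ f₂ hf₁ hf₂ hT hpure
    by_contra hc
    push Not at hc
    have h : Fintype.card F ≤ 2 := calc
      Fintype.card F ≤ ({0, 1} : Finset F).card :=
        Finset.card_le_card fun x _ => by
          by_cases hx : x = 0
          · simp [hx]
          · simp [hc x hx]
      _ ≤ 2 := Finset.card_le_two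
    omega
  · exact Cfsg.Lib.Classical.Refl.subfield_maximal hP (by omega) F₀ hr hcard M hζ hM

end Cfsg.Agent.S5870
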