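import Cfsg.Statements.S5873
import Cfsg.Agent.Classical.Orth.HalfPlus
import Cfsg.Agent.Classical.Orth.ParabolicMax
import Cfsg.Agent.Classical.Orth.PointMax
import Cfsg.Agent.Classical.Orth.SubfieldMax
import Cfsg.Agent.Classical.Orth.DecompGen.Main
import Cfsg.Agent.Classical.Orth.StdForms
import Cfsg.Agent.Classical.ExtFieldOrth.Bridge
import Cfsg.Agent.Classical.TensorOrth.Transfer

set_option autoImplicit false
open Cfsg

namespace Cfsg.Agent.S5873

/-- Maximal subgroups of Ω_12^-(q) of geometric type (any q). Let F be a finite field with q elements (characteristic p), Q a non-degenerate quadratic form on F^12 (non-degenerate polar form) of minus type (Witt index 5: no totally singular 6-space), and Ω = Ω_12^-(q) the commutator subgroup of the isometry group of Q, inside GL_12(F). Each of the following, intersected with Ω, is a maximal subgroup of Ω: (1) the stabiliser of any non-zero subspace on which Q vanishes identically (totally singular subspaces, dimensions 1 to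 5); (2) for q odd, the stabiliser of any subspace of odd dimension on which the polar form of Q is non-degenerate; (3) the stabiliser of any non-degenerate 2-space of minus type (containing no non-zero singular vector); (4) for q ≥ 4, the stabiliser of any non-degenerate 2-space of plus type (containing a non-zero singular vector); (5) the stabiliser of any non-degenerate 4-space (either type); (6) the stabiliser of any non-degenerate 6-space (either type); (7) for q even, the stabiliser of the 1-space spanned by any non-singular vector v (Q(v) ≠ 0); (8) the stabiliser of any decomposition of F^12 into 3 pairwise orthogonal, pairwise Q-isometric non-degenerate 4-spaces of minus type; (9) for q odd, the normaliser of any degree-2 subfield K of the matrix algebra whose elements are self-adjoint for the polar form of Q (Q is then the trace of a quadratic form over K); (10) for q odd, the normaliser of any degree-3 subfield K of the matrix algebra whose elements are self-adjoint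 for the polar form of Q (Q is then the trace of a quadratic form over K); (11) for q odd with q ≥ 5, the stabiliser of any tensor decomposition F^12 = F^3 ⊗ F^4 in which the polar form of Q is the product of non-degenerate symmetric bilinear forms, the second of minus type, up to a scalar; (12) every subfield group for a subfield F₀ with |F| = |F₀|^r, r an odd prime, whose F₀-structure carries a non-zero scalar multiple of Q. -/
theorem result {F : Type*} [Field F] [Fintype F] (Q : (Fin 12 → F) → F) (hQ : Cfsg.Geo.IsNondegenerateQuadraticForm Q) (hminus : ¬ Cfsg.Geo.IsPlusTypeOn Q ⊤) :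
    (∀ W : Submodule F (Fin 12 → F), W ≠ ⊥ → Cfsg.Geo.IsTotallySingularQuad Q W → Cfsg.Geo.IsMaximalIn (Cfsg.Geo.omegaGL Q) (Cfsg.Geo.subspaceStabilizer W ⊓ Cfsg.Geo.omegaGL Q)) ∧
    (Odd (Fintype.card F) → ∀ W : Submodule F (Fin 12 → F), W ≠ ⊥ → W ≠ ⊤ → Odd (Module.finrank F W) → 2 * Module.finrank F W ≠ 12 → Cfsg.Geo.IsNondegenerateOn (QuadraticMap.polar Q) W → Cfsg.Geo.IsMaximalIn (Cfsg.Geo.omegaGL Q) (Cfsg.Geo.subspaceStabilizer W ⊓ Cfsg.Geo.omegaGL Q)) ∧
    (∀ W : Submodule F (Fin 12 → F), Module.finrank F W = 2 → Cfsg.Geo.IsNondegenerateOn (QuadraticMap.polar Q) W → ¬ Cfsg.Geo.IsPlusTypeOn Q W → Cfsg.Geo.IsMaximalIn (Cfsg.Geo.omegaGL Q) (Cfsg.Geo.subspaceStabilizer W ⊓ Cfsg.Geo.omegaGL Q)) ∧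
    (4 ≤ Fintype.card F → ∀ W : Submodule F (Fin 12 → F), Module.finrank F W = 2 → Cfsg.Geo.IsNondegenerateOn (QuadraticMap.polar Q) W → Cfsg.Geo.IsPlusTypeOn Q W → Cfsg.Geo.IsMaximalIn (Cfsg.Geo.omegaGL Q) (Cfsg.Geo.subspaceStabilizer W ⊓ Cfsg.Geo.omegaGL Q)) ∧
    (∀ W : Submodule F (Fin 12 → F), Module.finrank F W = 4 → Cfsg.Geo.IsNondegenerateOn (QuadraticMap.polar Q) W → Cfsg.Geo.IsMaximalIn (Cfsg.Geo.omegaGL Q) (Cfsg.Geo.subspaceStabilizer W ⊓ Cfsg.Geo.omegaGL Q)) ∧
    (∀ W : Submodule F (Fin 12 → F), Module.finrank F W = 6 → Cfsg.Geo.IsNondegenerateOn (QuadraticMap.polar Q) W → Cfsg.Geo.IsMaximalIn (Cfsg.Geo.omegaGL Q) (Cfsg.Geo.subspaceStabilizer W ⊓ Cfsg.Geo.omegaGL Q)) ∧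
    (¬ Odd (Fintype.card F) → ∀ v : (Fin 12 → F), Q v ≠ 0 → Cfsg.Geo.IsMaximalIn (Cfsg.Geo.omegaGL Q) (Cfsg.Geo.subspaceStabilizer (Submodule.span F {v}) ⊓ Cfsg.Geo.omegaGL Q)) ∧
    (∀ D : Fin 3 → Submodule F (Fin 12 → F), Cfsg.Geo.IsOrthogonalMDecomposition Q 4 D → (∀ i, ¬ Cfsg.Geo.IsPlusTypeOn Q (D i)) → Cfsg.Geo.IsMaximalIn (Cfsg.Geo.omegaGL Q) (Cfsg.Geo.decompositionStabilizer D ⊓ Cfsg.Geo.omegaGL Q)) ∧
    (Odd (Fintype.card F) → ∀ K : Subalgebra F (Matrix (Fin 12) (Fin 12) F), Cfsg.Geo.IsFieldSubalgebra 2 K → Cfsg.Geo.IsSelfAdjointFor (QuadraticMap.polar Q) K → Cfsg.Geo.IsMaximalIn (Cfsg.Geo.omegaGL Q) (Cfsg.Geo.subalgebraNormalizer K ⊓ Cfsg.Geo.omegaGL Q)) ∧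
    (Odd (Fintype.card F) → ∀ K : Subalgebra F (Matrix (Fin 12) (Fin 12) F), Cfsg.Geo.IsFieldSubalgebra 3 K → Cfsg.Geo.IsSelfAdjointFor (QuadraticMap.polar Q) K → Cfsg.Geo.IsMaximalIn (Cfsg.Geo.omegaGL Q) (Cfsg.Geo.subalgebraNormalizer K ⊓ Cfsg.Geo.omegaGL Q)) ∧
    (Odd (Fintype.card F) ∧ 5 ≤ Fintype.card F → ∀ (e : Fin 12 ≃ Fin 3 × Fin 4) (P : Matrix.GeneralLinearGroup (Fin 12) F) (f₁ : (Fin 3 → F) → (Fin 3 → F) → F) (f₂ : (Fin 4 → F) → (Fin 4 → F) → F), Cfsg.Geo.IsSymmetricForm f₁ → Cfsg.Geo.IsSymmetricForm f₂ → ¬ Cfsg.Geo.IsPlusTypeOn (fun v : Fin 4 → F => f₂ v v) ⊤ → Cfsg.Geo.IsTensorFormStructure id (QuadraticMap.polar Q) f₁ f₂ e P → Cfsg.Geo.IsMaximalIn (Cfsg.Geo.omegaGL Q) (Cfsg.Geo.tensorProductSubgroup 3 4 e P ⊓ Cfsg.Geo.omegaGL Q)) ∧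
    (∀ (F₀ : Subfield F) (r : ℕ) (P : Matrix.GeneralLinearGroup (Fin 12) F) (ζ : F), r.Prime → Odd r → Fintype.card F = Nat.card F₀ ^ r → ζ ≠ 0 → Cfsg.Geo.IsQuadFormRationalStructure (fun v : Fin 12 → F => ζ * Q v) F₀ P → Cfsg.Geo.IsMaximalIn (Cfsg.Geo.omegaGL Q) (Cfsg.Geo.subfieldSubgroup F₀ P ⊓ Cfsg.Geo.omegaGL Q)) := by
  classical
  obtain ⟨P, rfl, hP⟩ := Cfsg.Lib.Classical.Refl.exists_form hQ
  have hn : Fintype.card (Fin 12) = 12 := Fintype.card_fin 12
  have hperp : ∀ W, Cfsg.Geo.IsNondegenerateOn (QuadraticMap.polar (⇑P)) W →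
      Module.finrank F W + Module.finrank F ↥(Cfsg.Lib.Classical.HypQuad.perp P W) = 12 := fun W hW => by
    rw [Submodule.finrank_add_eq_of_isCompl (Cfsg.Lib.Classical.Refl.nondeg_perp P hP hW).1,
      Module.finrank_fin_fun]
  have hnd : ∀ W : Submodule F (Fin 12 → F), 1 ≤ Module.finrank F W → Module.finrank F W ≤ 11 →
      Cfsg.Geo.IsNondegenerateOn (QuadraticMap.polar (⇑P)) W →
      (Module.finrank F W = 2 → 4 ≤ Fintype.card F ∨ ¬ Cfsg.Geo.IsPlusTypeOn (⇑P) W) →
      Module.finrank F W ≠ 10 →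
      Cfsg.Geo.IsMaximalIn (Cfsg.Geo.omegaGL (⇑P)) (Cfsg.Geo.subspaceStabilizer W ⊓ Cfsg.Geo.omegaGL (⇑P)) := by
    intro W h1 h11 hW h2 h10
    refine Cfsg.Lib.Classical.Refl.nondeg_maximal P hP (by omega) hW
      (fun h => by rw [h, finrank_bot] at h1; omega)
      (fun h => by rw [h, finrank_top, Module.finrank_fin_fun] at h11; omega) ?_ ?_
    · intro h g hg
      exact hminus (Cfsg.Lib.Classical.Refl.half_plus P hP hW (r := 3) (by omega) (by omega) g hg)
    · rintro X hX ⟨hq, hd, s, hs, hs0, hQs⟩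
      rcases hX with rfl | rfl
      · refine (h2 hd).elim (fun h => by omega) fun h => h ⟨Submodule.span F {s},
          (Submodule.span_singleton_le_iff_mem s _).mpr hs, fun w hw => ?_, by rw [finrank_span_singleton hs0, hd]⟩
        obtain ⟨c, rfl⟩ := Submodule.mem_span_singleton.mp hw
        rw [QuadraticMap.map_smul, hQs, smul_zero]
      · have := hperp W hW
        omega
  refine ⟨fun W hW0 hW => ?_, fun _ W hW0 hW1 hodd _ hW => ?_, fun W hd hW hm => ?_, fun hq W hd hW _ => ?_,
    fun W hd hW => ?_, fun W hd hW => ?_, fun _ v hv => ?_, fun D hD hDm => ?_, fun hodd K hK hsa => ?_,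
    fun hodd K hK hsa => ?_, fun hq e M f₁ f₂ hf₁ hf₂ hf₂m hT => ?_, fun F₀ r M ζ hr _ hcard hζ hM => ?_⟩
  · refine Cfsg.Lib.Classical.Refl.parabolic_maximal P hP (by omega) hW0 hW ?_
    by_cases hdim : 12 = 2 * Module.finrank F W + 2
    swap
    · exact Or.inr (by rw [hn]; exact hdim)
    left
    intro x hx hx0
    by_contra hxW
    refine hminus ⟨W ⊔ Submodule.span F {x}, le_top, ?_, ?_⟩
    · intro v hv
      obtain ⟨w, hw, c, hc, rfl⟩ := Submodule.mem_sup.mp hv
      obtain ⟨a, rfl⟩ := Submodule.mem_span_singleton.mp hc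
      rw [QuadraticMap.map_add (f := P), hW w hw, QuadraticMap.map_smul, hx0, QuadraticMap.polar_smul_right,
        (Cfsg.Lib.Classical.HypQuad.mem_perp P).mp hx w hw]
      simp
    · rw [finrank_top, Module.finrank_fin_fun]
      have hdis : W ⊓ Submodule.span F {x} = ⊥ := by
        rw [Submodule.eq_bot_iff]
        rintro v ⟨hvW, hvx⟩
        obtain ⟨a, rfl⟩ := Submodule.mem_span_singleton.mp hvx
        rcases eq_or_ne a 0 with rfl | ha
        · rw [zero_smul]
        · exact absurd ((W.smul_mem_iff ha).mp hvW) hxW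
      have h := Submodule.finrank_sup_add_finrank_inf_eq W (Submodule.span F {x})
      rw [hdis, finrank_bot, finrank_span_singleton (fun h0 => hxW (by rw [h0]; exact W.zero_mem))] at h
      omega
  · obtain ⟨k, hk⟩ := hodd
    have hle := Submodule.finrank_le W
    rw [Module.finrank_fin_fun] at hle
    exact hnd W (by omega) (by omega) hW (fun h => by omega) (by omega)
  · exact hnd W (by omega) (by omega) hW (fun _ => Or.inr hm) (by omega)
  · exact hnd W (by omega) (by omega) hW (fun _ => Or.inl hq) (by omega)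
  · exact hnd W (by omega) (by omega) hW (fun h => by omega) (by omega)
  · exact hnd W (by omega) (by omega) hW (fun h => by omega) (by omega)
  · exact Cfsg.Lib.Classical.Refl.point_maximal P hP (by omega) hv
  · exact Cfsg.Lib.Classical.DecompGen.maximal_of_exclusions hP (by omega) (by norm_num) (by norm_num) hD
      (fun h => absurd h (by decide)) (fun h => absurd h (by norm_num)) (fun h => absurd h (by norm_num))
      (fun h => absurd h (by norm_num)) (fun _ _ hp => hDm 0 (hp 0))
  · exact Cfsg.Lib.Classical.ExtFieldOrth.maximal hodd P hP Nat.prime_two hK hsa fun d hd => by omega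
  · exact Cfsg.Lib.Classical.ExtFieldOrth.maximal hodd P hP Nat.prime_three hK hsa fun d hd => by omega
  · have h2' : (2 : F) ≠ 0 := Ring.two_ne_zero fun h => by
      have := FiniteField.even_card_of_char_two h
      have := Nat.odd_iff.mp hq.1
      omega
    refine Cfsg.Lib.Classical.TensorOrth.isMaximalIn_first (⇑P) (fun v => ?_) e M hf₁ hf₂ hT h2' le_rfl le_rfl
      (by norm_num) (fun _ x u hx hu hxu hli => hf₂m ?_) (fun h => absurd h (by norm_num)) (fun _ h => by omega)
    · rw [QuadraticMap.polar_self, two_nsmul, two_mul]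
    · refine ⟨Submodule.span F (Set.range ![x, u]), le_top, fun w hw => ?_, ?_⟩
      · obtain ⟨c, rfl⟩ := (Submodule.mem_span_range_iff_exists_fun F).mp hw
        have hb₂ := hf₂.bilinear
        simp [Fin.sum_univ_two, hb₂.add_left, hb₂.add_right, hb₂.smul_left, hb₂.smul_right, hx, hu, hxu,
          hf₂.symm u x]
      · rw [finrank_span_eq_card hli, finrank_top, Module.finrank_pi, Fintype.card_fin, Fintype.card_fin]
  · exact Cfsg.Lib.Classical.Refl.subfield_maximal hP (by omega) F₀ hr hcard M hζ hM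

end Cfsg.Agent.S5873
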