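import Cfsg.Statements.S5883
import Cfsg.Agent.FiBigMax.Main

set_option autoImplicit false
open Cfsg

namespace Cfsg.Agent.S5883

/-- The constant 10 in the statement that H⁽¹⁰⁾ is perfect for every maximal subgroup H of a finite almost simple group cannot be lowered to 9: there exist a finite almost simple group G (with a non-abelian simple normal subgroup of trivial centralizer) and a maximal subgroup H of G whose ninth derived subgroup H⁽⁹⁾ is not perfect, i.e. H⁽¹⁰⁾ ≠ H⁽⁹⁾. (A solvable maximal subgroup of derived length 10 in the Fischer group Fi₂₃ is such an example.) -/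
theorem result :
    ∃ (G : Type) (_ : Group G) (_ : Finite G) (S H : Subgroup G), S.Normal ∧ IsSimpleGroup S ∧ ¬ IsMulCommutative S ∧
      Subgroup.centralizer (S : Set G) = ⊥ ∧ IsCoatom H ∧ derivedSeries H 10 ≠ derivedSeries H 9 := by
  refine ⟨Cfsg.Spor.Fi23, inferInstance, inferInstance, ⊤, Cfsg.Lib.FiBigMax.H, inferInstance, ?_, ?_, ?_,
    Cfsg.Lib.FiBigMax.H_maximal, Cfsg.Lib.FiBigMax.derived_ne⟩
  · haveI := Cfsg.Lib.FiTwenty.simple_fi
    exact IsSimpleGroup.isSimpleGroup_of_surjective (Subgroup.topEquiv (G := Cfsg.Spor.Fi23)).symm.toMonoidHom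
      (MulEquiv.surjective _)
  · exact Cfsg.Lib.FiBigMax.not_comm_top
  · rw [Subgroup.coe_top, Subgroup.centralizer_univ]
    exact Cfsg.Lib.FiBigMax.center_fi

end Cfsg.Agent.S5883
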