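import Cfsg.Statements.S5902
import Mathlib

set_option autoImplicit false
open Cfsg

namespace Cfsg.Agent.S5902

/-- Let G be a finite group, X a subgroup whose own subgroup lattice is complemented, and suppose X lies in exactly one maximal subgroup M of G. Then every subgroup H of G not contained in the normal core of M has a complement in the subgroup lattice of G (some C with H ⊔ C = G and H ⊓ C = 1); in particular the subgroup lattice of G modulo the normal core of M is complemented. -/
theorem result {G : Type*} [Group G] [Finite G] (X M : Subgroup G)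
    (hK : ComplementedLattice (Subgroup X))
    (hM : IsCoatom M) (hXM : X ≤ M) (huniq : ∀ M' : Subgroup G, IsCoatom M' → X ≤ M' → M' = M) :
    (∀ H : Subgroup G, ¬ H ≤ M.normalCore → ∃ C : Subgroup G, H ⊔ C = ⊤ ∧ H ⊓ C = ⊥) ∧
    ComplementedLattice (Subgroup (G ⧸ M.normalCore)) := by
  have key : ∀ H : Subgroup G, ¬ H ≤ M → ∃ C : Subgroup G, H ⊔ C = ⊤ ∧ H ⊓ C = ⊥ := by
    intro H hH
    obtain ⟨⟨C', hC'⟩⟩ : Nonempty {C' : Subgroup X // IsCompl (H.subgroupOf X) C'} := by
      obtain ⟨C', hC'⟩ := exists_isCompl (H.subgroupOf X)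
      exact ⟨⟨C', hC'⟩⟩
    refine ⟨C'.map X.subtype, ?_, ?_⟩
    · have hXle : X ≤ H ⊔ C'.map X.subtype := by
        have h1 := congrArg (Subgroup.map X.subtype) hC'.sup_eq_top
        rw [Subgroup.map_sup, Subgroup.subgroupOf_map_subtype, ← MonoidHom.range_eq_map,
          Subgroup.range_subtype] at h1
        conv_lhs => rw [← h1]
        exact sup_le (inf_le_left.trans le_sup_left) le_sup_right
      by_contra hne
      rcases (eq_top_or_exists_le_coatom (H ⊔ C'.map X.subtype)) with h | ⟨M', hM', hle⟩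
      · exact hne h
      · exact hH ((le_sup_left.trans hle).trans (huniq M' hM' (hXle.trans hle)).le)
    · rw [Subgroup.eq_bot_iff_forall]
      rintro x ⟨hxH, c, hc, rfl⟩
      have : c ∈ H.subgroupOf X ⊓ C' := ⟨hxH, hc⟩
      rw [hC'.inf_eq_bot, Subgroup.mem_bot] at this
      simp [this]
  have key2 : ∀ H : Subgroup G, ¬ H ≤ M.normalCore → ∃ C : Subgroup G, H ⊔ C = ⊤ ∧ H ⊓ C = ⊥ := by
    intro H hH
    obtain ⟨h, hhH, hhM⟩ := SetLike.not_le_iff_exists.mp hH
    obtain ⟨g, hg⟩ : ∃ g : G, g * h * g⁻¹ ∉ M := not_forall.mp hhM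
    let e : G ≃* G := MulAut.conj g
    have hHM : ¬ H.map e.toMonoidHom ≤ M := fun hle => hg (hle ⟨h, hhH, rfl⟩)
    obtain ⟨C, hC1, hC2⟩ := key _ hHM
    have hinj : Function.Injective e.toMonoidHom := e.injective
    have hC : C = (C.map e.symm.toMonoidHom).map e.toMonoidHom := by
      rw [Subgroup.map_map]
      simp
    rw [hC, ← Subgroup.map_sup] at hC1
    rw [hC, ← Subgroup.map_inf _ _ _ hinj] at hC2
    exact ⟨C.map e.symm.toMonoidHom,
      Subgroup.map_injective hinj (by rw [hC1, Subgroup.map_top_of_surjective _ e.surjective]),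
      Subgroup.map_injective hinj (by rw [hC2, Subgroup.map_bot])⟩
  refine ⟨key2, ⟨fun K => ?_⟩⟩
  by_cases hK0 : K = ⊥
  · exact ⟨⊤, by rw [hK0]; exact isCompl_bot_top⟩
  have hmk : Function.Surjective (QuotientGroup.mk' M.normalCore) := QuotientGroup.mk'_surjective _
  have hle : ¬ K.comap (QuotientGroup.mk' M.normalCore) ≤ M.normalCore := by
    intro hle
    apply hK0
    rw [← Subgroup.map_comap_eq_self_of_surjective hmk K, Subgroup.map_eq_bot_iff, QuotientGroup.ker_mk']
    exact hle
  obtain ⟨C, hC1, hC2⟩ := key2 _ hle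
  refine ⟨C.map (QuotientGroup.mk' M.normalCore), IsCompl.of_eq ?_ ?_⟩
  · rw [Subgroup.eq_bot_iff_forall]
    rintro x ⟨hxK, c, hc, rfl⟩
    have : c ∈ K.comap (QuotientGroup.mk' M.normalCore) ⊓ C := ⟨hxK, hc⟩
    rw [hC2, Subgroup.mem_bot] at this
    rw [this, map_one]
  · have h := congrArg (Subgroup.map (QuotientGroup.mk' M.normalCore)) hC1
    rwa [Subgroup.map_sup, Subgroup.map_comap_eq_self_of_surjective hmk,
      Subgroup.map_top_of_surjective _ hmk] at h

end Cfsg.Agent.S5902
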