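import Cfsg.Statements.S5903
import Mathlib

set_option autoImplicit false
open Cfsg

namespace Cfsg.Agent.S5903

/-- Let G be a finite simple group, X a subgroup lying in exactly one maximal subgroup M of G, and N a subgroup of prime order with N ≤ X that is central in M. If the subgroup lattice of X/N is complemented, then the subgroup lattice of G is complemented. -/
theorem result {G : Type*} [Group G] [Finite G] [IsSimpleGroup G] (X M N : Subgroup G)
    (hM : IsCoatom M) (hXM : X ≤ M) (huniq : ∀ M' : Subgroup G, IsCoatom M' → X ≤ M' → M' = M)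
    (hNX : N ≤ X) (hN : (Nat.card N).Prime) (hcen : ∀ n ∈ N, ∀ m ∈ M, m * n = n * m)
    [(N.subgroupOf X).Normal] (hK : ComplementedLattice (Subgroup (X ⧸ N.subgroupOf X))) :
    ComplementedLattice (Subgroup G) := by
  refine ⟨fun H => ?_⟩
  by_cases hH0 : H = ⊥
  · exact ⟨⊤, by rw [hH0]; exact isCompl_bot_top⟩
  by_cases hH1 : H = ⊤
  · exact ⟨⊥, by rw [hH1]; exact isCompl_top_bot⟩
  haveI := Fact.mk hN
  have hNbot : N ≠ ⊥ := fun h => hN.ne_one (by rw [h, Subgroup.card_bot])
  have key : ∀ K : Subgroup G, ¬ K ≤ M → ¬ N ≤ K → ∃ C, IsCompl K C := by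
    intro K hKM hNK
    have hKN : K ⊓ N = ⊥ := by
      have hd := Subgroup.card_dvd_of_le (inf_le_right : K ⊓ N ≤ N)
      rcases (Nat.dvd_prime hN).mp hd with h | h
      · exact Subgroup.eq_bot_of_card_eq _ h
      · exact absurd ((Subgroup.eq_of_le_of_card_ge inf_le_right h.ge) ▸ inf_le_left) hNK
    let π := QuotientGroup.mk' (N.subgroupOf X)
    let Y := N ⊔ (K ⊓ X)
    obtain ⟨C', hC'⟩ := exists_isCompl ((Y.subgroupOf X).map π)
    refine ⟨(C'.comap π).map X.subtype, IsCompl.of_eq ?_ ?_⟩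
    · rw [Subgroup.eq_bot_iff_forall]
      rintro x ⟨hxK, c, hc, rfl⟩
      have hmem : π c ∈ (Y.subgroupOf X).map π ⊓ C' :=
        ⟨⟨c, (le_sup_right : K ⊓ X ≤ Y) ⟨hxK, c.2⟩, rfl⟩, hc⟩
      rw [hC'.inf_eq_bot, Subgroup.mem_bot, QuotientGroup.mk'_apply, QuotientGroup.eq_one_iff] at hmem
      have : (c : G) ∈ K ⊓ N := ⟨hxK, hmem⟩
      rwa [hKN, Subgroup.mem_bot] at this
    · have hNC : N ≤ (C'.comap π).map X.subtype := fun n hn =>
        ⟨⟨n, hNX hn⟩, by
          show π ⟨n, hNX hn⟩ ∈ C'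
          rw [show π ⟨n, hNX hn⟩ = 1 from (QuotientGroup.eq_one_iff _).mpr hn]
          exact one_mem _, rfl⟩
      have hXle : X ≤ K ⊔ (C'.comap π).map X.subtype := by
        intro x hx
        have hπ : π ⟨x, hx⟩ ∈ (Y.subgroupOf X).map π ⊔ C' := hC'.sup_eq_top ▸ Subgroup.mem_top _
        rw [← Subgroup.map_comap_eq_self_of_surjective (QuotientGroup.mk'_surjective _) C',
          ← Subgroup.map_sup] at hπ
        obtain ⟨y, hy, hye⟩ := hπ
        have hmem : (X.subtype y : G) ∈ (Y.subgroupOf X ⊔ C'.comap π).map X.subtype := ⟨y, hy, rfl⟩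
        rw [Subgroup.map_sup, Subgroup.subgroupOf_map_subtype] at hmem
        have hYle : Y ⊓ X ≤ K ⊔ (C'.comap π).map X.subtype :=
          inf_le_left.trans (sup_le (hNC.trans le_sup_right) (inf_le_left.trans le_sup_left))
        have h1 : (y : G) ∈ K ⊔ (C'.comap π).map X.subtype :=
          (sup_le hYle le_sup_right) hmem
        have h2 : y⁻¹ * ⟨x, hx⟩ ∈ N.subgroupOf X := QuotientGroup.eq.mp hye
        have h3 : ((y : G))⁻¹ * x ∈ K ⊔ (C'.comap π).map X.subtype :=
          (hNC.trans le_sup_right) h2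
        simpa using mul_mem h1 h3
      by_contra hne
      rcases (eq_top_or_exists_le_coatom (K ⊔ (C'.comap π).map X.subtype)) with h | ⟨M', hM', hle⟩
      · exact hne h
      · exact hKM ((le_sup_left.trans hle).trans (huniq M' hM' (hXle.trans hle)).le)
  have hex : ∃ g : G, ¬ H.map (MulAut.conj g).toMonoidHom ≤ M ∧ ¬ N ≤ H.map (MulAut.conj g).toMonoidHom := by
    by_contra hall
    push Not at hall
    have hnorm : ∀ g : G, ∀ n ∈ N, ∀ x ∈ H.map (MulAut.conj g).toMonoidHom,
        n * x * n⁻¹ ∈ H.map (MulAut.conj g).toMonoidHom := by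
      intro g n hn x hx
      by_cases h : H.map (MulAut.conj g).toMonoidHom ≤ M
      · rw [← hcen n hn x (h hx)]
        simpa using hx
      · have := hall g h hn
        exact mul_mem (mul_mem this hx) (inv_mem this)
    have hcore : N ≤ (Subgroup.normalizer (H : Set G)).normalCore := by
      intro n hn g
      have hh : ∀ x ∈ H, (g * n * g⁻¹) * x * (g * n * g⁻¹)⁻¹ ∈ H := by
        intro x hx
        obtain ⟨y, hy, hye⟩ := hnorm g⁻¹ n hn (g⁻¹ * x * g) ⟨x, hx, by simp⟩
        have : y = (g * n * g⁻¹) * x * (g * n * g⁻¹)⁻¹ := by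
          have e := congrArg (fun z => g * z * g⁻¹) hye
          simp only [MulEquiv.coe_toMonoidHom, MulAut.conj_apply] at e
          group at e ⊢
          exact e
        exact this ▸ hy
      refine Subgroup.mem_normalizer_fintype ?_
      exact hh
    rcases Subgroup.Normal.eq_bot_or_eq_top (inferInstance : (Subgroup.normalizer (H : Set G)).normalCore.Normal) with h | h
    · exact hNbot (le_bot_iff.mp (h ▸ hcore))
    · have : H.Normal := Subgroup.normalizer_eq_top_iff.mp (top_le_iff.mp (h ▸ Subgroup.normalCore_le _))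
      rcases Subgroup.Normal.eq_bot_or_eq_top this with h | h
      · exact hH0 h
      · exact hH1 h
  obtain ⟨g, hg1, hg2⟩ := hex
  obtain ⟨C, hC⟩ := key _ hg1 hg2
  let e : G ≃* G := MulAut.conj g
  refine ⟨C.map e.symm.toMonoidHom, ?_⟩
  have hHe : H = (H.map e.toMonoidHom).map e.symm.toMonoidHom := by
    rw [Subgroup.map_map]; simp
  rw [hHe]
  refine IsCompl.of_eq ?_ ?_
  · rw [← Subgroup.map_inf _ _ _ e.symm.injective, hC.inf_eq_bot, Subgroup.map_bot]
  · rw [← Subgroup.map_sup, hC.sup_eq_top, Subgroup.map_top_of_surjective _ e.symm.surjective]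

end Cfsg.Agent.S5903
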