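import Cfsg.Statements.S5904
import Mathlib

set_option autoImplicit false
open scoped Pointwise
open Cfsg

namespace Cfsg.Agent.S5904

/-- Let Ω be a finite set with more than two elements and O ⊆ Ω a subset with exactly as many elements as its complement. Then the setwise stabilizer of O in the symmetric group on Ω is not a maximal subgroup (it is properly contained in the stabilizer of the partition {O, Ω ∖ O}, which is proper). -/
theorem result {Ω : Type*} [Fintype Ω] [DecidableEq Ω] (hΩ : 2 < Fintype.card Ω)
    (O : Set Ω) (hO : Nat.card O = Nat.card ↥Oᶜ) :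
    ¬ IsCoatom (MulAction.stabilizer (Equiv.Perm Ω) O) := by
  classical
  intro hco
  let K : Subgroup (Equiv.Perm Ω) :=
    { carrier := {g | g • O = O ∨ g • O = Oᶜ}
      one_mem' := Or.inl (one_smul _ _)
      mul_mem' := by
        intro g h hg hh
        simp only [Set.mem_ofPred_eq, mul_smul] at *
        rcases hh with hh | hh <;> rcases hg with hg | hg <;>
          simp [hh, hg, Set.smul_set_compl]
      inv_mem' := by
        intro g hg
        simp only [Set.mem_ofPred_eq, inv_smul_eq_iff] at *
        rcases hg with hg | hg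
        · exact Or.inl hg.symm
        · right
          rw [Set.smul_set_compl, hg, compl_compl] }
  have hle : MulAction.stabilizer (Equiv.Perm Ω) O ≤ K := fun g hg => Or.inl hg
  have hcard : Fintype.card Ω = Nat.card O + Nat.card (Oᶜ : Set Ω) := by
    rw [← Nat.card_eq_fintype_card, ← Nat.card_sum]
    exact Nat.card_congr (Equiv.Set.sumCompl O).symm
  have h2 : 2 ≤ Nat.card O := by omega
  haveI : Nontrivial O := Finite.one_lt_card_iff_nontrivial.mp h2
  obtain ⟨⟨a, ha⟩, ⟨a', ha'⟩, hne⟩ := exists_pair_ne O
  have hne' : a ≠ a' := fun h => hne (Subtype.ext h)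
  have hc2 : 0 < Nat.card (Oᶜ : Set Ω) := by omega
  obtain ⟨⟨b, hb⟩⟩ := (Nat.card_pos_iff.mp hc2).1
  let g : Equiv.Perm Ω := Equiv.swap a b
  have hgK : g ∉ K := by
    rintro (h | h)
    · have : g a ∈ g • O := ⟨a, ha, rfl⟩
      rw [h, show g a = b from Equiv.swap_apply_left a b] at this
      exact hb this
    · have hg' : g a' = a' := Equiv.swap_apply_of_ne_of_ne hne'.symm (fun e => hb (e ▸ ha'))
      have : g a' ∈ g • O := ⟨a', ha', rfl⟩
      rw [h, hg'] at this
      exact this ha'
  obtain ⟨e⟩ : Nonempty (O ≃ (Oᶜ : Set Ω)) :=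
    ⟨(Finite.equivFinOfCardEq hO).trans (Finite.equivFinOfCardEq rfl).symm⟩
  let s : Equiv.Perm Ω :=
    ((Equiv.Set.sumCompl O).symm.trans ((Equiv.sumCongr e e.symm).trans (Equiv.sumComm _ _))).trans
      (Equiv.Set.sumCompl O)
  have hmaps : ∀ x ∈ O, s x ∉ O := by
    intro x hx
    simp only [s, Equiv.trans_apply, Equiv.Set.sumCompl_symm_apply_of_mem hx]
    simp
    exact (e ⟨x, hx⟩).2
  have hmaps' : ∀ x ∉ O, s x ∈ O := by
    intro x hx
    simp only [s, Equiv.trans_apply, Equiv.Set.sumCompl_symm_apply_of_notMem hx]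
    simp
  have hsO : s • O = Oᶜ := by
    ext x
    rw [Set.mem_smul_set_iff_inv_smul_mem]
    constructor
    · intro hx
      have := hmaps _ hx
      rwa [Equiv.Perm.smul_def, Equiv.Perm.coe_inv, Equiv.apply_symm_apply] at this
    · intro hx
      by_contra hx'
      have := hmaps' _ hx'
      rw [Equiv.Perm.smul_def, Equiv.Perm.coe_inv, Equiv.apply_symm_apply] at this
      exact hx this
  have hlt : MulAction.stabilizer (Equiv.Perm Ω) O < K := by
    refine lt_of_le_of_ne hle fun h => ?_
    have hs : s ∈ K := Or.inr hsO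
    rw [← h, MulAction.mem_stabilizer_iff, hsO] at hs
    have : a ∈ (Oᶜ : Set Ω) := by rw [hs]; exact ha
    exact this ha
  have := hco.2 K hlt
  exact hgK (this ▸ Subgroup.mem_top g)

end Cfsg.Agent.S5904
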