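import Cfsg.Statements.S5912
import Mathlib
import Cfsg.Agent.Classical.Misc.SymSix

set_option autoImplicit false
open Cfsg

namespace Cfsg.Agent.S5912

/-- The symmetric group on a 6-element set Ω has exactly two conjugacy classes of subgroups of index 6: there are two non-conjugate subgroups of index 6 (a point stabilizer and a transitive subgroup isomorphic to S₅), and every subgroup of index 6 is conjugate to one of them. -/
theorem result {Ω : Type*} [Fintype Ω] [DecidableEq Ω] (h6 : Fintype.card Ω = 6) :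
    ∃ H₁ H₂ : Subgroup (Equiv.Perm Ω), H₁.index = 6 ∧ H₂.index = 6 ∧
      (¬ ∃ g : Equiv.Perm Ω, Subgroup.map (MulAut.conj g).toMonoidHom H₁ = H₂) ∧
      ∀ H : Subgroup (Equiv.Perm Ω), H.index = 6 →
        ∃ g : Equiv.Perm Ω, Subgroup.map (MulAut.conj g).toMonoidHom H₁ = H ∨ Subgroup.map (MulAut.conj g).toMonoidHom H₂ = H := by
  obtain ⟨H₂, hH₂, hfree⟩ := Cfsg.Lib.Classical.SymIndex.exists_exotic h6
  obtain ⟨c⟩ : Nonempty Ω := Fintype.card_pos_iff.mp (by omega)
  have hidx : (MulAction.stabilizer (Equiv.Perm Ω) c).index = 6 := by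
    rw [MulAction.index_stabilizer_of_transitive, Nat.card_eq_fintype_card, h6]
  refine ⟨MulAction.stabilizer (Equiv.Perm Ω) c, H₂, hidx, hH₂, ?_, fun H hH => ?_⟩
  · rintro ⟨g, rfl⟩
    obtain ⟨k, hk, hkc⟩ := hfree (g c)
    obtain ⟨s, hs, rfl⟩ := hk
    have hs' : s c = c := hs
    exact hkc (by simp [hs'])
  · rcases Cfsg.Lib.Classical.SymIndex.stabilizer_or_free (hH.trans h6.symm) with ⟨d, rfl⟩ | hF
    · refine ⟨Equiv.swap c d, Or.inl ?_⟩
      have hd : (Equiv.swap c d) • c = d := Equiv.swap_apply_left c d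
      conv_rhs => rw [← hd, MulAction.stabilizer_smul_eq_stabilizer_map_conj]
    · obtain ⟨g, hg⟩ := Cfsg.Lib.Classical.SymIndex.exotic_conj h6 hH₂ hfree hH hF
      exact ⟨g, Or.inr hg⟩

end Cfsg.Agent.S5912
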