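import Cfsg.Statements.S5913
import Mathlib

set_option autoImplicit false
open Cfsg

namespace Cfsg.Agent.S5913

/-- Let S be a non-abelian simple group and n a natural number. Every normal subgroup N of the direct power S^n (functions Fin n → S) is a subproduct: there is a set T of coordinates such that N consists exactly of the elements whose coordinates outside T are trivial. In particular the minimal normal subgroups of S^n are its n factors. -/
theorem result {S : Type*} [Group S] [IsSimpleGroup S] (hS : ¬ IsMulCommutative S) (n : ℕ)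
    (N : Subgroup (Fin n → S)) [N.Normal] :
    ∃ T : Finset (Fin n), ∀ x : Fin n → S, x ∈ N ↔ ∀ i, i ∉ T → x i = 1 := by
  classical
  have hcent : Subgroup.center S = ⊥ := by
    rcases Subgroup.Normal.eq_bot_or_eq_top (inferInstance : (Subgroup.center S).Normal) with h | h
    · exact h
    · exfalso
      apply hS
      constructor
      constructor
      intro a b
      exact (Subgroup.mem_center_iff.mp (h ▸ Subgroup.mem_top b) a)
  refine ⟨Finset.univ.filter (fun i => ∃ x ∈ N, x i ≠ 1), fun x => ⟨fun hx i hi => ?_, fun hx => ?_⟩⟩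
  · by_contra h
    exact hi (Finset.mem_filter.mpr ⟨Finset.mem_univ _, x, hx, h⟩)
  have key : ∀ i : Fin n, (∃ y ∈ N, y i ≠ 1) → ∀ s : S, Pi.mulSingle i s ∈ N := by
    rintro i ⟨y, hy, hyi⟩
    obtain ⟨t, ht⟩ : ∃ t, t * y i ≠ y i * t := by
      by_contra hh
      push Not at hh
      have : y i ∈ Subgroup.center S := Subgroup.mem_center_iff.mpr hh
      rw [hcent, Subgroup.mem_bot] at this
      exact hyi this
    let Ni : Subgroup S := Subgroup.comap (MonoidHom.mulSingle (fun _ : Fin n => S) i) N
    haveI : Ni.Normal := Subgroup.Normal.comap inferInstance _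
    rcases Subgroup.Normal.eq_bot_or_eq_top (inferInstance : Ni.Normal) with h | h
    · exfalso
      have hm : Pi.mulSingle i t * y * (Pi.mulSingle i t : Fin n → S)⁻¹ * y⁻¹ ∈ N :=
        mul_mem (Subgroup.Normal.conj_mem inferInstance y hy _) (inv_mem hy)
      have heq : Pi.mulSingle i t * y * (Pi.mulSingle i t : Fin n → S)⁻¹ * y⁻¹
          = (Pi.mulSingle i (t * y i * t⁻¹ * (y i)⁻¹) : Fin n → S) := by
        funext j
        by_cases hj : j = i
        · subst hj; simp
        · simp [hj]
      rw [heq] at hm
      have : t * y i * t⁻¹ * (y i)⁻¹ ∈ Ni := hm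
      rw [h, Subgroup.mem_bot] at this
      apply ht
      calc t * y i = (t * y i * t⁻¹ * (y i)⁻¹) * y i * t := by group
        _ = y i * t := by rw [this, one_mul]
    · intro s
      have : s ∈ Ni := h ▸ Subgroup.mem_top s
      exact this
  refine Subgroup.pi_mem_of_mulSingle_mem x fun i => ?_
  by_cases hi : ∃ y ∈ N, y i ≠ 1
  · exact key i hi _
  · rw [hx i (fun h => hi (Finset.mem_filter.mp h).2), Pi.mulSingle_one]
    exact one_mem _

end Cfsg.Agent.S5913
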