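import Cfsg.Statements.S5914
import Mathlib
import Cfsg.Agent.Classical.Misc.CharSimple

set_option autoImplicit false
open Cfsg

namespace Cfsg.Agent.S5914

/-- A non-trivial finite group G is characteristically simple (its only characteristic subgroups are 1 and G) if and only if G is isomorphic to a direct power S^n (n ≥ 1) of some simple group S (possibly cyclic of prime order). -/
theorem result {G : Type*} [Group G] [Finite G] [Nontrivial G] :
    (∀ H : Subgroup G, H.Characteristic → H = ⊥ ∨ H = ⊤) ↔
    ∃ (S : Type) (_ : Group S) (_ : IsSimpleGroup S) (n : ℕ), 1 ≤ n ∧ Nonempty (G ≃* (Fin n → S)) := by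
  constructor
  · intro h
    obtain ⟨N, n, hn, hs, ⟨e⟩⟩ := Cfsg.Lib.Classical.CharSimple.exists_power h
    haveI : Small.{0} N := inferInstance
    let fe : N ≃* Shrink.{0} N := Shrink.mulEquiv.symm
    haveI : IsSimpleGroup (Shrink.{0} N) := fe.isSimpleGroup_congr.mp hs
    exact ⟨Shrink.{0} N, inferInstance, inferInstance, n, hn, ⟨e.trans (MulEquiv.piCongrRight fun _ => fe)⟩⟩
  · rintro ⟨S, _, _, n, hn, ⟨e⟩⟩ H hH
    haveI : Finite S := Finite.of_surjective (fun x : G => e x ⟨0, hn⟩) fun s => ⟨e.symm (fun _ => s), by simp⟩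
    haveI : (H.map e.toMonoidHom).Characteristic := Subgroup.characteristic_iff_map_eq.mpr fun φ => by
      have h1 := Subgroup.characteristic_iff_map_eq.mp hH ((e.trans φ).trans e.symm)
      conv_rhs => rw [← h1]
      rw [Subgroup.map_map, Subgroup.map_map]
      congr 1
      ext x
      simp
    rcases Cfsg.Lib.Classical.CharSimple.pi_eq_bot_or_top n (H.map e.toMonoidHom) with h | h
    · exact Or.inl ((Subgroup.map_eq_bot_iff_of_injective H e.injective).mp h)
    · refine Or.inr (Subgroup.map_injective (f := e.toMonoidHom) e.injective ?_)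
      rw [h, Subgroup.map_top_of_surjective _ e.surjective]

end Cfsg.Agent.S5914
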