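import Cfsg.Statements.S5972
import Cfsg.Agent.Classical.OrthElusive.SingularOdd
import Cfsg.Agent.Classical.OrthElusive.SingularTwo
import Cfsg.Agent.Classical.OrthElusive.SingularCount
-- import your own Cfsg.Agent.* helpers here

set_option autoImplicit false
open scoped MatrixGroups
open Cfsg

namespace Cfsg.Agent.S5972

/-- Elements of prime order of Ω_n(q), n = 2d+1 ≥ 7, q odd, with no fixed totally singular `m`-space. Here `T = Ω_n(q)` is realised as the commutator subgroup of the isometry group of the quadratic form `x₀² + Σ xᵢyᵢ` over the field `F` with `q` elements (it has trivial centre, so its elements of prime order `r` are used directly); let `1 ≤ m ≤ d` and let `r` be a prime dividing the number of totally singular `m`-spaces. For `r ≠ p` let `i` be the multiplicative order of `q` modulo `r`, `c = i` for `i` even and `c = 2i` for `i` odd, and write `k = n mod c`, `ℓ = m mod i`, `n' = ⌊n/i⌋`, `m' = ⌊m/i⌋`, `t = (r−1)/i`.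 Then every element of `T` of order `r` fixes some totally singular `m`-space if and only if either (i) `r = 2` and (`m < (n−1)/2` or `q ≡ 1 (mod 4)`); or (ii) `r ≠ p` is odd, `i ≤ m`, `k > 2ℓ`, and (`i` is odd or `n' − 2m' ≥ t`). -/
theorem result {F : Type*} [Field F] [Fintype F] {p : ℕ} [Fact p.Prime] [CharP F p] {q : ℕ} (hq : Fintype.card F = q) (hqodd : Odd q)
    (d m : ℕ) (hd : 3 ≤ d) (hm : 1 ≤ m) (hmd : m ≤ d)
    (r : ℕ) [Fact r.Prime]
    (hrΩ : r ∣ Nat.card {W : Submodule F (Unit ⊕ (Fin d ⊕ Fin d) → F) // Module.finrank F ↥W = m ∧ (∀ w ∈ W, Cfsg.quadFormOdd d F w = 0)})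
    (i c : ℕ) (hi : i = orderOf (q : ZMod r)) (hc : c = if Even i then i else 2 * i) :
    (∀ x : GL (Unit ⊕ (Fin d ⊕ Fin d)) F, x ∈ Cfsg.Geo.omegaGL (Cfsg.quadFormOdd d F) → orderOf x = r →
      ∃ W : Submodule F (Unit ⊕ (Fin d ⊕ Fin d) → F), Module.finrank F ↥W = m ∧ (∀ w ∈ W, Cfsg.quadFormOdd d F w = 0) ∧
        W.map (Matrix.toLin' (x : Matrix (Unit ⊕ (Fin d ⊕ Fin d)) (Unit ⊕ (Fin d ⊕ Fin d)) F)) ≤ W) ↔
    ((r = 2 ∧ (m < d ∨ q % 4 = 1)) ∨
     (r ≠ p ∧ 2 < r ∧ i ≤ m ∧ 2 * (m % i) < (2 * d + 1) % c ∧ (Odd i ∨ (r - 1) / i + 2 * (m / i) ≤ (2 * d + 1) / i))) := by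
  classical
  have hodd : Odd (Fintype.card F) := hq ▸ hqodd
  have h2 := Cfsg.Lib.Classical.Refl.two_ne_zero_of_odd hodd
  have hQ := Cfsg.Lib.Classical.Refl.oddForm_nondegenerate h2 d
  have hcard : Fintype.card (Unit ⊕ (Fin d ⊕ Fin d)) = 2 * d + 1 := by simp; omega
  simp only [← Cfsg.Lib.Classical.Refl.oddForm_coe] at hrΩ ⊢
  have hnd := Cfsg.Lib.OrthEl.nd_top_of_nondeg hQ
  have hidx : m ≤ Cfsg.Lib.OrthEl.idx (Cfsg.Lib.Classical.Refl.oddForm d F) ⊤ := by
    have h := (Cfsg.Lib.OrthEl.idx_formula hnd).2.2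
    rw [finrank_top, Module.finrank_fintype_fun_eq_card, hcard] at h
    have := h ⟨d, rfl⟩
    omega
  rcases eq_or_ne r p with rfl | hrp
  · exact absurd hrΩ (Cfsg.Lib.OrthEl.ts_not_dvd (p := r) hnd
      (by rw [Module.finrank_fintype_fun_eq_card, hcard]; omega) hidx)
  refine Iff.trans (forall₃_congr fun x _ _ => exists_congr fun W => and_assoc.symm) ?_
  rcases eq_or_ne r 2 with rfl | hr2
  · refine (Cfsg.Lib.OrthEl.ts_two_odd_dim hQ h2 hq hqodd hcard (by omega) hmd).trans ?_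
    simp
  · have hr : 2 < r := lt_of_le_of_ne (Fact.out : r.Prime).two_le (Ne.symm hr2)
    refine (Cfsg.Lib.OrthEl.allTS_order hQ (by omega) hr2 hidx).trans ?_
    rw [Cfsg.Lib.OrthEl.ts_odd_dim (p := p) hnd hr2 hrp (by rw [hi, hq]) hc hcard hidx hrΩ]
    simp [hr2, hr, hrp]

end Cfsg.Agent.S5972
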