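import Cfsg.Statements.S5974
import Cfsg.Agent.Classical.OrthElusive.Classes
import Cfsg.Agent.Classical.OrthElusive.Unip
import Cfsg.Agent.Classical.OrthElusive.InvTwo
-- import your own Cfsg.Agent.* helpers here

set_option autoImplicit false
open scoped MatrixGroups
open Cfsg

namespace Cfsg.Agent.S5974

/-- Elements of prime order of PΩ⁺_n(q), n = 2d ≥ 8, with no fixed nondegenerate hyperbolic `m`-space. Here `T = PΩ⁺_n(q)` is realised through `Ω⁺_n(q)`, the commutator subgroup of the isometry group of `Q = Σ xᵢyᵢ` over the field `F` with `q` elements; an element of `T` of prime order `r` is an element `x` of `Ω⁺_n(q)` with `x^r` scalar and `x` not scalar. A hyperbolic `m`-space is a subspace `W` of even dimension `m` on which the polar form of `Q` is nondegenerate and which contains a totally singular subspace of dimension `m/2`. Let `m` be even with `2 ≤ m < n/2`, and let `r` be a prime dividing the number of hyperbolic `m`-spaces,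 with `r = 2` or `r ≠ p`. For `r ≠ p` let `i` be the multiplicative order of `q` modulo `r`, `c = i` for `i` even and `c = 2i` for `i` odd, and write `k = n mod c`, `ℓ' = m mod c`. Then every element of `T` of order `r` fixes some hyperbolic `m`-space if and only if one of: (i) `r = 2` and (`n ≡ 2 (mod 4)`, or `m ≡ 0 (mod 4)`, or `q ≡ 1 (mod 4)`); (ii) `r ≠ p` odd, `i` odd, `c ≤ m` and `k ≥ ℓ'`; (iii) `r ≠ p` odd, `i` even, and either `k = 0` and (`n/i` odd, or `ℓ' = 0` and `m/i` even), or `i ≤ m` and (`k > ℓ' > 0`, or `k = ℓ' > 0` and `(n + m − 2k)/i` even, or `k > ℓ' = 0` and `m/i` even). -/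
theorem result {F : Type*} [Field F] [Fintype F] {p : ℕ} [Fact p.Prime] [CharP F p] {q : ℕ} (hq : Fintype.card F = q)
    (d m : ℕ) (hd : 4 ≤ d) (hm : 2 ≤ m) (hme : Even m) (hmd : m < d)
    (r : ℕ) [Fact r.Prime] (hr : r = 2 ∨ r ≠ p)
    (hrΩ : r ∣ Nat.card {W : Submodule F (Fin d ⊕ Fin d → F) // (Module.finrank F ↥W = m ∧ (∀ u ∈ W, u ≠ 0 → ∃ v ∈ W, QuadraticMap.polar (Cfsg.quadFormPlus d F) u v ≠ 0) ∧
          ∃ U : Submodule F (Fin d ⊕ Fin d → F), U ≤ W ∧ 2 * Module.finrank F ↥U = m ∧ ∀ u ∈ U, Cfsg.quadFormPlus d F u = 0)})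
    (i c : ℕ) (hi : i = orderOf (q : ZMod r)) (hc : c = if Even i then i else 2 * i) :
    (∀ x : GL (Fin d ⊕ Fin d) F, x ∈ Cfsg.Geo.omegaGL (Cfsg.quadFormPlus d F) →
      (∃ z : F, ((x ^ r : GL (Fin d ⊕ Fin d) F) : Matrix (Fin d ⊕ Fin d) (Fin d ⊕ Fin d) F) = z • (1 : Matrix (Fin d ⊕ Fin d) (Fin d ⊕ Fin d) F)) →
      (∀ z : F, (x : Matrix (Fin d ⊕ Fin d) (Fin d ⊕ Fin d) F) ≠ z • (1 : Matrix (Fin d ⊕ Fin d) (Fin d ⊕ Fin d) F)) →
      ∃ W : Submodule F (Fin d ⊕ Fin d → F), (Module.finrank F ↥W = m ∧ (∀ u ∈ W, u ≠ 0 → ∃ v ∈ W, QuadraticMap.polar (Cfsg.quadFormPlus d F) u v ≠ 0) ∧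
          ∃ U : Submodule F (Fin d ⊕ Fin d → F), U ≤ W ∧ 2 * Module.finrank F ↥U = m ∧ ∀ u ∈ U, Cfsg.quadFormPlus d F u = 0) ∧
        W.map (Matrix.toLin' (x : Matrix (Fin d ⊕ Fin d) (Fin d ⊕ Fin d) F)) ≤ W) ↔
    ((r = 2 ∧ ((2 * d) % 4 = 2 ∨ m % 4 = 0 ∨ q % 4 = 1)) ∨
     (r ≠ p ∧ 2 < r ∧ Odd i ∧ c ≤ m ∧ m % c ≤ (2 * d) % c) ∨
     (r ≠ p ∧ 2 < r ∧ Even i ∧
       (((2 * d) % c = 0 ∧ (Odd ((2 * d) / i) ∨ (m % c = 0 ∧ Even (m / i)))) ∨
        (i ≤ m ∧ ((m % c < (2 * d) % c ∧ 0 < m % c) ∨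
                  ((2 * d) % c = m % c ∧ 0 < m % c ∧ Even ((2 * d + m - 2 * ((2 * d) % c)) / i)) ∨
                  (0 < (2 * d) % c ∧ m % c = 0 ∧ Even (m / i))))))) := by
  classical
  have hf : Cfsg.quadFormPlus d F = ⇑(Cfsg.Lib.Classical.HypQuad.plusForm d F) :=
    (funext (Cfsg.Lib.Classical.HypQuad.plusForm_apply d)).symm
  have hQ := Cfsg.Lib.Classical.HypQuad.plusForm_nondegenerate (F := F) d
  have hcard : Fintype.card (Fin d ⊕ Fin d) = 2 * d := by simp; omega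
  have hV := Cfsg.Lib.OrthEl.plus_top_plus (F := F) d
  simp only [hf] at hrΩ ⊢
  obtain ⟨W₀, hW₀, hdim, hp⟩ := Cfsg.Lib.OrthEl.exists_class hQ hme (by omega) (by omega) True
  have hP := fun W => Cfsg.Lib.OrthEl.plus_class_raw (W := W) hW₀ hdim hme (hp.2 trivial)
  obtain ⟨i2, hi2⟩ := id hme
  rcases eq_or_ne r 2 with rfl | hr2
  · rcases eq_or_ne p 2 with rfl | hp2
    · -- characteristic two
      have hq2 : q % 2 = 0 := hq ▸ FiniteField.even_card_of_char_two (ringChar.eq F 2)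
      by_cases hgood : (2 * d) % 4 = 2 ∨ m % 4 = 0
      · refine iff_of_true (fun x hx hz _ => ?_) (Or.inl ⟨rfl, hgood.elim Or.inl fun h => Or.inr (Or.inl h)⟩)
        obtain ⟨z, hz⟩ := hz
        have hinv : Cfsg.Lib.OrthEl.Invol (Cfsg.Lib.Classical.HypQuad.plusForm d F)
            (Matrix.toLin' (x : Matrix (Fin d ⊕ Fin d) (Fin d ⊕ Fin d) F)) := by
          refine ⟨fun v => by rw [Matrix.toLin'_apply]; exact Cfsg.Lib.OrthEl.omega_isom hx v, fun v => ?_⟩
          rw [Matrix.toLin'_apply, Matrix.toLin'_apply]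
          rcases Cfsg.Lib.OrthEl.sq_scalar_cases hQ (by omega) hx hz with h | h
          · exact h v
          · rw [h v]; funext j; exact CharTwo.neg_eq _
        obtain ⟨W, hWn, hWi, hWd, hWp⟩ := Cfsg.Lib.OrthEl.invol_plus_member hinv
          (Cfsg.Lib.OrthEl.nd_top_of_nondeg hQ) (d := d) (k := i2)
          (by rw [Module.finrank_fintype_fun_eq_card, hcard]) hV (by omega)
          (by rw [Nat.odd_iff, Nat.even_iff]; omega)
        exact ⟨W, (hP W).2 ((Cfsg.Lib.OrthEl.class_iff hW₀ hdim hme).1 ⟨by omega, hWn, iff_of_true hWp (hp.2 trivial)⟩),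
          Cfsg.Lib.OrthEl.map_le_of_inv hWi⟩
      · refine iff_of_false ?_ (by
          simp only [lt_irrefl, false_and, and_false, or_false, true_and, ne_eq, not_true_eq_false]; omega)
        have hidx : d ≤ Cfsg.Lib.OrthEl.idx (Cfsg.Lib.Classical.HypQuad.plusForm d F) ⊤ := by
          have h := (Cfsg.Lib.OrthEl.plus_iff (Cfsg.Lib.OrthEl.nd_top_of_nondeg hQ)).1 hV
          rw [finrank_top, Module.finrank_fintype_fun_eq_card, hcard] at h
          omega
        obtain ⟨X, bp, hX, -, hW⟩ :=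
          Cfsg.Lib.OrthEl.exists_atype_elem (p := 2) hQ (by omega) (t := d / 2) (by omega) (by omega)
        refine Cfsg.Lib.OrthEl.not_allFix_scalar hX fun W hPW hmap => ?_
        obtain ⟨s, e, ⟨s', hs⟩, hd', hle, -, -⟩ := hW W (((hP W).1 hPW).nd hW₀) hmap
        rw [hPW.1] at hd'
        omega
    · have hqo : Odd q := by
        obtain ⟨f, hpp, hf'⟩ := FiniteField.card F p
        rw [← hq, hf']
        exact (hpp.odd_of_ne_two hp2).pow
      have h2 := Cfsg.Lib.Classical.Refl.two_ne_zero_of_odd (F := F) (hq ▸ hqo)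
      obtain ⟨hs1, hs2⟩ := Cfsg.Lib.OrthEl.square_facts hq hqo
      rw [Cfsg.Lib.OrthEl.two_even_iff hQ h2 hW₀ hdim _ hP hcard (by omega) (by omega)]
      simp only [iff_true_intro hV, hp, hme, true_and, true_iff, hs1, hs2, lt_irrefl, false_and, and_false, or_false]
      have := Nat.odd_iff.1 hqo
      simp only [Nat.even_iff, Nat.odd_iff]
      omega
  have hr' : 2 < r := lt_of_le_of_ne (Fact.out : r.Prime).two_le (Ne.symm hr2)
  have hrp : r ≠ p := hr.resolve_left hr2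
  rw [Cfsg.Lib.OrthEl.allFix_scalar hQ (by omega) hr2 hP, Cfsg.Lib.OrthEl.plus_plus (p := p) hr2 hrp
    (Cfsg.Lib.OrthEl.nd_top_of_nondeg hQ) (by rw [hi, hq]) hc hW₀ hdim
    (n := 2 * d) (by rw [Module.finrank_fintype_fun_eq_card, hcard]) (by omega) (by omega)
    (by rw [← Cfsg.Lib.OrthEl.card_congr_class hP]; exact hrΩ) hme (even_two_mul d) hV (hp.2 trivial)]
  simp only [hr2, hr', hrp, ne_eq, not_false_eq_true, false_and, false_or, true_and]

end Cfsg.Agent.S5974
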