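import Cfsg.Statements.S5988
import Cfsg.Agent.Classical.OrthElusive.Classes
import Cfsg.Agent.Classical.OrthElusive.Unip
-- import your own Cfsg.Agent.* helpers here

set_option autoImplicit false
open scoped MatrixGroups
open Cfsg

namespace Cfsg.Agent.S5988

/-- Elements of prime order of PΩ⁺_n(q) with no fixed elliptic `m`-space. Here `T = PΩ⁺_n(F)`, `n = 2d ≥ 8`, realised through `Ω⁺_n(q)`, the commutator subgroup of the isometry group of `Q = Σ xᵢyᵢ` over the field `F` with `q` elements; an element of `T` of prime order `r` is an element `x` of `Ω⁺_n(q)` with `x^r` scalar and `x` not scalar; a nondegenerate `m`-space (even `m`) is a subspace on which the polar form of `Q` is nondegenerate; it is hyperbolic if it contains an `m/2`-dimensional subspace on which `Q` vanishes, elliptic otherwise. Let `m` be even with `2 ≤ m < n/2` and let `r` be a prime dividing the number of elliptic `m`-spaces; for `r ≠ p` let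 `i` be the multiplicative order of `q` modulo `r`, `c = i` for `i` even and `c = 2i` for `i` odd, and write `k = n mod c`, `ℓ = m mod i`, `ℓ' = m mod c`, `n' = ⌊n/i⌋`, `m' = ⌊m/i⌋`, `t = (r−1)/i`. Then every element of `T` of order `r` fixes some elliptic `m`-space if and only if one of: (i) `r = 2 ≠ p` and either `n ≡ 0 (mod 4)`, `q ≡ 3 (mod 4)` and `m ≡ 2 (mod 4)`, or `n ≡ 2 (mod 4)` and `q ≢ 1 (mod 8)`; (ii) `r ≠ p` odd, `i` odd, `c ≤ m` and `k > ℓ' > 0`; (iii) `r ≠ p` odd, `i` even, and either `k = 0` and (`n/i` odd, or `ℓ' = 0` and `m/i` odd), or `i ≤ m` and (`k > ℓ' > 0`, or `k = ℓ' > 0` and `(n + m − 2k)/i` odd, or `k > ℓ' = 0` and `m/i` odd). (For `r = p` there is always an element of order `p` fixing no elliptic `m`-space.) -/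
theorem result {F : Type*} [Field F] [Fintype F] {p : ℕ} [Fact p.Prime] [CharP F p] {q : ℕ} (hq : Fintype.card F = q)
    (d m : ℕ) (hd : 4 ≤ d) (hm : 2 ≤ m) (hme : Even m) (hmd : m < d)
    (r : ℕ) [Fact r.Prime]
    (hrΩ : r ∣ Nat.card {W : Submodule F (Fin d ⊕ Fin d → F) // Module.finrank F ↥W = m ∧ Cfsg.Geo.IsNondegenerateOn (QuadraticMap.polar (Cfsg.quadFormPlus d F)) W ∧ ¬ Cfsg.Geo.IsPlusTypeOn (Cfsg.quadFormPlus d F) W})
    (i c : ℕ) (hi : i = orderOf (q : ZMod r)) (hc : c = if Even i then i else 2 * i) :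
    (∀ x : GL (Fin d ⊕ Fin d) F, x ∈ Cfsg.Geo.omegaGL (Cfsg.quadFormPlus d F) →
      (∃ z : F, ((x ^ r : GL (Fin d ⊕ Fin d) F) : Matrix (Fin d ⊕ Fin d) (Fin d ⊕ Fin d) F) = z • (1 : Matrix (Fin d ⊕ Fin d) (Fin d ⊕ Fin d) F)) →
      (∀ z : F, (x : Matrix (Fin d ⊕ Fin d) (Fin d ⊕ Fin d) F) ≠ z • (1 : Matrix (Fin d ⊕ Fin d) (Fin d ⊕ Fin d) F)) →
      ∃ W : Submodule F (Fin d ⊕ Fin d → F), (Module.finrank F ↥W = m ∧ Cfsg.Geo.IsNondegenerateOn (QuadraticMap.polar (Cfsg.quadFormPlus d F)) W ∧ ¬ Cfsg.Geo.IsPlusTypeOn (Cfsg.quadFormPlus d F) W) ∧ W.map (Matrix.toLin' (x : Matrix (Fin d ⊕ Fin d) (Fin d ⊕ Fin d) F)) ≤ W) ↔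
    ((r = 2 ∧ p ≠ 2 ∧ ((Even d ∧ q % 4 = 3 ∧ m % 4 = 2) ∨ (Odd d ∧ q % 8 ≠ 1))) ∨
     (r ≠ p ∧ 2 < r ∧ Odd i ∧ c ≤ m ∧ 0 < m % c ∧ m % c < (2 * d) % c) ∨
     (r ≠ p ∧ 2 < r ∧ Even i ∧
       (((2 * d) % c = 0 ∧ (Odd ((2 * d) / i) ∨ (m % c = 0 ∧ Odd (m / i)))) ∨
        (i ≤ m ∧ ((0 < m % c ∧ m % c < (2 * d) % c) ∨
                  (0 < m % c ∧ m % c = (2 * d) % c ∧ Odd ((2 * d + m - 2 * ((2 * d) % c)) / i)) ∨
                  (m % c = 0 ∧ 0 < (2 * d) % c ∧ Odd (m / i))))))) := by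
  classical
  have hf : Cfsg.quadFormPlus d F = ⇑(Cfsg.Lib.Classical.HypQuad.plusForm d F) :=
    (funext (Cfsg.Lib.Classical.HypQuad.plusForm_apply d)).symm
  have hQ := Cfsg.Lib.Classical.HypQuad.plusForm_nondegenerate (F := F) d
  have hcard : Fintype.card (Fin d ⊕ Fin d) = 2 * d := by simp; omega
  have hV := Cfsg.Lib.OrthEl.plus_top_plus (F := F) d
  simp only [hf] at hrΩ ⊢
  obtain ⟨W₀, hW₀, hdim, hp⟩ := Cfsg.Lib.OrthEl.exists_class hQ hme (by omega) (by omega) False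
  have hP := fun W => Cfsg.Lib.OrthEl.minus_class_iff (W := W) hW₀ hdim hme hp.1
  rcases eq_or_ne r p with rfl | hrp
  · -- the characteristic
    refine iff_of_false ?_ (by rintro (⟨rfl, h, -⟩ | ⟨h, -⟩ | ⟨h, -⟩) <;> exact h rfl)
    have hidx : d ≤ Cfsg.Lib.OrthEl.idx (Cfsg.Lib.Classical.HypQuad.plusForm d F) ⊤ := by
      have h := (Cfsg.Lib.OrthEl.plus_iff (Cfsg.Lib.OrthEl.nd_top_of_nondeg hQ)).1 hV
      rw [finrank_top, Module.finrank_fintype_fun_eq_card, hcard] at h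
      omega
    obtain ⟨X, bp, hX, hbp, hW⟩ :=
      Cfsg.Lib.OrthEl.exists_atype_elem (p := r) hQ (by omega) (t := d / 2) (by omega) (by omega)
    refine Cfsg.Lib.OrthEl.not_allFix_scalar hX fun W hPW hmap => ?_
    obtain ⟨hWm, hWn, hWp⟩ := hPW
    obtain ⟨s, e, -, hd', hle, he0, heb⟩ := hW W (Cfsg.Lib.OrthEl.isND_iff.1 hWn) hmap
    have := Nat.even_iff.1 hme
    rcases Nat.eq_zero_or_pos e with h0 | h0
    · exact hWp (he0 h0)
    · exact hWp ((heb (by omega) (Nat.even_iff.2 (by omega))).2 ((hbp (by rw [hcard]; exact even_two_mul d)).2 hV))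
  rcases eq_or_ne r 2 with rfl | hr2
  · have hqo : Odd q := by
      obtain ⟨f, hpp, hf⟩ := FiniteField.card F p
      rw [← hq, hf]
      exact (hpp.odd_of_ne_two (Ne.symm hrp)).pow
    have h2 := Cfsg.Lib.Classical.Refl.two_ne_zero_of_odd (F := F) (hq ▸ hqo)
    obtain ⟨hs1, hs2⟩ := Cfsg.Lib.OrthEl.square_facts hq hqo
    rw [Cfsg.Lib.OrthEl.two_even_iff hQ h2 hW₀ hdim _ hP hcard (by omega) (by omega)]
    simp only [iff_true_intro hV, iff_false_intro hp.1, hme, true_and, true_iff, false_iff, hs1, hs2, Ne.symm hrp, ne_eq,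
      not_false_eq_true, lt_irrefl, false_and, and_false, or_false]
    obtain ⟨i2, hi2⟩ := hme
    have := Nat.odd_iff.1 hqo
    simp only [Nat.even_iff, Nat.odd_iff]
    omega
  · have hr : 2 < r := lt_of_le_of_ne (Fact.out : r.Prime).two_le (Ne.symm hr2)
    rw [Cfsg.Lib.OrthEl.allFix_scalar hQ (by omega) hr2 hP, Cfsg.Lib.OrthEl.plus_minus (p := p) hr2 hrp
      (Cfsg.Lib.OrthEl.nd_top_of_nondeg hQ) (by rw [hi, hq]) hc hW₀ hdim
      (n := 2 * d) (by rw [Module.finrank_fintype_fun_eq_card, hcard]) (by omega) (by omega)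
      (by rw [← Cfsg.Lib.OrthEl.card_congr_class hP]; exact hrΩ) hme (even_two_mul d) hV hp.1]
    simp only [hr2, hr, hrp, ne_eq, not_false_eq_true, false_and, false_or, true_and]

end Cfsg.Agent.S5988
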