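import Cfsg.Statements.S5989
import Cfsg.Agent.Classical.OrthElusive.Classes
import Cfsg.Agent.Classical.OrthElusive.OneClass
-- import your own Cfsg.Agent.* helpers here

set_option autoImplicit false
open scoped MatrixGroups
open Cfsg

namespace Cfsg.Agent.S5989

/-- Elements of prime order of PΩ⁺_n(q), q odd, with no fixed nondegenerate `m`-space of odd dimension. Here `T = PΩ⁺_n(F)`, `n = 2d ≥ 8`, realised through `Ω⁺_n(q)`, the commutator subgroup of the isometry group of `Q = Σ xᵢyᵢ` over the field `F` with `q` elements; an element of `T` of prime order `r` is an element `x` of `Ω⁺_n(q)` with `x^r` scalar and `x` not scalar; `q` and `m` are odd, `1 ≤ m < n/2`. The nondegenerate `m`-spaces (subspaces on which the polar form is nondegenerate) fall into two isometry classes, each an orbit of `T`, and the two actions are equivalent; fix one such space `W₀` and let Ω be the set of nondegenerate `m`-spaces isometric to `W₀`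 (some linear isomorphism preserves `Q`). Let `r` be a prime dividing the size of Ω; for `r ≠ p` let `i` be the multiplicative order of `q` modulo `r`, `c = i` for `i` even and `c = 2i` for `i` odd, and write `k = n mod c`, `ℓ = m mod i`, `ℓ' = m mod c`, `n' = ⌊n/i⌋`, `m' = ⌊m/i⌋`, `t = (r−1)/i`. Then every element of `T` of order `r` fixes a member of Ω if and only if one of: (i) `r = 2`, `n ≡ 2 (mod 4)` and `q ≢ 1 (mod 8)`; (ii) `r ≠ p` odd, `i` odd, `c ≤ m` and `k > ℓ' > 0`; (iii) `r ≠ p` odd, `i` even, and either `k = 0` and `n/i` odd, or `i ≤ m` and `k > ℓ' > 0`. (For `r = p` there is always an element of order `p` fixing no member of Ω.) -/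
theorem result {F : Type*} [Field F] [Fintype F] {p : ℕ} [Fact p.Prime] [CharP F p] {q : ℕ} (hq : Fintype.card F = q)
    (hodd : Odd q) (d m : ℕ) (hd : 4 ≤ d) (hm : Odd m) (hmd : m < d)
    (W₀ : Submodule F (Fin d ⊕ Fin d → F)) (hW₀ : Module.finrank F ↥W₀ = m ∧ Cfsg.Geo.IsNondegenerateOn (QuadraticMap.polar (Cfsg.quadFormPlus d F)) W₀)
    (r : ℕ) [Fact r.Prime]
    (hrΩ : r ∣ Nat.card {W : Submodule F (Fin d ⊕ Fin d → F) // Module.finrank F ↥W = m ∧ Cfsg.Geo.IsNondegenerateOn (QuadraticMap.polar (Cfsg.quadFormPlus d F)) W ∧ Cfsg.Geo.AreIsometricFor (Cfsg.quadFormPlus d F) W W₀})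
    (i c : ℕ) (hi : i = orderOf (q : ZMod r)) (hc : c = if Even i then i else 2 * i) :
    (∀ x : GL (Fin d ⊕ Fin d) F, x ∈ Cfsg.Geo.omegaGL (Cfsg.quadFormPlus d F) →
      (∃ z : F, ((x ^ r : GL (Fin d ⊕ Fin d) F) : Matrix (Fin d ⊕ Fin d) (Fin d ⊕ Fin d) F) = z • (1 : Matrix (Fin d ⊕ Fin d) (Fin d ⊕ Fin d) F)) →
      (∀ z : F, (x : Matrix (Fin d ⊕ Fin d) (Fin d ⊕ Fin d) F) ≠ z • (1 : Matrix (Fin d ⊕ Fin d) (Fin d ⊕ Fin d) F)) →
      ∃ W : Submodule F (Fin d ⊕ Fin d → F), (Module.finrank F ↥W = m ∧ Cfsg.Geo.IsNondegenerateOn (QuadraticMap.polar (Cfsg.quadFormPlus d F)) W ∧ Cfsg.Geo.AreIsometricFor (Cfsg.quadFormPlus d F) W W₀) ∧ W.map (Matrix.toLin' (x : Matrix (Fin d ⊕ Fin d) (Fin d ⊕ Fin d) F)) ≤ W) ↔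
    ((r = 2 ∧ Odd d ∧ q % 8 ≠ 1) ∨
     (r ≠ p ∧ 2 < r ∧ Odd i ∧ c ≤ m ∧ 0 < m % c ∧ m % c < (2 * d) % c) ∨
     (r ≠ p ∧ 2 < r ∧ Even i ∧ (((2 * d) % c = 0 ∧ Odd ((2 * d) / i)) ∨ (i ≤ m ∧ 0 < m % c ∧ m % c < (2 * d) % c)))) := by
  classical
  have hf : Cfsg.quadFormPlus d F = ⇑(Cfsg.Lib.Classical.HypQuad.plusForm d F) :=
    (funext (Cfsg.Lib.Classical.HypQuad.plusForm_apply d)).symm
  have hQ := Cfsg.Lib.Classical.HypQuad.plusForm_nondegenerate (F := F) d
  have hcard : Fintype.card (Fin d ⊕ Fin d) = 2 * d := by simp; omega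
  have hV := Cfsg.Lib.OrthEl.plus_top_plus (F := F) d
  obtain ⟨hpodd, h2, hp3⟩ := Cfsg.Lib.Classical.OrthUni.char_facts (p := p) (F := F) (hq ▸ hodd)
  simp only [hf] at hrΩ hW₀ ⊢
  obtain ⟨hdim, hW₀'⟩ := hW₀
  have hm1 := Nat.odd_iff.1 hm
  rw [Cfsg.Lib.OrthEl.isND_iff] at hW₀'
  have hP : ∀ W : Submodule F (Fin d ⊕ Fin d → F), (Module.finrank F W = m ∧
      Cfsg.Geo.IsNondegenerateOn (QuadraticMap.polar ⇑(Cfsg.Lib.Classical.HypQuad.plusForm d F)) W ∧
      Cfsg.Geo.AreIsometricFor (⇑(Cfsg.Lib.Classical.HypQuad.plusForm d F)) W W₀) ↔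
      Cfsg.Lib.OrthEl.Iso (Cfsg.Lib.Classical.HypQuad.plusForm d F) W₀ W := fun W => by
    rw [Cfsg.Lib.OrthEl.isND_iff]; exact Cfsg.Lib.OrthEl.iso_iff_are hW₀' hdim
  rcases eq_or_ne r 2 with rfl | hr2
  · obtain ⟨hs1, hs2⟩ := Cfsg.Lib.OrthEl.square_facts hq hodd
    rw [Cfsg.Lib.OrthEl.two_even_iff hQ h2 hW₀' hdim _ hP hcard (by omega) (by omega)]
    have hme : ¬ Even m := Nat.not_even_iff_odd.2 hm
    simp only [iff_true_intro hV, hme, true_iff, false_and, imp_false, hs1, hs2, ne_eq, lt_irrefl, and_false,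
      or_false, false_or, true_and]
    have := Nat.odd_iff.1 hodd
    simp only [Nat.even_iff, Nat.odd_iff]
    omega
  have hr : 2 < r := lt_of_le_of_ne (Fact.out : r.Prime).two_le (Ne.symm hr2)
  rcases eq_or_ne r p with rfl | hrp
  · -- the characteristic
    refine iff_of_false ?_ (by simp [hr2])
    suffices h : ∃ X, Cfsg.Lib.OrthEl.PElem (Cfsg.Lib.Classical.HypQuad.plusForm d F) r X ∧ ∀ W,
        Cfsg.Lib.OrthEl.Iso (Cfsg.Lib.Classical.HypQuad.plusForm d F) W₀ W →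
        ¬ W.map (Matrix.toLin' (X : Matrix (Fin d ⊕ Fin d) (Fin d ⊕ Fin d) F)) ≤ W by
      obtain ⟨X, hX, hno⟩ := h
      exact Cfsg.Lib.OrthEl.not_allFix_scalar hX fun W hPW => hno W ((hP W).1 hPW)
    rcases Nat.even_or_odd d with hde | hdo
    · exact Cfsg.Lib.OrthEl.exists_avoid_class hQ hpodd h2 hcard hde hd hW₀' (hdim ▸ hm)
    · have hdm := Nat.odd_iff.1 hdo
      have hmm := Nat.odd_iff.1 hm
      by_cases h4 : m % 4 = 1
      · obtain ⟨X, hX, hno⟩ := Cfsg.Lib.OrthEl.exists_threes_elem hQ hpodd h2 (k := d - 3) (a := 2)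
          (Nat.even_iff.2 (by omega)) two_pos (by omega) (m := m) (fun j l hj => by omega)
        exact ⟨X, hX, fun W hW => hno W (hW.nd hW₀') (hW.finrank.symm.trans hdim)⟩
      · have hidx : d - 1 ≤ Cfsg.Lib.OrthEl.idx (Cfsg.Lib.Classical.HypQuad.plusForm d F) ⊤ := by
          have h := Cfsg.Lib.OrthEl.idx_bounds (Cfsg.Lib.OrthEl.nd_top_of_nondeg hQ)
          rw [finrank_top, Module.finrank_fintype_fun_eq_card, hcard] at h
          omega
        obtain ⟨X, bp, hX, -, hW⟩ :=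
          Cfsg.Lib.OrthEl.exists_atype_elem (p := r) hQ (by omega) (t := d / 2) (by omega) (by omega)
        refine ⟨X, hX, fun W hi hmap => ?_⟩
        obtain ⟨s, e, ⟨s', hs⟩, hd', hle, -, -⟩ := hW W (hi.nd hW₀') hmap
        rw [← hi.finrank, hdim] at hd'
        omega
  · rw [Cfsg.Lib.OrthEl.allFix_scalar hQ (by omega) hr2 hP, Cfsg.Lib.OrthEl.plus_odd (p := p) hr2 hrp
      (Cfsg.Lib.OrthEl.nd_top_of_nondeg hQ) (by rw [hi, hq]) hc hW₀' hdim
      (n := 2 * d) (by rw [Module.finrank_fintype_fun_eq_card, hcard]) (by omega) (by omega)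
      (by rw [← Cfsg.Lib.OrthEl.card_congr_class hP]; exact hrΩ) hm (even_two_mul d) hV]
    simp only [hr2, hr, hrp, ne_eq, not_false_eq_true, false_and, false_or, true_and]

end Cfsg.Agent.S5989
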