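import Cfsg.Statements.S5990
import Cfsg.Agent.Classical.OrthElusive.Classes
import Cfsg.Agent.Classical.OrthElusive.Unip
import Cfsg.Agent.Classical.OrthElusive.InvTwo
-- import your own Cfsg.Agent.* helpers here

set_option autoImplicit false
open scoped MatrixGroups
open Cfsg

namespace Cfsg.Agent.S5990

/-- Elements of prime order of PΩ⁻_n(q) with no fixed elliptic `m`-space. Here `T = PΩ⁻_n(F)`, `n = 2d ≥ 8`, realised through `Ω⁻_n(q)`, the commutator subgroup of the isometry group of `Q = Σ_{i<d−1} xᵢyᵢ + z₁² + a z₁z₂ + b z₂²` with `z₁² + a z₁z₂ + b z₂²` anisotropic, over the field `F` with `q` elements; an element of `T` of prime order `r` is an element `x` of `Ω⁻_n(q)` with `x^r` scalar and `x` not scalar; a nondegenerate `m`-space (even `m`) is a subspace on which the polar form of `Q` is nondegenerate; it is hyperbolic if it contains an `m/2`-dimensional subspace on which `Q` vanishes, elliptic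 otherwise. Let `m` be even with `2 ≤ m ≤ n − 2` (no restriction `m < n/2`: fixing an elliptic `m`-space is the same as fixing its hyperbolic orthogonal complement) and let `r` be a prime dividing the number of elliptic `m`-spaces, with `r = 2` or `r ≠ p`; for `r ≠ p` let `i` be the multiplicative order of `q` modulo `r`, `c = i` for `i` even and `c = 2i` for `i` odd, and write `k = n mod c`, `ℓ = m mod i`, `ℓ' = m mod c`, `n' = ⌊n/i⌋`, `m' = ⌊m/i⌋`, `t = (r−1)/i`. Then every element of `T` of order `r` fixes some elliptic `m`-space if and only if one of: (i) `r = p = 2` and (`n ≡ 0 (mod 4)` or `m ≡ 2 (mod 4)`); (ii) `r = 2 ≠ p` and (`n ≡ 0 (mod 4)`, or `q ≢ 7 (mod 8)`, or `m ≡ 2 (mod 4)`); (iii) `r ≠ p` odd, `i` odd, and `k = 0` or (`c ≤ m` and `k ≥ ℓ' > 0`); (iv) `r ≠ p` odd, `i` even, and either `k = 0` and (`n/i` even, or `ℓ' = 0` and `m/i` odd), or `k > 0`, `i ≤ m` and (`k > ℓ' > 0`, or `ℓ' = 0` and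 `m/i` odd, or `k = ℓ'` and `(n + m − 2k)/i` even). (Odd `r = p` is not covered by this statement.) -/
theorem result {F : Type*} [Field F] [Fintype F] {p : ℕ} [Fact p.Prime] [CharP F p] {q : ℕ} (hq : Fintype.card F = q)
    (d m : ℕ) (hd : 4 ≤ d) (hm : 2 ≤ m) (hme : Even m) (hmn : m + 2 ≤ 2 * d) (a b : F) (hab : ∀ x y : F, x ^ 2 + a * x * y + b * y ^ 2 = 0 → x = 0 ∧ y = 0)
    (r : ℕ) [Fact r.Prime] (hr : r = 2 ∨ r ≠ p)
    (hrΩ : r ∣ Nat.card {W : Submodule F ((Fin (d - 1) ⊕ Fin (d - 1)) ⊕ Fin 2 → F) // Module.finrank F ↥W = m ∧ Cfsg.Geo.IsNondegenerateOn (QuadraticMap.polar (Cfsg.quadFormMinus (d - 1) F a b)) W ∧ ¬ Cfsg.Geo.IsPlusTypeOn (Cfsg.quadFormMinus (d - 1) F a b) W})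
    (i c : ℕ) (hi : i = orderOf (q : ZMod r)) (hc : c = if Even i then i else 2 * i) :
    (∀ x : GL ((Fin (d - 1) ⊕ Fin (d - 1)) ⊕ Fin 2) F, x ∈ Cfsg.Geo.omegaGL (Cfsg.quadFormMinus (d - 1) F a b) →
      (∃ z : F, ((x ^ r : GL ((Fin (d - 1) ⊕ Fin (d - 1)) ⊕ Fin 2) F) : Matrix ((Fin (d - 1) ⊕ Fin (d - 1)) ⊕ Fin 2) ((Fin (d - 1) ⊕ Fin (d - 1)) ⊕ Fin 2) F) = z • (1 : Matrix ((Fin (d - 1) ⊕ Fin (d - 1)) ⊕ Fin 2) ((Fin (d - 1) ⊕ Fin (d - 1)) ⊕ Fin 2) F)) →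
      (∀ z : F, (x : Matrix ((Fin (d - 1) ⊕ Fin (d - 1)) ⊕ Fin 2) ((Fin (d - 1) ⊕ Fin (d - 1)) ⊕ Fin 2) F) ≠ z • (1 : Matrix ((Fin (d - 1) ⊕ Fin (d - 1)) ⊕ Fin 2) ((Fin (d - 1) ⊕ Fin (d - 1)) ⊕ Fin 2) F)) →
      ∃ W : Submodule F ((Fin (d - 1) ⊕ Fin (d - 1)) ⊕ Fin 2 → F), (Module.finrank F ↥W = m ∧ Cfsg.Geo.IsNondegenerateOn (QuadraticMap.polar (Cfsg.quadFormMinus (d - 1) F a b)) W ∧ ¬ Cfsg.Geo.IsPlusTypeOn (Cfsg.quadFormMinus (d - 1) F a b) W) ∧ W.map (Matrix.toLin' (x : Matrix ((Fin (d - 1) ⊕ Fin (d - 1)) ⊕ Fin 2) ((Fin (d - 1) ⊕ Fin (d - 1)) ⊕ Fin 2) F)) ≤ W) ↔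
    ((r = 2 ∧ p = 2 ∧ (Even d ∨ m % 4 = 2)) ∨
     (r = 2 ∧ p ≠ 2 ∧ (Even d ∨ q % 8 ≠ 7 ∨ m % 4 = 2)) ∨
     (r ≠ p ∧ 2 < r ∧ Odd i ∧ ((2 * d) % c = 0 ∨ (c ≤ m ∧ 0 < m % c ∧ m % c ≤ (2 * d) % c))) ∨
     (r ≠ p ∧ 2 < r ∧ Even i ∧
       (((2 * d) % c = 0 ∧ (Even ((2 * d) / i) ∨ (m % c = 0 ∧ Odd (m / i)))) ∨
        (0 < (2 * d) % c ∧ i ≤ m ∧ ((0 < m % c ∧ m % c < (2 * d) % c) ∨ (m % c = 0 ∧ Odd (m / i)) ∨
                                    (m % c = (2 * d) % c ∧ Even ((2 * d + m - 2 * ((2 * d) % c)) / i))))))) := by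
  classical
  have hf : Cfsg.quadFormMinus (d - 1) F a b = ⇑(Cfsg.Lib.Classical.Refl.minusForm (d - 1) F a b) :=
    (Cfsg.Lib.Classical.Refl.minusForm_coe _ _ _).symm
  have hQ := Cfsg.Lib.Classical.Refl.minusForm_nondegenerate' (F := F) (d - 1) hab
  have hcard : Fintype.card ((Fin (d - 1) ⊕ Fin (d - 1)) ⊕ Fin 2) = 2 * d := by simp; omega
  have hV := Cfsg.Lib.OrthEl.minus_not_plus (F := F) (d - 1) hab
  simp only [hf] at hrΩ ⊢
  obtain ⟨W₀, hW₀, hdim, hp⟩ := Cfsg.Lib.OrthEl.exists_class hQ hme (by omega) (by omega) False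
  have hP := fun W => Cfsg.Lib.OrthEl.minus_class_iff (W := W) hW₀ hdim hme hp.1
  obtain ⟨i2, hi2⟩ := id hme
  rcases eq_or_ne r 2 with rfl | hr2
  · rcases eq_or_ne p 2 with rfl | hp2
    · -- characteristic two
      by_cases hgood : Even d ∨ m % 4 = 2
      · refine iff_of_true (fun x hx hz _ => ?_) (Or.inl ⟨rfl, rfl, hgood⟩)
        obtain ⟨z, hz⟩ := hz
        have hinv : Cfsg.Lib.OrthEl.Invol (Cfsg.Lib.Classical.Refl.minusForm (d - 1) F a b)
            (Matrix.toLin' (x : Matrix ((Fin (d - 1) ⊕ Fin (d - 1)) ⊕ Fin 2) ((Fin (d - 1) ⊕ Fin (d - 1)) ⊕ Fin 2) F)) := by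
          refine ⟨fun v => by rw [Matrix.toLin'_apply]; exact Cfsg.Lib.OrthEl.omega_isom hx v, fun v => ?_⟩
          rw [Matrix.toLin'_apply, Matrix.toLin'_apply]
          rcases Cfsg.Lib.OrthEl.sq_scalar_cases hQ (by omega) hx hz with h | h
          · exact h v
          · rw [h v]; funext j; exact CharTwo.neg_eq _
        obtain ⟨W, hWn, hWi, hWd, hWp⟩ := Cfsg.Lib.OrthEl.invol_minus_member hinv
          (Cfsg.Lib.OrthEl.nd_top_of_nondeg hQ) (d := d) (k := i2)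
          (by rw [Module.finrank_fintype_fun_eq_card, hcard]) hV (by omega) (by omega)
          (hgood.imp_right fun h => Nat.odd_iff.2 (by omega))
        exact ⟨W, (hP W).2 ((Cfsg.Lib.OrthEl.class_iff hW₀ hdim hme).1 ⟨by omega, hWn, iff_of_false hWp hp.1⟩),
          Cfsg.Lib.OrthEl.map_le_of_inv hWi⟩
      · refine iff_of_false ?_ (by
          simp only [lt_irrefl, false_and, and_false, or_false, true_and, ne_eq, not_true_eq_false]; exact hgood)
        push Not at hgood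
        have := Nat.odd_iff.1 (Nat.not_even_iff_odd.1 hgood.1)
        have hidx : d - 1 ≤ Cfsg.Lib.OrthEl.idx (Cfsg.Lib.Classical.Refl.minusForm (d - 1) F a b) ⊤ := by
          have h := Cfsg.Lib.OrthEl.idx_bounds (Cfsg.Lib.OrthEl.nd_top_of_nondeg hQ)
          rw [finrank_top, Module.finrank_fintype_fun_eq_card, hcard] at h
          omega
        obtain ⟨X, bp, hX, -, hW⟩ :=
          Cfsg.Lib.OrthEl.exists_atype_elem (p := 2) hQ (by omega) (t := d / 2) (by omega) (by omega)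
        refine Cfsg.Lib.OrthEl.not_allFix_scalar hX fun W hPW hmap => ?_
        obtain ⟨hWm, hWn, hWp⟩ := hPW
        obtain ⟨s, e, ⟨s', hs⟩, hd', hle, he0, -⟩ := hW W (Cfsg.Lib.OrthEl.isND_iff.1 hWn) hmap
        exact hWp (he0 (by omega))
    · have hqo : Odd q := by
        obtain ⟨f, hpp, hf'⟩ := FiniteField.card F p
        rw [← hq, hf']
        exact (hpp.odd_of_ne_two hp2).pow
      have h2 := Cfsg.Lib.Classical.Refl.two_ne_zero_of_odd (F := F) (hq ▸ hqo)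
      obtain ⟨hs1, hs2⟩ := Cfsg.Lib.OrthEl.square_facts hq hqo
      rw [Cfsg.Lib.OrthEl.two_even_iff hQ h2 hW₀ hdim _ hP hcard (by omega) (by omega)]
      simp only [iff_false_intro hV, hp, hme, true_and, false_iff, hs1, hs2, hp2, lt_irrefl, false_and, and_false,
        or_false, ne_eq, not_false_eq_true, false_or]
      have := Nat.odd_iff.1 hqo
      simp only [Nat.even_iff, Nat.odd_iff]
      omega
  have hr' : 2 < r := lt_of_le_of_ne (Fact.out : r.Prime).two_le (Ne.symm hr2)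
  have hrp : r ≠ p := hr.resolve_left hr2
  rw [Cfsg.Lib.OrthEl.allFix_scalar hQ (by omega) hr2 hP, Cfsg.Lib.OrthEl.minus_minus (p := p) hr2 hrp
    (Cfsg.Lib.OrthEl.nd_top_of_nondeg hQ) (by rw [hi, hq]) hc hW₀ hdim
    (n := 2 * d) (by rw [Module.finrank_fintype_fun_eq_card, hcard]) (by omega) (by omega)
    (by rw [← Cfsg.Lib.OrthEl.card_congr_class hP]; exact hrΩ) hme (even_two_mul d) hV hp.1]
  simp only [hr2, hr', hrp, ne_eq, not_false_eq_true, false_and, false_or, true_and]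

end Cfsg.Agent.S5990
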