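import Cfsg.Statements.S5993
import Cfsg.Agent.Classical.OrthElusive.Classes
import Cfsg.Agent.Classical.OrthElusive.Unip
-- import your own Cfsg.Agent.* helpers here

set_option autoImplicit false
open scoped MatrixGroups
open Cfsg

namespace Cfsg.Agent.S5993

/-- Elements of prime order of Ω_n(q), nq odd, with no fixed elliptic `m`-space. Here `T = Ω_n(F)`, `n = 2d+1 ≥ 7`, `q` odd, realised as the commutator subgroup of the isometry group of `Q = x₀² + Σ xᵢyᵢ` over the field `F` with `q` elements (trivial centre, so its elements of prime order `r` are used directly); a nondegenerate `m`-space (even `m`) is a subspace on which the polar form of `Q` is nondegenerate; it is hyperbolic if it contains an `m/2`-dimensional subspace on which `Q` vanishes, elliptic otherwise. Let `m` be even with `2 ≤ m ≤ n − 1` (no restriction `m < n/2`) and let `r` be a prime dividing the number of elliptic `m`-spaces; for `r ≠ p` let `i` be the multiplicative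 order of `q` modulo `r`, `c = i` for `i` even and `c = 2i` for `i` odd, and write `k = n mod c`, `ℓ' = m mod c`. Then every element of `T` of order `r` fixes some elliptic `m`-space if and only if `r = 2`, or `r ≠ p` is odd and one of: (i) `i` odd, `c ≤ m` and `k > ℓ' > 0`; (ii) `i` even, `i ≤ m`, `k > ℓ'`, and `m/i` odd whenever `ℓ' = 0`. (For `r = p` there is always an element of order `p` fixing no elliptic `m`-space.) -/
theorem result {F : Type*} [Field F] [Fintype F] {p : ℕ} [Fact p.Prime] [CharP F p] {q : ℕ} (hq : Fintype.card F = q) (hqodd : Odd q)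
    (d m : ℕ) (hd : 3 ≤ d) (hm : 2 ≤ m) (hme : Even m) (hmn : m ≤ 2 * d)
    (r : ℕ) [Fact r.Prime]
    (hrΩ : r ∣ Nat.card {W : Submodule F (Unit ⊕ (Fin d ⊕ Fin d) → F) // Module.finrank F ↥W = m ∧ Cfsg.Geo.IsNondegenerateOn (QuadraticMap.polar (Cfsg.quadFormOdd d F)) W ∧ ¬ Cfsg.Geo.IsPlusTypeOn (Cfsg.quadFormOdd d F) W})
    (i c : ℕ) (hi : i = orderOf (q : ZMod r)) (hc : c = if Even i then i else 2 * i) :
    (∀ x : GL (Unit ⊕ (Fin d ⊕ Fin d)) F, x ∈ Cfsg.Geo.omegaGL (Cfsg.quadFormOdd d F) → orderOf x = r →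
      ∃ W : Submodule F (Unit ⊕ (Fin d ⊕ Fin d) → F), (Module.finrank F ↥W = m ∧ Cfsg.Geo.IsNondegenerateOn (QuadraticMap.polar (Cfsg.quadFormOdd d F)) W ∧ ¬ Cfsg.Geo.IsPlusTypeOn (Cfsg.quadFormOdd d F) W) ∧ W.map (Matrix.toLin' (x : Matrix (Unit ⊕ (Fin d ⊕ Fin d)) (Unit ⊕ (Fin d ⊕ Fin d)) F)) ≤ W) ↔
    (r = 2 ∨
     (r ≠ p ∧ 2 < r ∧ Odd i ∧ c ≤ m ∧ 0 < m % c ∧ m % c < (2 * d + 1) % c) ∨
     (r ≠ p ∧ 2 < r ∧ Even i ∧ i ≤ m ∧ m % c < (2 * d + 1) % c ∧ (0 < m % c ∨ Odd (m / i)))) := by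
  classical
  have hodd : Odd (Fintype.card F) := hq ▸ hqodd
  obtain ⟨hpodd, h2, hp3⟩ := Cfsg.Lib.Classical.OrthUni.char_facts (p := p) hodd
  have hQ := Cfsg.Lib.Classical.Refl.oddForm_nondegenerate h2 d
  have hcard : Fintype.card (Unit ⊕ (Fin d ⊕ Fin d)) = 2 * d + 1 := by simp; omega
  simp only [← Cfsg.Lib.Classical.Refl.oddForm_coe] at hrΩ ⊢
  obtain ⟨W₀, hW₀, hdim, hp⟩ := Cfsg.Lib.OrthEl.exists_class hQ hme (by omega) (by omega) False
  have hP := fun W => Cfsg.Lib.OrthEl.minus_class_iff (W := W) hW₀ hdim hme hp.1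
  rcases eq_or_ne r 2 with rfl | hr2
  · exact iff_of_true (Cfsg.Lib.OrthEl.two_odd_all hQ h2 hW₀ hdim _ hP (by omega) (by omega)) (Or.inl rfl)
  have hr : 2 < r := lt_of_le_of_ne (Fact.out : r.Prime).two_le (Ne.symm hr2)
  rcases eq_or_ne r p with rfl | hrp
  · -- the characteristic
    refine iff_of_false ?_ (by simp [hr2])
    have hidx : d ≤ Cfsg.Lib.OrthEl.idx (Cfsg.Lib.Classical.Refl.oddForm d F) ⊤ := by
      have h := Cfsg.Lib.OrthEl.idx_bounds (Cfsg.Lib.OrthEl.nd_top_of_nondeg hQ)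
      rw [finrank_top, Module.finrank_fintype_fun_eq_card, hcard] at h
      omega
    obtain ⟨i2, hi2⟩ := hme
    by_cases hgood : Even d ∨ m % 4 = 0
    · obtain ⟨X, bp, hX, -, hW⟩ := Cfsg.Lib.OrthEl.exists_atype_elem (p := r) hQ (by omega) (t := d / 2) (by omega) (by omega)
      refine Cfsg.Lib.OrthEl.not_allFix_order hX fun W hPW hmap => ?_
      obtain ⟨hWm, hWn, hWp⟩ := hPW
      obtain ⟨s, e, ⟨s', hs⟩, hd', hle, he0, -⟩ := hW W (Cfsg.Lib.OrthEl.isND_iff.1 hWn) hmap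
      refine hWp (he0 ?_)
      rcases hgood with hg | hg
      · have := Nat.even_iff.1 hg; omega
      · omega
    · push Not at hgood
      have := Nat.odd_iff.1 (Nat.not_even_iff_odd.1 hgood.1)
      obtain ⟨X, hX, hno⟩ := Cfsg.Lib.OrthEl.exists_threes_elem hQ hpodd h2 (k := d - 1) (a := 1)
        (Nat.even_iff.2 (by omega)) one_pos (by omega) (m := m) (fun j l hj => by omega)
      exact Cfsg.Lib.OrthEl.not_allFix_order hX fun W hPW => hno W (Cfsg.Lib.OrthEl.isND_iff.1 hPW.2.1) hPW.1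
  · rw [Cfsg.Lib.OrthEl.allFix_order hQ (by omega) hr2 hP, Cfsg.Lib.OrthEl.odd_minus (p := p) hr2 hrp
      (Cfsg.Lib.OrthEl.nd_top_of_nondeg hQ) (by rw [hi, hq]) hc hW₀ hdim
      (n := 2 * d + 1) (by rw [Module.finrank_fintype_fun_eq_card, hcard]) (by omega) (by omega)
      (by rw [← Cfsg.Lib.OrthEl.card_congr_class hP]; exact hrΩ) hme ⟨d, rfl⟩ hp.1]
    simp only [hr2, hr, hrp, ne_eq, not_false_eq_true, false_or, true_and]

end Cfsg.Agent.S5993
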